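/-
Double transitivity for a strongly embedded subgroup whose involutions commute modulo its odd core
(Bender; owner: helper84).

Main results (namespace `Cfsg.Agent.Bender`):
* `pointClass_of_stronglyEmbedded` : all involutions, acting on the cosets of `H`
* `CoreTwo` : the involutions of `H` commute pairwise modulo `O(H)`
* `exists_setup` : then some free `p`-subgroup of largest order exists
* `transitive_of_coreTwo` : `H` permutes transitively the cosets `g H ≠ H`
-/
import Cfsg.Agent.Lib.Bender.Full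
import Cfsg.Agent.Lib.Aschbacher.Coset
import Cfsg.Agent.Lib.Involution.SEOrbit

set_option autoImplicit false
set_option linter.style.haveILetI false
set_option linter.unusedSectionVars false

namespace Cfsg.Agent.Bender

open Cfsg Involution Aschbacher
open scoped Pointwise

universe u

/-- A group acting through a homomorphism transitively on a set of conjugates. -/
theorem card_eq_mul_comap {G Q : Type*} [Group G] [Finite G] [Group Q] (φ : G →* Q) (K : Subgroup G)
    (S : Set Q) (hS : ∀ k ∈ K, ∀ s ∈ S, φ k * s * (φ k)⁻¹ ∈ S) {s₀ : Q} (hs₀ : s₀ ∈ S)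
    (htrans : ∀ s ∈ S, ∃ k ∈ K, φ k * s₀ * (φ k)⁻¹ = s) :
    Nat.card K = Nat.card S *
      Nat.card ↥(K ⊓ (Subgroup.centralizer ({s₀} : Set Q)).comap φ) := by
  choose h hK hs using fun s : S => htrans s s.2
  rw [← Nat.card_prod]
  refine Nat.card_congr (Equiv.symm
    { toFun := fun q => ⟨h q.1 * q.2, K.mul_mem (hK _) q.2.2.1⟩
      invFun := fun k => (⟨φ k * s₀ * (φ k)⁻¹, hS k k.2 s₀ hs₀⟩,
        ⟨(h ⟨φ k * s₀ * (φ k)⁻¹, hS k k.2 s₀ hs₀⟩)⁻¹ * k, K.mul_mem (K.inv_mem (hK _)) k.2, ?_⟩)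
      left_inv := ?_
      right_inv := fun k => Subtype.ext (mul_inv_cancel_left _ _) })
  · refine mem_centralizer.2 ?_
    set t := h ⟨φ k * s₀ * (φ k)⁻¹, hS k k.2 s₀ hs₀⟩ with ht
    have e : φ t * s₀ * (φ t)⁻¹ = φ k * s₀ * (φ k)⁻¹ := hs _
    show φ (t⁻¹ * k) * s₀ = s₀ * φ (t⁻¹ * k)
    rw [map_mul, map_inv]
    calc (φ t)⁻¹ * φ k * s₀ = (φ t)⁻¹ * (φ k * s₀ * (φ k)⁻¹) * φ k := by group
      _ = s₀ * ((φ t)⁻¹ * φ k) := by rw [← e]; group
  · rintro ⟨s, c, hcK, hc⟩
    have hc' : Commute (φ c) s₀ := mem_centralizer.1 hc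
    have e : φ (h s * c) * s₀ * (φ (h s * c))⁻¹ = s := by
      rw [map_mul]
      calc φ (h s) * φ c * s₀ * (φ (h s) * φ c)⁻¹
          = φ (h s) * (φ c * s₀ * (φ c)⁻¹) * (φ (h s))⁻¹ := by group
        _ = s := by rw [hc'.eq, mul_inv_cancel_right, hs]
    have e' : (⟨φ (h s * c) * s₀ * (φ (h s * c))⁻¹,
        hS _ (K.mul_mem (hK _) hcK) s₀ hs₀⟩ : S) = s := Subtype.ext e
    refine Prod.ext e' (Subtype.ext ?_)
    show (h ⟨φ (h s * c) * s₀ * (φ (h s * c))⁻¹, hS _ (K.mul_mem (hK _) hcK) s₀ hs₀⟩)⁻¹ *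
      (h s * c) = c
    rw [e', inv_mul_cancel_left]

/-- A finite group of even order has an odd number of involutions. -/
theorem odd_card_involutions {G : Type*} [Group G] [Finite G] (heven : Even (Nat.card G)) :
    Odd (Nat.card {t : G // orderOf t = 2}) := by
  classical
  haveI := Fintype.ofFinite G
  haveI : Fact (Nat.Prime 2) := ⟨Nat.prime_two⟩
  set σ : Equiv.Perm G := Equiv.inv G with hσ
  have h := Equiv.Perm.card_compl_support_modEq (p := 2) (n := 1) (σ := σ) (by
    ext g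
    simp [hσ, pow_succ])
  have hset : σ.supportᶜ = insert 1 (Finset.univ.filter fun t : G => orderOf t = 2) := by
    ext t
    rw [Finset.mem_compl, Equiv.Perm.notMem_support, Finset.mem_insert, Finset.mem_filter]
    show t⁻¹ = t ↔ t = 1 ∨ t ∈ Finset.univ ∧ orderOf t = 2
    constructor
    · intro ht
      by_cases h1 : t = 1
      · exact Or.inl h1
      · exact Or.inr ⟨Finset.mem_univ t,
          orderOf_of_sq (by nth_rw 1 [← ht]; exact inv_mul_cancel t) h1⟩
    · rintro (rfl | ⟨-, ht⟩)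
      · exact inv_one
      · exact inv_eq ht
  rw [hset, Finset.card_insert_of_notMem (by simp), ← Nat.card_eq_fintype_card] at h
  rw [Nat.card_eq_fintype_card, Fintype.card_subtype, Nat.odd_iff]
  have h2 := Nat.even_iff.1 heven
  unfold Nat.ModEq at h
  omega

variable {G : Type u} [Group G] [Finite G] {H : Subgroup G}

/-- The fixed coset of an involution. -/
noncomputable def fixPt (H : Subgroup G) (d : G) : G ⧸ H :=
  open Classical in if h : ∃ x : G ⧸ H, d • x = x then h.choose else ((1 : G) : G ⧸ H)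

theorem pointClass_of_stronglyEmbedded (hH : IsStronglyEmbedded H) :
    PointClass G (G ⧸ H) {d | orderOf d = 2} (fixPt H) := by
  have hfix : ∀ d : G, orderOf d = 2 → d • fixPt H d = fixPt H d := by
    intro d hd
    have h := exists_fixed hH hd
    rw [fixPt, dif_pos h]
    exact h.choose_spec
  refine ⟨fun d hd => hd, fun g d hd => (Involution.orderOf_conj g d).trans hd, fun d hd x =>
    ⟨fun h => fixed_unique hH hd h (hfix d hd), fun h => h ▸ hfix d hd⟩, ?_, fun x => ?_⟩
  · intro d hd e he hde hne c hc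
    have hv : orderOf (d * e) = 2 := orderOf_of_sq (by
      calc d * e * (d * e) = d * (e * d) * e := by group
        _ = (d * d) * (e * e) := by rw [← hde.eq]; group
        _ = 1 := by rw [mul_self hd, mul_self he, one_mul])
      (fun h => hne (by rw [mul_eq_one_iff_eq_inv, inv_eq he] at h; exact h))
    have e1 : d • fixPt H (d * e) = fixPt H (d * e) := by
      refine fixed_unique hH hv ?_ (hfix _ hv)
      rw [← mul_smul, show d * e * d = d * (d * e) by rw [mul_assoc, ← hde.eq], mul_smul, hfix _ hv]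
    have e2 : fixPt H d = fixPt H (d * e) := fixed_unique hH hd (hfix d hd) e1
    rw [e2]
    refine fixed_unique hH hv ?_ (hfix _ hv)
    rw [← mul_smul, ← hc.eq, mul_smul, hfix _ hv]
  · obtain ⟨t, htH, ht⟩ := exists_involution_mem hH.2.1
    have h1 := odd_card_involutions (G := H) hH.2.1
    have h2 : Nat.card {t : H // orderOf t = 2} = Nat.card {t : G // orderOf t = 2 ∧ t ∈ H} :=
      Nat.card_congr
        { toFun := fun t => ⟨t.1, by rw [orderOf_submonoid]; exact t.2, t.1.2⟩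
          invFun := fun t => ⟨⟨t.1, t.2.2⟩, by rw [← orderOf_submonoid]; exact t.2.1⟩
          left_inv := fun t => rfl
          right_inv := fun t => rfl }
    rw [h2, ← card_fixing x] at h1
    convert h1 using 1
    exact Nat.card_congr (Equiv.subtypeEquivRight fun d =>
      ⟨fun h => ⟨h.1, h.2 ▸ hfix d h.1⟩, fun h => ⟨h.1, fixed_unique hH h.1 (hfix d h.1) h.2⟩⟩)

/-- The involutions of `H` commute pairwise modulo the odd core of `H`. -/
def CoreTwo (H : Subgroup G) : Prop :=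
  ∀ s t : H, orderOf (s : G) = 2 → orderOf (t : G) = 2 → s * t * s⁻¹ * t⁻¹ ∈ oddCore ↥H

theorem smul_one_eq {g : G} : g • ((1 : G) : G ⧸ H) = ((1 : G) : G ⧸ H) ↔ g ∈ H := by
  rw [smul_mk_eq_iff, inv_one, one_mul, mul_one]

theorem exists_setup (hH : IsStronglyEmbedded H)
    (h2 : ∃ x y : G, x ≠ 1 ∧ y ≠ 1 ∧ x ≠ y ∧ x * x = 1 ∧ y * y = 1 ∧ x * y = y * x)
    (hS : CoreTwo H) :
    ∃ (p : ℕ) (_ : Fact p.Prime) (X₀ : Subgroup G) (a b : G ⧸ H),
      Setup {d : G | orderOf d = 2} (fixPt H) p X₀ a b := by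
  have P := pointClass_of_stronglyEmbedded hH
  set o : G ⧸ H := ((1 : G) : G ⧸ H) with ho
  set φ := QuotientGroup.mk' (oddCore ↥H) with hφ
  set cls : Set (H ⧸ oddCore ↥H) := {c | ∃ t : H, orderOf (t : G) = 2 ∧ φ t = c} with hcls
  have hodd : ∀ x y : G ⧸ H, x ≠ y → Odd (Nat.card (twoPt G x y)) := fun x y h =>
    odd_two_point hH h
  -- two commuting involutions of `H` differ modulo the core
  obtain ⟨x, y, hx1, hy1, hxy, hx, hy, hc⟩ := h2
  have hx2 := orderOf_of_sq hx hx1
  have hy2 := orderOf_of_sq hy hy1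
  obtain ⟨g, hg⟩ := exists_conj_mem hH hx2
  set x' := g⁻¹ * x * g
  set y' := g⁻¹ * y * g
  have hx'2 : orderOf x' = 2 := by
    have := Involution.orderOf_conj g⁻¹ x
    rwa [inv_inv, hx2] at this
  have hy'2 : orderOf y' = 2 := by
    have := Involution.orderOf_conj g⁻¹ y
    rwa [inv_inv, hy2] at this
  have hy'H : y' ∈ H := centralizer_le hH hx'2 hg (Involution.mem_centralizer_singleton.2 (by
    show g⁻¹ * y * g * (g⁻¹ * x * g) = g⁻¹ * x * g * (g⁻¹ * y * g)
    calc _ = g⁻¹ * (y * x) * g := by group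
      _ = _ := by rw [← hc]; group))
  have hne : φ ⟨x', hg⟩ ≠ φ ⟨y', hy'H⟩ := by
    intro e
    have h1 : (⟨x', hg⟩ : H)⁻¹ * ⟨y', hy'H⟩ ∈ oddCore ↥H := QuotientGroup.eq.1 e
    have h3 : orderOf (x'⁻¹ * y') ∣ Nat.card (oddCore ↥H) := by
      have := Subgroup.orderOf_dvd_natCard _ h1
      rwa [← Subgroup.orderOf_coe] at this
    have h4 : orderOf (x'⁻¹ * y') = 2 := by
      have e1 : x'⁻¹ * y' = g⁻¹ * (x * y) * g⁻¹⁻¹ := by
        rw [inv_eq hx'2, inv_inv]; show g⁻¹ * x * g * (g⁻¹ * y * g) = _; group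
      rw [e1, Involution.orderOf_conj]
      refine orderOf_of_sq ?_ fun h => hxy ?_
      · calc x * y * (x * y) = x * (y * x) * y := by group
          _ = (x * x) * (y * y) := by rw [← hc]; group
          _ = 1 := by rw [hx, hy, one_mul]
      · rw [mul_eq_one_iff_eq_inv, inv_eq hy2] at h
        exact h
    rw [h4] at h3
    exact Nat.prime_two.coprime_iff_not_dvd.1 (Cores.coprime_card_pPrimeCore (G := H) 2).symm h3
  -- the stabiliser of two points is transitive on the classes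
  have horb : ∀ z : G ⧸ H, o ≠ z → ∀ v : H, orderOf (v : G) = 2 →
      Nat.card (twoPt G o z) = Nat.card cls * Nat.card ↥((twoPt G o z).subgroupOf H ⊓
        (Subgroup.centralizer ({φ v} : Set (H ⧸ oddCore ↥H))).comap φ) := by
    intro z hz v hv
    have hle : twoPt G o z ≤ H := fun g hg => smul_one_eq.1 (MulAction.mem_stabilizer_iff.1 hg.1)
    rw [← card_eq_mul_comap φ ((twoPt G o z).subgroupOf H) cls ?_ ⟨v, hv, rfl⟩ ?_]
    · exact (Nat.card_congr (Subgroup.subgroupOfEquivOfLe hle).toEquiv).symm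
    · rintro k - _ ⟨t, ht, rfl⟩
      exact ⟨k * t * k⁻¹, by
        rw [Subgroup.coe_mul, Subgroup.coe_mul, Subgroup.coe_inv, Involution.orderOf_conj, ht],
        by rw [map_mul, map_mul, map_inv]⟩
    · rintro _ ⟨t, ht, rfl⟩
      obtain ⟨k, hk, e⟩ := exists_conj_two_point hH hz hv (smul_one_eq.2 v.2) ht (smul_one_eq.2 t.2)
      refine ⟨⟨k, hle hk⟩, hk, ?_⟩
      rw [← map_inv, ← map_mul, ← map_mul]
      exact congrArg φ (Subtype.ext e)
  obtain ⟨e₀, he₀, he₀H⟩ := exists_not_mem hH |>.elim fun e he => (⟨e, he.1, he.2⟩ :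
    ∃ e : G, orderOf e = 2 ∧ e ∉ H)
  have hoz : o ≠ (e₀ : G ⧸ H) := fun e => he₀H (by
    have := QuotientGroup.eq.1 e
    rwa [inv_one, one_mul] at this)
  have hclsodd : Odd (Nat.card cls) :=
    Odd.of_dvd_nat (hodd o _ hoz) ⟨_, horb _ hoz ⟨x', hg⟩ hx'2⟩
  have hcls1 : Nat.card cls ≠ 1 := fun h => by
    obtain ⟨hu, -⟩ := Nat.card_eq_one_iff_unique.1 h
    exact hne (congrArg Subtype.val (hu.elim (⟨_, ⟨⟨x', hg⟩, hx'2, rfl⟩⟩ : cls)
      ⟨_, ⟨⟨y', hy'H⟩, hy'2, rfl⟩⟩))
  obtain ⟨p, hp, hpcls⟩ := Nat.exists_prime_and_dvd hcls1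
  haveI : Fact p.Prime := ⟨hp⟩
  have hp2 : p ≠ 2 := by
    rintro rfl
    exact absurd hpcls (Nat.two_dvd_ne_zero.2 (Nat.odd_iff.1 hclsodd))
  -- a pair with the largest `p`-part
  obtain ⟨⟨a, b⟩, hab, hmax⟩ := Set.Finite.exists_maximalFor
    (fun q : (G ⧸ H) × (G ⧸ H) => pPart p (Nat.card (twoPt G q.1 q.2)))
    {q | q.1 ≠ q.2} (Set.toFinite _) ⟨(o, (e₀ : G ⧸ H)), hoz⟩
  obtain ⟨X, hXp, hXab, hXcard⟩ := exists_pPart (p := p) (twoPt G a b)
  obtain ⟨u, hu, huX, hua⟩ := exists_swap_normalizing P hab (hodd a b hab) hXab hXcard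
  refine ⟨p, inferInstance, X, a, b, P, hodd, hXp, hab, hXab.trans inf_le_left,
    hXab.trans inf_le_right, ⟨u, hu, huX, ?_⟩, ?_, hp2⟩
  · intro hc
    set c := fixPt H u with hcdef
    have hca : c ≠ a := fun e => hab (by rw [← hua, ← e, hcdef, P.smul_pt hu])
    obtain ⟨k, hk⟩ : ∃ k : G, k • c = o := by
      induction c using QuotientGroup.induction_on with
      | _ k => exact ⟨k⁻¹, by rw [MulAction.Quotient.smul_mk, smul_eq_mul, inv_mul_cancel]⟩
    set X' := MulAut.conj k • X with hX'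
    set u' := k * u * k⁻¹ with hu'
    have hu'2 : orderOf u' = 2 := (Involution.orderOf_conj k u).trans hu
    have hu'H : u' ∈ H := by
      rw [← smul_one_eq (H := H), ← ho, ← hk, hu', mul_smul, mul_smul, inv_smul_smul, hcdef,
        P.smul_pt hu]
    have hz : o ≠ k • a := fun e => hca (MulAction.injective k (hk.trans e))
    have hX'K : X' ≤ twoPt G o (k • a) := by
      intro g hg
      rw [hX', Coprime.mem_conj] at hg
      refine ⟨?_, ?_⟩
      · show g • o = o
        rw [← hk]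
        calc g • k • c = k • (k⁻¹ * g * k) • c := by simp only [← mul_smul]; group
          _ = k • c := by rw [MulAction.mem_stabilizer_iff.1 (hc hg)]
      · show g • k • a = k • a
        calc g • k • a = k • (k⁻¹ * g * k) • a := by simp only [← mul_smul]; group
          _ = k • a := by rw [MulAction.mem_stabilizer_iff.1 (hXab.trans inf_le_left hg)]
    have hX'H : X' ≤ H := fun g hg => smul_one_eq.1 (MulAction.mem_stabilizer_iff.1 (hX'K hg).1)
    have hcardK : Nat.card (twoPt G o (k • a)) = Nat.card (twoPt G a b) := by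
      rw [← card_twoPt_fixed P hab hu hua, ← hcdef]
      refine Nat.card_congr (Equiv.subtypeEquiv (MulAut.conj k⁻¹).toEquiv fun g => ?_)
      show g ∈ twoPt G o (k • a) ↔ k⁻¹ * g * k⁻¹⁻¹ ∈ twoPt G c a
      simp only [Subgroup.mem_inf, MulAction.mem_stabilizer_iff, ← hk, mul_smul, inv_inv,
        inv_smul_eq_iff]
    -- `X'` fixes the class of `u'`
    have hfixcls : ∀ g (hg : g ∈ X'), Commute (φ ⟨g, hX'H hg⟩) (φ ⟨u', hu'H⟩) := by
      intro g hg
      set gg : H := ⟨g, hX'H hg⟩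
      set uu : H := ⟨u', hu'H⟩
      set w : H := uu * (gg * uu * gg⁻¹) with hw
      have hwX : (w : G) ∈ X' := by
        show u' * (g * u' * g⁻¹) ∈ X'
        have h1 : u' * g * u'⁻¹ ∈ X' := by
          rw [hX', Coprime.mem_conj] at hg ⊢
          have := (Subgroup.mem_normalizer_iff.1 huX _).1 hg
          rw [hu']
          convert this using 1
          group
        have := X'.mul_mem h1 (X'.inv_mem hg)
        rw [inv_eq hu'2] at this
        convert this using 1
        group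
      have hwsq : φ w * φ w = 1 := by
        have hconj : orderOf ((gg * uu * gg⁻¹ : H) : G) = 2 := by
          rw [Subgroup.coe_mul, Subgroup.coe_mul, Subgroup.coe_inv, Involution.orderOf_conj]
          exact hu'2
        set vv := gg * uu * gg⁻¹
        have h1 : φ (uu * vv * uu⁻¹ * vv⁻¹) = 1 := (QuotientGroup.eq_one_iff _).2 (hS uu vv hu'2 hconj)
        have hu1 : uu * uu = 1 := Subtype.ext (mul_self hu'2)
        have hv1 : vv * vv = 1 := Subtype.ext (mul_self hconj)
        rw [inv_eq_of_mul_eq_one_right hu1, inv_eq_of_mul_eq_one_right hv1] at h1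
        rw [← map_mul, hw]
        convert h1 using 2
        group
      obtain ⟨n, hn⟩ := (hXp.map _ : IsPGroup p X').exists_card_eq
      have hwp : orderOf (φ w) ∣ p ^ n := by
        refine (orderOf_map_dvd φ w).trans ?_
        rw [← Subgroup.orderOf_coe, ← hn]
        exact Subgroup.orderOf_dvd_natCard _ hwX
      have hw1 : φ w = 1 := by
        rw [← orderOf_eq_one_iff]
        have h2 : orderOf (φ w) ∣ 2 := orderOf_dvd_of_pow_eq_one (by rw [sq, hwsq])
        exact Nat.eq_one_of_dvd_coprimes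
          (Nat.Coprime.pow_left n ((Nat.coprime_primes hp Nat.prime_two).2 hp2)) hwp h2
      rw [hw, map_mul, mul_eq_one_iff_inv_eq, map_mul, map_mul, map_inv] at hw1
      have hu1 : (φ uu)⁻¹ = φ uu := by
        rw [← map_inv, inv_eq_of_mul_eq_one_right (Subtype.ext (mul_self hu'2) : uu * uu = 1)]
      rw [hu1, eq_mul_inv_iff_mul_eq] at hw1
      exact hw1.symm
    have h1 := horb (k • a) hz ⟨u', hu'H⟩ hu'2
    have hX'le : X'.subgroupOf H ≤ (twoPt G o (k • a)).subgroupOf H ⊓
        (Subgroup.centralizer ({φ ⟨u', hu'H⟩} : Set (H ⧸ oddCore ↥H))).comap φ := fun g hg =>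
      ⟨hX'K hg, mem_centralizer.2 (hfixcls g hg)⟩
    have h3 : Nat.card X' ≤ pPart p (Nat.card ↥((twoPt G o (k • a)).subgroupOf H ⊓
        (Subgroup.centralizer ({φ ⟨u', hu'H⟩} : Set (H ⧸ oddCore ↥H))).comap φ)) := by
      rw [← Nat.card_congr (Subgroup.subgroupOfEquivOfLe hX'H).toEquiv]
      exact Coprime.card_le_of_isPGroup ((hXp.map _ : IsPGroup p X').comap_subtype) hX'le
    rw [hX', Coprime.card_conj, hXcard, ← hcardK, h1, pPart_mul hclsodd.pos.ne' Nat.card_pos.ne'] at h3
    have h4 : p ≤ pPart p (Nat.card cls) :=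
      Nat.le_self_pow (hp.factorization_pos_of_dvd hclsodd.pos.ne' hpcls).ne' p
    have h5 : 0 < pPart p (Nat.card ↥((twoPt G o (k • a)).subgroupOf H ⊓
        (Subgroup.centralizer ({φ ⟨u', hu'H⟩} : Set (H ⧸ oddCore ↥H))).comap φ)) :=
      pow_pos hp.pos _
    nlinarith [hp.two_le]
  · intro Q hQ q r hqr hq hr
    refine (Coprime.card_le_of_isPGroup hQ (le_inf hq hr : Q ≤ twoPt G q r)).trans ?_
    rw [hXcard]
    rcases le_total (pPart p (Nat.card (twoPt G q r))) (pPart p (Nat.card (twoPt G a b))) with h | h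
    · exact h
    · exact hmax (j := (q, r)) hqr h

/-- **Bender.** A strongly embedded subgroup whose involutions commute modulo its odd core permutes
transitively the cosets different from itself. -/
theorem transitive_of_coreTwo (hH : IsStronglyEmbedded H)
    (h2 : ∃ x y : G, x ≠ 1 ∧ y ≠ 1 ∧ x ≠ y ∧ x * x = 1 ∧ y * y = 1 ∧ x * y = y * x)
    (hS : CoreTwo H) (g₁ g₂ : G) (hg₁ : g₁ ∉ H) (hg₂ : g₂ ∉ H) :
    ∃ h ∈ H, g₂⁻¹ * (h * g₁) ∈ H := by
  obtain ⟨p, hp, X, a, b, S⟩ := exists_setup hH h2 hS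
  have hne : ∀ g : G, g ∉ H → ((1 : G) : G ⧸ H) ≠ (g : G ⧸ H) := fun g hg e => hg (by
    have := QuotientGroup.eq.1 e
    rwa [inv_one, one_mul] at this)
  obtain ⟨h, hh, e⟩ := S.transitive (hne g₁ hg₁) (hne g₂ hg₂)
  refine ⟨h, smul_one_eq.1 (MulAction.mem_stabilizer_iff.1 hh), ?_⟩
  rw [MulAction.Quotient.smul_mk, smul_eq_mul] at e
  exact QuotientGroup.eq.1 e.symm

end Cfsg.Agent.Bender
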