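/-
KILL step for the failure case of Bender's theorem (owner: helper1).

Main results (namespace `Cfsg.Agent.Bender`):
* `coreTwo_of_involutions_mem` : `CoreTwo M` passes to any subgroup all of whose involutions lie
  in `M` (in particular to any subgroup of `M`)
* `coreTwo_map`, `coreTwo_inf_of_subgroupOf` : transport along injective homomorphisms
* `coreTwo_sup` : `CoreTwo L` gives `CoreTwo (W ⊔ L)` for `W` of odd order normalised by `L`
* `coreTwo_of_cover`, `coreTwo_of_orbit` : if the involutions of `H` lie in such a `W ⊔ L`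
  (e.g. are conjugates under it of one involution of `L`), then `CoreTwo H`
-/
import Cfsg.Agent.Lib.Bender.CoreTwo

set_option autoImplicit false
set_option linter.style.haveILetI false

namespace Cfsg.Agent.Bender

open Cfsg Involution

universe u

variable {G : Type u} [Group G] [Finite G]

omit [Finite G] in
/-- An element of order two lies in no subgroup of odd order. -/
theorem not_mem_of_odd {W : Subgroup G} (hW : Odd (Nat.card W)) {x : G} (hx : orderOf x = 2) :
    x ∉ W := by
  intro h
  have h2 : 2 ∣ Nat.card W := by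
    have := Subgroup.orderOf_dvd_natCard W h
    rwa [hx] at this
  exact Nat.two_dvd_ne_zero.2 (Nat.odd_iff.1 hW) h2

/-- If all involutions of `H` lie in `M`, then `CoreTwo M` implies `CoreTwo H`. -/
theorem coreTwo_of_involutions_mem {H M : Subgroup G} (hM : CoreTwo M)
    (hcover : ∀ s ∈ H, orderOf s = 2 → s ∈ M) : CoreTwo H := by
  intro s t hs ht
  set K : Subgroup H := Subgroup.closure {x : H | orderOf (x : G) = 2} with hK
  haveI hKn : K.Normal := by
    refine ⟨fun k hk g => ?_⟩
    induction hk using Subgroup.closure_induction with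
    | mem x hx =>
      refine Subgroup.subset_closure ?_
      show orderOf ((g * x * g⁻¹ : H) : G) = 2
      rw [Subgroup.coe_mul, Subgroup.coe_mul, Subgroup.coe_inv, Involution.orderOf_conj]
      exact hx
    | one => simp
    | mul x y _ _ hx hy =>
      have := mul_mem hx hy
      rwa [conj_mul] at this
    | inv x _ hx =>
      have := inv_mem hx
      rwa [conj_inv] at this
  have hKM : ∀ k ∈ K, (k : G) ∈ M := by
    intro k hk
    induction hk using Subgroup.closure_induction with
    | mem x hx => exact hcover x x.2 hx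
    | one => exact M.one_mem
    | mul x y _ _ hx hy => exact M.mul_mem hx hy
    | inv x _ hx => exact M.inv_mem hx
  set A : Subgroup G := (oddCore ↥M).map M.subtype with hA
  set f : K →* G := H.subtype.comp K.subtype with hf
  have hfinj : Function.Injective f := H.subtype_injective.comp K.subtype_injective
  set N : Subgroup K := A.comap f with hN
  have hNn : N.Normal := by
    refine ⟨fun n hn k => ?_⟩
    obtain ⟨a, ha, he⟩ := hn
    refine ⟨⟨f k, hKM k k.2⟩ * a * ⟨f k, hKM k k.2⟩⁻¹,
      (Cores.pPrimeCore_normal 2 _).conj_mem a ha _, ?_⟩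
    show f k * M.subtype a * (f k)⁻¹ = f (k * n * k⁻¹)
    rw [he, map_mul, map_mul, map_inv]
  have hNc : (Nat.card N).Coprime 2 := by
    refine (Cores.coprime_card_pPrimeCore (G := M) 2).coprime_dvd_left ?_
    rw [← Cores.card_map_subtype M (Cfsg.pPrimeCore 2 M),
      Nat.card_congr (Subgroup.equivMapOfInjective N f hfinj).toEquiv]
    exact Subgroup.card_dvd_of_le (Subgroup.map_comap_le _ _)
  have hmem : ∀ c : H, c ∈ K → (c : G) ∈ A → c ∈ oddCore ↥H := fun c hc hcA => by
    have h1 : (⟨c, hc⟩ : K) ∈ Cfsg.pPrimeCore 2 K := Cores.le_pPrimeCore hNn hNc hcA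
    have h2 : c ∈ (Cfsg.pPrimeCore 2 K).map K.subtype := ⟨_, h1, rfl⟩
    rw [Cores.pPrimeCore_map_subtype] at h2
    exact h2.1
  have hsK : s ∈ K := Subgroup.subset_closure hs
  have htK : t ∈ K := Subgroup.subset_closure ht
  exact hmem _ (mul_mem (mul_mem (mul_mem hsK htK) (inv_mem hsK)) (inv_mem htK))
    ⟨_, hM ⟨s, hKM s hsK⟩ ⟨t, hKM t htK⟩ hs ht, rfl⟩

/-- `CoreTwo` passes to subgroups. -/
theorem coreTwo_mono {L M : Subgroup G} (hLM : L ≤ M) (hM : CoreTwo M) : CoreTwo L :=
  coreTwo_of_involutions_mem hM fun _ hs _ => hLM hs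

/-- `CoreTwo` passes along injective homomorphisms. -/
theorem coreTwo_map {G' : Type*} [Group G'] [Finite G'] (f : G →* G')
    (hf : Function.Injective f) {K : Subgroup G} (hK : CoreTwo K) : CoreTwo (K.map f) := by
  intro s t hs ht
  set e := Subgroup.equivMapOfInjective K f hf with he
  obtain ⟨a, rfl⟩ := e.surjective s
  obtain ⟨b, rfl⟩ := e.surjective t
  rw [he, Subgroup.coe_equivMapOfInjective_apply, orderOf_injective f hf] at hs ht
  rw [← map_inv, ← map_inv, ← map_mul, ← map_mul, ← map_mul]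
  show _ ∈ Cfsg.pPrimeCore 2 (K.map f)
  rw [← Cores.pPrimeCore_map_mulEquiv e 2]
  exact ⟨_, hK a b hs ht, rfl⟩

/-- The form delivered by induction in a subgroup `M`. -/
theorem coreTwo_inf_of_subgroupOf {H M : Subgroup G} (h : CoreTwo (H.subgroupOf M)) :
    CoreTwo (H ⊓ M) := by
  have := coreTwo_map M.subtype M.subtype_injective h
  rwa [Subgroup.subgroupOf_map_subtype] at this

/-- Extending `CoreTwo` by a normalised subgroup of odd order. -/
theorem coreTwo_sup {W L : Subgroup G} (hW : Odd (Nat.card W))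
    (hLW : L ≤ Subgroup.normalizer (W : Set G)) (hL : CoreTwo L) : CoreTwo (W ⊔ L) := by
  set M := W ⊔ L with hM
  have hMW : M ≤ Subgroup.normalizer (W : Set G) := sup_le Subgroup.le_normalizer hLW
  haveI : (W.subgroupOf M).Normal := Cores.subgroupOf_normal_of_le_normalizer hMW
  set φ := QuotientGroup.mk' (W.subgroupOf M) with hφ
  set ψ : L →* M ⧸ W.subgroupOf M :=
    φ.comp (Subgroup.inclusion (le_sup_right : L ≤ M)) with hψ
  have hψs : Function.Surjective ψ := by
    intro q
    obtain ⟨x, rfl⟩ := QuotientGroup.mk'_surjective _ q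
    have hx : (x : G) ∈ (↑(W ⊔ L) : Set G) := x.2
    rw [Subgroup.coe_mul_of_right_le_normalizer_left W L hLW] at hx
    obtain ⟨w, hw, l, hl, e⟩ := hx
    refine ⟨⟨l, hl⟩, (QuotientGroup.eq.2 ?_)⟩
    rw [Subgroup.mem_subgroupOf]
    show l⁻¹ * (x : G) ∈ W
    rw [← e, ← mul_assoc]
    simpa using (Subgroup.mem_normalizer_iff.1 (hLW (L.inv_mem hl)) w).1 hw
  -- involutions of `M` are congruent to involutions of `L`
  have hinv : ∀ x : M, orderOf (x : G) = 2 → ∃ l : L, orderOf (l : G) = 2 ∧ ψ l = φ x := by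
    intro x hx
    obtain ⟨l, hl⟩ := hψs (φ x)
    obtain ⟨k, hk⟩ := hW
    have hsq : ψ l * ψ l = 1 := by
      rw [hl, ← map_mul]
      convert map_one φ
      exact Subtype.ext (mul_self hx)
    have hlW : (l : G) * (l : G) ∈ W := by
      rw [← map_mul] at hsq
      exact Subgroup.mem_subgroupOf.1 ((QuotientGroup.eq_one_iff _).1 hsq)
    have hlx : ψ (l ^ Nat.card W) = φ x := by
      rw [map_pow, hk, pow_succ, pow_mul, pow_two, hsq, one_pow, one_mul, hl]
    refine ⟨l ^ Nat.card W, ?_, hlx⟩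
    refine Involution.orderOf_of_sq ?_ fun h1 => ?_
    · rw [Subgroup.coe_pow, ← pow_add, ← two_mul, pow_mul, pow_two]
      have := congrArg Subtype.val (pow_card_eq_one' (x := (⟨_, hlW⟩ : W)))
      rwa [Subgroup.coe_pow, Subgroup.coe_one] at this
    · have h2 : φ x = 1 := by
        rw [← hlx, show l ^ Nat.card W = 1 from Subtype.ext h1, map_one]
      exact not_mem_of_odd ⟨k, hk⟩ hx
        (Subgroup.mem_subgroupOf.1 ((QuotientGroup.eq_one_iff _).1 h2))
  have hker : (Nat.card φ.ker).Coprime 2 := by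
    rw [hφ, QuotientGroup.ker_mk', Cores.card_subgroupOf le_sup_left]
    exact Nat.coprime_two_right.2 hW
  intro s t hs ht
  obtain ⟨a, ha, hψa⟩ := hinv s hs
  obtain ⟨b, hb, hψb⟩ := hinv t ht
  have h1 : φ (s * t * s⁻¹ * t⁻¹) ∈ Cfsg.pPrimeCore 2 (M ⧸ W.subgroupOf M) := by
    refine Cores.map_pPrimeCore_le ψ hψs 2 ⟨_, hL a b ha hb, ?_⟩
    simp only [map_mul, map_inv, hψa, hψb]
  rw [← Cores.pPrimeCore_map_of_ker φ (QuotientGroup.mk'_surjective _) hker] at h1
  obtain ⟨c, hc, hce⟩ := h1
  have h2 : φ.ker ≤ Cfsg.pPrimeCore 2 M := Cores.le_pPrimeCore inferInstance hker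
  have h3 : c⁻¹ * (s * t * s⁻¹ * t⁻¹) ∈ φ.ker := by
    rw [MonoidHom.mem_ker, map_mul, map_inv, hce, inv_mul_cancel]
  have h4 := (Cfsg.pPrimeCore 2 M).mul_mem hc (h2 h3)
  rwa [mul_inv_cancel_left] at h4

/-- **KILL.** The involutions of `H` lie in `W ⊔ L`, with `W` odd and normalised by `L`. -/
theorem coreTwo_of_cover {H W L : Subgroup G} (hW : Odd (Nat.card W))
    (hLW : L ≤ Subgroup.normalizer (W : Set G)) (hL : CoreTwo L)
    (hcover : ∀ s ∈ H, orderOf s = 2 → s ∈ W ⊔ L) : CoreTwo H :=
  coreTwo_of_involutions_mem (coreTwo_sup hW hLW hL) hcover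

/-- **KILL**, orbit form: every involution of `H` is conjugate under `W ⊔ L` to a fixed element
of `L`. -/
theorem coreTwo_of_orbit {H W L : Subgroup G} {v : G} (hW : Odd (Nat.card W))
    (hLW : L ≤ Subgroup.normalizer (W : Set G)) (hL : CoreTwo L) (hv : v ∈ L)
    (horb : ∀ s ∈ H, orderOf s = 2 → ∃ k ∈ W ⊔ L, k * v * k⁻¹ = s) : CoreTwo H :=
  coreTwo_of_cover hW hLW hL fun s hs hs2 => by
    obtain ⟨k, hk, rfl⟩ := horb s hs hs2
    exact mul_mem (mul_mem hk (Subgroup.mem_sup_right hv)) (inv_mem hk)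

end Cfsg.Agent.Bender
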