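/-
Induction frame for Bender's theorem "`H` strongly embedded ⇒ `CoreTwo H`" (owner: helper1).

Main results (namespace `Cfsg.Agent.Bender`):
* `coreTwo_of_isolated` : no distinct commuting involutions in `H` ⇒ `CoreTwo H` (`Z*`)
* `CoreTwoBelow G` : the induction hypothesis
* `coreTwo_of_le_inter` : it gives `CoreTwo L` for `L ≤ H ⊓ M`, `M` proper, `M ⊄ H`
* `coreTwo_of_normal` : lifting from a quotient by an odd normal subgroup inside `H`
* `coreTwo_induction` : reduction to core-free `H`, two commuting involutions, smaller groups known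
* `dichotomy_of_coreTwo` : S1220 from `CoreTwo H`
-/
import Cfsg.Agent.Lib.Bender.Kill
import Cfsg.Agent.Lib.ZStar.Glauberman
import Cfsg.Agent.Lib.ZStar.Unique
import Cfsg.Agent.S0016

set_option autoImplicit false
set_option linter.style.haveILetI false

namespace Cfsg.Agent.Bender

open Cfsg Involution
open scoped Pointwise

universe u

variable {G : Type u} [Group G] [Finite G]

/-- If no two distinct involutions of `H` commute, they commute modulo the odd core. -/
theorem coreTwo_of_isolated {H : Subgroup G}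
    (h : ∀ s ∈ H, ∀ t ∈ H, orderOf s = 2 → orderOf t = 2 → Commute s t → s = t) :
    CoreTwo H := by
  intro s t hs ht
  have hiso : IsIsolatedInvolution s := ⟨by rwa [← Subgroup.orderOf_coe], fun g hg => Subtype.ext
    (h _ s.2 _ (SetLike.coe_mem _) hs (by
      rw [Subgroup.coe_mul, Subgroup.coe_mul, Subgroup.coe_inv, Involution.orderOf_conj]
      exact hs) (congrArg Subtype.val hg)).symm⟩
  exact ZStar.zStar_of_brauerSuzuki ZStar.uniqueInvolution hiso t

/-- The induction hypothesis: `CoreTwo` holds in every proper subgroup. -/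
def CoreTwoBelow (G : Type u) [Group G] [Finite G] : Prop :=
  ∀ M : Subgroup G, M ≠ ⊤ → ∀ L : Subgroup M, IsStronglyEmbedded L → CoreTwo L

/-- A proper subgroup `M` not inside `H` meets `H` in a subgroup with `CoreTwo`. -/
theorem coreTwo_of_le_inter {H M L : Subgroup G} (hH : IsStronglyEmbedded H)
    (hIH : CoreTwoBelow G) (hM : M ≠ ⊤) (hMH : ¬ M ≤ H) (hL : L ≤ H ⊓ M) : CoreTwo L := by
  by_cases h : ∃ t ∈ H ⊓ M, orderOf t = 2
  · obtain ⟨t, ht, ht2⟩ := h
    exact coreTwo_mono hL (coreTwo_inf_of_subgroupOf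
      (hIH M hM _ (isStronglyEmbedded_inter hH M hMH ht2 ht.2 ht.1)))
  · push Not at h
    exact fun s _ hs _ => absurd hs (h s (hL s.2))

/-- `CoreTwo` lifts over a normal subgroup of odd order of the image. -/
theorem coreTwo_of_map {G' : Type*} [Group G'] [Finite G'] (f : G →* G') {H : Subgroup G}
    (hker : Odd (Nat.card f.ker)) (hK : CoreTwo (H.map f)) : CoreTwo H := by
  intro s t hs ht
  set φ : H →* H.map f := f.subgroupMap H with hφ
  have hφs : Function.Surjective φ := f.subgroupMap_surjective H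
  have hφker : (Nat.card φ.ker).Coprime 2 := by
    refine (Nat.coprime_two_right.2 hker).coprime_dvd_left ?_
    rw [← Cores.card_map_subtype H φ.ker]
    refine Subgroup.card_dvd_of_le ?_
    rintro _ ⟨x, hx, rfl⟩
    exact MonoidHom.mem_ker.2 (congrArg Subtype.val (MonoidHom.mem_ker.1 hx))
  have himg : ∀ x : H, orderOf (x : G) = 2 → orderOf ((φ x : H.map f) : G') = 2 := by
    intro x hx
    refine Involution.orderOf_of_sq ?_ fun h1 => ?_
    · show f x * f x = 1
      rw [← map_mul, mul_self hx, map_one]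
    · exact not_mem_of_odd hker hx (MonoidHom.mem_ker.2 h1)
  have h1 : φ (s * t * s⁻¹ * t⁻¹) ∈ Cfsg.pPrimeCore 2 (H.map f) := by
    simpa only [map_mul, map_inv] using hK (φ s) (φ t) (himg s hs) (himg t ht)
  rw [← Cores.pPrimeCore_map_of_ker φ hφs hφker] at h1
  obtain ⟨c, hc, hce⟩ := h1
  have h2 : φ.ker ≤ Cfsg.pPrimeCore 2 H := Cores.le_pPrimeCore inferInstance hφker
  have h3 : c⁻¹ * (s * t * s⁻¹ * t⁻¹) ∈ φ.ker := by
    rw [MonoidHom.mem_ker, map_mul, map_inv, hce, inv_mul_cancel]
  have h4 := (Cfsg.pPrimeCore 2 H).mul_mem hc (h2 h3)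
  rwa [mul_inv_cancel_left] at h4

/-- A normal subgroup contained in a strongly embedded subgroup has odd order. -/
theorem odd_of_normal_le {H N : Subgroup G} (hH : IsStronglyEmbedded H) [hN : N.Normal]
    (hNH : N ≤ H) : Odd (Nat.card N) := by
  by_contra h
  refine hH.1 (top_le_iff.1 ?_)
  rw [← Subgroup.normalizer_eq_top_iff.2 hN]
  exact Involution.normalizer_le hH hNH (Nat.not_odd_iff_even.1 h)

/-- The image of `H` in a quotient by a normal subgroup inside it is strongly embedded. -/
theorem isStronglyEmbedded_map {H N : Subgroup G} (hH : IsStronglyEmbedded H) [N.Normal]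
    (hNH : N ≤ H) : IsStronglyEmbedded (H.map (QuotientGroup.mk' N)) := by
  set f := QuotientGroup.mk' N
  have hfs : Function.Surjective f := QuotientGroup.mk'_surjective N
  have hcomap : (H.map f).comap f = H := by
    rw [Subgroup.comap_map_eq, QuotientGroup.ker_mk', sup_eq_left.2 hNH]
  have hmem : ∀ g : G, f g ∈ H.map f ↔ g ∈ H := fun g => by
    rw [← Subgroup.mem_comap, hcomap]
  have hodd := odd_of_normal_le hH hNH
  obtain ⟨t, htH, ht⟩ := exists_involution_mem hH.2.1
  refine isStronglyEmbedded_iff_forall.2 ⟨fun e => hH.1 ?_, ?_, ?_⟩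
  · rw [← hcomap, e, Subgroup.comap_top]
  · have h1 : f t ≠ 1 := fun e =>
      not_mem_of_odd hodd ht ((QuotientGroup.eq_one_iff t).1 e)
    have h2 : orderOf (f t) = 2 :=
      Involution.orderOf_of_sq (by rw [← map_mul, mul_self ht, map_one]) h1
    rw [even_iff_two_dvd, ← h2]
    exact Subgroup.orderOf_dvd_natCard _ (Subgroup.mem_map_of_mem f htH)
  · intro q s hs hsH hq
    obtain ⟨g, rfl⟩ := hfs q
    obtain ⟨y, rfl⟩ := hfs s
    have hy : y ∈ H := (hmem y).1 hsH
    obtain ⟨k, hk⟩ := hodd
    set y' := y ^ Nat.card N with hy'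
    have hy2 : y * y ∈ N := (QuotientGroup.eq_one_iff (y * y)).1 (by
      show f (y * y) = 1
      rw [map_mul]
      exact mul_self hs)
    have hfy : f y' = f y := by
      rw [hy', map_pow, hk, pow_succ, pow_mul, pow_two, mul_self hs, one_pow, one_mul]
    have hy'2 : orderOf y' = 2 := by
      refine Involution.orderOf_of_sq ?_ fun e => ?_
      · rw [hy', ← pow_add, ← two_mul, pow_mul, pow_two]
        exact congrArg Subtype.val (pow_card_eq_one' (x := (⟨_, hy2⟩ : N)))
      · rw [← hfy, e, map_one] at hs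
        simp at hs
    refine (hmem g).2 (mem_of_conj_mem hH hy'2 (H.pow_mem hy _) ((hmem _).1 ?_))
    rwa [map_mul, map_mul, map_inv, hfy]

/-- Reduction of "`CoreTwo` for every strongly embedded subgroup" to the essential case. -/
theorem coreTwo_induction
    (step : ∀ (G : Type u) [Group G] [Finite G] (H : Subgroup G), IsStronglyEmbedded H →
      CoreTwoBelow G → H.normalCore = ⊥ →
      (∃ x y : G, x ≠ 1 ∧ y ≠ 1 ∧ x ≠ y ∧ x * x = 1 ∧ y * y = 1 ∧ x * y = y * x) → CoreTwo H)
    {H : Subgroup G} (hH : IsStronglyEmbedded H) : CoreTwo H := by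
  suffices h : ∀ (n : ℕ) (X : Type u) [Group X] [Finite X], Nat.card X = n →
      ∀ K : Subgroup X, IsStronglyEmbedded K → CoreTwo K from h _ G rfl H hH
  intro n
  induction n using Nat.strong_induction_on with
  | _ n IH =>
    intro X _ _ hn K hK
    have hIH : CoreTwoBelow X := fun M hM L hL => IH _ (by
      rw [← hn]
      exact lt_of_le_of_ne (Subgroup.card_le_card_group M)
        fun e => hM (M.eq_top_of_card_eq e)) M rfl L hL
    by_cases hcore : K.normalCore = ⊥
    · by_cases h2 : ∃ x y : X, x ≠ 1 ∧ y ≠ 1 ∧ x ≠ y ∧ x * x = 1 ∧ y * y = 1 ∧ x * y = y * x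
      · exact step X K hK hIH hcore h2
      · push Not at h2
        refine coreTwo_of_isolated fun s _ t _ hs ht hc => ?_
        by_contra hne
        exact h2 s t (ne_one hs) (ne_one ht) hne (mul_self hs) (mul_self ht) hc.eq
    · have hle := K.normalCore_le
      refine coreTwo_of_map (QuotientGroup.mk' K.normalCore) ?_
        (IH (Nat.card (X ⧸ K.normalCore)) ?_ _ rfl _ (isStronglyEmbedded_map hK hle))
      · rw [QuotientGroup.ker_mk']
        exact odd_of_normal_le hK hle
      · rw [← hn, Subgroup.card_eq_card_quotient_mul_card_subgroup K.normalCore]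
        exact lt_mul_of_one_lt_right Nat.card_pos
          ((Subgroup.one_lt_card_iff_ne_bot _).2 hcore)

/-- Bender's dichotomy follows from `CoreTwo`. -/
theorem dichotomy_of_coreTwo {H : Subgroup G} (hH : IsStronglyEmbedded H) (hS : CoreTwo H) :
    (∀ g₁ g₂ : G, g₁ ∉ H → g₂ ∉ H → ∃ h ∈ H, g₂⁻¹ * (h * g₁) ∈ H) ∨
      ((∀ S : Sylow 2 G, IsCyclic S ∨
        ∃ m : ℕ, 1 ≤ m ∧ Nonempty ((S : Subgroup G) ≃* QuaternionGroup (2 ^ m))) ∧
        Cfsg.oddCore G ⊔ H = ⊤) := by
  haveI : Fact (Nat.Prime 2) := ⟨Nat.prime_two⟩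
  by_cases h2 : ∃ x y : G, x ≠ 1 ∧ y ≠ 1 ∧ x ≠ y ∧ x * x = 1 ∧ y * y = 1 ∧ x * y = y * x
  · exact Or.inl fun g₁ g₂ h₁ h₂ => transitive_of_coreTwo hH h2 hS g₁ g₂ h₁ h₂
  push Not at h2
  have heq : ∀ s t : G, orderOf s = 2 → orderOf t = 2 → Commute s t → s = t := by
    intro s t hs ht hc
    by_contra hne
    exact h2 s t (ne_one hs) (ne_one ht) hne (mul_self hs) (mul_self ht) hc.eq
  refine Or.inr ⟨fun S => ?_, ?_⟩
  · have huniq : ∀ A B : Subgroup S, Nat.card A = 2 → Nat.card B = 2 → A = B := by
      by_cases hS1 : Nontrivial S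
      · haveI := hS1
        haveI := S.isPGroup'.center_nontrivial
        obtain ⟨⟨z, hzc⟩, hz⟩ := exists_prime_orderOf_dvd_card' (G := Subgroup.center S) 2 (by
          obtain ⟨k, hk, hcard⟩ := (S.isPGroup'.to_subgroup (Subgroup.center S)).nontrivial_iff_card.1
            inferInstance
          rw [hcard]
          exact dvd_pow_self 2 hk.ne')
        have hz' : orderOf (z : G) = 2 := by
          rwa [Subgroup.orderOf_coe, ← Subgroup.orderOf_coe (H := Subgroup.center S) ⟨z, hzc⟩] at *
        have key : ∀ A : Subgroup S, Nat.card A = 2 → A = Subgroup.zpowers z := by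
          intro A hA
          obtain ⟨⟨a, ha⟩, ha2⟩ := exists_prime_orderOf_dvd_card' (G := A) 2 (by rw [hA])
          rw [← Subgroup.orderOf_coe] at ha2
          have haz : a = z := Subtype.ext (heq _ _ ((Subgroup.orderOf_coe a).trans ha2) hz'
            (congrArg Subtype.val (Subgroup.mem_center_iff.1 hzc a)))
          refine (Subgroup.eq_of_le_of_card_ge (Subgroup.zpowers_le.2 (haz ▸ ha)) ?_).symm
          rw [hA, Nat.card_zpowers, ← Subgroup.orderOf_coe, hz']
        intro A B hA hB
        rw [key A hA, key B hB]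
      · intro A B hA
        rw [not_nontrivial_iff_subsingleton] at hS1
        have := Finite.card_le_one_iff_subsingleton.2 (inferInstance : Subsingleton A)
        omega
    rcases S0016.result 2 S.isPGroup' huniq with h | ⟨-, m, ⟨e⟩⟩
    · exact Or.inl h
    · rcases Nat.eq_zero_or_pos m with rfl | hm
      · haveI : IsCyclic (QuaternionGroup (2 ^ 0)) :=
          isCyclic_of_orderOf_eq_card (QuaternionGroup.xa 0)
            (by rw [QuaternionGroup.orderOf_xa, Nat.card_eq_fintype_card, QuaternionGroup.card]; rfl)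
        exact Or.inl (isCyclic_of_surjective e.symm.toMonoidHom e.symm.surjective)
      · exact Or.inr ⟨m, hm, ⟨e⟩⟩
  · obtain ⟨t, htH, ht⟩ := exists_involution_mem hH.2.1
    have hiso : IsIsolatedInvolution t := ⟨ht, fun g hg =>
      (heq _ _ ht ((Involution.orderOf_conj g t).trans ht) hg).symm⟩
    refine eq_top_iff.2 fun g _ => ?_
    have hc : g⁻¹ * t * g * t⁻¹ ∈ Cfsg.oddCore G := by
      have h1 := ZStar.zStar_of_brauerSuzuki ZStar.uniqueInvolution hiso g⁻¹
      have h2 := (Cfsg.pPrimeCore 2 G).inv_mem h1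
      simp only [mul_inv_rev, inv_inv] at h2
      simpa only [mul_assoc] using h2
    haveI : (Cfsg.oddCore G).Normal := Cores.pPrimeCore_normal 2 G
    -- `t` and its conjugate are conjugate under `O(G)`
    have hmem : g⁻¹ * t * g ∈ Cfsg.oddCore G ⊔ H := by
      have := mul_mem ((Subgroup.mem_sup_left hc : _ ∈ Cfsg.oddCore G ⊔ H)) (Subgroup.mem_sup_right htH)
      simpa [mul_assoc] using this
    by_contra hg
    have hle : H ≤ Cfsg.oddCore G ⊔ H := le_sup_right
    obtain ⟨k, hk, hke⟩ : ∃ k ∈ Cfsg.oddCore G ⊔ H, k * t * k⁻¹ = g⁻¹ * t * g := by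
      have hord : orderOf (g⁻¹ * t * g) = 2 := by
        have := Involution.orderOf_conj g⁻¹ t
        rwa [inv_inv, ht] at this
      have hodd : Odd (orderOf (t * (g⁻¹ * t * g))) := by
        rw [← Nat.not_even_iff_odd]
        intro he
        obtain ⟨r, hr2, hrt, hrs, -⟩ := exists_commuting_involution ht hord he
        rw [← heq _ _ ht hr2 hrt.symm] at hrs
        rw [← heq _ _ ht hord hrs, mul_self ht, orderOf_one] at he
        exact absurd he (by decide)
      obtain ⟨k, hk, e⟩ := exists_conj_of_odd ht hord hodd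
      refine ⟨k, (Subgroup.closure_le _).2 ?_ hk, e⟩
      rintro _ (rfl | rfl)
      · exact hle htH
      · exact hmem
    have hgk : g * k ∈ H := centralizer_le hH ht htH (Involution.mem_centralizer_singleton.2 (by
      calc g * k * t = g * (k * t * k⁻¹) * k := by group
        _ = t * (g * k) := by rw [hke]; group))
    exact hg (by simpa using mul_mem (hle hgk) (inv_mem hk))

end Cfsg.Agent.Bender
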