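/-
The criterion delivered by induction (owner: helper1).

* `crit_of_below` : if `CoreTwo H` fails in a minimal situation, no nontrivial subgroup of a
  two-point stabiliser is normalised by it, by an involution at one of the points and by a swapper.
  This is the hypothesis `crit` of `Centred` and `odd_centralizer_of_centred`.
-/
import Cfsg.Agent.Lib.Bender.Induction

set_option autoImplicit false
set_option linter.style.haveILetI false

namespace Cfsg.Agent.Bender

open Cfsg Involution Aschbacher
open scoped Pointwise

universe u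

variable {G : Type u} [Group G] [Finite G] {H : Subgroup G}

theorem crit_of_below (hH : IsStronglyEmbedded H) (hIH : CoreTwoBelow G)
    (hcore : H.normalCore = ⊥) (hfail : ¬ CoreTwo H) :
    ∀ (N : Subgroup G) (x y : G ⧸ H), x ≠ y → N ≠ ⊥ → N ≤ twoPt G x y →
      twoPt G x y ≤ Subgroup.normalizer (N : Set G) →
      ∀ u ∈ {d : G | orderOf d = 2}, fixPt H u = x → u ∈ Subgroup.normalizer (N : Set G) →
      ∀ w ∈ {d : G | orderOf d = 2}, w • x = y → w ∈ Subgroup.normalizer (N : Set G) → False := by
  intro N x y hxy hN hNK hKN u hu hux huN w hw hwx hwN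
  have P := pointClass_of_stronglyEmbedded hH
  set M := Subgroup.normalizer (N : Set G) with hM
  induction x using QuotientGroup.induction_on with
  | _ g =>
    set o : G ⧸ H := ((1 : G) : G ⧸ H) with ho
    have hgo : g • o = (g : G ⧸ H) := by
      rw [ho, MulAction.Quotient.smul_mk, smul_eq_mul, mul_one]
    set φ := MulAut.conj g with hφ
    -- the point stabiliser as a conjugate of `H`
    have hstab : H.map φ.toMonoidHom = MulAction.stabilizer G (g : G ⧸ H) := by
      ext k
      rw [MulAction.mem_stabilizer_iff, Subgroup.mem_map_equiv, ← smul_one_eq (H := H), ← ho]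
      show (φ.symm k) • o = o ↔ _
      rw [hφ, MulAut.conj_symm_apply, ← hgo, mul_smul, mul_smul, inv_smul_eq_iff]
    have hMtop : M ≠ ⊤ := by
      intro e
      haveI : N.Normal := Subgroup.normalizer_eq_top_iff.1 e
      have h1 : N ≤ H := by
        intro a ha
        have h2 : g * a * g⁻¹ ∈ N := Subgroup.Normal.conj_mem inferInstance a ha g
        have h3 : g * a * g⁻¹ ∈ H.map φ.toMonoidHom := hstab ▸ (hNK h2).1
        obtain ⟨b, hb, he⟩ := h3
        rwa [show b = a from (MulAut.conj g).injective he] at hb
      exact hN (le_bot_iff.1 (hcore ▸ Subgroup.normal_le_normalCore.2 h1))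
    -- the involutions of the stabiliser lie in `M`
    have hcover : ∀ s ∈ H.map φ.toMonoidHom, orderOf s = 2 → s ∈ M := by
      intro s hs hs2
      rw [hstab] at hs
      obtain ⟨k, hk, rfl⟩ := exists_conj_two_point hH hxy hu
        (by rw [← hux]; exact P.smul_pt hu) hs2 (MulAction.mem_stabilizer_iff.1 hs)
      exact mul_mem (mul_mem (hKN hk) huN) (inv_mem (hKN hk))
    -- its intersection with `M` has `CoreTwo`
    have hMH : ¬ M.map φ.symm.toMonoidHom ≤ H := by
      intro hle
      have h1 : φ.symm w ∈ H := hle ⟨w, hwN, rfl⟩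
      have h2 : w ∈ H.map φ.toMonoidHom := ⟨φ.symm w, h1, φ.apply_symm_apply w⟩
      rw [hstab, MulAction.mem_stabilizer_iff, hwx] at h2
      exact hxy h2.symm
    have hMt' : M.map φ.symm.toMonoidHom ≠ ⊤ := by
      intro e
      refine hMtop (Subgroup.map_injective φ.symm.injective (e.trans ?_))
      exact (Subgroup.map_top_of_surjective _ φ.symm.surjective).symm
    have h1 : CoreTwo (H ⊓ M.map φ.symm.toMonoidHom) :=
      coreTwo_of_le_inter hH hIH hMt' hMH le_rfl
    refine hfail (coreTwo_of_involutions_mem h1 fun s hs hs2 => ⟨hs, φ s, ?_, φ.symm_apply_apply s⟩)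
    exact hcover _ ⟨s, hs, rfl⟩ ((Involution.orderOf_conj g s).trans hs2)

end Cfsg.Agent.Bender
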