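/-
The `p'`-core of a subgroup of odd order and `p`-rank at most two (owner: helper40).

* `core p K` : `O_p'(K)` as a subgroup of the ambient group
* `le_core_of_invariant` : it contains the `p'`-subgroups of `K` invariant under a Sylow subgroup
* `exists_core_mul` : `K = O_p'(K) N_K(P)`
-/
import Cfsg.Agent.Lib.OddOrder.RankTwoPLength
import Cfsg.Agent.Lib.OddOrderTheorem.Basic
import Cfsg.Agent.Lib.Coprime.Factorization

set_option autoImplicit false
set_option linter.style.haveILetI false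

namespace Cfsg.Agent.Bender

universe u

variable {G : Type u} [Group G]

/-- `O_p'(K)` as a subgroup of the ambient group. -/
def core (p : ℕ) (K : Subgroup G) : Subgroup G := (Cfsg.pPrimeCore p K).map K.subtype

theorem core_le (p : ℕ) (K : Subgroup G) : core p K ≤ K := Subgroup.map_subtype_le _

theorem normalizer_le_core (p : ℕ) (K : Subgroup G) :
    Subgroup.normalizer (K : Set G) ≤ Subgroup.normalizer (core p K : Set G) :=
  Cores.normalizer_le_normalizer_map _

theorem le_normalizer_core (p : ℕ) (K : Subgroup G) :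
    K ≤ Subgroup.normalizer (core p K : Set G) :=
  Subgroup.le_normalizer.trans (normalizer_le_core p K)

variable [Finite G] {p : ℕ} [Fact p.Prime] {K P : Subgroup G}

theorem not_dvd_card_core : ¬ p ∣ Nat.card (core p K) := by
  rw [core, Cores.card_map_subtype]
  exact Cores.not_dvd_card_pPrimeCore

theorem odd_card_core (hK : Odd (Nat.card K)) : Odd (Nat.card (core p K)) :=
  hK.of_dvd_nat (Subgroup.card_dvd_of_le (core_le p K))

/-- A Sylow subgroup lies in `O_p',p(K)`. -/
theorem sylow_le_pPrimePCore (hK : Odd (Nat.card K)) (hr : Cfsg.PRankLE p 2 K) (S : Sylow p K) :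
    (S : Subgroup K) ≤ Cfsg.pPrimePCore p K := by
  haveI : Group.IsSolvable K := OddOrderTheorem.solvable hK
  have hn : (Cfsg.pPrimePCore p K).Normal :=
    Subgroup.Normal.comap (Subgroup.sSup_normal _ fun _ h => h.1) _
  have hidx := RankTwoPLength.index_pPrimePCore_coprime_of_rank_two hK hr
  intro x hx
  rw [← QuotientGroup.eq_one_iff, ← orderOf_eq_one_iff]
  obtain ⟨n, hn'⟩ := (S.2.to_le (le_refl _)).exists_card_eq
  refine Nat.eq_one_of_dvd_coprimes (Nat.Coprime.pow_left n (Nat.coprime_comm.1 hidx)) ?_ ?_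
  · exact (orderOf_map_dvd (QuotientGroup.mk' _) x).trans (hn' ▸ Subgroup.orderOf_dvd_natCard _ hx)
  · exact orderOf_dvd_natCard _

/-- `O_p',p(K)` is the product of the `p'`-core and a Sylow subgroup, so `K` factorises. -/
theorem exists_core_mul (hK : Odd (Nat.card K)) (hr : Cfsg.PRankLE p 2 K) (hPK : P ≤ K)
    (hP : Nat.card P = p ^ (Nat.card K).factorization p) {g : G} (hg : g ∈ K) :
    ∃ a ∈ core p K, ∃ n ∈ K, n ∈ Subgroup.normalizer (P : Set G) ∧ a * n = g := by
  obtain ⟨S, hS⟩ := Coprime.exists_sylow_map_eq hPK hP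
  set O := Cfsg.pPrimeCore p K with hO
  set Q := Cfsg.pPrimePCore p K with hQ
  haveI hQn : Q.Normal := Subgroup.Normal.comap (Subgroup.sSup_normal _ fun _ h => h.1) _
  have hle : (S : Subgroup K) ≤ Q := sylow_le_pPrimePCore hK hr S
  have htop : Subgroup.normalizer (((S.subtype hle : Sylow p Q) : Subgroup Q).map Q.subtype : Set K)
      ⊔ Q = ⊤ := Sylow.normalizer_sup_eq_top (S.subtype hle)
  rw [show ((S.subtype hle : Sylow p Q) : Subgroup Q).map Q.subtype = (S : Subgroup K) by
    rw [Sylow.coe_subtype, Subgroup.subgroupOf_map_subtype, inf_eq_left.2 hle]] at htop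
  -- `Q` is the product of the core and the Sylow subgroup
  have hQO : Q ≤ O ⊔ (S : Subgroup K) := by
    intro x hx
    set f := QuotientGroup.mk' O
    have hSf : (S : Subgroup K).map f = Cfsg.pCore p (K ⧸ O) := by
      refine le_antisymm (Subgroup.map_le_iff_le_comap.2 hle) ?_
      have hsurj : Function.Surjective f := QuotientGroup.mk'_surjective _
      exact Cores.pCore_le_sylow (S.mapSurjective hsurj)
    obtain ⟨s, hs, e⟩ := hSf.ge hx
    rw [QuotientGroup.mk'_eq_mk'] at e
    obtain ⟨z, hz, rfl⟩ := e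
    exact Subgroup.mul_mem _ (Subgroup.mem_sup_right hs) (Subgroup.mem_sup_left hz)
  have hmain : O ⊔ Subgroup.normalizer ((S : Subgroup K) : Set K) = ⊤ := by
    refine le_antisymm le_top ?_
    rw [← htop]
    exact sup_le le_sup_right (hQO.trans (sup_le le_sup_left
      (Subgroup.le_normalizer.trans le_sup_right)))
  obtain ⟨a, ha, n, hn, e⟩ := Subgroup.mem_sup_of_normal_left.1
    (hmain.ge (Subgroup.mem_top (⟨g, hg⟩ : K)))
  refine ⟨a, ⟨a, ha, rfl⟩, n, n.2, ?_, congrArg Subtype.val e⟩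
  rw [← hS]
  refine Coprime.mem_normalizer_of_forall ?_
  rintro _ ⟨x, hx, rfl⟩
  exact ⟨n * x * n⁻¹, (Subgroup.mem_normalizer_iff.1 hn x).1 hx, rfl⟩

/-- An invariant `p'`-subgroup lies in the `p'`-core. -/
theorem le_core_of_invariant (hK : Odd (Nat.card K)) (hr : Cfsg.PRankLE p 2 K) (hPK : P ≤ K)
    (hP : Nat.card P = p ^ (Nat.card K).factorization p) {X : Subgroup G} (hXK : X ≤ K)
    (hX : ¬ p ∣ Nat.card X) (hPX : P ≤ Subgroup.normalizer (X : Set G)) : X ≤ core p K := by
  haveI : Group.IsSolvable K := OddOrderTheorem.solvable hK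
  obtain ⟨S, hS⟩ := Coprime.exists_sylow_map_eq hPK hP
  set O := Cfsg.pPrimeCore p K with hO
  set f := QuotientGroup.mk' O
  set R := Cfsg.pCore p (K ⧸ O) with hR
  haveI : R.Normal := Subgroup.sSup_normal _ fun _ h => h.1
  have hsurj : Function.Surjective f := QuotientGroup.mk'_surjective _
  haveI : Group.IsSolvable (K ⧸ O) := Group.isSolvable_of_surjective hsurj
  have hC : Subgroup.centralizer (R : Set (K ⧸ O)) ≤ R :=
    Solvable.centralizer_pCore_le_of_isSolvable (Cores.pPrimeCore_quotient_self p)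
  set X' := (X.subgroupOf K).map f with hX'
  have hX'card : ¬ p ∣ Nat.card X' := fun h => hX ((h.trans (Subgroup.card_map_dvd _ _)).trans
    (dvd_of_eq (Cores.card_subgroupOf hXK)))
  have hRS : R ≤ (S : Subgroup K).map f := Cores.pCore_le_sylow (S.mapSurjective hsurj)
  have hnorm : ∀ r ∈ R, r ∈ Subgroup.normalizer (X' : Set (K ⧸ O)) := by
    intro r hr'
    obtain ⟨s, hs, rfl⟩ := hRS hr'
    refine Coprime.mem_normalizer_of_forall ?_
    rintro _ ⟨x, hx, rfl⟩
    refine ⟨s * x * s⁻¹, ?_, by rw [map_mul, map_mul, map_inv]⟩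
    exact (Subgroup.mem_normalizer_iff.1 (hPX (hS ▸ Subgroup.mem_map_of_mem K.subtype hs)) x).1 hx
  have hcomm : X' ≤ Subgroup.centralizer (R : Set (K ⧸ O)) := by
    intro x hx
    refine Subgroup.mem_centralizer_iff.2 fun r hr' => ?_
    have h1 : r * x * r⁻¹ * x⁻¹ ∈ X' :=
      X'.mul_mem ((Subgroup.mem_normalizer_iff.1 (hnorm r hr') x).1 hx) (X'.inv_mem hx)
    have h2 : r * x * r⁻¹ * x⁻¹ ∈ R := by
      rw [show r * x * r⁻¹ * x⁻¹ = r * (x * r⁻¹ * x⁻¹) by group]
      exact R.mul_mem hr' (Subgroup.Normal.conj_mem inferInstance _ (R.inv_mem hr') x)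
    have h3 : r * x * r⁻¹ * x⁻¹ = 1 := by
      rw [← orderOf_eq_one_iff]
      obtain ⟨n, hn⟩ := (Cores.isPGroup_pCore p (K ⧸ O)).exists_card_eq
      exact Nat.eq_one_of_dvd_coprimes
        (Nat.Coprime.pow_left n ((Fact.out : p.Prime).coprime_iff_not_dvd.2 hX'card))
        (hn ▸ Subgroup.orderOf_dvd_natCard _ h2) (Subgroup.orderOf_dvd_natCard _ h1)
    rwa [mul_inv_eq_one, mul_inv_eq_iff_eq_mul] at h3
  have hbot : X' = ⊥ := by
    rw [← Subgroup.card_eq_one]
    obtain ⟨n, hn⟩ := ((Cores.isPGroup_pCore p (K ⧸ O)).to_le (hcomm.trans hC)).exists_card_eq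
    rcases n.eq_zero_or_pos with rfl | hpos
    · rw [hn, pow_zero]
    · exact absurd (hn ▸ dvd_pow_self p hpos.ne') hX'card
  rw [hX', Subgroup.map_eq_bot_iff, QuotientGroup.ker_mk'] at hbot
  intro x hx
  exact ⟨⟨x, hXK hx⟩, hbot (show (⟨x, hXK hx⟩ : K) ∈ X.subgroupOf K from hx), rfl⟩

end Cfsg.Agent.Bender
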