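/-
Two involutions acting alike on an orbit (owner: helper40).

`X` of odd order and prime to `p`, normalised by involutions `u`, `u'` whose centralisers in `X` fix
the common fixed point `c`, with `u * u'` of `p`-power order: then `u * u'` fixes every point of the
`X`-orbit of `c`. This is the invariant Sylow argument done along the derived series.
-/
import Cfsg.Agent.Lib.Coprime.Basic
import Cfsg.Agent.Lib.OddOrderTheorem.Basic
import Mathlib.GroupTheory.Perm.Cycle.Type

set_option autoImplicit false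
set_option linter.style.haveILetI false

namespace Cfsg.Agent.Bender

universe u v

variable {G : Type u} {Ω : Type v} [Group G] [MulAction G Ω] [Finite G]

/-- A map of a coset of a subgroup with a prime power period has a fixed point if the order of the
subgroup is prime to the prime. -/
theorem exists_fixed_coset {R : Subgroup G} {p : ℕ} [Fact p.Prime]
    (hR : ¬ p ∣ Nat.card R) (x : G) (f : G → G) (hf : ∀ z, x⁻¹ * z ∈ R → x⁻¹ * f z ∈ R)
    {k : ℕ} (hk : ∀ z, f^[p ^ k] z = z) : ∃ z, x⁻¹ * z ∈ R ∧ f z = z := by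
  classical
  let S := {z : G // x⁻¹ * z ∈ R}
  let e : S ≃ R :=
    { toFun := fun z => ⟨x⁻¹ * z.1, z.2⟩
      invFun := fun r => ⟨x * r.1, by simp [r.2]⟩
      left_inv := fun z => Subtype.ext (by simp)
      right_inv := fun r => Subtype.ext (by simp) }
  let g : S → S := fun z => ⟨f z.1, hf _ z.2⟩
  have hg : ∀ (j : ℕ) (z : S), ((g^[j] z : S) : G) = f^[j] z.1 := by
    intro j
    induction j with
    | zero => exact fun z => rfl
    | succ j ih =>
      intro z
      rw [Function.iterate_succ_apply, Function.iterate_succ_apply, ih]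
  have hgk : ∀ z : S, g^[p ^ k] z = z := fun z => Subtype.ext (by rw [hg, hk])
  have hpos : 0 < p ^ k := pow_pos (Fact.out : p.Prime).pos k
  have hinv : ∀ z, g^[p ^ k - 1] (g z) = z := fun z => by
    rw [← Function.iterate_succ_apply, show (p ^ k - 1).succ = p ^ k by omega, hgk]
  have hinv' : ∀ z, g (g^[p ^ k - 1] z) = z := fun z => by
    rw [← Function.iterate_succ_apply' g, show (p ^ k - 1).succ = p ^ k by omega, hgk]
  let σ : Equiv.Perm S := ⟨g, g^[p ^ k - 1], hinv, hinv'⟩
  haveI := Fintype.ofFinite S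
  obtain ⟨z, hz⟩ := Equiv.Perm.exists_fixed_point_of_prime (p := p) (n := k)
    (by rwa [← Nat.card_eq_fintype_card, Nat.card_congr e]) (σ := σ) (by
      ext z
      rw [Equiv.Perm.coe_pow]
      exact congrArg Subtype.val (hgk z))
  exact ⟨z.1, z.2, congrArg Subtype.val hz⟩

/-- One step of the derived series. -/
theorem orbit_step {p : ℕ} [Fact p.Prime] {B : Subgroup G} (hodd : Odd (Nat.card B))
    (hpB : ¬ p ∣ Nat.card B) {c : Ω} {u u' : G} (hu : u * u = 1) (hu' : u' * u' = 1)
    (hcu : u • c = c) (hcu' : u' • c = c)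
    (huB : u ∈ Subgroup.normalizer (B : Set G)) (hu'B : u' ∈ Subgroup.normalizer (B : Set G))
    (hC : ∀ g ∈ B, Commute u g → g • c = c) (hC' : ∀ g ∈ B, Commute u' g → g • c = c)
    {k : ℕ} (hk : (u * u') ^ (p ^ k) = 1)
    (hder : ∀ g ∈ (⁅B, B⁆ : Subgroup G), (u * u') • g • c = g • c) :
    ∀ g ∈ B, (u * u') • g • c = g • c := by
  set C : Subgroup G := ⁅B, B⁆ with hCdef
  set R : Subgroup G := C ⊔ B ⊓ MulAction.stabilizer G c with hRdef
  have hCB : C ≤ B := Subgroup.commutator_le.2 fun a ha b hb =>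
    B.mul_mem (B.mul_mem (B.mul_mem ha hb) (B.inv_mem ha)) (B.inv_mem hb)
  have hnC : ∀ x ∈ Subgroup.normalizer (B : Set G), x ∈ Subgroup.normalizer (C : Set G) := by
    intro x hx
    refine Coprime.mem_normalizer_of_conj_eq ?_
    show C.map (MulAut.conj x).toMonoidHom = C
    rw [hCdef, Subgroup.map_commutator]
    have := Coprime.conj_eq_of_mem_normalizer hx
    exact congrArg₂ (fun K L : Subgroup G => ⁅K, L⁆) this this
  have hsup : ∀ {g}, g ∈ R → ∃ d ∈ C, ∃ s ∈ B ⊓ MulAction.stabilizer G c, d * s = g := fun hg => by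
    obtain ⟨d, hd, s, hs, rfl⟩ :=
      (Coprime.mem_sup_iff (fun x hx => hnC x (Subgroup.le_normalizer (Subgroup.mem_inf.1 hx).1))).1 hg
    exact ⟨d, hd, s, hs, rfl⟩
  have hRB : R ≤ B := sup_le hCB inf_le_left
  have hRfix : ∀ r ∈ R, (u * u') • r • c = r • c := by
    intro r hr
    obtain ⟨d, hd, s, hs, rfl⟩ := hsup hr
    rw [mul_smul d s c, MulAction.mem_stabilizer_iff.1 hs.2]
    exact hder d hd
  have hnR : ∀ x ∈ Subgroup.normalizer (B : Set G), x • c = c → ∀ r ∈ R, x * r * x⁻¹ ∈ R := by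
    intro x hx hxc r hr
    obtain ⟨d, hd, s, hs, rfl⟩ := hsup hr
    rw [show x * (d * s) * x⁻¹ = (x * d * x⁻¹) * (x * s * x⁻¹) by group]
    refine mul_mem (Subgroup.mem_sup_left ((Subgroup.mem_normalizer_iff.1 (hnC x hx) d).1 hd))
      (Subgroup.mem_sup_right ⟨(Subgroup.mem_normalizer_iff.1 hx s).1 hs.1, ?_⟩)
    show (x * s * x⁻¹) • c = c
    rw [mul_smul, mul_smul, inv_smul_eq_iff.2 hxc.symm, MulAction.mem_stabilizer_iff.1 hs.2, hxc]
  have hcomm : ∀ a ∈ B, ∀ b ∈ B, a * b * a⁻¹ * b⁻¹ ∈ R := fun a ha b hb =>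
    Subgroup.mem_sup_left (Subgroup.commutator_mem_commutator ha hb)
  have hnorm : ∀ a ∈ B, ∀ r ∈ R, a * r * a⁻¹ ∈ R := fun a ha r hr => by
    have := R.mul_mem (hcomm a ha r (hRB hr)) hr
    rwa [inv_mul_cancel_right] at this
  have hRodd : Odd (Nat.card R) := hodd.of_dvd_nat (Subgroup.card_dvd_of_le hRB)
  have hpR : ¬ p ∣ Nat.card R := fun h => hpB (h.trans (Subgroup.card_dvd_of_le hRB))
  haveI : Fact (Nat.Prime 2) := ⟨Nat.prime_two⟩
  -- an involution with centraliser in `R` inverts `B` modulo `R`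
  have hinv : ∀ (t : G), t * t = 1 → t • c = c → t ∈ Subgroup.normalizer (B : Set G) →
      (∀ g ∈ B, Commute t g → g • c = c) → ∀ n ∈ B, n * (t * n * t) ∈ R := by
    intro t ht htc htB hCt n hn
    have hti : t⁻¹ = t := inv_eq_of_mul_eq_one_right ht
    have hnt : t * n * t ∈ B := by
      have := (Subgroup.mem_normalizer_iff.1 htB n).1 hn
      rwa [hti] at this
    set e := n * (t * n * t) with he
    have heB : e ∈ B := B.mul_mem hn hnt
    have hmaps : ∀ z, e⁻¹ * z ∈ R → e⁻¹ * (t * z * t) ∈ R := by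
      intro z hz
      have h1 : t * (e⁻¹ * z) * t⁻¹ ∈ R := hnR t htB htc _ hz
      have h2 : n * (t * n * t) * n⁻¹ * (t * n * t)⁻¹ ∈ R := hcomm n hn _ hnt
      have h3 : e⁻¹ * (t * e * t) ∈ R := by
        have h4 := R.inv_mem h2
        have h5 : e⁻¹ * (t * e * t) = e⁻¹ * ((t * n * t) * n) := by
          rw [he]
          calc _ = (n * (t * n * t))⁻¹ * (t * n * t * n * (t * t)) := by group
            _ = _ := by rw [ht, mul_one]
        rw [h5]
        have := hnorm e⁻¹ (B.inv_mem heB) _ h4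
        rw [inv_inv] at this
        convert this using 1
        rw [he]; group
      have := R.mul_mem h3 h1
      convert this using 1
      rw [hti]
      calc e⁻¹ * (t * z * t) = e⁻¹ * t * e * 1 * (e⁻¹ * z) * t := by group
        _ = _ := by rw [← ht]; group
    obtain ⟨z, hz, hzf⟩ := exists_fixed_coset (p := 2) (Nat.two_dvd_ne_zero.2 (Nat.odd_iff.1 hRodd))
      e (fun z => t * z * t) hmaps (k := 1) (fun z => by
        show t * (t * z * t) * t = z
        calc _ = (t * t) * z * (t * t) := by group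
          _ = z := by rw [ht]; group)
    have hzB : z ∈ B := by
      have := B.mul_mem heB (hRB hz)
      rwa [mul_inv_cancel_left] at this
    have hzR : z ∈ R := Subgroup.mem_sup_right ⟨hzB, hCt z hzB (by
      show t * z = z * t
      calc t * z = t * z * (t * t) := by rw [ht, mul_one]
        _ = (t * z * t) * t := by group
        _ = z * t := by rw [hzf])⟩
    have := R.mul_mem hzR (R.inv_mem hz)
    convert this using 1
    group
  intro n hn
  set w := u * u' with hw
  have hui : u⁻¹ = u := inv_eq_of_mul_eq_one_right hu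
  have hu'i : u'⁻¹ = u' := inv_eq_of_mul_eq_one_right hu'
  have hmaps : ∀ z, n⁻¹ * z ∈ R → n⁻¹ * (w * z * w⁻¹) ∈ R := by
    intro z hz
    have hwR : w * (n⁻¹ * z) * w⁻¹ ∈ R := by
      have := hnR u huB hcu _ (hnR u' hu'B hcu' _ hz)
      convert this using 1
      rw [hw]; group
    have h1 : n⁻¹ * (w * n * w⁻¹) ∈ R := by
      set r' := n * (u' * n * u') with hr'
      have hr'R : r' ∈ R := hinv u' hu' hcu' hu'B hC' n hn
      have heR : n * (u * n * u) ∈ R := hinv u hu hcu huB hC n hn
      have hn' : u' * n * u' = n⁻¹ * r' := by rw [hr']; group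
      have h2 : u * r' * u⁻¹ ∈ R := hnR u huB hcu _ hr'R
      have h3 := hnorm n⁻¹ (B.inv_mem hn) _ (R.inv_mem heR)
      have := R.mul_mem h3 h2
      convert this using 1
      rw [hw, mul_inv_rev, hui, hu'i]
      calc n⁻¹ * (u * u' * n * (u' * u)) = n⁻¹ * (u * (u' * n * u') * u) := by group
        _ = n⁻¹ * (u * n⁻¹ * r' * u) := by rw [hn']; group
        _ = n⁻¹ * (u * n⁻¹ * (u * u) * r' * u) := by rw [hu, mul_one]
        _ = n⁻¹ * ((u⁻¹ * n * u⁻¹)⁻¹ * (u * r' * u)) := by group
        _ = _ := by rw [hui]; group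
    have := R.mul_mem h1 hwR
    convert this using 1
    group
  obtain ⟨z, hz, hzf⟩ := exists_fixed_coset (p := p) hpR n (fun z => w * z * w⁻¹) hmaps (k := k)
    (fun z => by
      have : ∀ j : ℕ, (fun z => w * z * w⁻¹)^[j] z = w ^ j * z * (w ^ j)⁻¹ := by
        intro j
        induction j with
        | zero => simp
        | succ j ih => rw [Function.iterate_succ_apply', ih, pow_succ']; group
      rw [this, hk, inv_one, mul_one, one_mul])
  have hr : z⁻¹ * n ∈ R := by
    have := R.inv_mem hz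
    rwa [mul_inv_rev, inv_inv] at this
  have hwz : w * z = z * w := by
    calc w * z = w * z * w⁻¹ * w := by group
      _ = z * w := by rw [hzf]
  calc w • n • c = (w * z) • (z⁻¹ * n) • c := by simp only [← mul_smul]; group
    _ = z • w • (z⁻¹ * n) • c := by rw [hwz, mul_smul]
    _ = z • (z⁻¹ * n) • c := by rw [hRfix _ hr]
    _ = n • c := by simp only [← mul_smul]; group

/-- **Two involutions acting alike on an orbit.** -/
theorem orbit_fixed {p : ℕ} [Fact p.Prime] {X : Subgroup G} (hodd : Odd (Nat.card X))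
    (hpX : ¬ p ∣ Nat.card X) {c : Ω} {u u' : G} (hu : u * u = 1) (hu' : u' * u' = 1)
    (hcu : u • c = c) (hcu' : u' • c = c)
    (huX : u ∈ Subgroup.normalizer (X : Set G)) (hu'X : u' ∈ Subgroup.normalizer (X : Set G))
    (hC : ∀ g ∈ X, Commute u g → g • c = c) (hC' : ∀ g ∈ X, Commute u' g → g • c = c)
    {k : ℕ} (hk : (u * u') ^ (p ^ k) = 1) : ∀ g ∈ X, (u * u') • g • c = g • c := by
  induction hn : Nat.card X using Nat.strong_induction_on generalizing X with
  | _ n ih =>
    rcases eq_or_ne X ⊥ with rfl | hX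
    · intro g hg
      rw [Subgroup.mem_bot.1 hg, one_smul, mul_smul, hcu', hcu]
    refine orbit_step hodd hpX hu hu' hcu hcu' huX hu'X hC hC' hk ?_
    haveI : Nontrivial X := (Subgroup.nontrivial_iff_ne_bot X).2 hX
    haveI : Group.IsSolvable X := OddOrderTheorem.solvable hodd
    have hC0 : (⁅X, X⁆ : Subgroup G) = (commutator ↥X).map X.subtype :=
      X.map_subtype_commutator.symm
    have hlt : (⁅X, X⁆ : Subgroup G) < X := by
      refine lt_of_le_of_ne (hC0 ▸ Subgroup.map_subtype_le _) fun e => ?_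
      refine (Group.IsSolvable.commutator_lt_top_of_nontrivial X).ne ?_
      refine Subgroup.map_injective X.subtype_injective ?_
      rw [← hC0, e, ← MonoidHom.range_eq_map, Subgroup.range_subtype]
    have hnm : ∀ x ∈ Subgroup.normalizer (X : Set G),
        x ∈ Subgroup.normalizer ((⁅X, X⁆ : Subgroup G) : Set G) := by
      intro x hx
      refine Coprime.mem_normalizer_of_conj_eq ?_
      show (⁅X, X⁆ : Subgroup G).map (MulAut.conj x).toMonoidHom = ⁅X, X⁆
      rw [Subgroup.map_commutator]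
      have := Coprime.conj_eq_of_mem_normalizer hx
      exact congrArg₂ (fun K L : Subgroup G => ⁅K, L⁆) this this
    exact ih _ (hn ▸ Set.Finite.card_lt_card (Set.toFinite _) (SetLike.coe_ssubset_coe.2 hlt))
      (hodd.of_dvd_nat (Subgroup.card_dvd_of_le hlt.le))
      (fun h => hpX (h.trans (Subgroup.card_dvd_of_le hlt.le)))
      (hnm u huX) (hnm u' hu'X) (fun g hg => hC g (hlt.le hg)) (fun g hg => hC' g (hlt.le hg)) rfl

end Cfsg.Agent.Bender
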