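/-
Free subgroups in a group with a class of involutions each fixing one point (towards Bender's
double transitivity theorem; owner: helper84).

A subgroup `X` is *free* if it is normalised by a member of the class `D` whose point is not fixed
by `X`.

Main results (namespace `Cfsg.Agent.Bender`, `P : PointClass G Ω D pt`):
* `free_iff_forall` : then no member of `D` normalising `X` has its point fixed by `X`
* `eq_of_commute` : and no two members of `D` normalising `X` commute
* `not_three` : three fixed points of a free `X` are never pairwise swapped inside the normaliser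
* `exists_swap_normalizing` : swappers normalising a Sylow subgroup of a two-point stabiliser
-/
import Cfsg.Agent.Lib.Aschbacher.Basic
import Cfsg.Agent.Lib.Coprime.Generation
import Cfsg.Agent.Lib.Coprime.Factorization

set_option autoImplicit false
set_option linter.style.haveILetI false

namespace Cfsg.Agent.Bender

open Cfsg Involution Aschbacher
open scoped Pointwise

universe u v

variable {G : Type u} {Ω : Type v} [Group G] [MulAction G Ω]

/-- A subgroup normalised by a member of `D` whose point it moves. -/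
def Free (D : Set G) (pt : G → Ω) (X : Subgroup G) : Prop :=
  ∃ w ∈ D, w ∈ Subgroup.normalizer (X : Set G) ∧ ¬ X ≤ MulAction.stabilizer G (pt w)

theorem le_stab_smul {X : Subgroup G} {k : G} (hk : k ∈ Subgroup.normalizer (X : Set G)) {z : Ω}
    (h : X ≤ MulAction.stabilizer G z) : X ≤ MulAction.stabilizer G (k • z) := by
  intro x hx
  have h1 : k⁻¹ * x * k ∈ X := (Subgroup.mem_normalizer_iff''.1 hk x).1 hx
  rw [MulAction.mem_stabilizer_iff]
  calc x • k • z = k • (k⁻¹ * x * k) • z := by simp only [← mul_smul]; group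
    _ = k • z := by rw [MulAction.mem_stabilizer_iff.1 (h h1)]

theorem mem_normalizer_conj {X : Subgroup G} {g w : G} (hg : g ∈ Subgroup.normalizer (X : Set G))
    (hw : w ∈ Subgroup.normalizer (X : Set G)) :
    g * w * g⁻¹ ∈ Subgroup.normalizer (X : Set G) :=
  mul_mem (mul_mem hg hw) (inv_mem hg)

/-- An involution acting on a finite set of odd cardinality fixes a point. -/
theorem exists_fixed_of_odd {α : Type*} [Finite α] (h : Odd (Nat.card α)) (f : α → α)
    (hf : ∀ a, f (f a) = a) : ∃ a, f a = a := by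
  classical
  haveI := Fintype.ofFinite α
  haveI : Fact (Nat.Prime 2) := ⟨Nat.prime_two⟩
  let σ : Equiv.Perm α := ⟨f, f, hf, hf⟩
  refine Equiv.Perm.exists_fixed_point_of_prime (p := 2) (n := 1) ?_ (σ := σ) ?_
  · rw [← Nat.card_eq_fintype_card, Nat.two_dvd_ne_zero]
    exact Nat.odd_iff.1 h
  · ext a
    rw [pow_one, sq, Equiv.Perm.mul_apply, Equiv.Perm.one_apply]
    exact hf a

/-- An involution normalising a subgroup of odd order normalises one of its Sylow subgroups. -/
theorem exists_sylow_invariant [Finite G] {p : ℕ} [Fact p.Prime] {K : Subgroup G} {w : G}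
    (hw : orderOf w = 2) (hwK : w ∈ Subgroup.normalizer (K : Set G)) (hK : Odd (Nat.card K))
    {R : Subgroup G} (hRK : R ≤ K) (hR : IsPGroup p R) (hwR : w ∈ Subgroup.normalizer (R : Set G)) :
    ∃ Q : Subgroup G, R ≤ Q ∧ Q ≤ K ∧ w ∈ Subgroup.normalizer (Q : Set G) ∧ IsPGroup p Q ∧
      Nat.card Q = p ^ (Nat.card K).factorization p := by
  have hcop : (Nat.card (Subgroup.zpowers w)).Coprime (Nat.card K) := by
    rw [Nat.card_zpowers, hw]
    exact Nat.coprime_two_left.2 hK
  obtain ⟨Q, h1, h2, h3, h4⟩ := Coprime.exists_invariant_card (Subgroup.zpowers_le.2 hwK) hcop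
    (Or.inl inferInstance) p hRK hR (Subgroup.zpowers_le.2 hwR)
  exact ⟨Q, h1, h2, h3 (Subgroup.mem_zpowers w), Coprime.isPGroup_of_card h4, h4⟩

section Four

/-- The four group generated by two commuting involutions. -/
def fourOf {d e : G} (hd : d * d = 1) (he : e * e = 1) (hc : Commute d e) : Subgroup G where
  carrier := {g | g = 1 ∨ g = d ∨ g = e ∨ g = d * e}
  one_mem' := Or.inl rfl
  mul_mem' := by
    have h1 : e * d = d * e := hc.eq.symm
    have h2 : d * (d * e) = e := by rw [← mul_assoc, hd, one_mul]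
    have h3 : e * (d * e) = d := by rw [← mul_assoc, h1, mul_assoc, he, mul_one]
    have h4 : d * e * d = e := by rw [mul_assoc, h1, h2]
    have h5 : d * e * e = d := by rw [mul_assoc, he, mul_one]
    have h6 : d * e * (d * e) = 1 := by rw [← mul_assoc, h4, he]
    rintro a b (rfl | rfl | rfl | rfl) (rfl | rfl | rfl | rfl) <;>
      simp [hd, he, h1, h2, h3, h4, h5, h6]
  inv_mem' := by
    have hd' : d⁻¹ = d := inv_eq_of_mul_eq_one_right hd
    have he' : e⁻¹ = e := inv_eq_of_mul_eq_one_right he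
    rintro a (rfl | rfl | rfl | rfl) <;> simp [hd', he', hc.eq.symm]

theorem isMulCommutative_fourOf {d e : G} (hd : d * d = 1) (he : e * e = 1) (hc : Commute d e) :
    IsMulCommutative (fourOf hd he hc) := by
  have hsq : ∀ a : fourOf hd he hc, a * a = 1 := by
    rintro ⟨a, rfl | rfl | rfl | rfl⟩ <;> refine Subtype.ext ?_
    · exact one_mul 1
    · exact hd
    · exact he
    · show d * e * (d * e) = 1
      rw [mul_assoc, ← mul_assoc e, ← hc.eq, mul_assoc d e e, he, mul_one, hd]
  have hinv : ∀ a : fourOf hd he hc, a⁻¹ = a := fun a => inv_eq_of_mul_eq_one_right (hsq a)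
  exact ⟨⟨fun a b => by rw [← hinv (a * b), mul_inv_rev, hinv, hinv]⟩⟩

theorem not_isCyclic_fourOf {d e : G} (hd : d * d = 1) (he : e * e = 1) (hc : Commute d e)
    (hd1 : d ≠ 1) (he1 : e ≠ 1) (hde : d ≠ e) : ¬ IsCyclic (fourOf hd he hc) := by
  intro h
  obtain ⟨⟨g, hg⟩, hgen⟩ := h.exists_zpow_surjective
  have hsq : g ^ (2 : ℤ) = 1 := by
    rw [zpow_two]
    rcases hg with rfl | rfl | rfl | rfl
    · exact one_mul 1
    · exact hd
    · exact he
    · rw [mul_assoc, ← mul_assoc e, ← hc.eq, mul_assoc d e e, he, mul_one, hd]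
  have key : ∀ x ∈ fourOf hd he hc, x = 1 ∨ x = g := by
    intro x hx
    obtain ⟨k, hk⟩ := hgen ⟨x, hx⟩
    have hk' : g ^ k = x := congrArg Subtype.val hk
    rcases Int.even_or_odd k with ⟨j, hj⟩ | ⟨j, hj⟩
    · left
      rw [← hk', hj, ← two_mul, zpow_mul, hsq, one_zpow]
    · right
      rw [← hk', hj, zpow_add, zpow_mul, hsq, one_zpow, one_mul, zpow_one]
  have h1 := (key d (Or.inr (Or.inl rfl))).resolve_left hd1
  have h2 := (key e (Or.inr (Or.inr (Or.inl rfl)))).resolve_left he1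
  exact hde (h1.trans h2.symm)

theorem card_fourOf_dvd {d e : G} [Finite G] (hd : d * d = 1) (he : e * e = 1) (hc : Commute d e) :
    IsPGroup 2 (fourOf hd he hc) := by
  intro a
  refine ⟨1, ?_⟩
  rw [pow_one, sq]
  rcases a with ⟨a, rfl | rfl | rfl | rfl⟩ <;> refine Subtype.ext ?_
  · exact one_mul 1
  · exact hd
  · exact he
  · show d * e * (d * e) = 1
    rw [mul_assoc, ← mul_assoc e, ← hc.eq, mul_assoc d e e, he, mul_one, hd]

end Four

section Main

variable [Finite G] {D : Set G} {pt : G → Ω} (P : PointClass G Ω D pt)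
include P

omit [Finite G] in
theorem smul_stab {d : G} (hd : d ∈ D) : d ∈ MulAction.stabilizer G (pt d) :=
  MulAction.mem_stabilizer_iff.2 (P.smul_pt hd)

/-- Members of `D` at different points are conjugate inside any subgroup containing them, by an
element of the dihedral group they generate. -/
theorem exists_conj_in {K : Subgroup G} {e f : G} (he : e ∈ D) (hf : f ∈ D) (heK : e ∈ K)
    (hfK : f ∈ K) (hne : pt e ≠ pt f) : ∃ k ∈ K, k * e * k⁻¹ = f := by
  obtain ⟨l, hl⟩ := P.odd_order he hf hne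
  refine ⟨(e * f) ^ (l : ℤ), K.zpow_mem (K.mul_mem heK hfK) _, ?_⟩
  rw [conj_left_zpow (P.inv e he) (P.inv f hf)]
  have : (e * f) ^ (-(2 * (l : ℤ))) = e * f := by
    rw [show -(2 * (l : ℤ)) = -(orderOf (e * f) : ℤ) + 1 by rw [hl]; push_cast; ring, zpow_add_one,
      zpow_neg, zpow_natCast, pow_orderOf_eq_one, inv_one, one_mul]
  rw [this, left_mul_mul_left (P.inv e he) (P.inv f hf)]

/-- The member of `D` exchanging two points of members of `K` can be chosen in `K`. -/
theorem exists_mid_in {K : Subgroup G} {e f : G} (he : e ∈ D) (hf : f ∈ D) (heK : e ∈ K)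
    (hfK : f ∈ K) (hne : pt e ≠ pt f) :
    ∃ w ∈ D, w ∈ K ∧ w * e * w⁻¹ = f ∧ w • pt e = pt f := by
  obtain ⟨k, hk, hke⟩ := exists_conj_in P (K := Subgroup.closure {e, f}) he hf
    (Subgroup.subset_closure (Set.mem_insert e _))
    (Subgroup.subset_closure (Set.mem_insert_of_mem _ (Set.mem_singleton f))) hne
  obtain ⟨l, hl⟩ := P.odd_order he hf hne
  have hw : (e * (e * f) ^ ((l + 1 : ℕ) : ℤ)) * e * (e * (e * f) ^ ((l + 1 : ℕ) : ℤ))⁻¹ = f := by
    rw [conj_left_mul_zpow (P.inv e he) (P.inv f hf),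
      show (2 * ((l + 1 : ℕ) : ℤ)) = (orderOf (e * f) : ℤ) + 1 by rw [hl]; push_cast; ring,
      zpow_add_one, zpow_natCast, pow_orderOf_eq_one, one_mul,
      left_mul_mul_left (P.inv e he) (P.inv f hf)]
  refine ⟨_, ?_, K.mul_mem heK (K.zpow_mem (K.mul_mem heK hfK) _), hw, ?_⟩
  · have h := P.conj_pow_mem he (e * f) (-((l + 1) * (l + 1) : ℕ) : ℤ)
    rw [conj_left_zpow (P.inv e he) (P.inv f hf), mul_neg, neg_neg] at h
    have e1 : (e * f) ^ ((2 : ℤ) * (((l + 1) * (l + 1) : ℕ) : ℤ)) = (e * f) ^ ((l + 1 : ℕ) : ℤ) := by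
      rw [show (2 : ℤ) * (((l + 1) * (l + 1) : ℕ) : ℤ) =
        (orderOf (e * f) : ℤ) * ((l + 1 : ℕ) : ℤ) + ((l + 1 : ℕ) : ℤ) by rw [hl]; push_cast; ring,
        zpow_add, zpow_mul, zpow_natCast (e * f) (orderOf (e * f)), pow_orderOf_eq_one, one_zpow,
        one_mul]
    rwa [e1] at h
  · rw [← P.pt_conj _ he, hw]

/-- A member of `D` normalising a free subgroup `X` is conjugate to any other in `N(X)`. -/
theorem exists_conj_normalizer {X : Subgroup G} {e f : G} (he : e ∈ D) (hf : f ∈ D)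
    (heX : e ∈ Subgroup.normalizer (X : Set G)) (hfX : f ∈ Subgroup.normalizer (X : Set G))
    (hmove : ¬ X ≤ MulAction.stabilizer G (pt e)) :
    ∃ k ∈ Subgroup.normalizer (X : Set G), k * e * k⁻¹ = f := by
  by_cases hne : pt e = pt f
  · obtain ⟨x, hx, hxe⟩ := SetLike.not_le_iff_exists.1 hmove
    have hxN : x ∈ Subgroup.normalizer (X : Set G) := Subgroup.le_normalizer hx
    have hpt : pt (x * e * x⁻¹) ≠ pt f := by
      rw [P.pt_conj x he, ← hne]
      exact hxe
    obtain ⟨k, hk, hke⟩ := exists_conj_in P (P.conj_mem x e he) hf (mem_normalizer_conj hxN heX) hfX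
      hpt
    exact ⟨k * x, mul_mem hk hxN, by rw [← hke]; group⟩
  · exact exists_conj_in P he hf heX hfX hne

theorem free_iff_forall {X : Subgroup G} (hX : Free D pt X) {v : G} (hv : v ∈ D)
    (hvX : v ∈ Subgroup.normalizer (X : Set G)) : ¬ X ≤ MulAction.stabilizer G (pt v) := by
  obtain ⟨w, hw, hwX, hmove⟩ := hX
  obtain ⟨k, hk, hkw⟩ := exists_conj_normalizer P hw hv hwX hvX hmove
  intro h
  refine hmove ?_
  rw [← hkw, P.pt_conj k hw] at h
  simpa using le_stab_smul (inv_mem hk) h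

/-- No two members of `D` normalising a free subgroup of odd order commute. -/
theorem eq_of_commute {X : Subgroup G} (hodd : Odd (Nat.card X)) (hX : Free D pt X) {d e : G}
    (hd : d ∈ D) (he : e ∈ D) (hdX : d ∈ Subgroup.normalizer (X : Set G))
    (heX : e ∈ Subgroup.normalizer (X : Set G)) (hc : Commute d e) : d = e := by
  by_contra hne
  refine free_iff_forall P hX hd hdX ?_
  set V := fourOf (mul_self (P.inv d hd)) (mul_self (P.inv e he)) hc
  haveI := isMulCommutative_fourOf (mul_self (P.inv d hd)) (mul_self (P.inv e he)) hc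
  refine Coprime.le_of_noncyclic (A := V) (not_isCyclic_fourOf _ _ _ (ne_one (P.inv d hd))
    (ne_one (P.inv e he)) hne) ?_ ?_ ?_
  · rintro a (rfl | rfl | rfl | rfl)
    · exact one_mem _
    · exact hdX
    · exact heX
    · exact mul_mem hdX heX
  · obtain ⟨n, hn⟩ := (card_fourOf_dvd (mul_self (P.inv d hd)) (mul_self (P.inv e he)) hc).exists_card_eq
    rw [hn]
    exact Nat.Coprime.pow_left n (Nat.coprime_two_left.2 hodd)
  · rintro a (rfl | rfl | rfl | rfl) ha1 x ⟨-, hx⟩ <;>
      have hxa := Subgroup.mem_centralizer_singleton_iff.1 hx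
    · exact absurd rfl ha1
    · exact MulAction.mem_stabilizer_iff.2 (P.commute_fix hd hxa)
    · rw [P.pt_eq_of_commute hd he hc]
      exact MulAction.mem_stabilizer_iff.2 (P.commute_fix he hxa)
    · exact MulAction.mem_stabilizer_iff.2 (P.product d hd e he hc hne x hxa)

/-- In the normaliser of a free subgroup of odd order a member of `D` is central modulo the odd
core, so it moves every orbit of the core on fixed points. -/
theorem exists_core {X : Subgroup G} (hodd : Odd (Nat.card X)) (hX : Free D pt X) {w : G}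
    (hw : w ∈ D) (hwX : w ∈ Subgroup.normalizer (X : Set G)) :
    ∃ N : Subgroup G, N ≤ Subgroup.normalizer (X : Set G) ∧ Odd (Nat.card N) ∧
      (∀ g ∈ Subgroup.normalizer (X : Set G), ∀ a ∈ N, g * a * g⁻¹ ∈ N) ∧
      (∀ g ∈ Subgroup.normalizer (X : Set G), w * g * w⁻¹ * g⁻¹ ∈ N) ∧
      (∀ v ∈ D, v ∈ Subgroup.normalizer (X : Set G) → ∃ a ∈ N, a * w = v) := by
  haveI : Fact (Nat.Prime 2) := ⟨Nat.prime_two⟩
  set K := Subgroup.normalizer (X : Set G) with hK
  set N := (pPrimeCore 2 K).map K.subtype with hN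
  have hNK : N ≤ K := Subgroup.map_subtype_le _
  have hNodd : Odd (Nat.card N) := by
    rw [hN, Nat.card_congr (Subgroup.equivMapOfInjective _ _ K.subtype_injective).symm.toEquiv]
    exact Nat.coprime_two_right.1 (Cores.coprime_card_pPrimeCore 2)
  have hnorm : ∀ g ∈ K, ∀ a ∈ N, g * a * g⁻¹ ∈ N := by
    rintro g hg _ ⟨⟨a, ha'⟩, ha, rfl⟩
    exact ⟨_, (Cores.pPrimeCore_normal 2 _).conj_mem _ ha ⟨g, hg⟩, rfl⟩
  have hiso : IsIsolatedInvolution (⟨w, hwX⟩ : K) := by
    refine ⟨by rw [← Subgroup.orderOf_coe]; exact P.inv w hw, fun g hg => Subtype.ext ?_⟩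
    exact (eq_of_commute P hodd hX hw (P.conj_mem _ w hw) hwX
      (mem_normalizer_conj g.2 hwX) (congrArg Subtype.val hg)).symm
  have hcomm : ∀ g ∈ K, w * g * w⁻¹ * g⁻¹ ∈ N := fun g hg =>
    ⟨_, ZStar.zStar_of_brauerSuzuki ZStar.uniqueInvolution hiso ⟨g, hg⟩, rfl⟩
  refine ⟨N, hNK, hNodd, hnorm, hcomm, fun v hv hvX => ?_⟩
  obtain ⟨k, hk, rfl⟩ := exists_conj_normalizer P hw hv hwX hvX
    (free_iff_forall P hX hw hwX)
  refine ⟨(w * k * w⁻¹ * k⁻¹)⁻¹, N.inv_mem (hcomm k hk), ?_⟩
  rw [inv_eq (P.inv w hw), mul_inv_rev, mul_inv_rev, mul_inv_rev, inv_inv, inv_eq (P.inv w hw)]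
  calc k * (w * (k⁻¹ * w)) * w = k * w * k⁻¹ * (w * w) := by group
    _ = k * w * k⁻¹ := by rw [mul_self (P.inv w hw), mul_one]

/-- An odd order orbit that is mapped into itself by a member of `D` contains its point. -/
theorem orbit_moved {X : Subgroup G} (hX : Free D pt X) {N : Subgroup G}
    (hN : N ≤ Subgroup.normalizer (X : Set G)) (hNodd : Odd (Nat.card N))
    {w : G} (hw : w ∈ D) (hwX : w ∈ Subgroup.normalizer (X : Set G))
    (hwN : ∀ a ∈ N, w * a * w⁻¹ ∈ N) {x : Ω} (hx : X ≤ MulAction.stabilizer G x) :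
    ∀ a ∈ N, w • x ≠ a • x := by
  intro a ha hax
  have hodd : Odd (Nat.card (MulAction.orbit N x)) :=
    Odd.of_dvd_nat hNodd (Dvd.intro _ (by
      rw [← Nat.card_prod]
      exact Nat.card_congr (MulAction.orbitProdStabilizerEquivGroup N x)))
  have hmaps : ∀ z ∈ MulAction.orbit N x, w • z ∈ MulAction.orbit N x := by
    rintro z ⟨⟨b, hb⟩, rfl⟩
    refine ⟨⟨w * b * w⁻¹ * a, N.mul_mem (hwN b hb) ha⟩, ?_⟩
    show (w * b * w⁻¹ * a) • x = w • b • x
    rw [mul_smul, ← hax, ← mul_smul, ← mul_smul, inv_mul_cancel_right]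
  have : Finite (MulAction.orbit N x) := (Set.finite_range _).to_subtype
  obtain ⟨⟨z, ⟨⟨b, hb⟩, hz⟩⟩, hfix⟩ := exists_fixed_of_odd hodd
    (fun z : MulAction.orbit N x => ⟨w • z.1, hmaps z.1 z.2⟩)
    (fun z => Subtype.ext (P.smul_smul_self hw z.1))
  have h1 : z = pt w := (P.fixed_iff w hw z).1 (congrArg Subtype.val hfix)
  exact free_iff_forall P hX hw hwX (h1 ▸ hz ▸ le_stab_smul (hN hb) hx)

/-- Three fixed points of a free subgroup are never pairwise swapped inside its normaliser. -/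
theorem not_three {X : Subgroup G} (hodd : Odd (Nat.card X)) (hX : Free D pt X) {x y z : Ω}
    (hy : X ≤ MulAction.stabilizer G y) {u v w : G}
    (hu : u ∈ D) (huX : u ∈ Subgroup.normalizer (X : Set G)) (hux : u • x = y)
    (hv : v ∈ D) (hvX : v ∈ Subgroup.normalizer (X : Set G)) (hvx : v • x = z)
    (hw : w ∈ D) (hwX : w ∈ Subgroup.normalizer (X : Set G)) (hwy : w • y = z) : False := by
  obtain ⟨N, hNK, hNodd, hnorm, -, hcoset⟩ := exists_core P hodd hX hu huX
  obtain ⟨a, ha, rfl⟩ := hcoset v hv hvX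
  obtain ⟨b, hb, rfl⟩ := hcoset w hw hwX
  rw [mul_smul, hux] at hvx
  have huy : u • y = x := by rw [← hux, P.smul_smul_self hu]
  rw [mul_smul, huy] at hwy
  refine orbit_moved P hX hNK hNodd hu huX (fun c hc => hnorm u huX c hc) hy (b⁻¹ * a)
    (N.mul_mem (N.inv_mem hb) ha) ?_
  rw [huy, mul_smul, hvx, ← hwy, inv_smul_smul]

/-- Some member of `D` exchanging two points normalises a given Sylow subgroup of their
stabiliser. -/
theorem exists_swap_normalizing [Finite Ω] {p : ℕ} [Fact p.Prime] {x y : Ω} (hxy : x ≠ y)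
    (hodd : Odd (Nat.card ↥(MulAction.stabilizer G x ⊓ MulAction.stabilizer G y)))
    {X : Subgroup G} (hX : X ≤ MulAction.stabilizer G x ⊓ MulAction.stabilizer G y)
    (hcard : Nat.card X = p ^
      (Nat.card ↥(MulAction.stabilizer G x ⊓ MulAction.stabilizer G y)).factorization p) :
    ∃ w ∈ D, w ∈ Subgroup.normalizer (X : Set G) ∧ w • x = y := by
  set K := MulAction.stabilizer G x ⊓ MulAction.stabilizer G y with hK
  obtain ⟨e, he, hex⟩ := P.exists_at x
  obtain ⟨f, hf, hfy⟩ := P.exists_at y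
  obtain ⟨w, hw, -, hwxy⟩ := P.exists_mid he hf (by rw [hex, hfy]; exact hxy)
  rw [hex, hfy] at hwxy
  have hwy : w • y = x := by rw [← hwxy, P.smul_smul_self hw]
  have hwK : w ∈ Subgroup.normalizer (K : Set G) := by
    refine Subgroup.mem_normalizer_fintype ?_
    intro g hg
    have hi : w⁻¹ = w := inv_eq (P.inv w hw)
    constructor
    · show (w * g * w⁻¹) • x = x
      rw [mul_smul, mul_smul, hi, hwxy, MulAction.mem_stabilizer_iff.1 hg.2, hwy]
    · show (w * g * w⁻¹) • y = y
      rw [mul_smul, mul_smul, hi, hwy, MulAction.mem_stabilizer_iff.1 hg.1, hwxy]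
  obtain ⟨Q, -, hQK, hwQ, -, hQcard⟩ := exists_sylow_invariant (p := p) (P.inv w hw) hwK hodd
    (R := ⊥) bot_le IsPGroup.of_bot (by
      rw [Subgroup.normalizer_eq_top_iff.2 inferInstance]; exact Subgroup.mem_top w)
  obtain ⟨S, hS⟩ := Coprime.exists_sylow_map_eq hQK hQcard
  obtain ⟨T, hT⟩ := Coprime.exists_sylow_map_eq hX hcard
  obtain ⟨g, hg⟩ := MulAction.exists_smul_eq K S T
  have hXQ : MulAut.conj (g : G) • Q = X := by
    rw [← hS, ← hT, ← hg]
    exact (Coprime.map_subtype_smul g S).symm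
  refine ⟨(g : G) * w * (g : G)⁻¹, P.conj_mem _ w hw, ?_, ?_⟩
  · rw [← hXQ]
    refine Coprime.mem_normalizer_of_conj_eq ?_
    rw [← mul_smul, ← map_mul, inv_mul_cancel_right, map_mul, mul_smul,
      Coprime.conj_eq_of_mem_normalizer hwQ]
  · have h1 : (g : G)⁻¹ • x = x := inv_smul_eq_iff.2 (MulAction.mem_stabilizer_iff.1 g.2.1).symm
    rw [mul_smul, mul_smul, h1, hwxy]
    exact MulAction.mem_stabilizer_iff.1 g.2.2

end Main

end Cfsg.Agent.Bender
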