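/-
Local counting in a group with a class of involutions each fixing one point (towards Bender's
double transitivity theorem; owner: helper84).

Main results (namespace `Cfsg.Agent.Bender`, `P : PointClass G Ω D pt`, two-point stabilisers odd):
* `card_twoPt` : `|G_{xy}| = m |C_{G_xy}(w)|` for swappers and for members of `D` at one of the points
* `card_twoPt_fixed` : if `u` swaps `a, b` and fixes `c` then `|G_{ca}| = |G_{ab}|`
* `moving_of_sylow`, `Moving.mono` : a Sylow subgroup of a two-point stabiliser is moving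
* `full_fixes` : a moving invariant `p`-subgroup pushes an invariant Sylow subgroup of the
  stabiliser of a swapped pair onto the fixed point of the swapper
* `fix_modEq` : `|Fix R| ≡ |Fix Q|` for `p`-groups `R ≤ Q`
-/
import Cfsg.Agent.Lib.Bender.Setup
import Mathlib.GroupTheory.Nilpotent
import Mathlib.GroupTheory.PGroup

set_option autoImplicit false
set_option linter.style.haveILetI false

namespace Cfsg.Agent.Bender

open Cfsg Involution Aschbacher
open scoped Pointwise

universe u v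

variable {G : Type u} {Ω : Type v} [Group G] [MulAction G Ω]

/-- The stabiliser of two points. -/
abbrev twoPt (G : Type u) {Ω : Type v} [Group G] [MulAction G Ω] (x y : Ω) : Subgroup G :=
  MulAction.stabilizer G x ⊓ MulAction.stabilizer G y

/-- The `p`-part of a natural number. -/
abbrev pPart (p n : ℕ) : ℕ := p ^ n.factorization p

theorem mem_centralizer {g x : G} : g ∈ Subgroup.centralizer ({x} : Set G) ↔ Commute g x :=
  Involution.mem_centralizer_iff_commute

/-- A group transitive on a set of conjugates has order the size times the centraliser. -/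
theorem card_eq_mul_centralizer [Finite G] (K : Subgroup G) (S : Set G)
    (hS : ∀ k ∈ K, ∀ s ∈ S, k * s * k⁻¹ ∈ S) {s₀ : G} (hs₀ : s₀ ∈ S)
    (htrans : ∀ s ∈ S, ∃ k ∈ K, k * s₀ * k⁻¹ = s) :
    Nat.card K = Nat.card S * Nat.card ↥(K ⊓ Subgroup.centralizer ({s₀} : Set G)) := by
  choose h hK hs using fun s : S => htrans s s.2
  rw [← Nat.card_prod]
  refine Nat.card_congr (Equiv.symm
    { toFun := fun q => ⟨h q.1 * q.2, K.mul_mem (hK _) q.2.2.1⟩
      invFun := fun k => (⟨(k : G) * s₀ * (k : G)⁻¹, hS k k.2 s₀ hs₀⟩,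
        ⟨(h ⟨(k : G) * s₀ * (k : G)⁻¹, hS k k.2 s₀ hs₀⟩)⁻¹ * k, K.mul_mem (K.inv_mem (hK _)) k.2, ?_⟩)
      left_inv := ?_
      right_inv := fun k => Subtype.ext (mul_inv_cancel_left _ _) })
  · refine mem_centralizer.2 ?_
    set t := h ⟨(k : G) * s₀ * (k : G)⁻¹, hS k k.2 s₀ hs₀⟩ with ht
    have e : t * s₀ * t⁻¹ = (k : G) * s₀ * (k : G)⁻¹ := hs _
    show t⁻¹ * k * s₀ = s₀ * (t⁻¹ * k)
    calc t⁻¹ * k * s₀ = t⁻¹ * ((k : G) * s₀ * (k : G)⁻¹) * k := by group
      _ = s₀ * (t⁻¹ * k) := by rw [← e]; group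
  · rintro ⟨s, c, hcK, hc⟩
    have e : h s * c * s₀ * (h s * c)⁻¹ = s := by
      calc h s * c * s₀ * (h s * c)⁻¹ = h s * (c * s₀ * c⁻¹) * (h s)⁻¹ := by group
        _ = s := by rw [(mem_centralizer.1 hc).eq, mul_inv_cancel_right, hs]
    have e' : (⟨h s * c * s₀ * (h s * c)⁻¹,
        hS _ (K.mul_mem (hK _) hcK) s₀ hs₀⟩ : S) = s := Subtype.ext e
    refine Prod.ext e' (Subtype.ext ?_)
    show (h ⟨h s * c * s₀ * (h s * c)⁻¹, hS _ (K.mul_mem (hK _) hcK) s₀ hs₀⟩)⁻¹ * (h s * c) = c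
    rw [e', inv_mul_cancel_left]

/-- A `p`-group on a set: the number of points is that of the fixed points mod `p`. -/
theorem card_modEq_fixed {p : ℕ} [Fact p.Prime] [Finite Ω] {Q : Subgroup G} (hQ : IsPGroup p Q)
    (s : Set Ω) (hs : ∀ q ∈ Q, ∀ x ∈ s, q • x ∈ s) :
    Nat.card s ≡ Nat.card {x : Ω // x ∈ s ∧ Q ≤ MulAction.stabilizer G x} [MOD p] := by
  letI : MulAction Q s :=
    { smul := fun q x => ⟨(q : G) • x.1, hs q q.2 x.1 x.2⟩
      one_smul := fun x => Subtype.ext (one_smul G x.1)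
      mul_smul := fun a b x => Subtype.ext (mul_smul (a : G) b x.1) }
  refine (hQ.card_modEq_card_fixedPoints s).trans (congrArg (· % p) (Nat.card_congr ?_))
  exact
    { toFun := fun x => ⟨x.1.1, x.1.2, fun g hg =>
        MulAction.mem_stabilizer_iff.2 (congrArg Subtype.val (x.2 ⟨g, hg⟩))⟩
      invFun := fun x => ⟨⟨x.1, x.2.1⟩, fun q =>
        Subtype.ext (MulAction.mem_stabilizer_iff.1 (x.2.2 q.2))⟩
      left_inv := fun x => rfl
      right_inv := fun x => rfl }

/-- A proper subgroup of a `p`-group is normalised by a larger subgroup. -/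
theorem exists_normalizing [Finite G] {p : ℕ} [Fact p.Prime] {R Q : Subgroup G}
    (hQ : IsPGroup p Q) (hRQ : R < Q) :
    ∃ T : Subgroup G, R < T ∧ T ≤ Q ∧ T ≤ Subgroup.normalizer (R : Set G) := by
  haveI := hQ.isNilpotent
  have hlt : R.subgroupOf Q < ⊤ :=
    lt_top_iff_ne_top.2 fun h => not_le_of_gt hRQ (Subgroup.subgroupOf_eq_top.1 h)
  obtain ⟨g, hg, hgR⟩ := SetLike.exists_of_lt
    (Group.normalizerCondition_of_isNilpotent (R.subgroupOf Q) hlt)
  refine ⟨Q ⊓ Subgroup.normalizer (R : Set G), lt_of_le_of_ne (le_inf hRQ.le Subgroup.le_normalizer)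
    fun h => ?_, inf_le_left, inf_le_right⟩
  apply hgR
  show (g : G) ∈ R
  rw [h]
  refine ⟨g.2, Subgroup.mem_normalizer_fintype ?_⟩
  intro r hr
  exact (Subgroup.mem_normalizer_iff.1 hg ⟨r, hRQ.le hr⟩).1 hr

/-- The number of fixed points mod `p` is the same for all `p`-subgroups of a given one. -/
theorem fix_modEq [Finite G] [Finite Ω] {p : ℕ} [Fact p.Prime] {R Q : Subgroup G}
    (hQ : IsPGroup p Q) (hRQ : R ≤ Q) :
    Nat.card {x : Ω // R ≤ MulAction.stabilizer G x} ≡
      Nat.card {x : Ω // Q ≤ MulAction.stabilizer G x} [MOD p] := by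
  induction h : Nat.card Q - Nat.card R using Nat.strong_induction_on generalizing R with
  | _ n ih =>
    rcases hRQ.eq_or_lt with rfl | hlt
    · exact Nat.ModEq.refl _
    obtain ⟨T, hRT, hTQ, hTn⟩ := exists_normalizing hQ hlt
    have h1 : Nat.card R < Nat.card T :=
      Set.Finite.card_lt_card (Set.toFinite _) (SetLike.coe_ssubset_coe.2 hRT)
    have h2 := Subgroup.card_le_of_le hTQ
    refine Nat.ModEq.trans ?_ (ih (Nat.card Q - Nat.card T) (by omega) hTQ rfl)
    refine (card_modEq_fixed (hQ.to_le hTQ) {x | R ≤ MulAction.stabilizer G x}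
      fun q hq x hx => le_stab_smul (hTn hq) hx).trans (congrArg (· % p) (Nat.card_congr ?_))
    exact Equiv.subtypeEquivRight fun x => ⟨And.right, fun hx => ⟨hRT.le.trans hx, hx⟩⟩

section Counting

variable [Finite G] [Finite Ω] {D : Set G} {pt : G → Ω} (P : PointClass G Ω D pt)
include P

/-- The number of members of `D` at a point does not depend on the point. -/
theorem card_point_eq (x y : Ω) :
    Nat.card {f : G // f ∈ D ∧ pt f = x} = Nat.card {f : G // f ∈ D ∧ pt f = y} := by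
  obtain ⟨e, he, hex⟩ := P.exists_at x
  obtain ⟨f, hf, hfy⟩ := P.exists_at y
  rcases eq_or_ne x y with rfl | hxy
  · rfl
  rw [← P.card_swap hxy, ← P.card_swap hxy.symm]
  exact Nat.card_congr (Equiv.subtypeEquivRight fun w =>
    ⟨fun h => ⟨h.1, by rw [← h.2, P.smul_smul_self h.1]⟩,
      fun h => ⟨h.1, by rw [← h.2, P.smul_smul_self h.1]⟩⟩)

/-- The stabiliser of two points is transitive on the members of `D` at one of them. -/
theorem card_twoPt {z y : Ω} (hzy : z ≠ y) {f : G} (hf : f ∈ D) (hfz : pt f = z) :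
    Nat.card (twoPt G z y) = Nat.card {g : G // g ∈ D ∧ pt g = z} *
      Nat.card ↥(twoPt G z y ⊓ Subgroup.centralizer ({f} : Set G)) := by
  refine card_eq_mul_centralizer _ {g | g ∈ D ∧ pt g = z} ?_ ⟨hf, hfz⟩ fun s hs =>
    P.exists_conj_point hzy hf hfz hs.1 hs.2
  rintro k hk s ⟨hs, hsz⟩
  exact ⟨P.conj_mem k s hs, by rw [P.pt_conj k hs, hsz]; exact MulAction.mem_stabilizer_iff.1 hk.1⟩

theorem card_twoPt_swap {x y : Ω} (hxy : x ≠ y) {w : G} (hw : w ∈ D) (hwx : w • x = y) :
    Nat.card (twoPt G x y) = Nat.card {g : G // g ∈ D ∧ pt g = y} *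
      Nat.card ↥(twoPt G x y ⊓ Subgroup.centralizer ({w} : Set G)) := by
  rw [← P.card_swap hxy]
  refine card_eq_mul_centralizer _ {g | g ∈ D ∧ g • x = y} ?_ ⟨hw, hwx⟩ fun s hs =>
    P.exists_conj_swap hxy hw hwx hs.1 hs.2
  rintro k hk s ⟨hs, hsx⟩
  refine ⟨P.conj_mem k s hs, ?_⟩
  rw [mul_smul, mul_smul, show k⁻¹ • x = x from
    MulAction.mem_stabilizer_iff.1 (inv_mem hk.1), hsx]
  exact MulAction.mem_stabilizer_iff.1 hk.2

/-- If `u` exchanges `a, b` then its point with `a` has a stabiliser of the same order. -/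
theorem card_twoPt_fixed {a b : Ω} (hab : a ≠ b) {u : G} (hu : u ∈ D) (hua : u • a = b) :
    Nat.card (twoPt G (pt u) a) = Nat.card (twoPt G a b) := by
  have hne : pt u ≠ a := fun h => hab (by rw [← hua, ← h, P.smul_pt hu])
  rw [card_twoPt P hne hu rfl, card_twoPt_swap P hab hu hua, card_point_eq P (pt u) b]
  congr 1
  refine congrArg (fun K : Subgroup G => Nat.card K)
    (le_antisymm (a := twoPt G (pt u) a ⊓ Subgroup.centralizer ({u} : Set G))
      (b := twoPt G a b ⊓ Subgroup.centralizer ({u} : Set G)) (fun g hg => ⟨⟨hg.1.2, ?_⟩, hg.2⟩)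
      (fun g hg => ⟨⟨?_, hg.1.1⟩, hg.2⟩))
  · show g • b = b
    rw [← hua, ← mul_smul, (mem_centralizer.1 hg.2).eq, mul_smul]
    exact congrArg (u • ·) (MulAction.mem_stabilizer_iff.1 hg.1.2)
  · show g • pt u = pt u
    exact P.commute_fix hu (mem_centralizer.1 hg.2)

end Counting

/-- A `p`-subgroup whose orbits on the members of `D` at the point `z` are as long as the `p`-part
of their number. -/
def Moving (p : ℕ) (D : Set G) (pt : G → Ω) (X : Subgroup G) (z : Ω) : Prop :=
  ∀ f ∈ D, pt f = z → pPart p (Nat.card {g : G // g ∈ D ∧ pt g = z}) *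
    Nat.card ↥(X ⊓ Subgroup.centralizer ({f} : Set G)) ≤ Nat.card X

theorem Moving.mono [Finite G] {p : ℕ} {D : Set G} {pt : G → Ω} {X R : Subgroup G} {z : Ω}
    (h : Moving p D pt X z) (hXR : X ≤ R) : Moving p D pt R z := by
  intro f hf hfz
  set C := Subgroup.centralizer ({f} : Set G)
  have key : ∀ Y : Subgroup G, C.relIndex Y * Nat.card ↥(Y ⊓ C) = Nat.card Y := by
    intro Y
    rw [Subgroup.relIndex, inf_comm]
    have e : Nat.card ↥(C ⊓ Y) = Nat.card (C.subgroupOf Y) := by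
      rw [← Subgroup.inf_subgroupOf_right, Nat.card_congr
        (Subgroup.subgroupOfEquivOfLe (inf_le_right : C ⊓ Y ≤ Y)).toEquiv]
    rw [e, mul_comm, Subgroup.card_mul_index]
  have h1 : pPart p (Nat.card {g : G // g ∈ D ∧ pt g = z}) ≤ C.relIndex X := by
    refine Nat.le_of_mul_le_mul_right ?_ (Nat.card_pos (α := ↥(X ⊓ C)))
    rw [key]
    exact h f hf hfz
  rw [← key R]
  exact Nat.mul_le_mul_right _ (h1.trans (Subgroup.relIndex_le_of_le_right hXR
    fun h0 => (Nat.card_pos (α := R)).ne' (by rw [← key R, h0, zero_mul])))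

theorem Moving.conj [Finite G] {p : ℕ} {D : Set G} {pt : G → Ω} (P : PointClass G Ω D pt)
    {X : Subgroup G} {z : Ω} (h : Moving p D pt X z) {g : G}
    (hg : g ∈ Subgroup.normalizer (X : Set G)) : Moving p D pt X (g • z) := by
  intro f hf hfz
  have hf' : g⁻¹ * f * g ∈ D := by simpa using P.conj_mem g⁻¹ f hf
  have hpt : pt (g⁻¹ * f * g) = z := by
    have := P.pt_conj g⁻¹ hf
    rw [inv_inv, hfz, inv_smul_smul] at this
    exact this
  have hcard : Nat.card {e : G // e ∈ D ∧ pt e = z} =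
      Nat.card {e : G // e ∈ D ∧ pt e = g • z} := by
    refine Nat.card_congr (Equiv.subtypeEquiv (MulAut.conj g).toEquiv fun e => ?_)
    show _ ↔ g * e * g⁻¹ ∈ D ∧ pt (g * e * g⁻¹) = g • z
    refine ⟨fun he => ⟨P.conj_mem g e he.1, by rw [P.pt_conj g he.1, he.2]⟩, fun he => ?_⟩
    have he' : e ∈ D := by simpa [mul_assoc] using P.conj_mem g⁻¹ _ he.1
    exact ⟨he', by rw [P.pt_conj g he'] at he; exact MulAction.injective g he.2⟩
  have hcent : Nat.card ↥(X ⊓ Subgroup.centralizer ({g⁻¹ * f * g} : Set G)) =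
      Nat.card ↥(X ⊓ Subgroup.centralizer ({f} : Set G)) := by
    refine Nat.card_congr (Equiv.subtypeEquiv (MulAut.conj g).toEquiv fun x => ?_)
    show x ∈ X ⊓ _ ↔ g * x * g⁻¹ ∈ X ⊓ _
    rw [Subgroup.mem_inf, Subgroup.mem_inf, ← Subgroup.mem_normalizer_iff.1 hg x]
    simp only [mem_centralizer]
    refine and_congr_right fun _ => ⟨fun hc => ?_, fun hc => ?_⟩
    · show g * x * g⁻¹ * f = f * (g * x * g⁻¹)
      calc g * x * g⁻¹ * f = g * (x * (g⁻¹ * f * g)) * g⁻¹ := by group
        _ = f * (g * x * g⁻¹) := by rw [hc.eq]; group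
    · show x * (g⁻¹ * f * g) = g⁻¹ * f * g * x
      calc x * (g⁻¹ * f * g) = g⁻¹ * (g * x * g⁻¹ * f) * g := by group
        _ = g⁻¹ * f * g * x := by rw [hc.eq]; group
  have := h _ hf' hpt
  rwa [hcard, hcent] at this

section Sylow

variable [Finite G] [Finite Ω] {D : Set G} {pt : G → Ω} (P : PointClass G Ω D pt)
include P

theorem moving_of_sylow {p : ℕ} [Fact p.Prime] {z y : Ω} (hzy : z ≠ y) {X : Subgroup G}
    (hX : X ≤ twoPt G z y) (hcard : Nat.card X = pPart p (Nat.card (twoPt G z y))) :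
    Moving p D pt X z := by
  intro f hf hfz
  have hm : Nat.card {g : G // g ∈ D ∧ pt g = z} ≠ 0 :=
    (Nat.card_pos_iff.2 ⟨⟨⟨f, hf, hfz⟩⟩, inferInstance⟩).ne'
  rw [hcard, card_twoPt P hzy hf hfz, pPart, pPart, Nat.factorization_mul hm Nat.card_pos.ne',
    Finsupp.add_apply, pow_add]
  exact Nat.mul_le_mul_left _ (Coprime.card_le_of_isPGroup
    ((Coprime.isPGroup_of_card hcard).to_le inf_le_left) (inf_le_inf_right _ hX))

/-- An invariant moving `p`-subgroup forces an invariant Sylow subgroup of the stabiliser of a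
swapped pair to fix the point of the swapper. -/
theorem full_fixes {p : ℕ} [Fact p.Prime] {x : Ω} {v : G} (hv : v ∈ D) (hvx : v • x ≠ x)
    (hodd : Odd (Nat.card (twoPt G x (v • x)))) {R : Subgroup G}
    (hR : IsPGroup p R) (hvR : v ∈ Subgroup.normalizer (R : Set G))
    (hmove : Moving p D pt R (pt v)) (hRv : R ≤ MulAction.stabilizer G (pt v))
    (hRx : R ≤ MulAction.stabilizer G x) :
    ∃ Q : Subgroup G, R ≤ Q ∧ IsPGroup p Q ∧ Q ≤ twoPt G x (v • x) ∧
      Nat.card Q = pPart p (Nat.card (twoPt G x (v • x))) ∧ Q ≤ MulAction.stabilizer G (pt v) := by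
  set K := twoPt G x (v • x) with hK
  have hvK : v ∈ Subgroup.normalizer (K : Set G) := by
    refine Subgroup.mem_normalizer_fintype ?_
    intro g hg
    have hi : v⁻¹ = v := inv_eq (P.inv v hv)
    constructor
    · show (v * g * v⁻¹) • x = x
      rw [mul_smul, mul_smul, hi, MulAction.mem_stabilizer_iff.1 hg.2, P.smul_smul_self hv]
    · show (v * g * v⁻¹) • v • x = v • x
      rw [mul_smul, mul_smul, hi, P.smul_smul_self hv, MulAction.mem_stabilizer_iff.1 hg.1]
  have hRK : R ≤ K := le_inf hRx (le_stab_smul hvR hRx)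
  obtain ⟨Q, hRQ, hQK, hvQ, hQp, hQcard⟩ :=
    exists_sylow_invariant (P.inv v hv) hvK hodd hRK hR hvR
  refine ⟨Q, hRQ, hQp, hQK, hQcard, ?_⟩
  set W := Q ⊓ MulAction.stabilizer G (pt v) with hW
  have hcop : (Nat.card (Subgroup.zpowers v)).Coprime (Nat.card K) := by
    rw [Nat.card_zpowers, P.inv v hv]
    exact Nat.coprime_two_left.2 hodd
  have hC := Coprime.card_inf_centralizer_eq (Subgroup.zpowers_le.2 hvK) hcop hQK
    (Subgroup.zpowers_le.2 hvQ) hQcard (Subgroup.mem_zpowers v)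
  have hWC : W ⊓ Subgroup.centralizer ({v} : Set G) = Q ⊓ Subgroup.centralizer ({v} : Set G) :=
    le_antisymm (inf_le_inf_right _ inf_le_left) fun g hg => ⟨⟨hg.1, MulAction.mem_stabilizer_iff.2
      (P.commute_fix hv (mem_centralizer.1 hg.2))⟩, hg.2⟩
  have hm := hmove.mono (R := W) (le_inf hRQ hRv) v hv rfl
  rw [hWC, hC, card_point_eq P (pt v) (v • x)] at hm
  have hm0 : Nat.card {g : G // g ∈ D ∧ pt g = v • x} ≠ 0 := by
    obtain ⟨f, hf⟩ := P.exists_at (v • x)
    exact (Nat.card_pos_iff.2 ⟨⟨⟨f, hf⟩⟩, inferInstance⟩).ne'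
  have hcK : Nat.card K = _ := card_twoPt_swap P (Ne.symm hvx) hv rfl
  rw [hcK, Nat.factorization_mul hm0 Nat.card_pos.ne', Finsupp.add_apply, pow_add] at hQcard
  have := Subgroup.eq_of_le_of_card_ge (inf_le_left : W ≤ Q) (hQcard.trans_le hm)
  exact this ▸ inf_le_right

end Sylow

end Cfsg.Agent.Bender
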