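/-
Sharp transitivity of inverted elements and odd centralisers (K1 and G1 of the Bender plan;
owner: helper1; K1 is due to helper40).

`P : PointClass G Ω D pt` with two-point stabilisers of odd order.

Main results (namespace `Cfsg.Agent.Bender`):
* `mid_unique` : at most one involution conjugates `v` to `y` when they lie at different points
* `eq_one_of_inverted_commute` : an element of `G_ab` inverted by a swapper of `a, b` and
  centralised by a member of `D` at `a` or `b` is trivial
* `existsUnique_inverted_conj`, `card_inverted` : the inverted elements of `G_ab` are sharply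
  transitive on the members of `D` at `a`
* `not_commute_of_two` : `x ≠ 1` inverted at two points it fixes commutes with no member of `D`
* `odd_centralizer_of_two`, `odd_centralizer_of_moved` : then `C(x)` has odd order
-/
import Cfsg.Agent.Lib.Bender.Local
import Cfsg.Agent.Lib.Involution.StronglyEmbedded

set_option autoImplicit false
set_option linter.style.haveILetI false

namespace Cfsg.Agent.Bender

open Cfsg Involution Aschbacher
open scoped Pointwise

universe u v

variable {G : Type u} {Ω : Type v} [Group G] [MulAction G Ω] [Finite G]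
variable {D : Set G} {pt : G → Ω} (P : PointClass G Ω D pt)
  (hodd : ∀ x y : Ω, x ≠ y → Odd (Nat.card (twoPt G x y)))

omit [MulAction G Ω] in
/-- An element of odd order inverted and centralised by an element is trivial. -/
theorem eq_one_of_inverts_commute {t c : G} (hc : Odd (orderOf c)) (hi : t * c * t⁻¹ = c⁻¹)
    (hcomm : Commute c t) : c = 1 := by
  rw [← hcomm.eq, mul_inv_cancel_right] at hi
  have h2 : c * c = 1 := by
    nth_rw 1 [hi]
    exact inv_mul_cancel c
  have h : orderOf c ∣ 2 := orderOf_dvd_of_pow_eq_one (by rw [sq, h2])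
  obtain ⟨l, hl⟩ := hc
  rcases (Nat.dvd_prime Nat.prime_two).1 h with e | e
  · exact orderOf_eq_one_iff.1 e
  · omega

include P hodd

/-- At most one involution conjugates `v` to `y` if they lie at different points. -/
theorem mid_unique {v y t t' : G} (hv : v ∈ D) (hy : y ∈ D) (hne : pt v ≠ pt y)
    (ht : orderOf t = 2) (htv : t * v * t⁻¹ = y) (ht' : orderOf t' = 2)
    (ht'v : t' * v * t'⁻¹ = y) : t = t' := by
  set K := Subgroup.closure ({v, y} : Set G) with hK
  obtain ⟨t₀, ht₀D, ht₀K, ht₀v, -⟩ := exists_mid_in P (K := K) hv hy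
    (Subgroup.subset_closure (Set.mem_insert v _))
    (Subgroup.subset_closure (Set.mem_insert_of_mem _ rfl)) hne
  have ht₀ := P.inv t₀ ht₀D
  suffices key : ∀ s : G, orderOf s = 2 → s * v * s⁻¹ = y → s = t₀ by
    rw [key t ht htv, key t' ht' ht'v]
  intro s hs hsv
  set c := t₀ * s with hc
  have hcv : Commute c v := by
    have e1 : v = t₀⁻¹ * y * t₀ := by rw [← ht₀v]; group
    show t₀ * s * v = v * (t₀ * s)
    calc t₀ * s * v = t₀ * (s * v * s⁻¹) * t₀⁻¹ * (t₀ * s) := by group
      _ = v * (t₀ * s) := by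
        rw [hsv]
        conv_rhs => rw [e1, inv_eq ht₀]
        rw [inv_eq ht₀]
  have hcy : Commute c y := by
    show t₀ * s * y = y * (t₀ * s)
    calc t₀ * s * y = t₀ * (s * y * s⁻¹) * t₀⁻¹ * (t₀ * s) := by group
      _ = y * (t₀ * s) := by
        have e1 : s * y * s⁻¹ = v := by
          rw [← hsv, inv_eq hs]
          calc s * (s * v * s) * s = (s * s) * v * (s * s) := by group
            _ = v := by rw [mul_self hs, one_mul, mul_one]
        rw [e1, ht₀v]
  have hc2 : c ∈ twoPt G (pt v) (pt y) := by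
    refine ⟨MulAction.mem_stabilizer_iff.2 ?_, MulAction.mem_stabilizer_iff.2 ?_⟩
    · rw [← P.pt_conj c hv, hcv.eq, mul_inv_cancel_right]
    · rw [← P.pt_conj c hy, hcy.eq, mul_inv_cancel_right]
  have hoddc : Odd (orderOf c) :=
    Odd.of_dvd_nat (hodd _ _ hne) (Subgroup.orderOf_dvd_natCard _ hc2)
  have hct : Commute c t₀ := by
    have hle : K ≤ Subgroup.centralizer ({c} : Set G) := by
      refine (Subgroup.closure_le _).2 ?_
      rintro _ (rfl | rfl)
      · exact mem_centralizer.2 hcv.symm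
      · exact mem_centralizer.2 hcy.symm
    exact (mem_centralizer.1 (hle ht₀K)).symm
  have hinv : t₀ * c * t₀⁻¹ = c⁻¹ := by
    rw [hc, mul_inv_rev, inv_eq ht₀, inv_eq hs, ← mul_assoc t₀ t₀, mul_self ht₀, one_mul]
  have := eq_one_of_inverts_commute hoddc hinv hct
  rw [hc, mul_eq_one_iff_inv_eq, inv_eq ht₀] at this
  exact this.symm

omit P hodd in
/-- The product of a swapper and an element it inverts is an involution or trivial. -/
theorem orderOf_mul_inverted {u k : G} (hu : orderOf u = 2) (hk : u * k * u⁻¹ = k⁻¹)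
    (hne : u * k ≠ 1) : orderOf (u * k) = 2 := by
  refine orderOf_of_sq ?_ hne
  rw [inv_eq hu] at hk
  rw [← mul_assoc, hk, inv_mul_cancel]

/-- An element of `G_ab` inverted by a swapper of `a, b` and centralised by a member of `D` at `a`
or at `b` is trivial. -/
theorem eq_one_of_inverted_commute {u k v : G} {a b : Ω} (hu : orderOf u = 2) (hua : u • a = b)
    (hab : a ≠ b) (hk : k ∈ twoPt G a b) (hinv : u * k * u⁻¹ = k⁻¹) (hv : v ∈ D)
    (hpt : pt v = a ∨ pt v = b) (hkv : Commute k v) : k = 1 := by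
  have hub : u • b = a := by
    rw [← hua, ← mul_smul, mul_self hu, one_smul]
  have hne : pt v ≠ pt (u * v * u⁻¹) := by
    rw [P.pt_conj u hv]
    rcases hpt with e | e <;> rw [e]
    · rw [hua]; exact hab
    · rw [hub]; exact hab.symm
  have hmove : u * k ≠ 1 := fun e => hab (by
    have h1 : (u * k) • a = b := by
      rw [mul_smul, MulAction.mem_stabilizer_iff.1 hk.1, hua]
    rwa [e, one_smul] at h1)
  have := mid_unique P hodd hv (P.conj_mem u v hv) hne (orderOf_mul_inverted hu hinv hmove)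
    (by rw [mul_inv_rev]; calc u * k * v * (k⁻¹ * u⁻¹) = u * (k * v * k⁻¹) * u⁻¹ := by group
          _ = u * v * u⁻¹ := by rw [hkv.eq, mul_inv_cancel_right])
    hu rfl
  exact mul_eq_left.1 this

/-- For members `v, w` of `D` at `a` exactly one inverted element of `G_ab` conjugates `v` to `w`. -/
theorem existsUnique_inverted_conj {u v w : G} {a b : Ω} (hu : orderOf u = 2) (hua : u • a = b)
    (hab : a ≠ b) (hv : v ∈ D) (hva : pt v = a) (hw : w ∈ D) (hwa : pt w = a) :
    ∃! k, (k ∈ twoPt G a b ∧ u * k * u⁻¹ = k⁻¹) ∧ k * v * k⁻¹ = w := by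
  have hub : u • b = a := by rw [← hua, ← mul_smul, mul_self hu, one_smul]
  have hy : u * w * u⁻¹ ∈ D := P.conj_mem u w hw
  have hne : pt v ≠ pt (u * w * u⁻¹) := by rw [P.pt_conj u hw, hva, hwa, hua]; exact hab
  obtain ⟨t, htD, -, htv, htp⟩ := exists_mid_in P (K := ⊤) hv hy (Subgroup.mem_top _)
    (Subgroup.mem_top _) hne
  rw [hva, P.pt_conj u hw, hwa, hua] at htp
  have htb : t • b = a := by rw [← htp, P.smul_smul_self htD]
  have ht := P.inv t htD
  refine ⟨u * t, ⟨⟨⟨MulAction.mem_stabilizer_iff.2 ?_, MulAction.mem_stabilizer_iff.2 ?_⟩, ?_⟩, ?_⟩, ?_⟩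
  · rw [mul_smul, htp, hub]
  · rw [mul_smul, htb, hua]
  · rw [mul_inv_rev, inv_eq hu, inv_eq ht, ← mul_assoc u u, mul_self hu, one_mul]
  · calc u * t * v * (u * t)⁻¹ = u * (t * v * t⁻¹) * u⁻¹ := by group
      _ = (u * u) * w * (u * u)⁻¹ := by rw [htv]; group
      _ = w := by rw [mul_self hu]; group
  · rintro k ⟨⟨hk, hinv⟩, hkv⟩
    have hmove : u * k ≠ 1 := fun e => hab (by
      have h1 : (u * k) • a = b := by rw [mul_smul, MulAction.mem_stabilizer_iff.1 hk.1, hua]
      rwa [e, one_smul] at h1)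
    have := mid_unique P hodd hv hy hne (orderOf_mul_inverted hu hinv hmove)
      (by calc u * k * v * (u * k)⁻¹ = u * (k * v * k⁻¹) * u⁻¹ := by group
            _ = u * w * u⁻¹ := by rw [hkv])
      ht htv
    rw [← this, ← mul_assoc, mul_self hu, one_mul]

/-- The inverted elements of `G_ab` are as many as the members of `D` at `a`. -/
theorem card_inverted {u : G} {a b : Ω} (hu : orderOf u = 2) (hua : u • a = b) (hab : a ≠ b) :
    Nat.card {k : G // k ∈ twoPt G a b ∧ u * k * u⁻¹ = k⁻¹} =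
      Nat.card {w : G // w ∈ D ∧ pt w = a} := by
  obtain ⟨v, hv, hva⟩ := P.exists_at a
  refine Nat.card_congr (Equiv.ofBijective (fun k => ⟨k.1 * v * (k.1)⁻¹, P.conj_mem _ v hv, ?_⟩)
    ⟨fun k k' h => Subtype.ext ?_, fun w => ?_⟩)
  · rw [P.pt_conj _ hv, hva]
    exact MulAction.mem_stabilizer_iff.1 k.2.1.1
  · exact (existsUnique_inverted_conj P hodd hu hua hab hv hva (P.conj_mem _ v hv)
      (by rw [P.pt_conj _ hv, hva]; exact MulAction.mem_stabilizer_iff.1 k.2.1.1)).unique
      ⟨k.2, rfl⟩ ⟨k'.2, (congrArg Subtype.val h).symm⟩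
  · obtain ⟨k, ⟨hk, hkv⟩, -⟩ := existsUnique_inverted_conj P hodd hu hua hab hv hva w.2.1 w.2.2
    exact ⟨⟨k, hk⟩, Subtype.ext hkv⟩

/-- If `x` is inverted by `s` and fixes the point `b ≠ pt s`, no member of `D` at `b` commutes
with `x`. -/
theorem pt_ne_of_inverted {s z x : G} {b : Ω} (hs : s ∈ D) (hz : z ∈ D) (hx1 : x ≠ 1)
    (hsx : s * x * s⁻¹ = x⁻¹) (hzx : Commute x z) (hxb : x • b = b) (hb : b ≠ pt s) :
    pt z ≠ b := by
  intro e
  have hsb : s • b ≠ b := fun h => hb ((P.fixed_iff s hs b).1 h)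
  refine hx1 (eq_one_of_inverted_commute P hodd (P.inv s hs) rfl hsb.symm ?_ hsx hz (Or.inl e) hzx)
  refine ⟨MulAction.mem_stabilizer_iff.2 hxb, MulAction.mem_stabilizer_iff.2 ?_⟩
  have h1 : x⁻¹ • b = b := inv_smul_eq_iff.2 hxb.symm
  calc x • s • b = s • (s⁻¹ * x * s) • b := by simp only [← mul_smul]; group
    _ = s • b := by
      have e2 : s⁻¹ * x * s = x⁻¹ := by
        rw [← hsx, inv_eq (P.inv s hs)]
      rw [e2, h1]

/-- An element inverted at two points that it fixes commutes with no member of `D`. -/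
theorem not_commute_of_two {s t z x : G} (hs : s ∈ D) (ht : t ∈ D) (hne : pt s ≠ pt t)
    (hx1 : x ≠ 1) (hsx : s * x * s⁻¹ = x⁻¹) (htx : t * x * t⁻¹ = x⁻¹) (hxs : x • pt s = pt s)
    (hxt : x • pt t = pt t) (hz : z ∈ D) : ¬ Commute x z := by
  intro hzx
  have hfix : x • pt z = pt z := by rw [← P.pt_conj x hz, hzx.eq, mul_inv_cancel_right]
  by_cases e : pt z = pt s
  · exact pt_ne_of_inverted P hodd ht hz hx1 htx hzx hxs hne e
  · exact pt_ne_of_inverted P hodd hs hz hx1 hsx hzx hfix e rfl

/-- If `D` is the set of all involutions, such an element has odd centraliser. -/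
theorem odd_centralizer_of_two (hD : ∀ g : G, orderOf g = 2 → g ∈ D) {s t x : G} (hs : s ∈ D)
    (ht : t ∈ D) (hne : pt s ≠ pt t) (hx1 : x ≠ 1) (hsx : s * x * s⁻¹ = x⁻¹)
    (htx : t * x * t⁻¹ = x⁻¹) (hxs : x • pt s = pt s) (hxt : x • pt t = pt t) :
    Odd (Nat.card ↥(Subgroup.centralizer ({x} : Set G))) := by
  by_contra h
  obtain ⟨z, hzC, hz⟩ := exists_involution_mem (Nat.not_odd_iff_even.1 h)
  exact not_commute_of_two P hodd hs ht hne hx1 hsx htx hxs hxt (hD z hz)
    (mem_centralizer.1 hzC).symm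

/-- An element inverted at a point it fixes, and centralised by an element moving that point, has
odd centraliser. -/
theorem odd_centralizer_of_moved (hD : ∀ g : G, orderOf g = 2 → g ∈ D) {s g x : G} (hs : s ∈ D)
    (hx1 : x ≠ 1) (hsx : s * x * s⁻¹ = x⁻¹) (hxs : x • pt s = pt s) (hg : Commute g x)
    (hgs : g • pt s ≠ pt s) : Odd (Nat.card ↥(Subgroup.centralizer ({x} : Set G))) := by
  have hgx : g * x * g⁻¹ = x := by rw [hg.eq, mul_inv_cancel_right]
  have hpt := P.pt_conj g hs
  refine odd_centralizer_of_two P hodd hD hs (P.conj_mem g s hs) (by rw [hpt]; exact hgs.symm) hx1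
    hsx ?_ hxs ?_
  · calc g * s * g⁻¹ * x * (g * s * g⁻¹)⁻¹ = g * (s * (g⁻¹ * x * g) * s⁻¹) * g⁻¹ := by group
      _ = x⁻¹ := by
        have e : g⁻¹ * x * g = x := by rw [mul_assoc, ← hg.eq, inv_mul_cancel_left]
        rw [e, hsx]
        calc g * x⁻¹ * g⁻¹ = (g * x * g⁻¹)⁻¹ := by group
          _ = x⁻¹ := by rw [hgx]
  · rw [hpt, ← mul_smul, ← hg.eq, mul_smul, hxs]

end Cfsg.Agent.Bender
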