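/-
Elimination of a self-centralising invariant subgroup of rank three in the failure case of Bender's
theorem (owner: helper2).

Setting: `P` a Sylow `p`-subgroup of `G` inside `D` of odd order, all involutions of `G` are
`D`-conjugate to `v`, `v` normalises `P` without centralising it, distinct commuting involutions
exist but never normalise one nontrivial `p`-subgroup.

Main results (namespace `Cfsg.Agent.Bender`):
* `constrained_of_isolated` : if all involutions are isolated and none centralises a Sylow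
  `p`-subgroup, the group is `p`-constrained with `O_p'` of odd order
* `exists_completion` : the completion `W` of `e ↦ O_p'(C(e))` from goodness of the elements alone
* `false_of_rank_three` : no `v`-invariant normal abelian self-centralising subgroup of `P`
  contains an elementary abelian subgroup of order `p ^ 3`
-/
import Cfsg.Agent.Lib.Coprime.Generation
import Cfsg.Agent.Lib.Coprime.Factorization
import Cfsg.Agent.Lib.OddOrderTheorem.Basic
import Cfsg.Agent.Lib.OddStable.Solvable
import Cfsg.Agent.Lib.PLocal.Functor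
import Cfsg.Agent.Lib.PLocal.ZJCenter
import Cfsg.Agent.Lib.Signalizer.Core
import Cfsg.Agent.Lib.Signalizer.SSFT.Main
import Cfsg.Agent.Lib.ZStar.Glauberman
import Cfsg.Agent.Lib.ZStar.Unique

set_option autoImplicit false
set_option linter.unusedSectionVars false

namespace Cfsg.Agent.Bender

open Cfsg Subgroup
open scoped Pointwise commutatorElement

universe u

namespace RankThree

variable {G : Type u} [Group G]

theorem mul_self_of_orderOf {a : G} (ha : orderOf a = 2) : a * a = 1 := by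
  rw [← sq, ← ha]
  exact pow_orderOf_eq_one a

theorem inv_of_orderOf {a : G} (ha : orderOf a = 2) : a⁻¹ = a :=
  inv_eq_of_mul_eq_one_right (mul_self_of_orderOf ha)

theorem semiconj_product {a b : G} (ha : orderOf a = 2) (hb : orderOf b = 2) :
    SemiconjBy a (a * b) (a * b)⁻¹ := by
  show a * (a * b) = (a * b)⁻¹ * a
  rw [mul_inv_rev, inv_of_orderOf ha, inv_of_orderOf hb, mul_assoc b a a, mul_self_of_orderOf ha,
    ← mul_assoc a a b, mul_self_of_orderOf ha, one_mul, mul_one]

theorem semiconj_product' {a b : G} (ha : orderOf a = 2) (hb : orderOf b = 2) :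
    SemiconjBy b (a * b) (a * b)⁻¹ := by
  show b * (a * b) = (a * b)⁻¹ * b
  rw [mul_inv_rev, inv_of_orderOf ha, inv_of_orderOf hb, mul_assoc]

/-- Two involutions are equal or have a product of odd order, if no two distinct ones commute. -/
theorem eq_or_odd [Finite G] {M : Subgroup G}
    (hM : ∀ s ∈ M, ∀ t ∈ M, orderOf s = 2 → orderOf t = 2 → Commute s t → s = t) {a b : G}
    (haM : a ∈ M) (hbM : b ∈ M) (ha : orderOf a = 2) (hb : orderOf b = 2) :
    a = b ∨ Odd (orderOf (a * b)) := by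
  refine (Nat.even_or_odd (orderOf (a * b))).imp_left fun ⟨m, hm⟩ => ?_
  set x := a * b
  have hpos : 0 < orderOf x := orderOf_pos x
  have hz : orderOf (x ^ m) = 2 := by
    refine orderOf_eq_prime (hp := ⟨Nat.prime_two⟩) ?_ fun h => ?_
    · rw [← pow_mul, mul_two, ← hm, pow_orderOf_eq_one]
    · have := Nat.le_of_dvd (by omega) (orderOf_dvd_of_pow_eq_one h)
      omega
  have hzM : x ^ m ∈ M := M.pow_mem (M.mul_mem haM hbM) m
  have key : ∀ c : G, SemiconjBy c x x⁻¹ → Commute c (x ^ m) := fun c hc => by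
    have h := hc.pow_right m
    rwa [inv_pow, inv_of_orderOf hz] at h
  exact (hM a haM _ hzM ha hz (key a (semiconj_product ha hb))).trans
    (hM b hbM _ hzM hb hz (key b (semiconj_product' ha hb))).symm

/-- Involutions whose product has odd order are conjugate by a power of the product. -/
theorem exists_conj_of_odd [Finite G] {a b : G} (ha : orderOf a = 2) (hb : orderOf b = 2)
    (h : Odd (orderOf (a * b))) : ∃ k ∈ zpowers (a * b), k * a * k⁻¹ = b := by
  obtain ⟨l, hl⟩ := h
  set x := a * b with hx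
  refine ⟨x ^ l, (zpowers x).pow_mem (mem_zpowers x) l, ?_⟩
  have h1 : a * (x ^ l)⁻¹ = x ^ l * a := by
    have := (semiconj_product ha hb).inv_right.pow_right l
    rw [inv_inv, inv_pow] at this
    exact this
  have h2 : x ^ (2 * l) = x⁻¹ := by
    refine eq_inv_of_mul_eq_one_left ?_
    rw [← pow_succ, ← hl, pow_orderOf_eq_one]
  rw [mul_assoc, h1, ← mul_assoc, ← pow_add, ← two_mul, h2, hx, mul_inv_rev,
    inv_of_orderOf hb, inv_of_orderOf ha, mul_assoc, mul_self_of_orderOf ha, mul_one]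

/-- An element fixed and inverted in a group of odd order is trivial. -/
theorem eq_one_of_mul_self [Finite G] {N : Subgroup G} (hN : Odd (Nat.card N)) {c : G}
    (hc : c ∈ N) (h : c * c = 1) : c = 1 := by
  have h2 : orderOf c ∣ 2 := orderOf_dvd_of_pow_eq_one (by rw [sq, h])
  rcases (Nat.dvd_prime Nat.prime_two).1 h2 with h1 | h1
  · exact orderOf_eq_one_iff.1 h1
  · exact absurd (hN.of_dvd_nat (h1 ▸ N.orderOf_dvd_natCard hc)) (by decide)

theorem odd_of_isPGroup {p : ℕ} [Fact p.Prime] (hp : p ≠ 2) [Finite G] {R : Subgroup G}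
    (hR : IsPGroup p R) : Odd (Nat.card R) := by
  obtain ⟨n, hn⟩ := IsPGroup.iff_card.1 hR
  rw [hn]
  exact ((Fact.out : p.Prime).odd_of_ne_two hp).pow

/-- The preimage of a subgroup of a quotient has order the product of the orders. -/
theorem card_comap_mk [Finite G] (T : Subgroup G) [T.Normal] (C : Subgroup (G ⧸ T)) :
    Nat.card (C.comap (QuotientGroup.mk' T)) = Nat.card C * Nat.card T := by
  have h := Cores.card_map_mul_ker (QuotientGroup.mk' T) (C.comap (QuotientGroup.mk' T))
    (fun x hx => by rw [Subgroup.mem_comap, MonoidHom.mem_ker.1 hx]; exact C.one_mem)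
  rwa [Subgroup.map_comap_eq_self_of_surjective (QuotientGroup.mk'_surjective T),
    QuotientGroup.ker_mk', eq_comm] at h

end RankThree

open RankThree

/-- If all involutions are isolated and none centralises a Sylow `p`-subgroup, then the group is
`p`-constrained and its `p'`-core has odd order. -/
theorem constrained_of_isolated {L : Type u} [Group L] [Finite L] {p : ℕ} [Fact p.Prime]
    (hp : p ≠ 2) (hiso : ∀ s t : L, orderOf s = 2 → orderOf t = 2 → Commute s t → s = t)
    (hno : ∀ (z : L) (S : Sylow p L), orderOf z = 2 → ¬ (S : Subgroup L) ≤ centralizer {z}) :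
    Odd (Nat.card (pPrimeCore p L)) ∧ IsPConstrained p L := by
  haveI : Fact (Nat.Prime 2) := ⟨Nat.prime_two⟩
  set N := pPrimeCore 2 L
  have hN : Odd (Nat.card N) := Nat.coprime_two_right.1 (Cores.coprime_card_pPrimeCore 2)
  haveI : N.Normal := Cores.pPrimeCore_normal 2 L
  set T := pPrimeCore p L ⊓ N
  haveI hTn : T.Normal := by
    haveI := Cores.pPrimeCore_normal p L
    infer_instance
  have hTp : (Nat.card T).Coprime p :=
    (Cores.coprime_card_pPrimeCore p).coprime_dvd_left (card_dvd_of_le inf_le_left)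
  have hTodd : Odd (Nat.card T) := hN.of_dvd_nat (card_dvd_of_le inf_le_right)
  set φ := QuotientGroup.mk' T with hφ
  have hφs : Function.Surjective φ := QuotientGroup.mk'_surjective T
  set N' := N.map φ
  haveI : N'.Normal := Subgroup.Normal.map ‹N.Normal› φ hφs
  have hN' : Odd (Nat.card N') := hN.of_dvd_nat (Subgroup.card_map_dvd _ _)
  haveI : Group.IsSolvable N' := OddOrderTheorem.solvable hN'
  -- `O_p'(N') = 1`
  have hO : pPrimeCore p N' = ⊥ := by
    rw [← Subgroup.map_eq_bot_iff_of_injective _ N'.subtype_injective,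
      Cores.pPrimeCore_map_subtype]
    set Q := pPrimeCore p (L ⧸ T) ⊓ N'
    haveI : Q.Normal := by
      haveI := Cores.pPrimeCore_normal p (L ⧸ T)
      infer_instance
    have h1 : Q.comap φ ≤ T := le_inf
      (Cores.le_pPrimeCore inferInstance (by
        rw [card_comap_mk]
        exact Nat.Coprime.mul_left
          ((Cores.coprime_card_pPrimeCore p).coprime_dvd_left (card_dvd_of_le inf_le_left)) hTp))
      (by
        refine (Subgroup.comap_mono (inf_le_right : Q ≤ N')).trans ?_
        rw [Subgroup.comap_map_eq, hφ, QuotientGroup.ker_mk']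
        exact sup_le le_rfl inf_le_right)
    rw [eq_bot_iff]
    intro x hx
    obtain ⟨g, rfl⟩ := hφs x
    exact mem_bot.2 ((QuotientGroup.eq_one_iff g).2 (h1 hx))
  set R := (pCore p N').map N'.subtype
  have hReq : R = pCore p (L ⧸ T) ⊓ N' := Cores.pCore_map_subtype N' p
  haveI : R.Normal := by
    haveI := Cores.pCore_normal p (L ⧸ T)
    rw [hReq]
    infer_instance
  have hRodd : Odd (Nat.card R) :=
    odd_of_isPGroup hp ((Cores.isPGroup_pCore p N').map N'.subtype)
  have hRN : R ≤ N' := map_subtype_le _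
  -- `C_N'(R) ≤ R`
  have hself : ∀ x ∈ N', x ∈ centralizer (R : Set (L ⧸ T)) → x ∈ R := fun x hx hxc =>
    ⟨⟨x, hx⟩, Solvable.centralizer_pCore_le_of_isSolvable hO (mem_centralizer_iff.2 fun r hr =>
      Subtype.ext (mem_centralizer_iff.1 hxc (r : L ⧸ T) ⟨r, hr, rfl⟩)), rfl⟩
  set C := centralizer (R : Set (L ⧸ T))
  haveI : C.Normal := Subgroup.normal_centralizer
  by_cases hC : C ≤ N'
  · have hCR : C ≤ R := fun x hx => hself x (hC hx) hx
    have hRp : R ≤ pCore p (L ⧸ T) := hReq.le.trans inf_le_left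
    have hO' : pPrimeCore p (L ⧸ T) = ⊥ := by
      have h1 : pPrimeCore p (L ⧸ T) ≤ C := fun x hx => mem_centralizer_iff.2 fun r hr =>
        (Cores.pCore_pPrimeCore_commute (hRp hr) hx).eq
      exact (Cores.disjoint_pCore_pPrimeCore (G := L ⧸ T) (p := p)).eq_bot_of_ge
        (h1.trans (hCR.trans hRp))
    have hOT : pPrimeCore p L ≤ T := by
      intro x hx
      have h1 := Cores.map_pPrimeCore_le φ hφs p ⟨x, hx, rfl⟩
      rw [hO', mem_bot] at h1
      exact (QuotientGroup.eq_one_iff x).1 h1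
    have heq : T = pPrimeCore p L := le_antisymm inf_le_left hOT
    refine ⟨heq ▸ hTodd, Constrained.isPConstrained_iff.2 ?_⟩
    refine Constrained.isCharP_congr (QuotientGroup.quotientMulEquivOfEq heq) ?_
    exact ((Subgroup.centralizer_le (SetLike.coe_subset_coe.2 hRp)).trans hCR).trans hRp
  exfalso
  -- `C` has an involution
  obtain ⟨y, hyC, hy⟩ : ∃ y ∈ C, orderOf y = 2 := by
    rcases Nat.even_or_odd (Nat.card C) with he | ho
    · obtain ⟨y, hy⟩ := exists_prime_orderOf_dvd_card' (G := C) 2 he.two_dvd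
      exact ⟨y, y.2, by rwa [Subgroup.orderOf_coe]⟩
    · refine absurd (fun x hx => ?_) hC
      obtain ⟨g, rfl⟩ := hφs x
      exact ⟨g, Cores.le_pPrimeCore (inferInstance : (C.comap φ).Normal)
        (by rw [card_comap_mk, Nat.coprime_two_right]; exact ho.mul hTodd) hx, rfl⟩
  obtain ⟨g₀, rfl⟩ := hφs y
  set z := g₀ ^ Nat.card T
  have hzy : φ z = φ g₀ := by
    obtain ⟨m, hm⟩ := hTodd
    rw [map_pow, hm, pow_succ, pow_mul, sq, mul_self_of_orderOf hy, one_pow, one_mul]
  have hz : orderOf z = 2 := by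
    refine orderOf_eq_prime (hp := ⟨Nat.prime_two⟩) ?_ fun h => ?_
    · have h1 : g₀ ^ 2 ∈ T := (QuotientGroup.eq_one_iff _).1
        (show φ (g₀ ^ 2) = 1 by rw [map_pow, sq, mul_self_of_orderOf hy])
      rw [← pow_mul, mul_comm, pow_mul]
      exact congrArg Subtype.val (pow_card_eq_one' (x := (⟨_, h1⟩ : T)))
    · rw [h, map_one] at hzy
      rw [← hzy, orderOf_one] at hy
      omega
  have hisoz : IsIsolatedInvolution z := ⟨hz, fun g hg =>
    hiso _ _ ((orderOf_injective (MulAut.conj g).toMonoidHom (MulAut.conj g).injective z).trans hz)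
      hz hg.symm⟩
  have hcomm : ∀ g : L, z * g * z⁻¹ * g⁻¹ ∈ N :=
    ZStar.zStar_of_brauerSuzuki ZStar.uniqueInvolution hisoz
  set w := φ z
  have hw : orderOf w = 2 := hzy ▸ hy
  have hwC : w ∈ C := hzy ▸ hyC
  -- `w` centralises `N'`
  have hwN : ∀ n ∈ N', w * n * w⁻¹ = n := by
    intro n hn
    set c := n⁻¹ * (w * n * w⁻¹)
    have hwn : w * n * w⁻¹ ∈ N' := Subgroup.Normal.conj_mem inferInstance n hn w
    have hcR : c ∈ R := by
      refine hself c (N'.mul_mem (N'.inv_mem hn) hwn) (mem_centralizer_iff.2 fun r hr => ?_)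
      have e1 : ∀ r ∈ R, w * r * w⁻¹ = r := fun r hr => by
        rw [← mem_centralizer_iff.1 hwC r hr, mul_inv_cancel_right]
      have hnr : n * r * n⁻¹ ∈ R := Subgroup.Normal.conj_mem inferInstance r hr n
      have e2 : w * (n * r * n⁻¹) * w⁻¹ = (w * n * w⁻¹) * (w * r * w⁻¹) * (w * n * w⁻¹)⁻¹ := by
        group
      rw [e1 _ hnr, e1 r hr] at e2
      calc r * c = n⁻¹ * (n * r * n⁻¹) * (w * n * w⁻¹) := by simp only [c]; group
        _ = c * r := by rw [e2]; simp only [c]; group
    have hfix : w * c * w⁻¹ = c := by rw [← mem_centralizer_iff.1 hwC c hcR, mul_inv_cancel_right]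
    have hcc : c * c = 1 := by
      have : w * c * w⁻¹ = c⁻¹ := by
        have h2 : w * w = 1 := mul_self_of_orderOf hw
        have hi : w⁻¹ = w := inv_of_orderOf hw
        calc w * c * w⁻¹ = (w * n * w⁻¹)⁻¹ * (w * w * n * (w⁻¹ * w⁻¹)) := by simp only [c]; group
          _ = c⁻¹ := by rw [hi, h2, one_mul, mul_one]; simp only [c, hi]; group
      rw [hfix] at this
      nth_rw 1 [this]
      exact inv_mul_cancel c
    have := eq_one_of_mul_self hRodd hcR hcc
    exact (inv_mul_eq_one.1 this).symm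
  -- `w` is central
  have hwcen : ∀ g : L, z * g * z⁻¹ * g⁻¹ ∈ T := by
    intro g
    refine (QuotientGroup.eq_one_iff _).1 ?_
    set d := φ (z * g * z⁻¹ * g⁻¹) with hd
    have hdN : d ∈ N' := ⟨_, hcomm g, rfl⟩
    have hd' : d = w * φ g * w⁻¹ * (φ g)⁻¹ := by
      rw [hd, map_mul, map_mul, map_mul, map_inv, map_inv]
    have hdd : d * d = 1 := by
      have h2 : w * w = 1 := mul_self_of_orderOf hw
      have hi : w⁻¹ = w := inv_of_orderOf hw
      have h3 : w * d * w⁻¹ = d⁻¹ := by
        rw [hd', hi]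
        calc w * (w * φ g * w * (φ g)⁻¹) * w = (w * w) * φ g * w * (φ g)⁻¹ * w := by group
          _ = φ g * w * (φ g)⁻¹ * w := by rw [h2, one_mul]
          _ = (w * φ g * w * (φ g)⁻¹)⁻¹ := by
            rw [mul_inv_rev, mul_inv_rev, mul_inv_rev, inv_inv, hi]; group
      rw [hwN d hdN] at h3
      nth_rw 1 [h3]
      exact inv_mul_cancel d
    exact eq_one_of_mul_self hN' hdN hdd
  -- every conjugate of `z` is a `T`-conjugate
  have hsup : ∀ g : L, ∃ t ∈ T, ∃ c ∈ centralizer ({z} : Set L), g = t * c := by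
    intro g
    set t₀ := g * z * g⁻¹ * z⁻¹ with ht₀
    have ht₀T : t₀ ∈ T := by
      have h : t₀ = (z * g * z⁻¹ * g⁻¹)⁻¹ := by rw [ht₀]; group
      rw [h]
      exact T.inv_mem (hwcen g)
    have hz2 : z * z = 1 := mul_self_of_orderOf hz
    have hzi : z⁻¹ = z := inv_of_orderOf hz
    have hinv : SemiconjBy z t₀ t₀⁻¹ := by
      show z * t₀ = t₀⁻¹ * z
      rw [ht₀, mul_inv_rev, mul_inv_rev, mul_inv_rev, inv_inv, inv_inv, hzi]
      simp only [mul_assoc, hz2, mul_one]
    obtain ⟨m, hm⟩ := hTodd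
    set t := t₀ ^ (m + 1)
    have htt : t * t = t₀ := by
      rw [← pow_add, show m + 1 + (m + 1) = 2 * m + 1 + 1 by omega, ← hm, pow_succ,
        show t₀ ^ Nat.card T = 1 from congrArg Subtype.val (pow_card_eq_one' (x := (⟨_, ht₀T⟩ : T))),
        one_mul]
    have htz : t * z * t⁻¹ = g * z * g⁻¹ := by
      have h1 : z * t⁻¹ = t * z := by
        have := hinv.inv_right.pow_right (m + 1)
        rwa [inv_inv, inv_pow] at this
      rw [mul_assoc, h1, ← mul_assoc, htt, ht₀, hzi]
      simp only [mul_assoc, hz2, mul_one]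
    refine ⟨t, T.pow_mem ht₀T _, t⁻¹ * g, ?_, by group⟩
    rw [mem_centralizer_singleton_iff]
    calc t⁻¹ * g * z = t⁻¹ * (g * z * g⁻¹) * g := by group
      _ = z * (t⁻¹ * g) := by rw [← htz]; group
  obtain ⟨S⟩ : Nonempty (Sylow p ↥(centralizer ({z} : Set L))) := inferInstance
  have hidx : ¬ p ∣ (centralizer ({z} : Set L)).index := by
    have htop : T ⊔ centralizer ({z} : Set L) = ⊤ := eq_top_iff.2 fun g _ => by
      obtain ⟨t, ht, c, hc, rfl⟩ := hsup g
      exact mul_mem (mem_sup_left ht) (mem_sup_right hc)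
    have h1 := PLocal.card_sup_mul_card_inf (H := T) (K := centralizer ({z} : Set L))
      (le_normalizer_of_normal)
    rw [htop, Subgroup.card_top, ← (centralizer ({z} : Set L)).card_mul_index, mul_assoc,
      mul_comm (Nat.card T)] at h1
    exact fun h => (Fact.out : p.Prime).coprime_iff_not_dvd.1 hTp.symm
      ((h.trans (dvd_mul_right _ _)).trans (Nat.eq_of_mul_eq_mul_left Nat.card_pos h1).dvd)
  have hS' : ¬ p ∣ ((S : Subgroup _).map (centralizer ({z} : Set L)).subtype).index := by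
    rw [Subgroup.index_map_subtype]
    exact fun h => ((Fact.out : p.Prime).dvd_mul.1 h).elim S.not_dvd_index hidx
  exact hno z ((S.isPGroup'.map _).toSylow hS') hz (map_subtype_le _)

namespace RankThree

variable {G : Type u} [Group G]

/-- The hypotheses. -/
structure Config (p : ℕ) [Fact p.Prime] [Finite G] (P : Sylow p G) (A E D : Subgroup G) (v : G) :
    Prop where
  odd_p : p ≠ 2
  odd_D : Odd (Nat.card D)
  le_D : (P : Subgroup G) ≤ D
  inv : orderOf v = 2
  norm : v ∈ normalizer ((P : Subgroup G) : Set G)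
  move : ¬ (P : Subgroup G) ≤ centralizer {v}
  conj : ∀ t : G, orderOf t = 2 → ∃ d ∈ D, d * v * d⁻¹ = t
  rank_one : ∀ Y : Subgroup G, IsPGroup p Y → Y ≠ ⊥ → ∀ s ∈ normalizer (Y : Set G),
    ∀ t ∈ normalizer (Y : Set G), orderOf s = 2 → orderOf t = 2 → Commute s t → s = t
  four : ∃ s t : G, orderOf s = 2 ∧ orderOf t = 2 ∧ Commute s t ∧ s ≠ t
  A_le : A ≤ P
  A_normal : (P : Subgroup G) ≤ normalizer (A : Set G)
  A_comm : IsMulCommutative A
  A_self : (P : Subgroup G) ⊓ centralizer (A : Set G) ≤ A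
  A_inv : v ∈ normalizer (A : Set G)
  E_le : E ≤ A
  E_elem : IsElementaryAbelian p E
  E_rank : p ^ 3 ≤ Nat.card E

/-- The data of the signalizer functor argument alone. -/
structure Base (p : ℕ) [Fact p.Prime] [Finite G] (P A E D : Subgroup G) : Prop where
  odd_p : p ≠ 2
  odd_D : Odd (Nat.card D)
  P_pgroup : IsPGroup p P
  le_D : P ≤ D
  sylow_D : ¬ p ∣ P.relIndex D
  A_le : A ≤ P
  A_normal : P ≤ normalizer (A : Set G)
  A_comm : IsMulCommutative A
  omega : ∀ x ∈ centralizer (A : Set G), orderOf x = p → x ∈ A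
  E_le : E ≤ A
  E_elem : IsElementaryAbelian p E
  E_rank : p ^ 3 ≤ Nat.card E
  good : ∀ a ∈ E, a ≠ 1 → Odd (Nat.card (pPrimeCore p ↥(centralizer ({a} : Set G)))) ∧
    IsPConstrained p ↥(centralizer ({a} : Set G))

/-- `L = U N(R)` if the image of the `p`-subgroup `R` modulo the normal `p'`-subgroup `U` is
normal. -/
theorem exists_mul_normalizer {L : Type u} [Group L] [Finite L] {p : ℕ} [Fact p.Prime]
    (U : Subgroup L) [U.Normal] (hU : (Nat.card U).Coprime p) {R : Subgroup L} (hR : IsPGroup p R)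
    (hn : (R.map (QuotientGroup.mk' U)).Normal) (d : L) :
    ∃ u ∈ U, ∃ n ∈ normalizer (R : Set L), d = u * n := by
  haveI : Group.IsNilpotent R := hR.isNilpotent
  have hM : U ⊔ R = (R.map (QuotientGroup.mk' U)).comap (QuotientGroup.mk' U) := by
    rw [Subgroup.comap_map_eq, QuotientGroup.ker_mk', sup_comm]
  haveI : (U ⊔ R).Normal := hM ▸ hn.comap _
  obtain ⟨n, hnR⟩ := IsPGroup.iff_card.1 hR
  obtain ⟨u, hu, hconj⟩ := Coprime.exists_conj_eq_of_le_sup (N := U) (H := R)
    (L := MulAut.conj d • R) le_normalizer_of_normal (hnR ▸ (hU.symm.pow_left n))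
    (Or.inl inferInstance)
    (fun x hx => by
      have h := Subgroup.Normal.conj_mem inferInstance _ (mem_sup_right (S := U)
        (Coprime.mem_conj.1 hx)) d
      simpa [mul_assoc] using h)
    (Coprime.card_conj d R)
  refine ⟨u, hu, u⁻¹ * d, Coprime.mem_normalizer_of_conj_eq ?_, by rw [mul_inv_cancel_left]⟩
  rw [map_mul, mul_smul, ← hconj, ← mul_smul, ← map_mul, inv_mul_cancel, map_one, one_smul]

namespace Base

variable {p : ℕ} [Fact p.Prime] [Finite G] {P A E D : Subgroup G}

section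
variable (h : Base p P A E D)
include h

theorem E_isPGroup : IsPGroup p E := h.P_pgroup.to_le (h.E_le.trans h.A_le)

theorem A_le_centralizer {a : G} (ha : a ∈ E) : A ≤ centralizer ({a} : Set G) := fun b hb =>
  haveI := h.A_comm
  mem_centralizer_singleton_iff.2
    (congrArg Subtype.val (mul_comm' (⟨b, hb⟩ : A) ⟨a, h.E_le ha⟩))

theorem functor : IsSolvableSignalizerFunctor p E (centralizerPPrimeCore p) :=
  ⟨⟨fun a _ _ => Signalizer.core_le_centralizer a, fun a _ _ => Signalizer.not_dvd_card_core a,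
    fun a ha _ b hb x hx => (mem_normalizer_iff.1 (Signalizer.invariant_core h.E_elem.1 ha hb) x).1 hx,
    fun a ha _ b hb hb1 => Signalizer.core_inf_centralizer_le_core (h.E_elem.2 a ha)
      (Signalizer.commute_of_isMulCommutative h.E_elem.1 ha hb) (h.good _ hb hb1).2⟩,
    fun a ha ha1 => OddOrderTheorem.solvable (by
      rw [centralizerPPrimeCore, Cores.card_map_subtype]
      exact (h.good _ ha ha1).1)⟩

theorem not_isCyclic : ¬ IsCyclic E := by
  intro hc
  obtain ⟨g, hg⟩ := hc.exists_ofOrder_eq_natCard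
  have h1 : orderOf g ∣ p := orderOf_dvd_of_pow_eq_one (Subtype.ext (h.E_elem.2 g g.2))
  have h2 : p ^ 3 ≤ p := h.E_rank.trans (hg ▸ Nat.le_of_dvd (Fact.out : p.Prime).pos h1)
  have h3 : p < p ^ 3 := lt_self_pow₀ (Fact.out : p.Prime).one_lt (by norm_num)
  omega

end

/-- The completion of the functor. -/
def W (p : ℕ) (E : Subgroup G) : Subgroup G :=
  ⨆ a : {a : G // a ∈ E ∧ a ≠ 1}, centralizerPPrimeCore p (a : G)

variable (h : Base p P A E D)
include h

theorem coprime_W : (Nat.card (W p E)).Coprime p :=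
  ((Fact.out : p.Prime).coprime_iff_not_dvd.2
    (Signalizer.solvable_signalizer_functor h.E_elem h.E_rank h.functor).2.1).symm

theorem A_le_normalizer_W : A ≤ normalizer (W p E : Set G) := fun b hb =>
  Coprime.mem_normalizer_of_forall fun x hx => by
    have hle : (W p E).map (MulAut.conj b).toMonoidHom ≤ W p E := by
      rw [W, Subgroup.map_iSup]
      refine iSup_le fun a => le_trans ?_
        (le_iSup (fun a : {a : G // a ∈ E ∧ a ≠ 1} => centralizerPPrimeCore p (a : G)) a)
      rintro _ ⟨y, hy, rfl⟩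
      exact (mem_normalizer_iff.1
        (Signalizer.centralizer_le_normalizer_core _ (h.A_le_centralizer a.2.1 hb)) y).1 hy
    exact hle ⟨x, hx, rfl⟩

/-- `W` is the largest `A`-invariant `p'`-subgroup. -/
theorem le_W {Y : Subgroup G} (hY : (Nat.card Y).Coprime p) (hAY : A ≤ normalizer (Y : Set G)) :
    Y ≤ W p E := by
  haveI := h.E_elem.1
  obtain ⟨n, hn⟩ := IsPGroup.iff_card.1 h.E_isPGroup
  refine Coprime.le_of_noncyclic h.not_isCyclic (h.E_le.trans hAY)
    (hn ▸ hY.symm.pow_left n) fun a ha ha1 => le_trans ?_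
      (le_iSup (fun a : {a : G // a ∈ E ∧ a ≠ 1} => centralizerPPrimeCore p (a : G)) ⟨a, ha, ha1⟩)
  set L := centralizer ({a} : Set G)
  have hle := Signalizer.le_pPrimeCore_of_omega (G := L) (h.good _ ha ha1).2 h.odd_p
    (A := A.subgroupOf L) (Y := (Y ⊓ L).subgroupOf L) (h.P_pgroup.to_le h.A_le).comap_subtype
    (fun x hx hxp => h.omega (x : G) (mem_centralizer_iff.2 fun b hb =>
      congrArg Subtype.val (mem_centralizer_iff.1 hx ⟨b, h.A_le_centralizer ha hb⟩ hb))
      ((Subgroup.orderOf_coe x).trans hxp))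
    (by
      rw [Cores.card_subgroupOf inf_le_right]
      exact hY.coprime_dvd_left (card_dvd_of_le inf_le_left))
    (fun b hb => Coprime.mem_normalizer_of_forall fun y hy =>
      ⟨(mem_normalizer_iff.1 (hAY hb) _).1 hy.1, (b * y * b⁻¹).2⟩)
  exact fun y hy => ⟨⟨y, hy.2⟩, hle ⟨hy.1, hy.2⟩, rfl⟩

theorem mem_normalizer_W {g : G} (hg : ∀ a ∈ A, g⁻¹ * a * g ∈ normalizer (W p E : Set G)) :
    g ∈ normalizer (W p E : Set G) := by
  have hle : MulAut.conj g • W p E ≤ W p E := by
    refine h.le_W (by rw [Coprime.card_conj]; exact h.coprime_W)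
      fun a ha => Coprime.mem_normalizer_of_forall fun x hx => Coprime.mem_conj.2 ?_
    have := (mem_normalizer_iff.1 (hg a ha) _).1 (Coprime.mem_conj.1 hx)
    simpa [mul_assoc] using this
  exact Coprime.mem_normalizer_of_forall fun x hx => hle (Coprime.conj_mem_conj.2 hx)

theorem normalizer_A_le : normalizer (A : Set G) ≤ normalizer (W p E : Set G) := fun g hg =>
  h.mem_normalizer_W fun a ha => h.A_le_normalizer_W (by
    have := (mem_normalizer_iff.1 (inv_mem hg) a).1 ha
    rwa [inv_inv] at this)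

theorem odd_W : Odd (Nat.card (W p E)) := by
  haveI : Fact (Nat.Prime 2) := ⟨Nat.prime_two⟩
  haveI := h.E_elem.1
  obtain ⟨hsol, -, hC⟩ := Signalizer.solvable_signalizer_functor h.E_elem h.E_rank h.functor
  obtain ⟨n, hn⟩ := IsPGroup.iff_card.1 h.E_isPGroup
  obtain ⟨Q, -, hQW, hEQ, hQc⟩ := Coprime.exists_invariant_card (h.E_le.trans h.A_le_normalizer_W)
    (hn ▸ h.coprime_W.symm.pow_left n) (Or.inr hsol) 2 bot_le IsPGroup.of_bot
    (by rw [Subgroup.normalizer_eq_top_iff.2 inferInstance]; exact le_top)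
  have hQ : Q ≤ ⊥ := by
    refine Coprime.le_of_noncyclic h.not_isCyclic hEQ ?_ fun a ha ha1 => ?_
    · exact hn ▸ (Nat.Coprime.coprime_dvd_left (card_dvd_of_le hQW) h.coprime_W).symm.pow_left n
    · refine le_trans (le_inf inf_le_left ((inf_le_inf_right _ hQW).trans (hC a ha ha1).le)) ?_
      refine (Coprime.inf_eq_bot ?_).le
      have h1 : Odd (Nat.card (centralizerPPrimeCore p a)) := by
        rw [centralizerPPrimeCore, Cores.card_map_subtype]
        exact (h.good _ ha ha1).1
      rw [hQc]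
      exact (Nat.coprime_two_left.2 h1).pow_left _
  rw [le_bot_iff.1 hQ, Subgroup.card_bot] at hQc
  rw [← Nat.not_even_iff_odd, even_iff_two_dvd]
  intro h2
  have := Nat.prime_two.factorization_pos_of_dvd Nat.card_pos.ne' h2
  have := Nat.one_lt_pow this.ne' (by norm_num : 1 < 2)
  omega

/-- `D = O_p'(D) N_D(Z(J(P)))` and `D` normalises `W`. -/
theorem D_facts : D ≤ normalizer (W p E : Set G) ∧
    ∀ d ∈ D, ∃ u ∈ W p E, ∃ n ∈ D, n ∈ normalizer (centerThompsonOf p P : Set G) ∧
      d = u * n := by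
  haveI : Group.IsSolvable D := OddOrderTheorem.solvable h.odd_D
  set U := pPrimeCore p D
  haveI : U.Normal := Cores.pPrimeCore_normal p D
  have hU : (Nat.card U).Coprime p := Cores.coprime_card_pPrimeCore p
  have hUW : U.map D.subtype ≤ W p E := h.le_W (by rwa [Cores.card_map_subtype])
    fun a ha => Coprime.mem_normalizer_of_forall fun x ⟨y, hy, hyx⟩ =>
      ⟨⟨a, h.le_D (h.A_le ha)⟩ * y * ⟨a, h.le_D (h.A_le ha)⟩⁻¹,
        Subgroup.Normal.conj_mem inferInstance y hy _, by rw [← hyx]; rfl⟩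
  set φ := QuotientGroup.mk' U
  have hφs : Function.Surjective φ := QuotientGroup.mk'_surjective U
  set S := ((h.P_pgroup.comap_subtype (K := D)).toSylow h.sylow_D).mapSurjective hφs
  have hSodd : Odd (Nat.card (D ⧸ U)) := h.odd_D.of_dvd_nat (Subgroup.card_quotient_dvd_card U)
  haveI : Group.IsSolvable (D ⧸ U) := Group.isSolvable_of_surjective hφs
  have hO : pPrimeCore p (D ⧸ U) = ⊥ := Cores.pPrimeCore_quotient_self p
  set PD := P.subgroupOf D
  have hPD : IsPGroup p PD := h.P_pgroup.comap_subtype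
  -- the factor through `O_p',p(D)`
  set R := PD ⊓ (pCore p (D ⧸ U)).comap φ
  have hR : R.map φ = pCore p (D ⧸ U) := by
    refine le_antisymm ((map_mono inf_le_right).trans (map_comap_le _ _)) fun x hx => ?_
    obtain ⟨r, hr, hrx⟩ := Cores.pCore_le_sylow S hx
    exact ⟨r, ⟨hr, show φ r ∈ _ by rwa [hrx]⟩, hrx⟩
  have hAR : A.subgroupOf D ≤ R := by
    refine le_inf (Subgroup.comap_mono h.A_le) (Subgroup.map_le_iff_le_comap.1 ?_)
    haveI := h.A_comm
    haveI : (pCore p (D ⧸ U)).Normal := Cores.pCore_normal p _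
    refine OddStable.le_pCore_of_abelian hSodd h.odd_p hO (Cores.isPGroup_pCore p _)
      (P := pCore p (D ⧸ U)) inf_le_left inferInstance ?_
    refine (Cores.pCore_le_sylow S).trans (le_trans (map_mono ?_) (le_normalizer_map φ))
    exact fun x hx => Coprime.mem_normalizer_of_forall fun y hy =>
      (mem_normalizer_iff.1 (h.A_normal hx) _).1 hy
  have hDW : D ≤ normalizer (W p E : Set G) := by
    intro d hd
    obtain ⟨u, hu, n, hn, hdn⟩ := exists_mul_normalizer U hU (hPD.to_le inf_le_left)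
      (by rw [hR]; exact Cores.pCore_normal p _) ⟨d, hd⟩
    rw [show d = (u : G) * n from congrArg Subtype.val hdn]
    refine mul_mem (le_normalizer (hUW ⟨u, hu, rfl⟩)) (h.mem_normalizer_W fun a ha => ?_)
    have h1 := (mem_normalizer_iff.1 (inv_mem hn) _).1
      (hAR (show (⟨a, h.le_D (h.A_le ha)⟩ : D) ∈ A.subgroupOf D from ha))
    rw [inv_inv] at h1
    exact h.normalizer_A_le (h.A_normal h1.1)
  refine ⟨hDW, fun d hd => ?_⟩
  -- the factor through `Z(J(P))`
  have hinj : Set.InjOn φ PD := fun x hx y hy hxy => by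
    have h1 : x⁻¹ * y ∈ U := QuotientGroup.eq.1 hxy
    obtain ⟨n, hn⟩ := IsPGroup.iff_card.1 hPD
    exact inv_mul_eq_one.1 (Coprime.eq_one_of_mem_of_mem (hn ▸ hU.symm.pow_left n)
      (mul_mem (inv_mem hx) hy) h1)
  have hZn : ((centerThompsonOf p PD).map φ).Normal := by
    rw [PLocal.map_centerThompsonOf φ hinj]
    exact PLocal.zjCenter_normal h.odd_p (Solvable.centralizer_pCore_le_of_isSolvable hO)
      (fun V _ hV a ha => OddStable.mem_pCore_quotient_centralizer hSodd h.odd_p hV
        (OddStable.quadOn_of_commutator ha (mem_zpowers a))) S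
  obtain ⟨u, hu, n, hn, hdn⟩ := exists_mul_normalizer U hU (R := centerThompsonOf p PD)
    (hPD.to_le (inf_le_left.trans (PLocal.thompsonSubgroupOf_le PD))) hZn ⟨d, hd⟩
  refine ⟨u, hUW ⟨u, hu, rfl⟩, n, n.2, ?_, congrArg Subtype.val hdn⟩
  have h1 : (n : G) ∈ normalizer ((centerThompsonOf p PD).map D.subtype : Set G) :=
    le_normalizer_map D.subtype ⟨n, hn, rfl⟩
  rwa [PLocal.map_centerThompsonOf _ D.subtype_injective.injOn,
    Subgroup.map_subgroupOf_eq_of_le h.le_D] at h1

end Base

namespace Config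

variable {p : ℕ} [Fact p.Prime] [Finite G] {P : Sylow p G} {A E D : Subgroup G} {v : G}
variable (h : Config p P A E D v)
include h

theorem A_isPGroup : IsPGroup p A := P.isPGroup'.to_le h.A_le

theorem A_ne_bot : A ≠ ⊥ := fun e => h.move fun x hx => by
  have h1 : x ∈ A := h.A_self ⟨hx, mem_centralizer_iff.2 fun a ha => by
    rw [e, coe_bot, Set.mem_singleton_iff] at ha
    rw [ha, one_mul, mul_one]⟩
  rw [e, mem_bot] at h1
  rw [h1]
  exact one_mem _

/-- The `p`-elements centralising `A` lie in `A`. -/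
theorem mem_A {x : G} (hx : x ∈ centralizer (A : Set G)) (hxp : IsPGroup p (zpowers x)) :
    x ∈ A := by
  set N := normalizer (A : Set G)
  have hxN : x ∈ N := centralizer_le_normalizer _ hx
  obtain ⟨S, hS⟩ := (hxp.comap_subtype (K := N)).exists_le_sylow
  obtain ⟨g, hg⟩ := MulAction.exists_smul_eq N (P.subtype h.A_normal) S
  have h1 : (⟨x, hxN⟩ : N) ∈ MulAut.conj g • ((P : Subgroup G).subgroupOf N) := by
    have h2 : (⟨x, hxN⟩ : N) ∈ (S : Subgroup N) := hS (mem_zpowers x)
    rw [← hg, Sylow.coe_subgroup_smul] at h2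
    exact h2
  have h3 : (g : G)⁻¹ * x * g ∈ A := by
    have h2 := Coprime.mem_conj.1 h1
    refine h.A_self ⟨h2, mem_centralizer_iff.2 fun a ha => ?_⟩
    have h4 := mem_centralizer_iff.1 hx _ ((mem_normalizer_iff.1 g.2 a).1 ha)
    calc a * ((g : G)⁻¹ * x * g) = (g : G)⁻¹ * (g * a * (g : G)⁻¹ * x) * g := by group
      _ = (g : G)⁻¹ * x * g * a := by rw [h4]; group
  have h5 := (mem_normalizer_iff.1 g.2 _).1 h3
  simpa [mul_assoc] using h5

/-- No involution centralises `A`. -/
theorem no_centralizer {s : G} (hs : orderOf s = 2) : ¬ s ∈ centralizer (A : Set G) := by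
  intro hsA
  set N := normalizer (A : Set G)
  have hsN : s ∈ N := centralizer_le_normalizer _ hsA
  have hvA : v ∈ centralizer (A : Set G) := by
    rcases eq_or_odd (h.rank_one A h.A_isPGroup h.A_ne_bot) h.A_inv hsN h.inv hs with he | ho
    · rwa [he]
    obtain ⟨k, hk, rfl⟩ := exists_conj_of_odd h.inv hs ho
    have hkN : k ∈ N := zpowers_le.2 (N.mul_mem h.A_inv hsN) hk
    refine mem_centralizer_iff.2 fun a ha => ?_
    have h1 := mem_centralizer_iff.1 hsA _ ((mem_normalizer_iff.1 hkN a).1 ha)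
    calc a * v = k⁻¹ * (k * a * k⁻¹ * (k * v * k⁻¹)) * k := by group
      _ = v * a := by rw [h1]; group
  refine h.move fun x hx => ?_
  set c := x⁻¹ * (v * x * v⁻¹) with hc
  have hfixA : ∀ a ∈ A, v * a * v⁻¹ = a := fun a ha => by
    rw [← mem_centralizer_iff.1 hvA a ha, mul_inv_cancel_right]
  have hxv : v * x * v⁻¹ ∈ (P : Subgroup G) := (mem_normalizer_iff.1 h.norm x).1 hx
  have hcA : c ∈ A := by
    refine h.A_self ⟨(P : Subgroup G).mul_mem ((P : Subgroup G).inv_mem hx) hxv, mem_centralizer_iff.2 fun a ha => ?_⟩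
    have e : v * (x * a * x⁻¹) * v⁻¹ = (v * x * v⁻¹) * (v * a * v⁻¹) * (v * x * v⁻¹)⁻¹ := by group
    rw [hfixA _ ((mem_normalizer_iff.1 (h.A_normal hx) a).1 ha), hfixA a ha] at e
    calc a * c = x⁻¹ * (x * a * x⁻¹) * (v * x * v⁻¹) := by simp only [c]; group
      _ = c * a := by rw [e]; simp only [c]; group
  have hcc : c * c = 1 := by
    have hi : v⁻¹ = v := inv_of_orderOf h.inv
    have h1 : v * c * v⁻¹ = c⁻¹ := by
      rw [hc, mul_inv_rev, mul_inv_rev, mul_inv_rev, inv_inv, inv_inv, hi]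
      have h2 : v * v = 1 := mul_self_of_orderOf h.inv
      calc v * (x⁻¹ * (v * x * v)) * v = v * x⁻¹ * v * x * (v * v) := by group
        _ = v * (x⁻¹ * v) * x := by rw [h2, mul_one]; group
    rw [hfixA c hcA] at h1
    nth_rw 1 [h1]
    exact inv_mul_cancel c
  have hc1 := inv_mul_eq_one.1 (eq_one_of_mul_self (odd_of_isPGroup h.odd_p h.A_isPGroup) hcA hcc)
  rw [mem_centralizer_singleton_iff]
  calc x * v = v * x * v⁻¹ * v := by rw [← hc1]
    _ = v * x := by group

theorem E_isPGroup : IsPGroup p E := h.A_isPGroup.to_le h.E_le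

theorem A_le_centralizer {a : G} (ha : a ∈ E) : A ≤ centralizer ({a} : Set G) := fun b hb =>
  haveI := h.A_comm
  mem_centralizer_singleton_iff.2
    (congrArg Subtype.val (mul_comm' (⟨b, hb⟩ : A) ⟨a, h.E_le ha⟩))

/-- The centraliser of a nontrivial element of `E`. -/
theorem constrained {a : G} (ha : a ∈ E) (ha1 : a ≠ 1) :
    Odd (Nat.card (pPrimeCore p ↥(centralizer ({a} : Set G)))) ∧
      IsPConstrained p ↥(centralizer ({a} : Set G)) := by
  have hle : centralizer ({a} : Set G) ≤ normalizer (zpowers a : Set G) := by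
    refine le_trans ?_ (centralizer_le_normalizer _)
    rw [Subgroup.zpowers_eq_closure, Subgroup.centralizer_closure]
  refine constrained_of_isolated h.odd_p (fun s t hs ht hc => Subtype.ext ?_) fun z S hz hSz => ?_
  · exact h.rank_one (zpowers a) (h.E_isPGroup.to_le (zpowers_le.2 ha))
      (fun e => ha1 (by simpa using e)) s (hle s.2) t (hle t.2)
      (by rwa [Subgroup.orderOf_coe]) (by rwa [Subgroup.orderOf_coe]) (congrArg Subtype.val hc)
  obtain ⟨T, hT⟩ := (h.A_isPGroup.comap_subtype (K := centralizer ({a} : Set G))).exists_le_sylow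
  obtain ⟨g, rfl⟩ := MulAction.exists_smul_eq (centralizer ({a} : Set G)) S T
  refine h.no_centralizer (s := ((g * z * g⁻¹ : _) : G)) ?_ (mem_centralizer_iff.2 fun x hx => ?_)
  · rw [Subgroup.orderOf_coe]
    exact (orderOf_injective (MulAut.conj g).toMonoidHom (MulAut.conj g).injective z).trans hz
  · have h1 : (⟨x, h.A_le_centralizer ha hx⟩ : centralizer ({a} : Set G)) ∈
        MulAut.conj g • (S : Subgroup _) := by
      rw [← Sylow.coe_subgroup_smul]
      exact hT hx
    have h2 := mem_centralizer_singleton_iff.1 (hSz (Coprime.mem_conj.1 h1))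
    set y : centralizer ({a} : Set G) := ⟨x, h.A_le_centralizer ha hx⟩
    have h3 : y * (g * z * g⁻¹) = g * z * g⁻¹ * y := by
      calc y * (g * z * g⁻¹) = g * (g⁻¹ * y * g * z) * g⁻¹ := by group
        _ = g * z * g⁻¹ * y := by rw [h2]; group
    exact congrArg Subtype.val h3

theorem base : Base p (P : Subgroup G) A E D :=
  ⟨h.odd_p, h.odd_D, P.isPGroup', h.le_D,
    fun hd => P.not_dvd_index (hd.trans (Subgroup.relIndex_dvd_index_of_le h.le_D)),
    h.A_le, h.A_normal, h.A_comm,
    fun x hx hxp => h.mem_A hx (IsPGroup.of_card (n := 1) (by rw [Nat.card_zpowers, hxp, pow_one])),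
    h.E_le, h.E_elem, h.E_rank, fun _ ha ha1 => h.constrained ha ha1⟩

theorem contradiction : False := by
  obtain ⟨hDW, hD⟩ := h.base.D_facts
  set Z := centerThompsonOf p (P : Subgroup G)
  have hZp : IsPGroup p Z :=
    P.isPGroup'.to_le (inf_le_left.trans (PLocal.thompsonSubgroupOf_le _))
  have hZ : Z ≠ ⊥ := by
    have hP : (P : Subgroup G) ≠ ⊥ := fun e => h.A_ne_bot (le_bot_iff.1 (e ▸ h.A_le))
    obtain ⟨z, hz, hz1, hzp⟩ := PLocal.exists_central_of_order_p P.isPGroup' hP
    exact fun e => hz1 (mem_bot.1 (e ▸ PLocal.central_le_centerThompsonOf hz hzp))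
  have hvZ : v ∈ normalizer (Z : Set G) := by
    rw [PLocal.mem_normalizer_iff_map_eq,
      PLocal.map_centerThompsonOf _ (MulAut.conj v).injective.injOn,
      PLocal.mem_normalizer_iff_map_eq.1 h.norm]
  have hvW : v ∈ normalizer (Base.W p E : Set G) := h.base.normalizer_A_le h.A_inv
  -- every involution is congruent to one normalising `Z` and `W`
  have key : ∀ t : G, orderOf t = 2 → ∃ w ∈ Base.W p E, ∃ t₀ : G, orderOf t₀ = 2 ∧
      t₀ ∈ normalizer (Z : Set G) ∧ t₀ ∈ normalizer (Base.W p E : Set G) ∧ t = w * t₀ := by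
    intro t ht
    obtain ⟨d, hd, rfl⟩ := h.conj t ht
    obtain ⟨u, hu, n, hnD, hnZ, rfl⟩ := hD d hd
    have h0 : n * v * n⁻¹ ∈ normalizer (Base.W p E : Set G) :=
      mul_mem (mul_mem (hDW hnD) hvW) (inv_mem (hDW hnD))
    refine ⟨u * ((n * v * n⁻¹) * u⁻¹ * (n * v * n⁻¹)⁻¹),
      mul_mem hu ((mem_normalizer_iff.1 h0 _).1 (inv_mem hu)), n * v * n⁻¹, ?_,
      mul_mem (mul_mem hnZ hvZ) (inv_mem hnZ), h0, by group⟩
    exact (orderOf_injective (MulAut.conj n).toMonoidHom (MulAut.conj n).injective v).trans h.inv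
  obtain ⟨t, s, ht, hs, hts, hne⟩ := h.four
  obtain ⟨w, hw, t₀, ht₀, ht₀Z, ht₀W, rfl⟩ := key t ht
  obtain ⟨w', hw', s₀, hs₀, hs₀Z, hs₀W, rfl⟩ := key s hs
  set y := w * t₀ * (w' * s₀) with hy
  set X := t₀ * s₀
  set w₁ := w * (t₀ * w' * t₀⁻¹)
  have hw₁ : w₁ ∈ Base.W p E := mul_mem hw ((mem_normalizer_iff.1 ht₀W w').1 hw')
  have hyX : y = w₁ * X := by simp only [y, w₁, X]; group
  have hyy : y * y = 1 := by
    rw [← sq, hy, hts.mul_pow, sq, sq, mul_self_of_orderOf ht, mul_self_of_orderOf hs, one_mul]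
  have hyN : y ∈ normalizer (Base.W p E : Set G) := by
    rw [hyX]
    exact mul_mem (le_normalizer hw₁) (mul_mem ht₀W hs₀W)
  have hXX : X * X ∈ Base.W p E := by
    have e : X * X = w₁⁻¹ * (y * w₁⁻¹ * y⁻¹) * (y * y) := by rw [hyX]; group
    rw [e, hyy, mul_one]
    exact mul_mem (inv_mem hw₁) ((mem_normalizer_iff.1 hyN _).1 (inv_mem hw₁))
  have hX : X ∈ Base.W p E := by
    rcases eq_or_odd (h.rank_one Z hZp hZ) ht₀Z hs₀Z ht₀ hs₀ with e | ⟨l, hl⟩
    · simp only [X, e, mul_self_of_orderOf hs₀]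
      exact one_mem _
    · have e : (X * X) ^ (l + 1) = X := by
        rw [← sq, ← pow_mul, show 2 * (l + 1) = 2 * l + 1 + 1 by ring, pow_succ, ← hl,
          pow_orderOf_eq_one, one_mul]
      exact e ▸ pow_mem hXX _
  have h1 := eq_one_of_mul_self h.base.odd_W (hyX ▸ mul_mem hw₁ hX) hyy
  refine hne ?_
  rw [← inv_of_orderOf ht]
  exact inv_eq_of_mul_eq_one_right h1

end Config

end RankThree

/-- If distinct commuting involutions exist, all involutions are `D`-conjugate to an involution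
`v` normalising but not centralising a Sylow `p`-subgroup `P ≤ D`, `D` of odd order, and no
normaliser of a nontrivial `p`-subgroup contains distinct commuting involutions, then a
`v`-invariant normal abelian self-centralising subgroup of `P` has rank at most two. -/
theorem false_of_rank_three {G : Type u} [Group G] [Finite G] {p : ℕ} [Fact p.Prime] (hp : p ≠ 2)
    {D : Subgroup G} (hD : Odd (Nat.card D)) {P : Sylow p G} (hPD : (P : Subgroup G) ≤ D)
    {v : G} (hv : orderOf v = 2) (hvP : v ∈ normalizer ((P : Subgroup G) : Set G))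
    (hvC : ¬ (P : Subgroup G) ≤ centralizer {v})
    (hconj : ∀ t : G, orderOf t = 2 → ∃ d ∈ D, d * v * d⁻¹ = t)
    (hone : ∀ Y : Subgroup G, IsPGroup p Y → Y ≠ ⊥ → ∀ s ∈ normalizer (Y : Set G),
      ∀ t ∈ normalizer (Y : Set G), orderOf s = 2 → orderOf t = 2 → Commute s t → s = t)
    (hfour : ∃ s t : G, orderOf s = 2 ∧ orderOf t = 2 ∧ Commute s t ∧ s ≠ t)
    {A E : Subgroup G} (hAP : A ≤ P) (hAn : (P : Subgroup G) ≤ normalizer (A : Set G))
    (hAab : IsMulCommutative A) (hAself : (P : Subgroup G) ⊓ centralizer (A : Set G) ≤ A)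
    (hvA : v ∈ normalizer (A : Set G)) (hEA : E ≤ A) (hE : IsElementaryAbelian p E)
    (hrank : p ^ 3 ≤ Nat.card E) : False :=
  RankThree.Config.contradiction
    ⟨hp, hD, hPD, hv, hvP, hvC, hconj, hone, hfour, hAP, hAn, hAab, hAself, hvA, hEA, hE, hrank⟩

/-- The completion of the functor `e ↦ O_p'(C(e))`: a largest `A`-invariant `p'`-subgroup, of odd
order, normalised by `N(A)` and by `D`, with `D ⊆ W N_D(Z(J(P)))`. No hypothesis on involutions. -/
theorem exists_completion {G : Type u} [Group G] [Finite G] {p : ℕ} [Fact p.Prime] (hp : p ≠ 2)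
    {D P A E : Subgroup G} (hD : Odd (Nat.card D)) (hP : IsPGroup p P) (hPD : P ≤ D)
    (hsyl : ¬ p ∣ P.relIndex D) (hAP : A ≤ P) (hAn : P ≤ normalizer (A : Set G))
    (hAab : IsMulCommutative A) (homega : ∀ x ∈ centralizer (A : Set G), orderOf x = p → x ∈ A)
    (hEA : E ≤ A) (hE : IsElementaryAbelian p E) (hrank : p ^ 3 ≤ Nat.card E)
    (hgood : ∀ a ∈ E, a ≠ 1 → Odd (Nat.card (pPrimeCore p ↥(centralizer ({a} : Set G)))) ∧
      IsPConstrained p ↥(centralizer ({a} : Set G))) :
    ∃ W : Subgroup G, Odd (Nat.card W) ∧ (Nat.card W).Coprime p ∧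
      normalizer (A : Set G) ≤ normalizer (W : Set G) ∧ D ≤ normalizer (W : Set G) ∧
      (∀ Y : Subgroup G, (Nat.card Y).Coprime p → A ≤ normalizer (Y : Set G) → Y ≤ W) ∧
      ∀ d ∈ D, ∃ u ∈ W, ∃ n ∈ D, n ∈ normalizer (centerThompsonOf p P : Set G) ∧ d = u * n :=
  have h : RankThree.Base p P A E D :=
    ⟨hp, hD, hP, hPD, hsyl, hAP, hAn, hAab, homega, hEA, hE, hrank, hgood⟩
  ⟨RankThree.Base.W p E, h.odd_W, h.coprime_W, h.normalizer_A_le, h.D_facts.1,
    fun _ => h.le_W, h.D_facts.2⟩

end Cfsg.Agent.Bender
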