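/-
Double transitivity from a free maximal two-point `p`-subgroup (towards Bender's theorem; owner:
helper84).

`P : PointClass G Ω D pt` with two-point stabilisers of odd order, `p` an odd prime, `S : Setup` a
`p`-subgroup of largest order among those fixing two points which is free.

Main results (namespace `Cfsg.Agent.Bender`):
* `Setup.fix_eq`, `Setup.sylow_stab` : `Fix X₀ = {a₀, b₀}` and `X₀` is Sylow in the stabiliser
* `Setup.full` : every two-point stabiliser contains a conjugate of `X₀`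
* `Setup.transitive` : a point stabiliser is transitive on the other points
-/
import Cfsg.Agent.Lib.Bender.Local

set_option autoImplicit false
set_option linter.style.haveILetI false
set_option linter.unusedSectionVars false

namespace Cfsg.Agent.Bender

open Cfsg Involution Aschbacher
open scoped Pointwise

universe u v

variable {G : Type u} {Ω : Type v} [Group G] [MulAction G Ω] [Finite G] [Finite Ω]
variable {D : Set G} {pt : G → Ω} {p : ℕ} [Fact p.Prime]

theorem exists_sylow_twoPt (x y : Ω) {X : Subgroup G} (hX : IsPGroup p X)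
    (hXK : X ≤ twoPt G x y) :
    ∃ Q : Subgroup G, X ≤ Q ∧ Q ≤ twoPt G x y ∧ IsPGroup p Q ∧
      Nat.card Q = pPart p (Nat.card (twoPt G x y)) := by
  have hX' : IsPGroup p (X.subgroupOf (twoPt G x y)) := hX.comap_subtype
  obtain ⟨S, hS⟩ := hX'.exists_le_sylow
  refine ⟨(S : Subgroup _).map (twoPt G x y).subtype, ?_, Subgroup.map_subtype_le _, S.2.map _,
    (Subgroup.card_map_of_injective (twoPt G x y).subtype_injective).trans S.card_eq_multiplicity⟩
  intro g hg
  exact ⟨⟨g, hXK hg⟩, hS hg, rfl⟩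

theorem card_lt_of_lt {R T : Subgroup G} (h : R < T) : Nat.card R < Nat.card T :=
  Set.Finite.card_lt_card (Set.toFinite _) (SetLike.coe_ssubset_coe.2 h)

theorem mem_normalizer_of_forall {R : Subgroup G} {g : G} (h : ∀ r ∈ R, g * r * g⁻¹ ∈ R) :
    g ∈ Subgroup.normalizer (R : Set G) :=
  Subgroup.mem_normalizer_fintype h

/-- An element of the normaliser exchanging two points gives a member of `D` doing so. -/
theorem exists_swap_of_swap (P : PointClass G Ω D pt) {x y : Ω} (hxy : x ≠ y)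
    (hodd : Odd (Nat.card (twoPt G x y))) {R : Subgroup G} {g : G}
    (hg : g ∈ Subgroup.normalizer (R : Set G)) (hgx : g • x = y) (hgy : g • y = x) :
    ∃ h ∈ D, h ∈ Subgroup.normalizer (R : Set G) ∧ h • x = y := by
  have hg2 : g * g ∈ twoPt G x y :=
    ⟨MulAction.mem_stabilizer_iff.2 (by rw [mul_smul, hgx, hgy]),
      MulAction.mem_stabilizer_iff.2 (by rw [mul_smul, hgy, hgx])⟩
  obtain ⟨k, hk⟩ := Odd.of_dvd_nat hodd (Subgroup.orderOf_dvd_natCard _ hg2)
  set h := g * (g * g) ^ k with hh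
  have hgk : (g * g) ^ k ∈ twoPt G x y := Subgroup.pow_mem _ hg2 k
  have hhx : h • x = y := by rw [hh, mul_smul, MulAction.mem_stabilizer_iff.1 hgk.1, hgx]
  have hhy : h • y = x := by rw [hh, mul_smul, MulAction.mem_stabilizer_iff.1 hgk.2, hgy]
  have hsq : h * h = 1 := by
    have hc : Commute g ((g * g) ^ k) := ((Commute.refl g).mul_right (Commute.refl g)).pow_right k
    calc h * h = g * ((g * g) ^ k * g) * (g * g) ^ k := by rw [hh]; group
      _ = (g * g) ^ (2 * k + 1) := by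
        rw [← hc.eq, show 2 * k + 1 = 1 + k + k by ring, pow_add, pow_add, pow_one]; group
      _ = 1 := by rw [← hk, pow_orderOf_eq_one]
  have h2 : orderOf h = 2 := orderOf_of_sq hsq fun e => hxy (by rw [← hhx, e, one_smul])
  obtain ⟨e, he, hex⟩ := P.exists_at x
  obtain ⟨f, hf, hfy⟩ := P.exists_at y
  obtain ⟨w, hw, -, hwx⟩ := P.exists_mid he hf (by rw [hex, hfy]; exact hxy)
  rw [hex, hfy] at hwx
  have hwy : w • y = x := by rw [← hwx, P.smul_smul_self hw]
  have hwh : w * h ∈ twoPt G x y :=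
    ⟨MulAction.mem_stabilizer_iff.2 (by rw [mul_smul, hhx, hwy]),
      MulAction.mem_stabilizer_iff.2 (by rw [mul_smul, hhy, hwx])⟩
  obtain ⟨c, hc⟩ := isConj_iff.1 (isConj_of_odd (P.inv w hw) h2
    (Odd.of_dvd_nat hodd (Subgroup.orderOf_dvd_natCard _ hwh)))
  exact ⟨h, hc ▸ P.conj_mem c w hw, mul_mem hg (pow_mem (mul_mem hg hg) k), hhx⟩

/-- A free `p`-subgroup of largest order among those fixing two points. -/
structure Setup (D : Set G) (pt : G → Ω) (p : ℕ) (X₀ : Subgroup G) (a₀ b₀ : Ω) : Prop where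
  pointClass : PointClass G Ω D pt
  odd : ∀ x y : Ω, x ≠ y → Odd (Nat.card (twoPt G x y))
  pgroup : IsPGroup p X₀
  ne : a₀ ≠ b₀
  fix_left : X₀ ≤ MulAction.stabilizer G a₀
  fix_right : X₀ ≤ MulAction.stabilizer G b₀
  free : Free D pt X₀
  max : ∀ Q : Subgroup G, IsPGroup p Q → ∀ x y : Ω, x ≠ y → Q ≤ MulAction.stabilizer G x →
    Q ≤ MulAction.stabilizer G y → Nat.card Q ≤ Nat.card X₀
  odd_prime : p ≠ 2

namespace Setup

variable {X₀ : Subgroup G} {a₀ b₀ : Ω} (S : Setup D pt p X₀ a₀ b₀)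
include S

theorem card_le {x y : Ω} (hxy : x ≠ y) : pPart p (Nat.card (twoPt G x y)) ≤ Nat.card X₀ := by
  obtain ⟨Q, -, hQ, hQp, hQcard⟩ := exists_sylow_twoPt (G := G) (p := p) x y (X := ⊥)
    IsPGroup.of_bot bot_le
  exact hQcard.symm.trans_le
    (S.max Q hQp x y hxy (hQ.trans inf_le_left) (hQ.trans inf_le_right))

theorem fix_eq {z : Ω} (hz : X₀ ≤ MulAction.stabilizer G z) : z = a₀ ∨ z = b₀ := by
  have P := S.pointClass
  by_contra! h
  have hswap : ∀ x y : Ω, x ≠ y → X₀ ≤ MulAction.stabilizer G x → X₀ ≤ MulAction.stabilizer G y →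
      ∃ w ∈ D, w ∈ Subgroup.normalizer (X₀ : Set G) ∧ w • x = y := fun x y hxy hx hy =>
    exists_swap_normalizing P hxy (S.odd x y hxy) (le_inf hx hy)
      (le_antisymm (Coprime.card_le_of_isPGroup S.pgroup (le_inf hx hy)) (S.card_le hxy))
  obtain ⟨u, hu, huX, hua⟩ := hswap a₀ b₀ S.ne S.fix_left S.fix_right
  obtain ⟨v, hv, hvX, hva⟩ := hswap a₀ z h.1.symm S.fix_left hz
  obtain ⟨w, hw, hwX, hwb⟩ := hswap b₀ z h.2.symm S.fix_right hz
  have hodd : Odd (Nat.card X₀) :=
    Odd.of_dvd_nat (S.odd a₀ b₀ S.ne) (Subgroup.card_dvd_of_le (le_inf S.fix_left S.fix_right))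
  exact not_three P hodd S.free S.fix_right hu huX hua hv hvX hva hw hwX hwb

theorem sylow_stab {Q : Subgroup G} (hQ : IsPGroup p Q) (hXQ : X₀ ≤ Q)
    (hQa : Q ≤ MulAction.stabilizer G a₀) : Q = X₀ := by
  refine (hXQ.eq_or_lt.resolve_right fun hlt => ?_).symm
  obtain ⟨T, hXT, hTQ, hTn⟩ := exists_normalizing hQ hlt
  have hTb : T ≤ MulAction.stabilizer G b₀ := by
    intro t ht
    rw [MulAction.mem_stabilizer_iff]
    refine (S.fix_eq (le_stab_smul (hTn ht) S.fix_right)).resolve_left fun e => S.ne ?_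
    exact (MulAction.injective t ((MulAction.mem_stabilizer_iff.1 (hQa (hTQ ht))).trans e.symm))
  exact absurd (S.max T (hQ.to_le hTQ) a₀ b₀ S.ne (hTQ.trans hQa) hTb)
    (not_le.2 (card_lt_of_lt hXT))

theorem exists_smul_eq (z : Ω) : ∃ g : G, g • z = a₀ := by
  rcases eq_or_ne z a₀ with rfl | hne
  · exact ⟨1, one_smul _ _⟩
  obtain ⟨e, he, hez⟩ := S.pointClass.exists_at z
  obtain ⟨f, hf, hfa⟩ := S.pointClass.exists_at a₀
  obtain ⟨w, -, -, hw⟩ := S.pointClass.exists_mid he hf (by rwa [hez, hfa])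
  exact ⟨w, by rwa [hez, hfa] at hw⟩

/-- Every `p`-subgroup with a fixed point is conjugate into `X₀`. -/
theorem exists_conj_le {Q : Subgroup G} (hQ : IsPGroup p Q) {z : Ω}
    (hz : Q ≤ MulAction.stabilizer G z) :
    ∃ g : G, g • z = a₀ ∧ MulAut.conj g • Q ≤ X₀ := by
  set K := MulAction.stabilizer G a₀ with hK
  obtain ⟨w, hw⟩ := S.exists_smul_eq z
  set Q₁ := MulAut.conj w • Q with hQ₁
  have hQ₁K : Q₁ ≤ K := by
    intro x hx
    rw [hQ₁, Coprime.mem_conj] at hx
    rw [MulAction.mem_stabilizer_iff, ← hw]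
    calc x • w • z = w • (w⁻¹ * x * w) • z := by simp only [← mul_smul]; group
      _ = w • z := by rw [MulAction.mem_stabilizer_iff.1 (hz hx)]
  have hQ₁p : IsPGroup p Q₁ := hQ.map _
  obtain ⟨T, hT⟩ := (hQ₁p.comap_subtype : IsPGroup p (Q₁.subgroupOf K)).exists_le_sylow
  obtain ⟨T₀, hT₀⟩ := (S.pgroup.comap_subtype : IsPGroup p (X₀.subgroupOf K)).exists_le_sylow
  have hT₀X : (T₀ : Subgroup K).map K.subtype = X₀ :=
    S.sylow_stab (T₀.2.map _) (fun g hg => ⟨⟨g, S.fix_left hg⟩, hT₀ hg, rfl⟩)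
      (Subgroup.map_subtype_le _)
  obtain ⟨h, rfl⟩ := MulAction.exists_smul_eq K T T₀
  refine ⟨(h : G) * w, by rw [mul_smul, hw]; exact MulAction.mem_stabilizer_iff.1 h.2, ?_⟩
  rw [map_mul, mul_smul, ← hT₀X, Coprime.map_subtype_smul, Subgroup.pointwise_smul_le_pointwise_smul_iff]
  exact fun x hx => ⟨⟨x, hQ₁K hx⟩, hT hx, rfl⟩

theorem fix_conj {Q : Subgroup G} {g : G} {z : Ω} :
    MulAut.conj g • Q ≤ MulAction.stabilizer G (g • z) ↔ Q ≤ MulAction.stabilizer G z := by
  constructor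
  · intro h x hx
    have h1 := MulAction.mem_stabilizer_iff.1 (h ((Coprime.mem_conj (g := g) (x := g * x * g⁻¹)).2
      (by simpa [mul_assoc] using hx)))
    rw [mul_smul, mul_smul, inv_smul_smul] at h1
    exact MulAction.mem_stabilizer_iff.2 (MulAction.injective g h1)
  · intro h x hx
    rw [MulAction.mem_stabilizer_iff]
    calc x • g • z = g • (g⁻¹ * x * g) • z := by simp only [← mul_smul]; group
      _ = g • z := by rw [MulAction.mem_stabilizer_iff.1 (h (Coprime.mem_conj.1 hx))]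

/-- A `p`-subgroup of full order fixing two points fixes no other. -/
theorem full_two {Q : Subgroup G} (hQ : IsPGroup p Q) (hcard : Nat.card Q = Nat.card X₀) {x y z : Ω}
    (hx : Q ≤ MulAction.stabilizer G x) (hy : Q ≤ MulAction.stabilizer G y) (hxy : x ≠ y)
    (hz : Q ≤ MulAction.stabilizer G z) : z = x ∨ z = y := by
  obtain ⟨g, hgx, hg⟩ := S.exists_conj_le hQ hx
  have heq : MulAut.conj g • Q = X₀ :=
    Subgroup.eq_of_le_of_card_ge hg (by rw [Coprime.card_conj, hcard])
  have h1 : ∀ w : Ω, Q ≤ MulAction.stabilizer G w → g • w = a₀ ∨ g • w = b₀ := fun w hw =>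
    S.fix_eq (heq ▸ (fix_conj S).2 hw)
  have hgy : g • y = b₀ := (h1 y hy).resolve_left fun e =>
    hxy (MulAction.injective g (hgx.trans e.symm))
  exact (h1 z hz).imp (fun e => MulAction.injective g (e.trans hgx.symm))
    (fun e => MulAction.injective g (e.trans hgy.symm))

/-- The congruence: the number of fixed points is two mod `p`. -/
theorem fix_two {Q : Subgroup G} (hQ : IsPGroup p Q) {z : Ω} (hz : Q ≤ MulAction.stabilizer G z) :
    Nat.card {x : Ω // Q ≤ MulAction.stabilizer G x} ≡ 2 [MOD p] := by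
  obtain ⟨g, -, hg⟩ := S.exists_conj_le hQ hz
  have h1 : Nat.card {x : Ω // Q ≤ MulAction.stabilizer G x} =
      Nat.card {x : Ω // MulAut.conj g • Q ≤ MulAction.stabilizer G x} :=
    Nat.card_congr (Equiv.subtypeEquiv (MulAction.toPerm g) fun x => (fix_conj S).symm)
  have h2 : Nat.card {x : Ω // X₀ ≤ MulAction.stabilizer G x} = 2 := by
    rw [Nat.card_eq_two_iff]
    refine ⟨⟨a₀, S.fix_left⟩, ⟨b₀, S.fix_right⟩, fun e => S.ne (congrArg Subtype.val e), ?_⟩
    ext ⟨x, hx⟩
    simp only [Set.mem_insert_iff, Set.mem_singleton_iff, Set.mem_univ, iff_true, Subtype.mk.injEq]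
    exact S.fix_eq hx
  rw [h1, ← h2]
  exact fix_modEq S.pgroup hg

/-- A smaller `p`-subgroup fixing a point is normalised by a larger one fixing that point. -/
theorem exists_larger {Q : Subgroup G} (hQ : IsPGroup p Q) {z : Ω}
    (hz : Q ≤ MulAction.stabilizer G z) (hlt : Nat.card Q < Nat.card X₀) :
    ∃ T : Subgroup G, IsPGroup p T ∧ Q < T ∧ T ≤ MulAction.stabilizer G z ∧
      T ≤ Subgroup.normalizer (Q : Set G) := by
  obtain ⟨g, hgz, hg⟩ := S.exists_conj_le hQ hz
  set Q' := MulAut.conj g⁻¹ • X₀ with hQ'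
  have hQQ' : Q ≤ Q' := by
    rw [hQ', map_inv, ← Subgroup.pointwise_smul_le_pointwise_smul_iff (a := MulAut.conj g),
      smul_inv_smul]
    exact hg
  have hQ'z : Q' ≤ MulAction.stabilizer G z := by
    have := (fix_conj S (Q := X₀) (g := g⁻¹) (z := a₀)).2 S.fix_left
    rwa [← hgz, inv_smul_smul] at this
  have hne : Q ≠ Q' := fun e => hlt.ne (by rw [e, hQ', Coprime.card_conj])
  obtain ⟨T, h1, h2, h3⟩ := exists_normalizing (S.pgroup.map _ : IsPGroup p Q') (hQQ'.lt_of_ne hne)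
  exact ⟨T, (S.pgroup.map _ : IsPGroup p Q').to_le h2, h1, h2.trans hQ'z, h3⟩

theorem one_modEq_false {n : ℕ} (h1 : n ≡ 1 [MOD p]) (h0 : n ≡ 0 [MOD p]) : False := by
  have h := (Nat.modEq_zero_iff_dvd.1 (h1.symm.trans h0) : p ∣ 1)
  exact (Fact.out : p.Prime).ne_one (Nat.dvd_one.1 h)

section Above

variable {X : Subgroup G} (hX : IsPGroup p X)
  (hbig : ∀ R : Subgroup G, IsPGroup p R → Nat.card X < Nat.card R → ∀ x y : Ω, x ≠ y →
    R ≤ MulAction.stabilizer G x → R ≤ MulAction.stabilizer G y →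
    pPart p (Nat.card (twoPt G x y)) = Nat.card X₀)
include hbig

/-- A moving `p`-subgroup larger than `X` fixes at most two points. -/
theorem no_three {R : Subgroup G} (hR : IsPGroup p R) (hXR : Nat.card X < Nat.card R) {z : Ω}
    (hz : R ≤ MulAction.stabilizer G z) (hmove : Moving p D pt R z) {x y : Ω}
    (hx : R ≤ MulAction.stabilizer G x) (hy : R ≤ MulAction.stabilizer G y) (hzx : z ≠ x)
    (hzy : z ≠ y) (hxy : x ≠ y) : False := by
  induction hn : Nat.card X₀ - Nat.card R using Nat.strong_induction_on generalizing R z x y with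
  | _ n ih =>
    have P := S.pointClass
    have hRle : Nat.card R ≤ Nat.card X₀ := S.max R hR x y hxy hx hy
    have hRlt : Nat.card R < Nat.card X₀ := lt_of_le_of_ne hRle fun e =>
      (S.full_two hR e hx hy hxy hz).elim hzx hzy
    set L := Subgroup.normalizer (R : Set G) with hL
    have hviol : ∀ T : Subgroup G, IsPGroup p T → R < T → T ≤ MulAction.stabilizer G z →
        ∀ q r : Ω, T ≤ MulAction.stabilizer G q → T ≤ MulAction.stabilizer G r → z ≠ q → z ≠ r →
          q ≠ r → False := by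
      intro T hT hRT hTz q r hq hr hzq hzr hqr
      have hlt := card_lt_of_lt hRT
      have hle := S.max T hT q r hqr hq hr
      exact ih (Nat.card X₀ - Nat.card T) (by omega) hT (hXR.trans hlt) hTz (hmove.mono hRT.le)
        hq hr hzq hzr hqr rfl
    have hpair : ∀ q r : Ω, q ≠ r → R ≤ MulAction.stabilizer G q → R ≤ MulAction.stabilizer G r →
        ∃ T : Subgroup G, IsPGroup p T ∧ R < T ∧ T ≤ L ∧ T ≤ MulAction.stabilizer G q ∧
          T ≤ MulAction.stabilizer G r := by
      intro q r hqr hq hr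
      obtain ⟨Q, hRQ, hQK, hQp, hQcard⟩ := exists_sylow_twoPt q r hR (le_inf hq hr)
      rw [hbig R hR hXR q r hqr hq hr] at hQcard
      have hne : R ≠ Q := fun e => hRlt.ne (by rw [e, hQcard])
      obtain ⟨T, h1, h2, h3⟩ := exists_normalizing hQp (hRQ.lt_of_ne hne)
      exact ⟨T, hQp.to_le h2, h1, h3, (h2.trans hQK).trans inf_le_left,
        (h2.trans hQK).trans inf_le_right⟩
    -- the stabiliser of `z` in `L` is transitive on the other fixed points
    have htrans : ∀ q r : Ω, z ≠ q → z ≠ r → R ≤ MulAction.stabilizer G q →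
        R ≤ MulAction.stabilizer G r → ∃ h ∈ L ⊓ MulAction.stabilizer G z, h • q = r := by
      intro q r hzq hzr hq hr
      by_contra! hcon
      set s : Set Ω := {w | ∃ h ∈ L ⊓ MulAction.stabilizer G z, h • q = w} with hs
      have hsR : ∀ w ∈ s, R ≤ MulAction.stabilizer G w ∧ z ≠ w := by
        rintro w ⟨h, hh, rfl⟩
        refine ⟨le_stab_smul hh.1 hq, fun e => hzq ?_⟩
        exact MulAction.injective h ((MulAction.mem_stabilizer_iff.1 hh.2).trans e)
      have hstable : ∀ T : Subgroup G, T ≤ L → T ≤ MulAction.stabilizer G z →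
          ∀ t ∈ T, ∀ w ∈ s, t • w ∈ s := by
        rintro T hTL hTz t ht w ⟨h, hh, rfl⟩
        exact ⟨t * h, mul_mem ⟨hTL ht, hTz ht⟩ hh, mul_smul _ _ _⟩
      obtain ⟨T, hTp, hRT, hTL, hTz, hTq⟩ := hpair z q hzq hz hq
      obtain ⟨T', hT'p, hRT', hT'L, hT'z, hT'r⟩ := hpair z r hzr hz hr
      have e1 := card_modEq_fixed hTp s (hstable T hTL hTz)
      have e2 := card_modEq_fixed hT'p s (hstable T' hT'L hT'z)
      have c1 : Nat.card {w : Ω // w ∈ s ∧ T ≤ MulAction.stabilizer G w} = 1 := by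
        rw [Nat.card_eq_one_iff_unique]
        refine ⟨⟨fun u v => Subtype.ext ?_⟩, ⟨⟨q, ⟨1, one_mem _, one_smul _ _⟩, hTq⟩⟩⟩
        have key : ∀ w : Ω, w ∈ s → T ≤ MulAction.stabilizer G w → w = q := fun w hw hTw => by
          by_contra hne
          exact hviol T hTp hRT hTz w q hTw hTq (hsR w hw).2 hzq hne
        rw [key u.1 u.2.1 u.2.2, key v.1 v.2.1 v.2.2]
      have c2 : Nat.card {w : Ω // w ∈ s ∧ T' ≤ MulAction.stabilizer G w} = 0 := by
        rw [Nat.card_eq_zero]
        refine Or.inl ⟨fun w => ?_⟩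
        have hne : w.1 ≠ r := fun e => by
          obtain ⟨h, hh, hhq⟩ := w.2.1
          exact hcon h hh (hhq.trans e)
        exact hviol T' hT'p hRT' hT'z w.1 r w.2.2 hT'r (hsR w.1 w.2.1).2 hzr hne
      rw [c1] at e1
      rw [c2] at e2
      exact one_modEq_false S e1 e2
    -- some element of `L` moves `z`
    obtain ⟨l, hl, hlz⟩ : ∃ l ∈ L, l • z ≠ z := by
      by_contra! hcon
      obtain ⟨T, hTp, hRT, hTL, hTx, hTy⟩ := hpair x y hxy hx hy
      exact hviol T hTp hRT (fun t ht => MulAction.mem_stabilizer_iff.2 (hcon t (hTL ht))) x y hTx hTy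
        hzx hzy hxy
    have hswapz : ∀ q : Ω, z ≠ q → R ≤ MulAction.stabilizer G q →
        ∃ g ∈ L, g • z = q ∧ g • q = z := by
      intro q hzq hq
      obtain ⟨h, hh, hhl⟩ := htrans (l • z) q hlz.symm hzq (le_stab_smul hl hz) hq
      set g₁ := h * l with hg₁
      have hg₁L : g₁ ∈ L := mul_mem hh.1 hl
      have hg₁z : g₁ • z = q := by rw [hg₁, mul_smul, hhl]
      have hne : z ≠ g₁⁻¹ • z := fun e => hzq (by
        rw [← hg₁z]; nth_rw 1 [← smul_inv_smul g₁ z]; rw [← e])
      obtain ⟨h', hh', hh'q⟩ := htrans q (g₁⁻¹ • z) hzq hne hq (le_stab_smul (inv_mem hg₁L) hz)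
      refine ⟨g₁ * h', mul_mem hg₁L hh'.1, ?_, ?_⟩
      · rw [mul_smul, MulAction.mem_stabilizer_iff.1 hh'.2, hg₁z]
      · rw [mul_smul, hh'q, smul_inv_smul]
    have hswap : ∀ q r : Ω, q ≠ r → R ≤ MulAction.stabilizer G q → R ≤ MulAction.stabilizer G r →
        ∃ g ∈ L, g • q = r ∧ g • r = q := by
      intro q r hqr hq hr
      by_cases h1 : z = q
      · subst h1
        exact hswapz r hqr hr
      by_cases h2 : z = r
      · subst h2
        obtain ⟨g, hg, g1, g2⟩ := hswapz q h1 hq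
        exact ⟨g, hg, g2, g1⟩
      obtain ⟨g₁, hg₁, hg₁z, -⟩ := hswapz q h1 hq
      have hne : z ≠ g₁⁻¹ • r := fun e => hqr (by rw [← hg₁z, e, smul_inv_smul])
      obtain ⟨g, hg, g1, g2⟩ := hswapz (g₁⁻¹ • r) hne (le_stab_smul (inv_mem hg₁) hr)
      refine ⟨g₁ * g * g₁⁻¹, mul_mem (mul_mem hg₁ hg) (inv_mem hg₁), ?_, ?_⟩
      · rw [mul_smul, mul_smul, ← hg₁z, inv_smul_smul, g1, smul_inv_smul]
      · rw [mul_smul, mul_smul, g2, hg₁z]
    have hsw : ∀ q r : Ω, q ≠ r → R ≤ MulAction.stabilizer G q → R ≤ MulAction.stabilizer G r →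
        ∃ w ∈ D, w ∈ L ∧ w • q = r := by
      intro q r hqr hq hr
      obtain ⟨g, hg, g1, g2⟩ := hswap q r hqr hq hr
      exact exists_swap_of_swap P hqr (S.odd q r hqr) hg g1 g2
    have hodd : Odd (Nat.card R) :=
      Odd.of_dvd_nat (S.odd x y hxy) (Subgroup.card_dvd_of_le (le_inf hx hy))
    obtain ⟨u, hu, huL, huz⟩ := hsw z x hzx hz hx
    by_cases hfree : R ≤ MulAction.stabilizer G (pt u)
    · have hptz : z ≠ pt u := fun e => hzx (by rw [← huz]; nth_rw 1 [e]; rw [e, P.smul_pt hu])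
      obtain ⟨g, hg, hgz, -⟩ := hswapz (pt u) hptz hfree
      have hne : u • z ≠ z := by rw [huz]; exact hzx.symm
      obtain ⟨Q, -, hQp, hQK, hQcard, hQpt⟩ := full_fixes P hu hne (S.odd _ _ hne.symm) hR huL
        (hgz ▸ hmove.conj P hg) hfree hz
      rw [hbig R hR hXR z (u • z) hne.symm hz (le_stab_smul huL hz)] at hQcard
      rcases S.full_two hQp hQcard (hQK.trans inf_le_left) (hQK.trans inf_le_right) hne.symm hQpt
        with e | e
      · exact hptz e.symm
      · have h := P.smul_smul_self hu z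
        rw [← e, P.smul_pt hu, e] at h
        exact hne h
    · obtain ⟨v, hv, hvL, hvz⟩ := hsw z y hzy hz hy
      obtain ⟨w, hw, hwL, hwx⟩ := hsw x y hxy hx hy
      exact not_three P hodd ⟨u, hu, huL, hfree⟩ hx hu huL huz hv hvL hvz hw hwL hwx

end Above

end Setup

end Cfsg.Agent.Bender
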