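/-
Goodness: the inverted elements of a centred subgroup have odd centralisers (no rank hypothesis;
owner: helper1).

Main results (namespace `Cfsg.Agent.Bender`):
* `exists_core_mul_centerThompson` : `K = O_p'(K) N_K(ZJ(P))` for `K` of odd order
* `invariant_le_core_of_odd` : `P`-invariant `p'`-subgroups of `K` lie in `O_p'(K)`
* `centred_orbit_fixed` : an element of `P` inverted by the swapper `u` of `x, y` fixes the
  `O_p'(G_xy)`-orbit of the point of `u`
* `exists_core_moved` : in the critical situation some core moves the midpoint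
* `odd_centralizer_of_centred` : every nontrivial element of a centred `P` inverted by a member of
  the class normalising `P` has odd centraliser
-/
import Cfsg.Agent.Lib.Bender.OrbitFix
import Cfsg.Agent.Lib.Bender.CoreRankTwo
import Cfsg.Agent.Lib.Bender.Sharp
import Cfsg.Agent.Lib.Bender.Transitive
import Cfsg.Agent.Lib.Bender.Signalizer
import Cfsg.Agent.Lib.OddOrder.UniqueBasic

set_option autoImplicit false
set_option linter.style.haveILetI false

namespace Cfsg.Agent.Bender

open Cfsg Involution Aschbacher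
open scoped Pointwise

universe u v

section Odd

variable {G : Type u} [Group G] [Finite G] {p : ℕ} [Fact p.Prime] {K P : Subgroup G}

/-- The subgroup `P` of full `p`-part as a Sylow subgroup of `K`. -/
theorem exists_sylow_subgroupOf (hPK : P ≤ K)
    (hP : Nat.card P = p ^ (Nat.card K).factorization p) :
    ∃ S : Sylow p K, (S : Subgroup K) = P.subgroupOf K := by
  obtain ⟨S, hS⟩ := Coprime.exists_sylow_map_eq hPK hP
  exact ⟨S, by rw [← hS, Subgroup.subgroupOf, Subgroup.comap_map_eq_self_of_injective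
    K.subtype_injective]⟩

/-- A `P`-invariant `p'`-subgroup of `K` lies in `O_p'(K)`, `K` of odd order. -/
theorem invariant_le_core_of_odd (hK : Odd (Nat.card K)) (hPK : P ≤ K)
    (hP : Nat.card P = p ^ (Nat.card K).factorization p) {X : Subgroup G} (hXK : X ≤ K)
    (hX : ¬ p ∣ Nat.card X) (hPX : P ≤ Subgroup.normalizer (X : Set G)) : X ≤ core p K := by
  haveI : Group.IsSolvable K := OddOrderTheorem.solvable hK
  obtain ⟨S, hS⟩ := exists_sylow_subgroupOf hPK hP
  intro x hx
  refine ⟨⟨x, hXK hx⟩, OddUniq.le_pPrimeCore_of_sylow_le_normalizer S (Y := X.subgroupOf K) ?_ ?_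
    (Subgroup.mem_subgroupOf.2 hx), rfl⟩
  · rw [hS]
    exact fun g hg => Coprime.mem_normalizer_of_forall fun y hy =>
      (Subgroup.mem_normalizer_iff.1 (hPX hg) _).1 hy
  · rw [Cores.card_subgroupOf hXK]
    exact ((Fact.out : p.Prime).coprime_iff_not_dvd.2 hX).symm

/-- `K = O_p'(K) N_K(ZJ(P))` for `K` of odd order. -/
theorem exists_core_mul_centerThompson (hp : p ≠ 2) (hK : Odd (Nat.card K)) (hPK : P ≤ K)
    (hP : Nat.card P = p ^ (Nat.card K).factorization p) {g : G} (hg : g ∈ K) :
    ∃ a ∈ core p K, ∃ n ∈ K,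
      n ∈ Subgroup.normalizer (centerThompsonOf p P : Set G) ∧ g = a * n := by
  haveI : Group.IsSolvable K := OddOrderTheorem.solvable hK
  set U := pPrimeCore p K
  haveI : U.Normal := Cores.pPrimeCore_normal p K
  have hU : (Nat.card U).Coprime p := Cores.coprime_card_pPrimeCore p
  set φ := QuotientGroup.mk' U
  have hφs : Function.Surjective φ := QuotientGroup.mk'_surjective U
  obtain ⟨S₀, hS₀⟩ := exists_sylow_subgroupOf hPK hP
  set S := S₀.mapSurjective hφs
  have hodd : Odd (Nat.card (K ⧸ U)) := hK.of_dvd_nat (Subgroup.card_quotient_dvd_card U)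
  haveI : Group.IsSolvable (K ⧸ U) := Group.isSolvable_of_surjective hφs
  have hO : pPrimeCore p (K ⧸ U) = ⊥ := Cores.pPrimeCore_quotient_self p
  set PK := P.subgroupOf K
  have hPKp : IsPGroup p PK := hS₀ ▸ S₀.isPGroup'
  have hinj : Set.InjOn φ PK := fun x hx y hy hxy => by
    have h1 : x⁻¹ * y ∈ U := QuotientGroup.eq.1 hxy
    obtain ⟨n, hn⟩ := IsPGroup.iff_card.1 hPKp
    exact inv_mul_eq_one.1 (Coprime.eq_one_of_mem_of_mem (hn ▸ hU.symm.pow_left n)
      (mul_mem (inv_mem hx) hy) h1)
  have hS : (S : Subgroup (K ⧸ U)) = PK.map φ := by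
    rw [Sylow.coe_mapSurjective, hS₀]
  have hZn : ((centerThompsonOf p PK).map φ).Normal := by
    rw [PLocal.map_centerThompsonOf φ hinj, ← hS]
    exact PLocal.zjCenter_normal hp (Solvable.centralizer_pCore_le_of_isSolvable hO)
      (fun V _ hV a ha => OddStable.mem_pCore_quotient_centralizer hodd hp hV
        (OddStable.quadOn_of_commutator ha (Subgroup.mem_zpowers a))) S
  obtain ⟨a, ha, n, hn, hgn⟩ := RankThree.exists_mul_normalizer U hU (R := centerThompsonOf p PK)
    (hPKp.to_le (inf_le_left.trans (PLocal.thompsonSubgroupOf_le PK))) hZn ⟨g, hg⟩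
  refine ⟨a, ⟨a, ha, rfl⟩, n, n.2, ?_, congrArg Subtype.val hgn⟩
  have h1 : (n : G) ∈
      Subgroup.normalizer ((centerThompsonOf p PK).map K.subtype : Set G) :=
    Subgroup.le_normalizer_map K.subtype ⟨n, hn, rfl⟩
  rwa [PLocal.map_centerThompsonOf _ K.subtype_injective.injOn,
    Subgroup.map_subgroupOf_eq_of_le hPK] at h1

end Odd

section Centred

variable {G : Type u} {Ω : Type v} [Group G] [MulAction G Ω] [Finite G] [Finite Ω]
variable {D : Set G} {pt : G → Ω} {p : ℕ} [Fact p.Prime] {P : Subgroup G}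
  (PC : PointClass G Ω D pt)
  (hodd : ∀ x y : Ω, x ≠ y → Odd (Nat.card (twoPt G x y)))

omit [Finite Ω] in
include PC in
/-- A swapper normalises the stabiliser of the pair. -/
theorem swap_mem_normalizer_twoPt {x y : Ω} {u : G} (hu : u ∈ D) (hux : u • x = y) :
    u ∈ Subgroup.normalizer (twoPt G x y : Set G) := by
  have huy : u • y = x := by rw [← hux, PC.smul_smul_self hu]
  refine Coprime.mem_normalizer_of_forall ?_
  intro g hg
  refine ⟨MulAction.mem_stabilizer_iff.2 ?_, MulAction.mem_stabilizer_iff.2 ?_⟩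
  · rw [mul_smul, mul_smul, inv_eq (PC.inv u hu), hux,
      MulAction.mem_stabilizer_iff.1 hg.2, huy]
  · rw [mul_smul, mul_smul, inv_eq (PC.inv u hu), huy,
      MulAction.mem_stabilizer_iff.1 hg.1, hux]

omit [Finite Ω] in
include PC hodd in
/-- An element of `P` inverted by the swapper `u` of `x, y` fixes the orbit of the point of `u`
under the core of the pair. -/
theorem centred_orbit_fixed (hPp : IsPGroup p P) {x y : Ω} (hxy : x ≠ y) {u g : G} (hu : u ∈ D)
    (hux : u • x = y) (hgK : g ∈ twoPt G x y) (hgP : g ∈ P) (hgc : g • pt u = pt u)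
    (hinv : u * g * u⁻¹ = g⁻¹) {a : G} (ha : a ∈ core p (twoPt G x y)) :
    g • a • pt u = a • pt u := by
  obtain ⟨k, hk⟩ := hPp ⟨g, hgP⟩
  have hk' : g ^ p ^ k = 1 := congrArg Subtype.val hk
  have hu2 : u * u = 1 := mul_self (PC.inv u hu)
  have hinv' : g * u = u * g⁻¹ := by
    calc g * u = (u * g * u⁻¹)⁻¹ * u := by rw [hinv, inv_inv]
      _ = u * g⁻¹ := by group
  have huu' : u * (u * g) = g := by rw [← mul_assoc, hu2, one_mul]
  have hu'2 : u * g * (u * g) = 1 := by
    calc u * g * (u * g) = u * (g * u) * g := by group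
      _ = (u * u) * (g⁻¹ * g) := by rw [hinv']; group
      _ = 1 := by rw [hu2, inv_mul_cancel, one_mul]
  have hug : orderOf (u * g) = 2 := orderOf_mul_inverted (PC.inv u hu) hinv fun e => hxy (by
    have h1 : (u * g) • x = y := by rw [mul_smul, MulAction.mem_stabilizer_iff.1 hgK.1, hux]
    rwa [e, one_smul] at h1)
  have hgA : g ∈ Subgroup.normalizer (core p (twoPt G x y) : Set G) :=
    le_normalizer_core p _ hgK
  have huA : u ∈ Subgroup.normalizer (core p (twoPt G x y) : Set G) :=
    normalizer_le_core p _ (swap_mem_normalizer_twoPt PC hu hux)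
  -- `u * g` is a conjugate of `u`
  obtain ⟨l, hl⟩ := Odd.of_dvd_nat (hodd x y hxy) (Subgroup.orderOf_dvd_natCard _ hgK)
  have hconj : g ^ l * u * (g ^ l)⁻¹ = u * g := by
    have hpow : g ^ l * u = u * (g⁻¹) ^ l := by
      clear hl
      induction l with
      | zero => simp
      | succ l ih =>
        rw [pow_succ' g, mul_assoc, ih, ← mul_assoc, hinv', mul_assoc, ← pow_succ']
    have hodd1 : (g⁻¹) ^ (2 * l + 1) = 1 := by rw [inv_pow, ← hl, pow_orderOf_eq_one, inv_one]
    rw [hpow, ← inv_pow, mul_assoc, ← pow_add, ← two_mul]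
    rw [pow_succ, mul_inv_eq_one] at hodd1
    rw [hodd1]
  have hu'D : u * g ∈ D := hconj ▸ PC.conj_mem _ u hu
  have hu'c : pt (u * g) = pt u := ((PC.fixed_iff _ hu'D _).1
    (by rw [mul_smul, hgc, PC.smul_pt hu])).symm
  have := orbit_fixed (p := p) (odd_card_core (hodd x y hxy)) not_dvd_card_core hu2 hu'2
    (PC.smul_pt hu) (by rw [mul_smul, hgc, PC.smul_pt hu]) huA (mul_mem huA hgA)
    (fun b _ hb => PC.commute_fix hu hb.symm) (fun b _ hb => by
      have h := PC.commute_fix hu'D hb.symm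
      rwa [hu'c] at h) (k := k) (by rw [huu', hk']) a ha
  rwa [huu'] at this

variable (crit : ∀ (N : Subgroup G) (x y : Ω), x ≠ y → N ≠ ⊥ → N ≤ twoPt G x y →
    twoPt G x y ≤ Subgroup.normalizer (N : Set G) →
    ∀ u ∈ D, pt u = x → u ∈ Subgroup.normalizer (N : Set G) →
    ∀ w ∈ D, w • x = y → w ∈ Subgroup.normalizer (N : Set G) → False)
  (hp : p ≠ 2) (hPp : IsPGroup p P) (hP1 : P ≠ ⊥)
  (htwo : ∃ x y : Ω, x ≠ y ∧ P ≤ MulAction.stabilizer G x ∧ P ≤ MulAction.stabilizer G y)
  (hmax : ∀ Q : Subgroup G, IsPGroup p Q → ∀ x y : Ω, x ≠ y → Q ≤ MulAction.stabilizer G x →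
    Q ≤ MulAction.stabilizer G y → Nat.card Q ≤ Nat.card P)
  (hcentred : ¬ Free D pt P)

include hPp hmax in
theorem centred_card_eq {x y : Ω} (hxy : x ≠ y) (hx : P ≤ MulAction.stabilizer G x)
    (hy : P ≤ MulAction.stabilizer G y) :
    Nat.card P = p ^ (Nat.card (twoPt G x y)).factorization p := by
  refine le_antisymm (Coprime.card_le_of_isPGroup hPp (le_inf hx hy)) ?_
  obtain ⟨Q, -, hQ, hQp, hQcard⟩ := exists_sylow_twoPt (G := G) (p := p) x y (X := ⊥)
    IsPGroup.of_bot bot_le
  exact hQcard.symm.trans_le (hmax Q hQp x y hxy (hQ.trans inf_le_left) (hQ.trans inf_le_right))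

include PC hodd crit hp hPp hP1 htwo hmax hcentred in
/-- In the critical situation some core moves the point of the swapper of its pair. -/
theorem exists_core_moved : ∃ x y : Ω, x ≠ y ∧ P ≤ MulAction.stabilizer G x ∧
    P ≤ MulAction.stabilizer G y ∧ ∃ u ∈ D, u ∈ Subgroup.normalizer (P : Set G) ∧ u • x = y ∧
      ∃ a ∈ core p (twoPt G x y), a • pt u ≠ pt u := by
  by_contra! hcon
  have hswap : ∀ x y : Ω, x ≠ y → P ≤ MulAction.stabilizer G x → P ≤ MulAction.stabilizer G y →
      ∃ u ∈ D, u ∈ Subgroup.normalizer (P : Set G) ∧ u • x = y ∧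
        P ≤ MulAction.stabilizer G (pt u) ∧ pt u ≠ x := by
    intro x y hxy hx hy
    obtain ⟨u, hu, huP, hux⟩ := exists_swap_normalizing PC hxy (hodd x y hxy) (le_inf hx hy)
      (centred_card_eq hPp hmax hxy hx hy)
    exact ⟨u, hu, huP, hux, not_not.1 fun h => hcentred ⟨u, hu, huP, h⟩, fun h => hxy (by
      rw [← hux, ← h, PC.smul_pt hu])⟩
  obtain ⟨x₀, y₀, hxy₀, hx₀, hy₀⟩ := htwo
  obtain ⟨⟨x, y⟩, ⟨hxy, hx, hy⟩, hmaxpair⟩ := Set.Finite.exists_maximalFor
    (fun q : Ω × Ω => Nat.card (core p (twoPt G q.1 q.2)))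
    {q | q.1 ≠ q.2 ∧ P ≤ MulAction.stabilizer G q.1 ∧ P ≤ MulAction.stabilizer G q.2}
    (Set.toFinite _) ⟨(x₀, y₀), hxy₀, hx₀, hy₀⟩
  obtain ⟨u, hu, huP, hux, hc, hcx⟩ := hswap x y hxy hx hy
  set c := pt u with hcdef
  obtain ⟨w, hw, hwP, hwc, hd, -⟩ := hswap c x hcx hc hx
  -- the core of `x, y` is the core of `c, x`
  have hle : core p (twoPt G x y) ≤ core p (twoPt G c x) := by
    refine invariant_le_core_of_odd (hodd c x hcx) (le_inf hc hx)
      (centred_card_eq hPp hmax hcx hc hx) (le_inf ?_ ((core_le p _).trans inf_le_left))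
      not_dvd_card_core ((le_inf hx hy).trans (le_normalizer_core p _))
    intro a ha
    exact MulAction.mem_stabilizer_iff.2 (hcon x y hxy hx hy u hu huP hux a ha)
  have heq : core p (twoPt G x y) = core p (twoPt G c x) :=
    Subgroup.eq_of_le_of_card_ge hle
      (hmaxpair (j := (c, x)) ⟨hcx, hc, hx⟩ (Subgroup.card_le_of_le hle))
  by_cases hbot : core p (twoPt G c x) = ⊥
  · -- all cores are trivial: the centre of the Thompson subgroup is normal
    set Z := centerThompsonOf p P
    have hZ : Z ≠ ⊥ := by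
      obtain ⟨z, hz, hz1, hzp⟩ := PLocal.exists_central_of_order_p hPp hP1
      exact fun e => hz1 (Subgroup.mem_bot.1 (e ▸ PLocal.central_le_centerThompsonOf hz hzp))
    have hZN : ∀ g ∈ Subgroup.normalizer (P : Set G), g ∈ Subgroup.normalizer (Z : Set G) := by
      intro g hg
      rw [PLocal.mem_normalizer_iff_map_eq,
        PLocal.map_centerThompsonOf _ (MulAut.conj g).injective.injOn,
        PLocal.mem_normalizer_iff_map_eq.1 hg]
    refine crit Z c x hcx hZ ((inf_le_left.trans (PLocal.thompsonSubgroupOf_le P)).trans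
      (le_inf hc hx)) ?_ u hu rfl (hZN u huP) w hw hwc (hZN w hwP)
    intro g hg
    obtain ⟨a, ha, n, -, hn, rfl⟩ := exists_core_mul_centerThompson hp (hodd c x hcx)
      (le_inf hc hx) (centred_card_eq hPp hmax hcx hc hx) hg
    rw [hbot, Subgroup.mem_bot] at ha
    rwa [ha, one_mul]
  · refine crit _ c x hcx hbot (core_le p _) (le_normalizer_core p _) u hu rfl ?_ w hw hwc
      (normalizer_le_core p _ (swap_mem_normalizer_twoPt PC hw hwc))
    rw [← heq]
    exact normalizer_le_core p _ (swap_mem_normalizer_twoPt PC hu hux)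

include PC hodd crit hp hPp hP1 htwo hmax hcentred in
/-- **Goodness.** A nontrivial element of a centred subgroup inverted by a member of the class that
normalises the subgroup has odd centraliser. -/
theorem odd_centralizer_of_centred (hD : ∀ g : G, orderOf g = 2 → g ∈ D) {v g : G} (hv : v ∈ D)
    (hvP : v ∈ Subgroup.normalizer (P : Set G)) (hg : g ∈ P) (hg1 : g ≠ 1)
    (hinv : v * g * v⁻¹ = g⁻¹) : Odd (Nat.card ↥(Subgroup.centralizer ({g} : Set G))) := by
  obtain ⟨x, y, hxy, hx, hy, u, hu, huP, hux, a, ha, hmove⟩ :=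
    exists_core_moved PC hodd crit hp hPp hP1 htwo hmax hcentred
  have hcP : ∀ w ∈ D, w ∈ Subgroup.normalizer (P : Set G) → P ≤ MulAction.stabilizer G (pt w) :=
    fun w hw hwP => not_not.1 fun h => hcentred ⟨w, hw, hwP, h⟩
  -- `v` is conjugate to `u` inside `N(P)`
  obtain ⟨k, hk, hkv⟩ : ∃ k ∈ Subgroup.normalizer (P : Set G), k * v * k⁻¹ = u := by
    by_cases hne : pt v = pt u
    · obtain ⟨w, hw, hwP, hwc⟩ : ∃ w ∈ D, w ∈ Subgroup.normalizer (P : Set G) ∧ w • pt u = x := by
        refine exists_swap_normalizing PC (fun e => hxy ?_) (hodd _ _ fun e => hxy ?_)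
          (le_inf (hcP u hu huP) hx) (centred_card_eq hPp hmax (fun e => hxy ?_) (hcP u hu huP) hx)
        all_goals rw [← hux, ← e, PC.smul_pt hu]
      have hpt : pt (w * v * w⁻¹) ≠ pt u := by
        rw [PC.pt_conj w hv, hne, hwc]
        exact fun e => hxy (by rw [← hux, e, PC.smul_pt hu])
      obtain ⟨k, hk, e⟩ := exists_conj_in PC (PC.conj_mem w v hv) hu (mem_normalizer_conj hwP hvP)
        huP hpt
      exact ⟨k * w, mul_mem hk hwP, by rw [← e]; group⟩
    · exact exists_conj_in PC hv hu hvP huP hne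
  set g' := k * g * k⁻¹ with hg'
  have hg'P : g' ∈ P := (Subgroup.mem_normalizer_iff.1 hk g).1 hg
  have hg'1 : g' ≠ 1 := fun e => hg1 (by
    rwa [hg', mul_inv_eq_one, mul_eq_left] at e)
  have hinv' : u * g' * u⁻¹ = g'⁻¹ := by
    calc u * g' * u⁻¹ = k * (v * g * v⁻¹) * k⁻¹ := by rw [← hkv, hg']; group
      _ = g'⁻¹ := by rw [hinv, hg']; group
  have hgc : g' • pt u = pt u := MulAction.mem_stabilizer_iff.1 (hcP u hu huP hg'P)
  have hgK : g' ∈ twoPt G x y := ⟨hx hg'P, hy hg'P⟩
  -- an element of the core centralising `g'` moves the point of `u`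
  set c := pt u
  set A := core p (twoPt G x y) with hA
  set R := A ⊓ MulAction.stabilizer G c with hR
  have hgA : g' ∈ Subgroup.normalizer (A : Set G) := le_normalizer_core p _ hgK
  have hfix : g' • a • c = a • c :=
    centred_orbit_fixed PC hodd hPp hxy hu hux hgK hg'P hgc hinv' ha
  obtain ⟨j, hj⟩ := hPp ⟨g', hg'P⟩
  have hiter : ∀ (i : ℕ) (z : G), (fun t => g' * t * g'⁻¹)^[i] z = g' ^ i * z * (g' ^ i)⁻¹ := by
    intro i
    induction i with
    | zero => simp
    | succ i ih =>
      intro z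
      rw [Function.iterate_succ_apply', ih, pow_succ' g']
      group
  obtain ⟨z, hzR, hzg⟩ := exists_fixed_coset (R := R) (p := p)
    (fun h => not_dvd_card_core (h.trans (Subgroup.card_dvd_of_le inf_le_left)))
    a (fun t => g' * t * g'⁻¹) (fun t ht => by
      obtain ⟨htA, htc⟩ := ht
      have h1 : t ∈ A := by simpa using A.mul_mem ha htA
      have h2 : g' * t * g'⁻¹ ∈ A := (Subgroup.mem_normalizer_iff.1 hgA t).1 h1
      refine ⟨A.mul_mem (A.inv_mem ha) h2, MulAction.mem_stabilizer_iff.2 ?_⟩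
      have h3 : t • c = a • c := by
        have := MulAction.mem_stabilizer_iff.1 htc
        rwa [mul_smul, inv_smul_eq_iff] at this
      rw [mul_smul, inv_smul_eq_iff, mul_smul, mul_smul, inv_smul_eq_iff.2 hgc.symm, h3, hfix])
    (k := j) (fun t => by
      rw [hiter, show g' ^ p ^ j = 1 from congrArg Subtype.val hj]
      simp)
  have hzc : z • c = a • c := by
    have := MulAction.mem_stabilizer_iff.1 hzR.2
    rwa [mul_smul, inv_smul_eq_iff] at this
  have hcomm : Commute z g' := by
    have h1 : g' * z = z * g' := by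
      nth_rw 2 [← hzg]
      group
    exact h1.symm
  have := odd_centralizer_of_moved PC hodd hD hu hg'1 hinv' hgc hcomm (by rw [hzc]; exact hmove)
  have hcard : Nat.card ↥(Subgroup.centralizer ({g} : Set G)) =
      Nat.card ↥(Subgroup.centralizer ({g'} : Set G)) := by
    refine Nat.card_congr (Equiv.subtypeEquiv (MulAut.conj k).toEquiv fun h => ?_)
    show h ∈ _ ↔ k * h * k⁻¹ ∈ _
    rw [mem_centralizer, mem_centralizer, hg']
    exact (SemiconjBy.conj_iff (a := h) (x := g) (y := g) (b := k)).symm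
  rwa [hcard]

end Centred

end Cfsg.Agent.Bender
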