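/-
Assembly of the induction step of Bender's theorem from the two cases (owner: helper1).

Main results (namespace `Cfsg.Agent.Bender`, `PC : PointClass G Ω D pt`):
* `exists_max_pSubgroup` : a `p`-subgroup of largest order among those fixing two points
* `setup_of_free` : if it is free it gives a `Setup`
* `exists_inverted` : if `p` divides the number `m` of members of `D` at a point, then any swapper
  normalising a maximal `P` inverts a nontrivial element of `P`
* `exists_at_normalizing` : every fixed point of a centred `P` is the point of a normalising member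
* `coreTwo_of_cases` : the step of `coreTwo_induction`, given the centred case and the case in
  which every prime divisor of `m` has a free maximal subgroup
-/
import Cfsg.Agent.Lib.Bender.Crit
import Cfsg.Agent.Lib.Bender.Good

set_option autoImplicit false
set_option linter.style.haveILetI false

namespace Cfsg.Agent.Bender

open Cfsg Involution Aschbacher
open scoped Pointwise

universe u v

variable {G : Type u} {Ω : Type v} [Group G] [MulAction G Ω] [Finite G] [Finite Ω]
variable {D : Set G} {pt : G → Ω}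

omit [Finite G] in
/-- A `p`-subgroup of largest order among those fixing two points, together with such a pair. -/
theorem exists_max_pSubgroup [Finite G] {p : ℕ} [Fact p.Prime] {x₀ y₀ : Ω} (h : x₀ ≠ y₀) :
    ∃ (X : Subgroup G) (a b : Ω), IsPGroup p X ∧ a ≠ b ∧ X ≤ twoPt G a b ∧
      Nat.card X = pPart p (Nat.card (twoPt G a b)) ∧
      ∀ Q : Subgroup G, IsPGroup p Q → ∀ x y : Ω, x ≠ y → Q ≤ MulAction.stabilizer G x →
        Q ≤ MulAction.stabilizer G y → Nat.card Q ≤ Nat.card X := by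
  obtain ⟨⟨a, b⟩, hab, hmax⟩ := Set.Finite.exists_maximalFor
    (fun q : Ω × Ω => pPart p (Nat.card (twoPt G q.1 q.2)))
    {q | q.1 ≠ q.2} (Set.toFinite _) ⟨(x₀, y₀), h⟩
  obtain ⟨X, hXp, hXab, hXcard⟩ := exists_pPart (p := p) (twoPt G a b)
  refine ⟨X, a, b, hXp, hab, hXab, hXcard, fun Q hQ q r hqr hq hr => ?_⟩
  refine (Coprime.card_le_of_isPGroup hQ (le_inf hq hr : Q ≤ twoPt G q r)).trans ?_
  rw [hXcard]
  rcases le_total (pPart p (Nat.card (twoPt G q r))) (pPart p (Nat.card (twoPt G a b))) with h | h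
  · exact h
  · exact hmax (j := (q, r)) hqr h

variable (PC : PointClass G Ω D pt)
  (hodd : ∀ x y : Ω, x ≠ y → Odd (Nat.card (twoPt G x y)))

omit [Finite G] [Finite Ω] in
include PC hodd in
/-- A free maximal subgroup gives a `Setup`. -/
theorem setup_of_free {p : ℕ} [Fact p.Prime] (hp : p ≠ 2) {X : Subgroup G} {a b : Ω}
    (hX : IsPGroup p X) (hab : a ≠ b) (hXab : X ≤ twoPt G a b) (hfree : Free D pt X)
    (hmax : ∀ Q : Subgroup G, IsPGroup p Q → ∀ x y : Ω, x ≠ y → Q ≤ MulAction.stabilizer G x →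
      Q ≤ MulAction.stabilizer G y → Nat.card Q ≤ Nat.card X) :
    Setup D pt p X a b :=
  ⟨PC, hodd, hX, hab, hXab.trans inf_le_left, hXab.trans inf_le_right, hfree, hmax, hp⟩

include PC in
/-- A swapper normalising a maximal `P` inverts a nontrivial element of it, if `p` divides the
number of members of `D` at a point. -/
theorem exists_inverted {p : ℕ} [Fact p.Prime] {P : Subgroup G} {x y : Ω} (hxy : x ≠ y)
    (hPK : P ≤ twoPt G x y) (hcard : Nat.card P = pPart p (Nat.card (twoPt G x y)))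
    (hm : p ∣ Nat.card {f : G // f ∈ D ∧ pt f = y}) (hP : IsPGroup p P) {u : G} (hu : u ∈ D)
    (hux : u • x = y) (huP : u ∈ Subgroup.normalizer (P : Set G)) :
    ∃ g ∈ P, g ≠ 1 ∧ u * g * u⁻¹ = g⁻¹ := by
  by_contra! hcon
  have hu2 : u * u = 1 := mul_self (PC.inv u hu)
  have hui : u⁻¹ = u := inv_eq (PC.inv u hu)
  have hcent : P ≤ twoPt G x y ⊓ Subgroup.centralizer ({u} : Set G) := by
    refine le_inf hPK fun h hh => ?_
    set g := u * h * u⁻¹ * h⁻¹ with hg
    have hgP : g ∈ P := P.mul_mem ((Subgroup.mem_normalizer_iff.1 huP h).1 hh) (P.inv_mem hh)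
    have hinv : u * g * u⁻¹ = g⁻¹ := by
      rw [hg, mul_inv_rev, mul_inv_rev, mul_inv_rev, inv_inv, inv_inv, hui]
      calc u * (u * h * u * h⁻¹) * u = (u * u) * h * u * h⁻¹ * u := by group
        _ = h * (u * (h⁻¹ * u)) := by rw [hu2]; group
    have h1 : g = 1 := not_not.1 fun e => hcon g hgP e hinv
    rw [mem_centralizer]
    rw [hg, mul_inv_eq_one] at h1
    show h * u = u * h
    calc h * u = (u * h * u⁻¹) * u := by rw [h1]
      _ = u * h := inv_mul_cancel_right _ _
  have h1 := card_twoPt_swap PC hxy hu hux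
  have h2 := Coprime.card_le_of_isPGroup hP hcent
  have hm0 : Nat.card {f : G // f ∈ D ∧ pt f = y} ≠ 0 := fun e => by
    obtain ⟨d, hd⟩ := PC.exists_at y
    exact (Nat.card_eq_zero.1 e).elim (fun h => h.false ⟨d, hd⟩) fun h => not_finite {f : G // f ∈ D ∧ pt f = y}
  rw [hcard, h1, pPart_mul hm0 Nat.card_pos.ne'] at h2
  have h4 : p ≤ pPart p (Nat.card {f : G // f ∈ D ∧ pt f = y}) :=
    Nat.le_self_pow ((Fact.out : p.Prime).factorization_pos_of_dvd hm0 hm).ne' p
  have h5 : 0 < pPart p (Nat.card ↥(twoPt G x y ⊓ Subgroup.centralizer ({u} : Set G))) :=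
    pow_pos (Fact.out : p.Prime).pos _
  have h6 := (Fact.out : p.Prime).two_le
  nlinarith [h2]

include PC hodd in
/-- Every fixed point of a centred subgroup is the point of a member of `D` normalising it. -/
theorem exists_at_normalizing {p : ℕ} [Fact p.Prime] {P : Subgroup G} (hPp : IsPGroup p P)
    (hmax : ∀ Q : Subgroup G, IsPGroup p Q → ∀ x y : Ω, x ≠ y → Q ≤ MulAction.stabilizer G x →
      Q ≤ MulAction.stabilizer G y → Nat.card Q ≤ Nat.card P)
    (hcentred : ¬ Free D pt P) {z y : Ω} (hzy : z ≠ y) (hz : P ≤ MulAction.stabilizer G z)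
    (hy : P ≤ MulAction.stabilizer G y) :
    ∃ v ∈ D, v ∈ Subgroup.normalizer (P : Set G) ∧ pt v = z := by
  obtain ⟨u, hu, huP, huz⟩ := exists_swap_normalizing PC hzy (hodd z y hzy) (le_inf hz hy)
    (centred_card_eq hPp hmax hzy hz hy)
  have hc : P ≤ MulAction.stabilizer G (pt u) := not_not.1 fun h => hcentred ⟨u, hu, huP, h⟩
  have hcz : pt u ≠ z := fun e => hzy (by rw [← huz, ← e, PC.smul_pt hu])
  obtain ⟨w, hw, hwP, hwc⟩ := exists_swap_normalizing PC hcz (hodd _ _ hcz) (le_inf hc hz)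
    (centred_card_eq hPp hmax hcz hc hz)
  exact ⟨w * u * w⁻¹, PC.conj_mem w u hu, mem_normalizer_conj hwP huP,
    by rw [PC.pt_conj w hu, hwc]⟩

/-- The step of `coreTwo_induction` from its two cases. -/
theorem coreTwo_of_cases {G : Type u} [Group G] [Finite G] {H : Subgroup G}
    (hH : IsStronglyEmbedded H) (hIH : CoreTwoBelow G) (hcore : H.normalCore = ⊥)
    (h2 : ∃ x y : G, x ≠ 1 ∧ y ≠ 1 ∧ x ≠ y ∧ x * x = 1 ∧ y * y = 1 ∧ x * y = y * x)
    (centredCase : ¬ CoreTwo H → ∀ (p : ℕ) [Fact p.Prime] (P : Subgroup G), p ≠ 2 →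
      p ∣ Nat.card {t : H // orderOf t = 2} → IsPGroup p P → P ≠ ⊥ →
      (∃ x y : G ⧸ H, x ≠ y ∧ P ≤ MulAction.stabilizer G x ∧ P ≤ MulAction.stabilizer G y) →
      (∀ Q : Subgroup G, IsPGroup p Q → ∀ x y : G ⧸ H, x ≠ y → Q ≤ MulAction.stabilizer G x →
        Q ≤ MulAction.stabilizer G y → Nat.card Q ≤ Nat.card P) →
      ¬ Free {d : G | orderOf d = 2} (fixPt H) P → False)
    (freeCase : ¬ CoreTwo H →
      (∀ g₁ g₂ : G, g₁ ∉ H → g₂ ∉ H → ∃ h ∈ H, g₂⁻¹ * (h * g₁) ∈ H) →
      (∀ (p : ℕ) [Fact p.Prime], p ∣ Nat.card {t : H // orderOf t = 2} →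
        ∃ (X : Subgroup G) (a b : G ⧸ H), Setup {d : G | orderOf d = 2} (fixPt H) p X a b) →
      False) :
    CoreTwo H := by
  by_contra hfail
  have P := pointClass_of_stronglyEmbedded hH
  have hodd : ∀ x y : G ⧸ H, x ≠ y → Odd (Nat.card (twoPt G x y)) := fun x y h => odd_two_point hH h
  set o : G ⧸ H := ((1 : G) : G ⧸ H) with ho
  obtain ⟨e₀, -, he₀H⟩ := exists_not_mem hH
  have hoz : o ≠ (e₀ : G ⧸ H) := fun e => he₀H (by
    have := QuotientGroup.eq.1 e
    rwa [inv_one, one_mul] at this)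
  have hm : ∀ z : G ⧸ H, Nat.card {f : G // f ∈ {d : G | orderOf d = 2} ∧ fixPt H f = z} =
      Nat.card {t : H // orderOf t = 2} := by
    intro z
    rw [card_point_eq P z o]
    refine Nat.card_congr
      { toFun := fun f => ⟨⟨f.1, smul_one_eq.1 ?_⟩, by rw [← Subgroup.orderOf_coe]; exact f.2.1⟩
        invFun := fun t => ⟨t.1, show orderOf (t.1 : G) = 2 by rw [Subgroup.orderOf_coe]; exact t.2,
          ((P.fixed_iff _ (show orderOf (t.1 : G) = 2 by rw [Subgroup.orderOf_coe]; exact t.2) o).1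
            (smul_one_eq.2 t.1.2)).symm⟩
        left_inv := fun f => rfl
        right_inv := fun t => rfl }
    have h := P.smul_pt f.2.1
    have e : fixPt H f.1 = o := f.2.2
    exact (congrArg (f.1 • ·) e.symm).trans (h.trans e)
  have hmodd : Odd (Nat.card {t : H // orderOf t = 2}) := odd_card_involutions (G := H) hH.2.1
  have hcases : ∀ (p : ℕ) [Fact p.Prime], p ∣ Nat.card {t : H // orderOf t = 2} →
      ∃ (X : Subgroup G) (a b : G ⧸ H), Setup {d : G | orderOf d = 2} (fixPt H) p X a b := by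
    intro p _ hpm
    have hp2 : p ≠ 2 := by
      rintro rfl
      exact Nat.two_dvd_ne_zero.2 (Nat.odd_iff.1 hmodd) hpm
    obtain ⟨X, a, b, hX, hab, hXab, hXcard, hmax⟩ := exists_max_pSubgroup (G := G) (p := p) hoz
    by_cases hfree : Free {d : G | orderOf d = 2} (fixPt H) X
    · exact ⟨X, a, b, setup_of_free P hodd hp2 hX hab hXab hfree hmax⟩
    · refine absurd (centredCase hfail p X hp2 hpm hX ?_
        ⟨a, b, hab, hXab.trans inf_le_left, hXab.trans inf_le_right⟩ hmax hfree) id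
      intro e
      obtain ⟨u, hu, huX, hua⟩ := exists_swap_normalizing P hab (hodd a b hab) hXab hXcard
      obtain ⟨g, hg, hg1, -⟩ := exists_inverted P hab hXab hXcard (by rwa [hm b]) hX hu hua huX
      exact hg1 (by rwa [e, Subgroup.mem_bot] at hg)
  -- the number of involutions of `H` has a prime divisor
  have hm1 : Nat.card {t : H // orderOf t = 2} ≠ 1 := by
    intro h1
    obtain ⟨x, y, hx1, hy1, hxy, hx, hy, hc⟩ := h2
    have hx2 := orderOf_of_sq hx hx1
    have hy2 := orderOf_of_sq hy hy1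
    have hpt : fixPt H x = fixPt H y := P.pt_eq_of_commute hx2 hy2 hc
    rw [← hm (fixPt H x)] at h1
    obtain ⟨hu, -⟩ := Nat.card_eq_one_iff_unique.1 h1
    exact hxy (congrArg Subtype.val (hu.elim
      (⟨x, hx2, rfl⟩ : {f : G // f ∈ {d : G | orderOf d = 2} ∧ fixPt H f = fixPt H x})
      ⟨y, hy2, hpt.symm⟩))
  obtain ⟨p, hp, hpm⟩ := Nat.exists_prime_and_dvd hm1
  haveI : Fact p.Prime := ⟨hp⟩
  obtain ⟨X, a, b, S⟩ := hcases p hpm
  refine freeCase hfail (fun g₁ g₂ hg₁ hg₂ => ?_) hcases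
  have hne : ∀ g : G, g ∉ H → o ≠ (g : G ⧸ H) := fun g hg e => hg (by
    have := QuotientGroup.eq.1 e
    rwa [inv_one, one_mul] at this)
  obtain ⟨h, hh, e⟩ := S.transitive (hne g₁ hg₁) (hne g₂ hg₂)
  refine ⟨h, smul_one_eq.1 (MulAction.mem_stabilizer_iff.1 hh), ?_⟩
  rw [MulAction.Quotient.smul_mk, smul_eq_mul] at e
  exact QuotientGroup.eq.1 e.symm

end Cfsg.Agent.Bender
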