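/-
The centred case of Bender's theorem, for every rank (owner: helper1).

`P` centred maximal at a prime dividing the number of involutions of a point stabiliser, `u` a
swapper at `c` normalising it, `I` generated by the elements of `P` inverted by `u`.  The centraliser
`X` of `I` has odd order and moves `c`; let `V` be a smallest member of its derived series moving
`c`, so `B = V • c` is a block on which `V` is abelian and `u` inverts it.  For `w` in `V` moving `c`
the pair `w • c, w⁻¹ • c` is exchanged by `u`, its invariant Sylow subgroup `Q` fixes `c`, and its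
`p'`-core `A` fixes `c`: `I` fixes the `A`-orbit of `c`, and an element of `A` centralising `I` acts
linearly on `B`.  With `|A|` maximal `A` is the core of the pair `c, w • c` as well, so `crit`
applies to `A`, or to `ZJ(Q)` if `A = 1`.

Main results (namespace `Cfsg.Agent.Bender`):
* `card_inverted_sylow` : a swapper inverts as many elements of an invariant Sylow subgroup of the
  pair as the `p`-part of the number of members of the class at a point
* `false_of_centred` : no centred subgroup exists in the critical situation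
* `centred_case` : the hypothesis `centredCase` of `coreTwo_of_cases`
-/
import Cfsg.Agent.Lib.Bender.Step

set_option autoImplicit false
set_option linter.style.haveILetI false

namespace Cfsg.Agent.Bender

open Cfsg Involution Aschbacher
open scoped Pointwise commutatorElement

universe u v

variable {G : Type u} {Ω : Type v} [Group G] [MulAction G Ω] [Finite G] [Finite Ω]
variable {D : Set G} {pt : G → Ω} {p : ℕ} [Fact p.Prime]

/-- A `p`-group normalising a `p'`-group `A` and fixing `a • c` centralises an element of `A` with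
the same effect on `c`. -/
theorem exists_centralizing_of_fixed {J A : Subgroup G} (hJ : IsPGroup p J)
    (hA : ¬ p ∣ Nat.card A) (hJA : J ≤ Subgroup.normalizer (A : Set G)) {c : Ω}
    (hJc : J ≤ MulAction.stabilizer G c) {a : G} (ha : a ∈ A)
    (hJac : J ≤ MulAction.stabilizer G (a • c)) :
    ∃ z ∈ A, z • c = a • c ∧ z ∈ Subgroup.centralizer (J : Set G) := by
  set R : Subgroup G := A ⊓ MulAction.stabilizer G c with hR
  let S := {z : G // a⁻¹ * z ∈ R}
  have hmem : ∀ z : G, a⁻¹ * z ∈ R ↔ z ∈ A ∧ z • c = a • c := by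
    intro z
    rw [hR, Subgroup.mem_inf, Subgroup.mul_mem_cancel_left _ (A.inv_mem ha),
      MulAction.mem_stabilizer_iff, mul_smul, inv_smul_eq_iff]
  letI : MulAction J S :=
    { smul := fun j z => ⟨j.1 * z.1 * (j.1)⁻¹, (hmem _).2
        ⟨(Subgroup.mem_normalizer_iff.1 (hJA j.2) _).1 ((hmem _).1 z.2).1, by
          rw [mul_smul, mul_smul, inv_smul_eq_iff.2 (MulAction.mem_stabilizer_iff.1 (hJc j.2)).symm,
            ((hmem _).1 z.2).2, MulAction.mem_stabilizer_iff.1 (hJac j.2)]⟩⟩
      one_smul := fun z => Subtype.ext (show (1 : G) * z.1 * (1 : G)⁻¹ = z.1 by group)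
      mul_smul := fun i j z => Subtype.ext
        (show i.1 * j.1 * z.1 * (i.1 * j.1)⁻¹ = i.1 * (j.1 * z.1 * (j.1)⁻¹) * (i.1)⁻¹ by group) }
  have h := hJ.card_modEq_card_fixedPoints S
  have hne : Nat.card (MulAction.fixedPoints J S) ≠ 0 := by
    intro h0
    rw [h0] at h
    refine hA (dvd_trans ?_ (Subgroup.card_dvd_of_le (inf_le_left : R ≤ A)))
    have e : Nat.card S = Nat.card R := Nat.card_congr
      { toFun := fun z => ⟨a⁻¹ * z.1, z.2⟩
        invFun := fun r => ⟨a * r.1, by simp [r.2]⟩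
        left_inv := fun z => Subtype.ext (by simp)
        right_inv := fun r => Subtype.ext (by simp) }
    exact e ▸ Nat.modEq_zero_iff_dvd.1 h
  obtain ⟨⟨⟨z, hz⟩, hfix⟩⟩ := (Nat.card_pos_iff.1 (Nat.pos_of_ne_zero hne)).1
  refine ⟨z, ((hmem z).1 hz).1, ((hmem z).1 hz).2, Subgroup.mem_centralizer_iff.2 fun j hj => ?_⟩
  have e : j * z * j⁻¹ = z := congrArg Subtype.val (hfix ⟨j, hj⟩)
  nth_rw 2 [← e]
  group

omit [MulAction G Ω] [Finite Ω] in
/-- The conjugate of an involution `u` by a half power of an element `g` it inverts is `u * g`. -/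
theorem conj_half_pow {u g : G} (hu : orderOf u = 2) (hinv : u * g * u⁻¹ = g⁻¹) {l : ℕ}
    (hl : orderOf g = 2 * l + 1) : g ^ l * u * (g ^ l)⁻¹ = u * g := by
  have hinv' : g * u = u * g⁻¹ := by
    calc g * u = (u * g * u⁻¹)⁻¹ * u := by rw [hinv, inv_inv]
      _ = u * g⁻¹ := by group
  have hpow : g ^ l * u = u * (g⁻¹) ^ l := by
    clear hl
    induction l with
    | zero => simp
    | succ l ih =>
      rw [pow_succ' g, mul_assoc, ih, ← mul_assoc, hinv', mul_assoc, ← pow_succ']
  have hodd1 : (g⁻¹) ^ (2 * l + 1) = 1 := by rw [inv_pow, ← hl, pow_orderOf_eq_one, inv_one]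
  rw [hpow, ← inv_pow, mul_assoc, ← pow_add, ← two_mul]
  rw [pow_succ, mul_inv_eq_one] at hodd1
  rw [hodd1]

variable (PC : PointClass G Ω D pt)
  (hodd : ∀ x y : Ω, x ≠ y → Odd (Nat.card (twoPt G x y)))

include PC hodd in
/-- A swapper inverts `p`-part-of-`m` many elements of an invariant Sylow subgroup of its pair. -/
theorem card_inverted_sylow {x y : Ω} (hxy : x ≠ y) {u : G} (hu : u ∈ D) (hux : u • x = y)
    {Q : Subgroup G} (hQK : Q ≤ twoPt G x y) (huQ : u ∈ Subgroup.normalizer (Q : Set G))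
    (hQ : Nat.card Q = pPart p (Nat.card (twoPt G x y))) :
    Nat.card {g : G // g ∈ Q ∧ u * g * u⁻¹ = g⁻¹} =
      pPart p (Nat.card {f : G // f ∈ D ∧ pt f = y}) := by
  have hu2 := PC.inv u hu
  set S : Set G := {s | ∃ g ∈ Q, u * g * u⁻¹ = g⁻¹ ∧ u * g = s} with hS
  have hcard : Nat.card S = Nat.card {g : G // g ∈ Q ∧ u * g * u⁻¹ = g⁻¹} :=
    (Nat.card_congr (Equiv.ofBijective
      (fun g : {g : G // g ∈ Q ∧ u * g * u⁻¹ = g⁻¹} => (⟨u * g.1, g.1, g.2.1, g.2.2, rfl⟩ : S))
      ⟨fun g h e => Subtype.ext (mul_left_cancel (congrArg Subtype.val e)),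
        fun s => by
          obtain ⟨g, hg, hgi, e⟩ := s.2
          exact ⟨⟨g, hg, hgi⟩, Subtype.ext e⟩⟩)).symm
  have hsplit := card_eq_mul_centralizer Q S (s₀ := u) ?_ ⟨1, Q.one_mem, by group, mul_one u⟩ ?_
  · rw [hcard] at hsplit
    have hcop : (Nat.card (Subgroup.zpowers u)).Coprime (Nat.card (twoPt G x y)) := by
      rw [Nat.card_zpowers, hu2]
      exact Nat.coprime_two_left.2 (hodd x y hxy)
    have hC := Coprime.card_inf_centralizer_eq (A := Subgroup.zpowers u) (q := p)
      (Subgroup.zpowers_le.2 (swap_mem_normalizer_twoPt PC hu hux)) hcop hQK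
      (Subgroup.zpowers_le.2 huQ) hQ (Subgroup.mem_zpowers u)
    have hm0 : Nat.card {f : G // f ∈ D ∧ pt f = y} ≠ 0 := by
      obtain ⟨d, hd⟩ := PC.exists_at y
      exact (Nat.card_pos_iff.2 ⟨⟨⟨d, hd⟩⟩, inferInstance⟩).ne'
    rw [hQ, card_twoPt_swap PC hxy hu hux, pPart_mul hm0 Nat.card_pos.ne', hC] at hsplit
    exact (Nat.eq_of_mul_eq_mul_right (pow_pos (Fact.out : p.Prime).pos _) hsplit).symm
  · rintro k hk _ ⟨g, hg, hginv, rfl⟩
    refine ⟨u⁻¹ * k * u * g * k⁻¹, mul_mem (mul_mem ?_ hg) (inv_mem hk), ?_, by group⟩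
    · have := (Subgroup.mem_normalizer_iff.1 (inv_mem huQ) k).1 hk
      rwa [inv_inv] at this
    · have hsq : u * g * (u * g) = 1 := by
        rw [inv_eq hu2] at hginv
        rw [← mul_assoc, hginv, inv_mul_cancel]
      refine eq_inv_of_mul_eq_one_left ?_
      calc u * (u⁻¹ * k * u * g * k⁻¹) * u⁻¹ * (u⁻¹ * k * u * g * k⁻¹)
          = k * u * g * k⁻¹ * (u * u)⁻¹ * k * u * g * k⁻¹ := by group
        _ = k * (u * g * (u * g)) * k⁻¹ := by rw [mul_self hu2]; group
        _ = 1 := by rw [hsq]; group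
  · rintro _ ⟨g, hg, hginv, rfl⟩
    obtain ⟨l, hl⟩ := Odd.of_dvd_nat (hodd x y hxy) (Subgroup.orderOf_dvd_natCard _ (hQK hg))
    exact ⟨g ^ l, Q.pow_mem hg l, conj_half_pow hu2 hginv hl⟩

variable (crit : ∀ (N : Subgroup G) (x y : Ω), x ≠ y → N ≠ ⊥ → N ≤ twoPt G x y →
    twoPt G x y ≤ Subgroup.normalizer (N : Set G) →
    ∀ u ∈ D, pt u = x → u ∈ Subgroup.normalizer (N : Set G) →
    ∀ w ∈ D, w • x = y → w ∈ Subgroup.normalizer (N : Set G) → False)
  {P : Subgroup G}
  (hp : p ≠ 2) (hPp : IsPGroup p P) (hP1 : P ≠ ⊥)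
  (htwo : ∃ x y : Ω, x ≠ y ∧ P ≤ MulAction.stabilizer G x ∧ P ≤ MulAction.stabilizer G y)
  (hmax : ∀ Q : Subgroup G, IsPGroup p Q → ∀ x y : Ω, x ≠ y → Q ≤ MulAction.stabilizer G x →
    Q ≤ MulAction.stabilizer G y → Nat.card Q ≤ Nat.card P)
  (hcentred : ¬ Free D pt P)

include PC hodd crit hp hPp hP1 htwo hmax hcentred in
/-- **The centred case.** -/
theorem false_of_centred (hD : ∀ g : G, orderOf g = 2 → g ∈ D) {z₀ : Ω}
    (hm : p ∣ Nat.card {f : G // f ∈ D ∧ pt f = z₀}) : False := by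
  obtain ⟨x, y, hxy, hx, hy, u, hu, huP, hux, a, ha, hmove⟩ :=
    exists_core_moved PC hodd crit hp hPp hP1 htwo hmax hcentred
  have hu2 := PC.inv u hu
  have hui : u⁻¹ = u := inv_eq hu2
  set c := pt u with hcdef
  have huc : u • c = c := PC.smul_pt hu
  have hPc : P ≤ MulAction.stabilizer G c := not_not.1 fun h => hcentred ⟨u, hu, huP, h⟩
  have hPcard := centred_card_eq hPp hmax hxy hx hy
  obtain ⟨g₀, hg₀, hg₀1, hg₀inv⟩ := exists_inverted PC hxy (le_inf hx hy) hPcard
    (by rwa [card_point_eq PC y z₀]) hPp hu hux huP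
  -- the subgroup of the inverted elements
  set J : Subgroup G := Subgroup.closure {g | g ∈ P ∧ u * g * u⁻¹ = g⁻¹} with hJdef
  have hJP : J ≤ P := (Subgroup.closure_le _).2 fun g hg => hg.1
  have hJgen : ∀ g ∈ P, u * g * u⁻¹ = g⁻¹ → g ∈ J := fun g hg h =>
    Subgroup.subset_closure ⟨hg, h⟩
  have hJp : IsPGroup p J := hPp.to_le hJP
  have huJ : u ∈ Subgroup.normalizer (J : Set G) := by
    refine Coprime.mem_normalizer_of_forall fun g hg => ?_
    induction hg using Subgroup.closure_induction with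
    | mem h hh =>
      rw [hh.2]
      exact J.inv_mem (hJgen h hh.1 hh.2)
    | one => simp
    | mul h k _ _ ih1 ih2 =>
      have := mul_mem ih1 ih2
      rwa [conj_mul] at this
    | inv h _ ih =>
      have := inv_mem ih
      rwa [conj_inv] at this
  -- its centraliser
  set X := Subgroup.centralizer (J : Set G) with hXdef
  have hXodd : Odd (Nat.card X) := by
    refine (odd_centralizer_of_centred PC hodd crit hp hPp hP1 htwo hmax hcentred hD hu huP hg₀ hg₀1
      hg₀inv).of_dvd_nat (Subgroup.card_dvd_of_le fun z hz => ?_)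
    exact mem_centralizer.2 (Subgroup.mem_centralizer_iff.1 hz g₀ (hJgen g₀ hg₀ hg₀inv)).symm
  haveI : Group.IsSolvable X := OddOrderTheorem.solvable hXodd
  have huX : u ∈ Subgroup.normalizer (X : Set G) := by
    refine Coprime.mem_normalizer_of_forall fun z hz => Subgroup.mem_centralizer_iff.2 fun j hj => ?_
    have h1 : u⁻¹ * j * u ∈ J := (Subgroup.mem_normalizer_iff''.1 huJ j).1 hj
    have h2 := Subgroup.mem_centralizer_iff.1 hz _ h1
    calc j * (u * z * u⁻¹) = u * (u⁻¹ * j * u * z) * u⁻¹ := by group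
      _ = u * z * u⁻¹ * j := by rw [h2]; group
  -- `I` fixes the orbit of `c` under every core it meets
  have hfixes : ∀ x' y' : Ω, x' ≠ y' → u • x' = y' → J ≤ twoPt G x' y' →
      ∀ b ∈ core p (twoPt G x' y'), J ≤ MulAction.stabilizer G (b • c) := by
    intro x' y' hne hswap hJK b hb
    refine (Subgroup.closure_le _).2 ?_
    rintro g ⟨hgP, hginv⟩
    exact MulAction.mem_stabilizer_iff.2 (centred_orbit_fixed PC hodd hPp hne hu hswap
      (hJK (hJgen g hgP hginv)) hgP (MulAction.mem_stabilizer_iff.1 (hPc hgP)) hginv hb)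
  have hXmove : ¬ X ≤ MulAction.stabilizer G c := by
    intro hle
    have hJK : J ≤ twoPt G x y := hJP.trans (le_inf hx hy)
    obtain ⟨z, -, hzc, hzX⟩ := exists_centralizing_of_fixed hJp not_dvd_card_core
      (hJK.trans (le_normalizer_core p _)) (hJP.trans hPc) ha (hfixes x y hxy hux hJK a ha)
    exact hmove (hzc ▸ MulAction.mem_stabilizer_iff.1 (hle hzX))
  -- a smallest member of the derived series moving `c`
  obtain ⟨V, ⟨hVX, hVn, hVmove⟩, hVmin⟩ := Set.Finite.exists_minimalFor
    (fun V : Subgroup G => Nat.card V)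
    {V | V ≤ X ∧ Subgroup.normalizer (X : Set G) ≤ Subgroup.normalizer (V : Set G) ∧
      ¬ V ≤ MulAction.stabilizer G c} (Set.toFinite _) ⟨X, le_rfl, le_rfl, hXmove⟩
  have hVodd : Odd (Nat.card V) := hXodd.of_dvd_nat (Subgroup.card_dvd_of_le hVX)
  have hV'c : (⁅V, V⁆ : Subgroup G) ≤ MulAction.stabilizer G c := by
    by_contra hno
    haveI : Group.IsSolvable V := OddOrderTheorem.solvable hVodd
    haveI : Nontrivial V := (Subgroup.nontrivial_iff_ne_bot V).2 fun e => hVmove (e ▸ bot_le)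
    have hC0 : (⁅V, V⁆ : Subgroup G) = (commutator ↥V).map V.subtype :=
      V.map_subtype_commutator.symm
    have hlt : (⁅V, V⁆ : Subgroup G) < V := by
      refine lt_of_le_of_ne (hC0 ▸ Subgroup.map_subtype_le _) fun e => ?_
      refine (Group.IsSolvable.commutator_lt_top_of_nontrivial V).ne ?_
      refine Subgroup.map_injective V.subtype_injective ?_
      rw [← hC0, e, ← MonoidHom.range_eq_map, Subgroup.range_subtype]
    have hn : Subgroup.normalizer (X : Set G) ≤
        Subgroup.normalizer ((⁅V, V⁆ : Subgroup G) : Set G) := by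
      intro n hnn
      refine Coprime.mem_normalizer_of_conj_eq ?_
      show (⁅V, V⁆ : Subgroup G).map (MulAut.conj n).toMonoidHom = ⁅V, V⁆
      rw [Subgroup.map_commutator]
      have := Coprime.conj_eq_of_mem_normalizer (hVn hnn)
      exact congrArg₂ (fun K L : Subgroup G => ⁅K, L⁆) this this
    exact absurd (hVmin ⟨hlt.le.trans hVX, hn, hno⟩ (Subgroup.card_le_of_le hlt.le))
      (not_le.2 (Set.Finite.card_lt_card (Set.toFinite _) (SetLike.coe_ssubset_coe.2 hlt)))
  -- the action of `V` on the orbit of `c` is abelian, and inverted by `u`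
  have hcomm : ∀ w₁ ∈ V, ∀ w₂ ∈ V, w₁ • w₂ • c = w₂ • w₁ • c := by
    intro w₁ h₁ w₂ h₂
    have h3 : ⁅w₁⁻¹, w₂⁻¹⁆ ∈ (⁅V, V⁆ : Subgroup G) :=
      Subgroup.commutator_mem_commutator (V.inv_mem h₁) (V.inv_mem h₂)
    have h4 := MulAction.mem_stabilizer_iff.1 (hV'c h3)
    calc w₁ • w₂ • c = (w₁ * w₂) • c := (mul_smul _ _ _).symm
      _ = (w₁ * w₂) • ⁅w₂⁻¹, w₁⁻¹⁆ • c := by
          rw [MulAction.mem_stabilizer_iff.1 (hV'c (Subgroup.commutator_mem_commutator
            (V.inv_mem h₂) (V.inv_mem h₁)))]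
      _ = w₂ • w₁ • c := by
          rw [← mul_smul, ← mul_smul, commutatorElement_def]
          congr 1
          group
  have huV : ∀ w ∈ V, u * w * u ∈ V := by
    intro w hw
    have := (Subgroup.mem_normalizer_iff.1 (hVn huX) w).1 hw
    rwa [hui] at this
  have huinv : ∀ w ∈ V, u • w • c = w⁻¹ • c := by
    intro w hw
    set t := w * (u * w * u) with ht
    have htV : t ∈ V := V.mul_mem hw (huV w hw)
    have htc : (u * t * u) • c = t • c := by
      rw [ht]
      calc (u * (w * (u * w * u)) * u) • c = (u * w * u) • w • c := by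
            rw [← mul_smul]
            congr 1
            calc u * (w * (u * w * u)) * u = u * w * u * w * (u * u) := by group
              _ = u * w * u * w := by rw [mul_self hu2, mul_one]
        _ = (w * (u * w * u)) • c := by rw [hcomm _ (huV w hw) _ hw, mul_smul w]
    set R : Subgroup G := V ⊓ MulAction.stabilizer G c with hR
    haveI : Fact (Nat.Prime 2) := ⟨Nat.prime_two⟩
    obtain ⟨z, hzR, hzu⟩ := exists_fixed_coset (R := R) (p := 2)
      (Nat.two_dvd_ne_zero.2 (Nat.odd_iff.1 (hVodd.of_dvd_nat (Subgroup.card_dvd_of_le inf_le_left))))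
      t (fun z => u * z * u) (fun z hz => by
        have hzV : z ∈ V := by simpa using V.mul_mem htV hz.1
        have hzc : z • c = t • c := by
          have := MulAction.mem_stabilizer_iff.1 hz.2
          rwa [mul_smul, inv_smul_eq_iff] at this
        refine ⟨V.mul_mem (V.inv_mem htV) (huV z hzV), MulAction.mem_stabilizer_iff.2 ?_⟩
        rw [mul_smul, mul_smul, huc] at htc
        rw [mul_smul, inv_smul_eq_iff, mul_smul, mul_smul, huc, hzc, htc]) (k := 1) (fun z => by
        show u * (u * z * u) * u = z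
        calc u * (u * z * u) * u = (u * u) * z * (u * u) := by group
          _ = z := by rw [mul_self hu2]; group)
    have hzc : z • c = c := by
      refine PC.commute_fix hu ?_
      show z * u = u * z
      calc z * u = (u * z * u) * u := by rw [hzu]
        _ = u * z * (u * u) := by group
        _ = u * z := by rw [mul_self hu2, mul_one]
    have htc' : t • c = c := by
      have := MulAction.mem_stabilizer_iff.1 hzR.2
      rw [mul_smul, inv_smul_eq_iff, hzc] at this
      exact this.symm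
    rw [ht, mul_smul, ← eq_inv_smul_iff, mul_smul, huc, mul_smul] at htc'
    exact htc'
  -- the pairs
  have hXV : ∀ z ∈ X, ∀ w ∈ V, z * w * z⁻¹ ∈ V := fun z hz w hw =>
    (Subgroup.mem_normalizer_iff.1 (hVn (Subgroup.le_normalizer hz)) w).1 hw
  have hsqrt : ∀ w ∈ V, (w * w) • c = c → w • c = c := by
    intro w hw hwc
    obtain ⟨l, hl⟩ := Odd.of_dvd_nat hVodd (Subgroup.orderOf_dvd_natCard _ hw)
    have e : (w * w) ^ (l + 1) = w := by
      rw [← pow_two, ← pow_mul, show 2 * (l + 1) = orderOf w + 1 by omega, pow_succ,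
        pow_orderOf_eq_one, one_mul]
    have := pow_mem (MulAction.mem_stabilizer_iff.2 hwc : w * w ∈ MulAction.stabilizer G c) (l + 1)
    rwa [e, MulAction.mem_stabilizer_iff] at this
  have hne : ∀ w ∈ V, w • c ≠ c → w • c ≠ w⁻¹ • c := fun w hw hwc e =>
    hwc (hsqrt w hw (by rw [mul_smul, e, smul_inv_smul]))
  have hJfix : ∀ w ∈ V, J ≤ MulAction.stabilizer G (w • c) := by
    intro w hw j hj
    rw [MulAction.mem_stabilizer_iff, ← mul_smul, Subgroup.mem_centralizer_iff.1 (hVX hw) j hj,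
      mul_smul, MulAction.mem_stabilizer_iff.1 (hPc (hJP hj))]
  have hJK : ∀ w ∈ V, J ≤ twoPt G (w • c) (w⁻¹ • c) := fun w hw =>
    le_inf (hJfix w hw) (hJfix _ (V.inv_mem hw))
  have hcorefix : ∀ w ∈ V, w • c ≠ c →
      core p (twoPt G (w • c) (w⁻¹ • c)) ≤ MulAction.stabilizer G c := by
    intro w hw hwc b hb
    obtain ⟨z, hzA, hzc, hzX⟩ := exists_centralizing_of_fixed hJp not_dvd_card_core
      ((hJK w hw).trans (le_normalizer_core p _)) (hJP.trans hPc) hb
      (hfixes _ _ (hne w hw hwc) (huinv w hw) (hJK w hw) b hb)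
    have hz1 := MulAction.mem_stabilizer_iff.1 (core_le p _ hzA).1
    have hz2 := MulAction.mem_stabilizer_iff.1 (core_le p _ hzA).2
    set w' := z * w * z⁻¹ with hw'
    have hw'V : w' ∈ V := hXV z hzX w hw
    have e1 : w' • z • c = w • c := by
      rw [hw', ← mul_smul, inv_mul_cancel_right, mul_smul, hz1]
    have e2 : w'⁻¹ • z • c = w⁻¹ • c := by
      rw [hw', ← mul_smul, show (z * w * z⁻¹)⁻¹ * z = z * w⁻¹ by group, mul_smul, hz2]
    set t := w'⁻¹ * w with ht
    have htV : t ∈ V := V.mul_mem (V.inv_mem hw'V) hw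
    have e3 : z • c = t • c := by rw [ht, mul_smul, ← e1, inv_smul_smul]
    have e4 : z • c = w' • w⁻¹ • c := by rw [← e2, smul_inv_smul]
    have htt : (t * t) • c = c := by
      rw [mul_smul, ← e3, e4, hcomm _ hw'V _ (V.inv_mem hw), ht, mul_smul, smul_inv_smul,
        inv_smul_smul]
    rw [MulAction.mem_stabilizer_iff, ← hzc, e3]
    exact hsqrt t htV htt
  -- the Sylow subgroups of the pairs fix `c`
  have hQ : ∀ w ∈ V, w • c ≠ c → ∃ Q : Subgroup G, J ≤ Q ∧ IsPGroup p Q ∧
      Q ≤ twoPt G c (w • c) ∧ Q ≤ twoPt G (w • c) (w⁻¹ • c) ∧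
      u ∈ Subgroup.normalizer (Q : Set G) ∧
      Nat.card Q = p ^ (Nat.card (twoPt G c (w • c))).factorization p := by
    intro w hw hwc
    obtain ⟨Q, hJQ, hQK, huQ, hQp, hQcard⟩ := exists_sylow_invariant (p := p) hu2
      (swap_mem_normalizer_twoPt PC hu (huinv w hw)) (hodd _ _ (hne w hw hwc)) (hJK w hw) hJp huJ
    have hsub : {g : G | g ∈ Q ∧ u * g * u⁻¹ = g⁻¹} = {g : G | g ∈ P ∧ u * g * u⁻¹ = g⁻¹} := by
      have hss : {g : G | g ∈ P ∧ u * g * u⁻¹ = g⁻¹} ⊆ {g : G | g ∈ Q ∧ u * g * u⁻¹ = g⁻¹} :=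
        fun g hg => ⟨hJQ (hJgen g hg.1 hg.2), hg.2⟩
      refine (Set.eq_of_subset_of_ncard_le hss ?_).symm
      rw [← Nat.card_coe_set_eq, ← Nat.card_coe_set_eq]
      refine le_of_eq ?_
      show Nat.card {g : G // g ∈ Q ∧ u * g * u⁻¹ = g⁻¹} =
        Nat.card {g : G // g ∈ P ∧ u * g * u⁻¹ = g⁻¹}
      rw [card_inverted_sylow PC hodd (hne w hw hwc) hu (huinv w hw) hQK huQ hQcard,
        card_inverted_sylow PC hodd hxy hu hux (le_inf hx hy) huP hPcard, card_point_eq PC _ y]
    have hQc : Q ≤ MulAction.stabilizer G c := by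
      intro q hq
      set i := u * q * u * q⁻¹ with hi
      have hiQ : i ∈ Q := by
        have := (Subgroup.mem_normalizer_iff.1 huQ q).1 hq
        rw [hui] at this
        exact Q.mul_mem this (Q.inv_mem hq)
      have hiinv : u * i * u⁻¹ = i⁻¹ := by
        rw [hi, mul_inv_rev, mul_inv_rev, mul_inv_rev, inv_inv, hui]
        calc u * (u * q * u * q⁻¹) * u = (u * u) * q * u * q⁻¹ * u := by group
          _ = q * (u * (q⁻¹ * u)) := by rw [mul_self hu2]; group
      have hiP : i ∈ {g : G | g ∈ P ∧ u * g * u⁻¹ = g⁻¹} := hsub ▸ ⟨hiQ, hiinv⟩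
      have hic : i • c = c := MulAction.mem_stabilizer_iff.1 (hPc hiP.1)
      have hd : u • q⁻¹ • c = q⁻¹ • c := by
        have e : u * i = q * u * q⁻¹ := by
          rw [hi, ← mul_assoc, ← mul_assoc, ← mul_assoc, mul_self hu2, one_mul]
        have h1 : (q * u * q⁻¹) • c = c := by rw [← e, mul_smul, hic, huc]
        rw [mul_smul, mul_smul, ← eq_inv_smul_iff] at h1
        exact h1
      have h2 := (PC.fixed_iff u hu _).1 hd
      rw [← hcdef, inv_smul_eq_iff] at h2
      exact MulAction.mem_stabilizer_iff.2 h2.symm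
    refine ⟨Q, hJQ, hQp, le_inf hQc (hQK.trans inf_le_left), hQK, huQ, ?_⟩
    rw [hQcard, hcdef, card_twoPt_fixed PC (hne w hw hwc) hu (huinv w hw)]
  -- a pair with core of largest order
  obtain ⟨w₀, hw₀, hw₀c⟩ : ∃ w ∈ V, w • c ≠ c := by
    obtain ⟨w, hw, hwc⟩ := SetLike.not_le_iff_exists.1 hVmove
    exact ⟨w, hw, fun e => hwc (MulAction.mem_stabilizer_iff.2 e)⟩
  obtain ⟨w, ⟨hw, hwc⟩, hwmax⟩ := Set.Finite.exists_maximalFor
    (fun w : G => Nat.card (core p (twoPt G (w • c) (w⁻¹ • c))))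
    {w | w ∈ V ∧ w • c ≠ c} (Set.toFinite _) ⟨w₀, hw₀, hw₀c⟩
  obtain ⟨Q, hJQ, hQp, hQK, hQK', huQ, hQcard⟩ := hQ w hw hwc
  have hcw : c ≠ w • c := fun e => hwc e.symm
  set A := core p (twoPt G (w • c) (w⁻¹ • c)) with hA
  have hle : A ≤ core p (twoPt G c (w • c)) :=
    invariant_le_core_of_odd (hodd _ _ hcw) (hQK) hQcard
      (le_inf (hcorefix w hw hwc) ((core_le p _).trans inf_le_left)) not_dvd_card_core
      (hQK'.trans (le_normalizer_core p _))
  -- the pair `c, w • c` is a translate of a pair of the family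
  obtain ⟨l, hl⟩ := Odd.of_dvd_nat hVodd (Subgroup.orderOf_dvd_natCard _ hw)
  set r := w ^ (l + 1) with hr
  have hr2 : r * r = w := by
    rw [hr, ← pow_add, show l + 1 + (l + 1) = orderOf w + 1 by omega, pow_succ, pow_orderOf_eq_one,
      one_mul]
  have hrV : r ∈ V := V.pow_mem hw _
  have hrc : r • c ≠ c := fun e => hwc (by rw [← hr2, mul_smul, e, e])
  have hmap : (twoPt G (r • c) (r⁻¹ • c)).map (MulAut.conj r).toMonoidHom = twoPt G c (w • c) := by
    ext g
    rw [Subgroup.mem_map_equiv, Subgroup.mem_inf, Subgroup.mem_inf, MulAut.conj_symm_apply,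
      MulAction.mem_stabilizer_iff, MulAction.mem_stabilizer_iff, MulAction.mem_stabilizer_iff,
      MulAction.mem_stabilizer_iff, and_comm]
    simp only [mul_smul, inv_smul_eq_iff, smul_inv_smul, ← hr2]
  have hcardeq : Nat.card (core p (twoPt G c (w • c))) =
      Nat.card (core p (twoPt G (r • c) (r⁻¹ • c))) := by
    rw [core, core, Cores.card_map_subtype, Cores.card_map_subtype, ← hmap]
    set K := twoPt G (r • c) (r⁻¹ • c)
    set e := K.equivMapOfInjective (MulAut.conj r).toMonoidHom (MulAut.conj r).injective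
    rw [← Cores.pPrimeCore_map_mulEquiv e p]
    exact Subgroup.card_map_of_injective e.injective
  have heq : A = core p (twoPt G c (w • c)) := Subgroup.eq_of_le_of_card_ge hle
    (hcardeq.le.trans (hwmax (j := r) ⟨hrV, hrc⟩ ((Subgroup.card_le_of_le hle).trans_eq hcardeq)))
  obtain ⟨w', hw', hw'Q, hw'c⟩ := exists_swap_normalizing PC hcw (hodd _ _ hcw) hQK hQcard
  by_cases hbot : core p (twoPt G c (w • c)) = ⊥
  · set Z := centerThompsonOf p Q
    have hQ1 : Q ≠ ⊥ := fun e => hg₀1 (by
      simpa [e] using hJQ (hJgen g₀ hg₀ hg₀inv))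
    have hZ : Z ≠ ⊥ := by
      obtain ⟨z, hz, hz1, hzp⟩ := PLocal.exists_central_of_order_p hQp hQ1
      exact fun e => hz1 (Subgroup.mem_bot.1 (e ▸ PLocal.central_le_centerThompsonOf hz hzp))
    have hZN : ∀ g ∈ Subgroup.normalizer (Q : Set G), g ∈ Subgroup.normalizer (Z : Set G) := by
      intro g hg
      rw [PLocal.mem_normalizer_iff_map_eq,
        PLocal.map_centerThompsonOf _ (MulAut.conj g).injective.injOn,
        PLocal.mem_normalizer_iff_map_eq.1 hg]
    refine crit Z c (w • c) hcw hZ ((inf_le_left.trans (PLocal.thompsonSubgroupOf_le Q)).trans hQK)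
      ?_ u hu rfl (hZN u huQ) w' hw' hw'c (hZN w' hw'Q)
    intro g hg
    obtain ⟨b, hb, n, -, hn, rfl⟩ :=
      exists_core_mul_centerThompson hp (hodd _ _ hcw) hQK hQcard hg
    rw [hbot, Subgroup.mem_bot] at hb
    rwa [hb, one_mul]
  · refine crit _ c (w • c) hcw hbot (core_le p _) (le_normalizer_core p _) u hu rfl ?_ w' hw' hw'c
      (normalizer_le_core p _ (swap_mem_normalizer_twoPt PC hw' hw'c))
    rw [← heq]
    exact normalizer_le_core p _ (swap_mem_normalizer_twoPt PC hu (huinv w hw))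

/-- The hypothesis `centredCase` of `coreTwo_of_cases`. -/
theorem centred_case {G : Type u} [Group G] [Finite G] {H : Subgroup G} (hH : IsStronglyEmbedded H)
    (hIH : CoreTwoBelow G) (hcore : H.normalCore = ⊥) (hfail : ¬ CoreTwo H) (p : ℕ) [Fact p.Prime]
    (P : Subgroup G) (hp : p ≠ 2) (hpm : p ∣ Nat.card {t : H // orderOf t = 2})
    (hPp : IsPGroup p P) (hP1 : P ≠ ⊥)
    (htwo : ∃ x y : G ⧸ H, x ≠ y ∧ P ≤ MulAction.stabilizer G x ∧ P ≤ MulAction.stabilizer G y)
    (hmax : ∀ Q : Subgroup G, IsPGroup p Q → ∀ x y : G ⧸ H, x ≠ y →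
      Q ≤ MulAction.stabilizer G x → Q ≤ MulAction.stabilizer G y → Nat.card Q ≤ Nat.card P)
    (hcentred : ¬ Free {d : G | orderOf d = 2} (fixPt H) P) : False := by
  have PC := pointClass_of_stronglyEmbedded hH
  refine false_of_centred PC (fun x y h => odd_two_point hH h) (crit_of_below hH hIH hcore hfail)
    hp hPp hP1 htwo hmax hcentred (fun _ h => h) (z₀ := ((1 : G) : G ⧸ H)) ?_
  convert hpm using 1
  exact Nat.card_congr
    { toFun := fun f => ⟨⟨f.1, smul_one_eq.1
          ((congrArg (f.1 • ·) f.2.2.symm).trans ((PC.smul_pt f.2.1).trans f.2.2))⟩,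
        by rw [← Subgroup.orderOf_coe]; exact f.2.1⟩
      invFun := fun t => ⟨t.1, show orderOf (t.1 : G) = 2 by rw [Subgroup.orderOf_coe]; exact t.2,
        ((PC.fixed_iff _ (show orderOf (t.1 : G) = 2 by rw [Subgroup.orderOf_coe]; exact t.2) _).1
          (smul_one_eq.2 t.1.2)).symm⟩
      left_inv := fun f => rfl
      right_inv := fun t => rfl }

end Cfsg.Agent.Bender
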