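/-
The module lemma for the signalizer step of Bender's theorem.

`le_centralizer_of_fixed_le`: let `p` be odd, let a `p`-group `A` normalise a `p'`-group `Y`, and let
both normalise a `p`-group `R`. If `Y` centralises the fixed points of `A` on `R`, it centralises `R`.
(`A` need not be abelian.)

Proof: in a minimal counterexample `R = [R, Y]` has class two, and on the Baer group of `R` the
group `A` fixes a point outside the fixed points of `Y` (`BaerTrick.exists_fixed_outside`).
-/
import Cfsg.Agent.Lib.BaerTrick.Basic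
import Cfsg.Agent.Lib.Coprime.PQ

set_option autoImplicit false

namespace Cfsg.Agent.Bender

open Coprime
open scoped commutatorElement

variable {G : Type*} [Group G] [Finite G] {p : ℕ} [Fact p.Prime]

/-- A `p`-group `A` normalising a `p'`-group `Y` that centralises `C_R(A)`, `R` a `p`-group normalised
by both, `p` odd: then `Y` centralises `R`. -/
theorem le_centralizer_of_fixed_le (hp : p ≠ 2) {A Y R : Subgroup G} (hA : IsPGroup p A)
    (hR : IsPGroup p R) (hY : (Nat.card Y).Coprime p) (hAY : A ≤ Subgroup.normalizer (Y : Set G))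
    (hAR : A ≤ Subgroup.normalizer (R : Set G)) (hYR : Y ≤ Subgroup.normalizer (R : Set G))
    (hC : R ⊓ Subgroup.centralizer (A : Set G) ≤ Subgroup.centralizer (Y : Set G)) :
    Y ≤ Subgroup.centralizer (R : Set G) := by
  induction hn : Nat.card R using Nat.strong_induction_on generalizing R with
  | _ n ih =>
  subst hn
  have hsub : ∀ M : Subgroup G, M < R → A ≤ Subgroup.normalizer (M : Set G) →
      Y ≤ Subgroup.normalizer (M : Set G) → Y ≤ Subgroup.centralizer (M : Set G) :=
    fun M hM hAM hYM => ih _ ((Subgroup.card_le_of_le hM.le).lt_of_ne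
      fun he => hM.ne (Subgroup.eq_of_le_of_card_ge hM.le he.ge))
      (hR.to_le hM.le) hAM hYM ((inf_le_inf_right _ hM.le).trans hC) rfl
  have hcop := coprime_of_isPGroup hY hR
  rcases (commutator_le_left' hYR).lt_or_eq with hlt | heq
  · have h := commutator_commutator_eq hYR hcop (Or.inr (isSolvable_of_isPGroup hR))
    rw [Subgroup.commutator_eq_bot_iff_le_centralizer.2 (Subgroup.le_centralizer_iff.1
      (hsub _ hlt (le_normalizer_commutator hAR hAY)
        (le_normalizer_commutator hYR Subgroup.le_normalizer)))] at h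
    exact Subgroup.le_centralizer_iff.1 (Subgroup.commutator_eq_bot_iff_le_centralizer.1 h.symm)
  by_cases hR1 : R = ⊥
  · rw [← Subgroup.le_centralizer_iff, hR1]; exact bot_le
  have hM : ⁅R, R⁆ < R := by
    refine lt_of_le_of_ne (commutator_le_left' Subgroup.le_normalizer) fun he => ?_
    haveI : Nontrivial R := (Subgroup.nontrivial_iff_ne_bot R).2 hR1
    haveI : Group.IsSolvable R := isSolvable_of_isPGroup hR
    refine (IsSolvable.commutator_lt_top_of_nontrivial R).ne
      (Subgroup.map_injective R.subtype_injective ?_)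
    rw [commutator_def, Subgroup.map_commutator, ← MonoidHom.range_eq_map, Subgroup.range_subtype, he]
  have hMY : Y ≤ Subgroup.centralizer ((⁅R, R⁆ : Subgroup G) : Set G) :=
    hsub _ hM (le_normalizer_commutator hAR hAR) (le_normalizer_commutator hYR hYR)
  have hcl : ⁅R, ⁅R, R⁆⁆ = ⊥ := by
    have h1 : ⁅⁅R, Y⁆, ⁅R, R⁆⁆ = ⊥ := by
      refine Subgroup.commutator_commutator_eq_bot_of_rotate ?_ ?_
      · rw [Subgroup.commutator_eq_bot_iff_le_centralizer.2 hMY, Subgroup.commutator_bot_left]
      · rw [Subgroup.commutator_eq_bot_iff_le_centralizer]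
        exact (Subgroup.commutator_mono hM.le le_rfl).trans (Subgroup.le_centralizer_iff.1 hMY)
    rwa [heq] at h1
  have hc : ∀ x y : R, ⁅x, y⁆ ∈ Subgroup.center R := fun x y => Subgroup.mem_center_iff.2 fun g => by
    refine Subtype.ext ?_
    have := Subgroup.le_centralizer_iff.1 (Subgroup.commutator_eq_bot_iff_le_centralizer.1 hcl)
      (Subgroup.commutator_mem_commutator x.2 y.2) g g.2
    simpa [commutatorElement_def] using this
  let α : A →* MulAut R := R.normalizerMonoidHom.comp (Subgroup.inclusion hAR)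
  let β : Y →* MulAut R := R.normalizerMonoidHom.comp (Subgroup.inclusion hYR)
  let θ : A → Y ≃ Y := fun g => (Y.normalizerMonoidHom ⟨g, hAY g.2⟩).toEquiv
  by_contra hne
  obtain ⟨y, hy, hyn⟩ := SetLike.not_le_iff_exists.1 hne
  obtain ⟨r, hr, hry⟩ : ∃ r ∈ R, r * y ≠ y * r := by
    by_contra h
    push Not at h
    exact hyn (Subgroup.mem_centralizer_iff.2 fun r hr => h r hr)
  obtain ⟨x, hxA, a, hxa⟩ := BaerTrick.exists_fixed_outside hR hA hY hc hp α β θ
    (fun g a x => Subtype.ext (by
      change (g : G) * ((a : G) * x * (a : G)⁻¹) * (g : G)⁻¹ =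
        (g : G) * a * (g : G)⁻¹ * ((g : G) * x * (g : G)⁻¹) * ((g : G) * a * (g : G)⁻¹)⁻¹
      group))
    ⟨⟨y, hy⟩, ⟨r, hr⟩, fun h => hry (by
      have h1 : y * r * y⁻¹ = r := congrArg Subtype.val h
      rw [mul_inv_eq_iff_eq_mul] at h1
      exact h1.symm)⟩
  have hxC : (x : G) ∈ Subgroup.centralizer (Y : Set G) := by
    refine hC ⟨x.2, Subgroup.mem_centralizer_iff.2 fun g hg => ?_⟩
    have h1 : g * x * g⁻¹ = x := congrArg Subtype.val (hxA ⟨g, hg⟩)
    rwa [mul_inv_eq_iff_eq_mul] at h1
  apply hxa
  refine Subtype.ext ?_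
  change (a : G) * x * (a : G)⁻¹ = x
  rw [Subgroup.mem_centralizer_iff.1 hxC a a.2, mul_inv_cancel_right]

end Cfsg.Agent.Bender
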