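/-
Every two-point stabiliser has full `p`-part (towards Bender's theorem; owner: helper84).

Main results (namespace `Cfsg.Agent.Bender`):
* `Setup.full` : every two-point stabiliser contains a conjugate of `X₀`
* `Setup.transitive` : a point stabiliser is transitive on the other points
-/
import Cfsg.Agent.Lib.Bender.Transitive

set_option autoImplicit false
set_option linter.style.haveILetI false
set_option linter.unusedSectionVars false

namespace Cfsg.Agent.Bender

open Cfsg Involution Aschbacher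
open scoped Pointwise

universe u v

variable {G : Type u} {Ω : Type v} [Group G] [MulAction G Ω] [Finite G] [Finite Ω]
variable {D : Set G} {pt : G → Ω} {p : ℕ} [Fact p.Prime]

theorem pPart_mul {a b : ℕ} (ha : a ≠ 0) (hb : b ≠ 0) :
    pPart p (a * b) = pPart p a * pPart p b := by
  rw [pPart, Nat.factorization_mul ha hb, Finsupp.add_apply, pow_add]

/-- The `p`-part of the order of a subgroup is attained by a `p`-subgroup. -/
theorem exists_pPart (K : Subgroup G) :
    ∃ Q : Subgroup G, IsPGroup p Q ∧ Q ≤ K ∧ Nat.card Q = pPart p (Nat.card K) := by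
  obtain ⟨S⟩ := (inferInstance : Nonempty (Sylow p K))
  exact ⟨_, S.2.map _, Subgroup.map_subtype_le _,
    (Subgroup.card_map_of_injective K.subtype_injective).trans S.card_eq_multiplicity⟩

theorem pPart_le {K K' : Subgroup G} (h : K ≤ K') :
    pPart p (Nat.card K) ≤ pPart p (Nat.card K') := by
  obtain ⟨Q, hQ, hQK, hQcard⟩ := exists_pPart (p := p) K
  exact hQcard.symm.trans_le (Coprime.card_le_of_isPGroup hQ (hQK.trans h))

namespace Setup

variable {X₀ : Subgroup G} {a₀ b₀ : Ω} (S : Setup D pt p X₀ a₀ b₀)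
include S

section Fail

variable {a b : Ω} (hab : a ≠ b) {X : Subgroup G} (hX : IsPGroup p X) (hXab : X ≤ twoPt G a b)
  (hXcard : Nat.card X = pPart p (Nat.card (twoPt G a b))) (hlt : Nat.card X < Nat.card X₀)
  (hcl : ∀ x y : Ω, x ≠ y → pPart p (Nat.card (twoPt G x y)) = Nat.card X₀ ∨
    pPart p (Nat.card (twoPt G x y)) ≤ Nat.card X)
  {u : G} (hu : u ∈ D) (huX : u ∈ Subgroup.normalizer (X : Set G)) (hua : u • a = b)

theorem hbig_of (hcl : ∀ x y : Ω, x ≠ y → pPart p (Nat.card (twoPt G x y)) = Nat.card X₀ ∨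
    pPart p (Nat.card (twoPt G x y)) ≤ Nat.card X) :
    ∀ R : Subgroup G, IsPGroup p R → Nat.card X < Nat.card R → ∀ x y : Ω, x ≠ y →
      R ≤ MulAction.stabilizer G x → R ≤ MulAction.stabilizer G y →
      pPart p (Nat.card (twoPt G x y)) = Nat.card X₀ := fun R hR hXR x y hxy hx hy =>
  (hcl x y hxy).resolve_right fun h => by
    exact absurd ((Coprime.card_le_of_isPGroup hR (le_inf hx hy : R ≤ twoPt G x y)).trans h)
      (not_le.2 hXR)

include hab hX hXab hXcard hlt hcl hu huX hua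

/-- The failing subgroup moves the point of its swapper. -/
theorem fail_moved : ¬ X ≤ MulAction.stabilizer G (pt u) := by
  intro hc
  have P := S.pointClass
  set N := Subgroup.normalizer (X : Set G) with hN
  set c := pt u with hcdef
  have hca : c ≠ a := fun e => hab (by rw [← hua, ← e, hcdef, P.smul_pt hu])
  have hXca : X ≤ twoPt G c a := le_inf hc (hXab.trans inf_le_left)
  have hcardca : Nat.card X = pPart p (Nat.card (twoPt G c a)) := by
    rw [hXcard, pPart, ← card_twoPt_fixed P hab hu hua]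
  -- a swapper of `c, a` in the normaliser, and a member of `D` there at `a`
  obtain ⟨w, hw, hwX, hwc⟩ := exists_swap_normalizing P hca (S.odd c a hca) hXca hcardca
  set v := w * u * w⁻¹ with hv
  have hvD : v ∈ D := P.conj_mem w u hu
  have hvX : v ∈ N := mem_normalizer_conj hwX huX
  have hvpt : pt v = a := by rw [hv, P.pt_conj w hu, ← hcdef, hwc]
  set s : Set G := {f | f ∈ D ∧ f ∈ N ∧ pt f = c} with hs
  have hsu : u ∈ s := ⟨hu, huX, rfl⟩
  have htrans : ∀ f ∈ s, ∃ k ∈ N ⊓ twoPt G c a, k * u * k⁻¹ = f := by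
    rintro f ⟨hf, hfX, hfc⟩
    obtain ⟨w₀, hw₀, hw₀X, e₀, e₀'⟩ := exists_mid_in P hu hvD huX hvX (by rw [hvpt]; exact hca)
    obtain ⟨w₁, hw₁, hw₁X, e₁, e₁'⟩ := exists_mid_in P hf hvD hfX hvX (by rw [hvpt, hfc]; exact hca)
    rw [hvpt] at e₀' e₁'
    rw [hfc] at e₁'
    rw [← hcdef] at e₀'
    have a₀' : w₀ • a = c := by rw [← e₀', P.smul_smul_self hw₀]
    have a₁' : w₁ • a = c := by rw [← e₁', P.smul_smul_self hw₁]
    refine ⟨w₁⁻¹ * w₀, ⟨N.mul_mem (N.inv_mem hw₁X) hw₀X, ?_, ?_⟩, ?_⟩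
    · show (w₁⁻¹ * w₀) • c = c
      rw [mul_smul, e₀', inv_smul_eq_iff, e₁']
    · show (w₁⁻¹ * w₀) • a = a
      rw [mul_smul, a₀', inv_smul_eq_iff, a₁']
    · calc w₁⁻¹ * w₀ * u * (w₁⁻¹ * w₀)⁻¹ = w₁⁻¹ * (w₀ * u * w₀⁻¹) * w₁ := by group
        _ = f := by rw [e₀, ← e₁]; group
  have hclosed : ∀ k ∈ N ⊓ MulAction.stabilizer G c, ∀ f ∈ s, k * f * k⁻¹ ∈ s := by
    rintro k hk f ⟨hf, hfX, hfc⟩
    exact ⟨P.conj_mem k f hf, mem_normalizer_conj hk.1 hfX,
      by rw [P.pt_conj k hf, hfc]; exact MulAction.mem_stabilizer_iff.1 hk.2⟩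
  set K₀ := N ⊓ twoPt G c a with hK₀
  set Kc := N ⊓ MulAction.stabilizer G c with hKc
  have hK₀c : K₀ ≤ Kc := inf_le_inf_left _ inf_le_left
  set C := Subgroup.centralizer ({u} : Set G) with hC
  have n₀ := card_eq_mul_centralizer K₀ s (fun k hk => hclosed k (hK₀c hk)) hsu htrans
  have nc := card_eq_mul_centralizer Kc s hclosed hsu fun f hf => by
    obtain ⟨k, hk, e⟩ := htrans f hf
    exact ⟨k, hK₀c hk, e⟩
  obtain ⟨T, hTp, hXT, hTc, hTn⟩ := S.exists_larger hX hc hlt
  have h0 : pPart p (Nat.card K₀) = Nat.card X := le_antisymm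
    ((pPart_le inf_le_right).trans_eq hcardca.symm)
    (Coprime.card_le_of_isPGroup hX (le_inf Subgroup.le_normalizer hXca))
  have h1 : Nat.card X < pPart p (Nat.card Kc) :=
    (card_lt_of_lt hXT).trans_le (Coprime.card_le_of_isPGroup hTp (le_inf hTn hTc))
  have hs0 : Nat.card s ≠ 0 := (Nat.card_pos_iff.2 ⟨⟨⟨u, hsu⟩⟩, inferInstance⟩).ne'
  rw [← h0, n₀, nc, pPart_mul hs0 Nat.card_pos.ne', pPart_mul hs0 Nat.card_pos.ne'] at h1
  have h2 : pPart p (Nat.card ↥(K₀ ⊓ C)) < pPart p (Nat.card ↥(Kc ⊓ C)) :=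
    Nat.lt_of_mul_lt_mul_left h1
  obtain ⟨Y, hYp, hY, hYcard⟩ := exists_pPart (p := p) (Kc ⊓ C)
  have hYN : Y ≤ N := hY.trans (inf_le_left.trans inf_le_left)
  set R := Y ⊔ X with hR
  have hRp : IsPGroup p R := hYp.to_sup_of_normal_right' hX hYN
  have hXR : X < R := by
    refine lt_of_le_of_ne le_sup_right fun e => ?_
    have hYX : Y ≤ X := le_sup_left.trans e.ge
    have hYK₀ : Y ≤ K₀ ⊓ C :=
      le_inf (hYX.trans (le_inf Subgroup.le_normalizer hXca)) (hY.trans inf_le_right)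
    have := Coprime.card_le_of_isPGroup hYp hYK₀
    rw [hYcard] at this
    exact absurd this (not_le.2 h2)
  have huR : u ∈ Subgroup.normalizer (R : Set G) := by
    refine mem_normalizer_of_forall fun r hr => ?_
    have hle : R ≤ R.comap (MulAut.conj u).toMonoidHom := by
      refine sup_le (fun y hy => ?_) fun x hx => ?_
      · show u * y * u⁻¹ ∈ R
        rw [← (mem_centralizer.1 (hY hy).2).eq, mul_inv_cancel_right]
        exact Subgroup.mem_sup_left hy
      · exact Subgroup.mem_sup_right ((Subgroup.mem_normalizer_iff.1 huX x).1 hx)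
    exact hle hr
  have hRc : R ≤ MulAction.stabilizer G c := sup_le (hY.trans (inf_le_left.trans inf_le_right)) hc
  have hRmove : Moving p D pt R c := (moving_of_sylow P hca hXca hcardca).mono hXR.le
  -- `R` fixes a second point
  obtain ⟨x, hxR, hxc⟩ : ∃ x : Ω, R ≤ MulAction.stabilizer G x ∧ x ≠ c := by
    by_contra! hcon
    have h := S.fix_two hRp hRc
    have h' : Nat.card {x : Ω // R ≤ MulAction.stabilizer G x} = 1 := by
      rw [Nat.card_eq_one_iff_unique]
      exact ⟨⟨fun x y => Subtype.ext ((hcon x.1 x.2).trans (hcon y.1 y.2).symm)⟩, ⟨⟨c, hRc⟩⟩⟩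
    rw [h'] at h
    have h2 : p ∣ 1 := (Nat.modEq_iff_dvd' (by norm_num)).1 h
    exact (Fact.out : p.Prime).ne_one (Nat.dvd_one.1 h2)
  have hne : u • x ≠ x := fun e => hxc ((P.fixed_iff u hu x).1 e)
  obtain ⟨Q, -, hQp, hQK, hQcard, hQc⟩ :=
    full_fixes P hu hne (S.odd _ _ hne.symm) hRp huR hRmove hRc hxR
  rw [hbig_of S hcl R hRp (card_lt_of_lt hXR) x (u • x) hne.symm hxR (le_stab_smul huR hxR)] at hQcard
  rcases S.full_two hQp hQcard (hQK.trans inf_le_left) (hQK.trans inf_le_right) hne.symm hQc with e | e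
  · exact hxc e.symm
  · refine hxc ?_
    have h := P.smul_smul_self hu x
    have e' : pt u = u • x := e
    rw [← e', P.smul_pt hu] at h
    exact h.symm

theorem fail_false : False := by
  have P := S.pointClass
  have hmoved := S.fail_moved hab hX hXab hXcard hlt hcl hu huX hua
  have hfree : Free D pt X := ⟨u, hu, huX, hmoved⟩
  have hodd : Odd (Nat.card X) := Odd.of_dvd_nat (S.odd a b hab) (Subgroup.card_dvd_of_le hXab)
  obtain ⟨N, hNK, hNodd, hnorm, -, hcoset⟩ := exists_core P hodd hfree hu huX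
  set K := Subgroup.normalizer (X : Set G) with hK
  have hub : u • b = a := by rw [← hua, P.smul_smul_self hu]
  have hXa : X ≤ MulAction.stabilizer G a := hXab.trans inf_le_left
  have hXb : X ≤ MulAction.stabilizer G b := hXab.trans inf_le_right
  have huN : ∀ n ∈ N, u * n * u⁻¹ ∈ N := fun n hn => hnorm u huX n hn
  -- `u` moves every orbit of the core on fixed points
  have horb : ∀ n ∈ N, u • a ≠ n • a := orbit_moved P hfree hNK hNodd hu huX huN hXa
  obtain ⟨T, hTp, hXT, hTa, hTn⟩ := S.exists_larger hX hXa hlt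
  obtain ⟨t, ht, htb⟩ : ∃ t ∈ T, t • b ≠ b := by
    by_contra! hcon
    have h := Coprime.card_le_of_isPGroup hTp
      (le_inf hTa fun t ht => MulAction.mem_stabilizer_iff.2 (hcon t ht) : T ≤ twoPt G a b)
    rw [show p ^ (Nat.card (twoPt G a b)).factorization p = Nat.card X from hXcard.symm] at h
    exact absurd h (not_le.2 (card_lt_of_lt hXT))
  set b' := t • b with hb'
  have hta : t • a = a := MulAction.mem_stabilizer_iff.1 (hTa ht)
  have hab' : a ≠ b' := fun e => hab (MulAction.injective t (hta.trans e))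
  have hXb' : X ≤ MulAction.stabilizer G b' := le_stab_smul (hTn ht) hXb
  have hcard' : Nat.card (twoPt G a b') = Nat.card (twoPt G a b) := by
    refine Nat.card_congr (Equiv.subtypeEquiv (MulAut.conj t⁻¹).toEquiv fun g => ?_)
    show g ∈ twoPt G a b' ↔ t⁻¹ * g * t⁻¹⁻¹ ∈ twoPt G a b
    rw [Subgroup.mem_inf, Subgroup.mem_inf]
    simp only [MulAction.mem_stabilizer_iff, inv_inv, mul_smul, inv_smul_eq_iff, hta, hb']
  -- the swapper of `a, b'` puts `b'` into the orbit of `b`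
  obtain ⟨u', hu', hu'X, hu'a⟩ := exists_swap_normalizing P hab' (S.odd a b' hab') (le_inf hXa hXb')
    (by rw [hcard']; exact hXcard)
  obtain ⟨n, hn, rfl⟩ := hcoset u' hu' hu'X
  rw [mul_smul, hua] at hu'a
  set a' := u • b' with ha'
  have haa' : a ≠ a' := fun e => htb (by
    show b' = b
    rw [← hua, e, ha', P.smul_smul_self hu])
  have ha'N : (u * n * u⁻¹) • a = a' := by
    rw [ha', ← hu'a, mul_smul, mul_smul, inv_eq (P.inv u hu), hua]
  have hXa' : X ≤ MulAction.stabilizer G a' := le_stab_smul huX hXb'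
  -- the stabiliser of `a, a'` has full `p`-part
  have hfull : pPart p (Nat.card (twoPt G a a')) = Nat.card X₀ := by
    refine (hcl a a' haa').resolve_right fun h => ?_
    obtain ⟨w, hw, hwX, hwa⟩ := exists_swap_normalizing P haa' (S.odd a a' haa') (le_inf hXa hXa')
      (le_antisymm (Coprime.card_le_of_isPGroup hX (le_inf hXa hXa')) h)
    obtain ⟨m, hm, rfl⟩ := hcoset w hw hwX
    refine horb (m⁻¹ * (u * n * u⁻¹)) (N.mul_mem (N.inv_mem hm) (huN n hn)) ?_
    rw [mul_smul m⁻¹, ha'N, ← hwa, mul_smul, inv_smul_smul]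
  obtain ⟨Q, hXQ, hQK, hQp, hQcard⟩ := exists_sylow_twoPt a a' hX (le_inf hXa hXa')
  rw [hfull] at hQcard
  obtain ⟨R, hXR, hRQ, hRn⟩ := exists_normalizing hQp
    (hXQ.lt_of_ne fun e => hlt.ne (by rw [e, hQcard]))
  have hRp : IsPGroup p R := hQp.to_le hRQ
  have hRa : R ≤ MulAction.stabilizer G a := (hRQ.trans hQK).trans inf_le_left
  have hRa' : R ≤ MulAction.stabilizer G a' := (hRQ.trans hQK).trans inf_le_right
  have hRmove : Moving p D pt R a := (moving_of_sylow P hab hXab hXcard).mono hXR.le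
  have hfix : ∀ z : Ω, R ≤ MulAction.stabilizer G z → z = a ∨ z = a' := by
    intro z hz
    by_contra! h
    exact S.no_three (hbig_of S hcl) hRp (card_lt_of_lt hXR) hRa hRmove hRa' hz haa' h.1.symm
      h.2.symm
  set O : Set Ω := {z | ∃ m ∈ N, m • a = z} with hO
  set O' : Set Ω := {z | ∃ m ∈ N, m • b = z} with hO'
  have hRO : ∀ r ∈ R, ∀ z ∈ O, r • z ∈ O := by
    rintro r hr z ⟨m, hm, rfl⟩
    refine ⟨r * m * r⁻¹, hnorm r (hRn hr) m hm, ?_⟩
    have hra : r⁻¹ • a = a := MulAction.mem_stabilizer_iff.1 (hRa (R.inv_mem hr))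
    rw [mul_smul, mul_smul, hra]
  have hRO' : ∀ r ∈ R, ∀ z ∈ O', r • z ∈ O' := by
    rintro r hr z ⟨m, hm, rfl⟩
    obtain ⟨m₂, hm₂, hm₂e⟩ := hcoset (r * u * r⁻¹) (P.conj_mem r u hu)
      (mem_normalizer_conj (hRn hr) huX)
    refine ⟨r * m * r⁻¹ * m₂, N.mul_mem (hnorm r (hRn hr) m hm) hm₂, ?_⟩
    have hra : r⁻¹ • a = a := MulAction.mem_stabilizer_iff.1 (hRa (R.inv_mem hr))
    have h1 : (r * u * r⁻¹) • a = r • b := by rw [mul_smul, mul_smul, hra, hua]
    rw [← hm₂e, mul_smul, hua] at h1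
    rw [mul_smul, h1, mul_smul, mul_smul, inv_smul_smul]
  have hcard : Nat.card O = Nat.card O' := by
    refine Nat.card_congr (Equiv.subtypeEquiv (MulAction.toPerm u) fun z => ?_)
    show z ∈ O ↔ u • z ∈ O'
    constructor
    · rintro ⟨m, hm, rfl⟩
      exact ⟨u * m * u⁻¹, huN m hm, by rw [mul_smul, mul_smul, inv_eq (P.inv u hu), hub]⟩
    · rintro ⟨m, hm, he⟩
      refine ⟨u * m * u⁻¹, huN m hm, ?_⟩
      rw [mul_smul, mul_smul, inv_eq (P.inv u hu), hua, he, P.smul_smul_self hu]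
  have e1 := card_modEq_fixed hRp O hRO
  have e2 := card_modEq_fixed hRp O' hRO'
  have c1 : Nat.card {z : Ω // z ∈ O ∧ R ≤ MulAction.stabilizer G z} = 2 := by
    rw [Nat.card_eq_two_iff]
    refine ⟨⟨a, ⟨1, N.one_mem, one_smul _ _⟩, hRa⟩, ⟨a', ⟨_, huN n hn, ha'N⟩, hRa'⟩,
      fun e => haa' (congrArg Subtype.val e), ?_⟩
    ext ⟨z, hz⟩
    simp only [Set.mem_insert_iff, Set.mem_singleton_iff, Set.mem_univ, iff_true, Subtype.mk.injEq]
    exact hfix z hz.2
  have c2 : Nat.card {z : Ω // z ∈ O' ∧ R ≤ MulAction.stabilizer G z} = 0 := by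
    rw [Nat.card_eq_zero]
    refine Or.inl ⟨fun z => ?_⟩
    obtain ⟨m, hm, hmz⟩ := z.2.1
    rcases hfix z.1 z.2.2 with e | e
    · refine horb m⁻¹ (N.inv_mem hm) ?_
      rw [hua, eq_inv_smul_iff, hmz, e]
    · refine horb (m⁻¹ * (u * n * u⁻¹)) (N.mul_mem (N.inv_mem hm) (huN n hn)) ?_
      rw [hua, mul_smul m⁻¹, ha'N, eq_inv_smul_iff, hmz, e]
  rw [c1, hcard] at e1
  rw [c2] at e2
  have h2 : p ∣ 2 := Nat.modEq_zero_iff_dvd.1 (e1.symm.trans e2)
  exact S.odd_prime ((Nat.prime_dvd_prime_iff_eq Fact.out Nat.prime_two).1 h2)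

end Fail

/-- Every two-point stabiliser has a `p`-part of the largest order. -/
theorem full {x y : Ω} (hxy : x ≠ y) : pPart p (Nat.card (twoPt G x y)) = Nat.card X₀ := by
  by_contra hne
  obtain ⟨⟨a, b⟩, ⟨hab, hfail⟩, hmax⟩ := Set.Finite.exists_maximalFor
    (fun q : Ω × Ω => pPart p (Nat.card (twoPt G q.1 q.2)))
    {q | q.1 ≠ q.2 ∧ pPart p (Nat.card (twoPt G q.1 q.2)) ≠ Nat.card X₀}
    (Set.toFinite _) ⟨(x, y), hxy, hne⟩
  obtain ⟨X, hXp, hXab, hXcard⟩ := exists_pPart (p := p) (twoPt G a b)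
  have hlt : Nat.card X < Nat.card X₀ :=
    hXcard ▸ lt_of_le_of_ne (S.card_le hab) hfail
  obtain ⟨u, hu, huX, hua⟩ :=
    exists_swap_normalizing S.pointClass hab (S.odd a b hab) hXab hXcard
  refine S.fail_false hab hXp hXab hXcard hlt (fun q r hqr => ?_) hu huX hua
  by_contra! h
  exact absurd (hmax (j := (q, r)) ⟨hqr, h.1⟩ (hXcard.symm.trans_le h.2.le))
    (not_le.2 (lt_of_eq_of_lt hXcard.symm h.2))

/-- The stabiliser of a point is transitive on the other points. -/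
theorem transitive {x y y' : Ω} (hy : x ≠ y) (hy' : x ≠ y') :
    ∃ h ∈ MulAction.stabilizer G x, h • y = y' := by
  have key : ∀ z : Ω, x ≠ z → ∃ g : G, g • x = a₀ ∧ g • z = b₀ := by
    intro z hz
    obtain ⟨Q, hQp, hQK, hQcard⟩ := exists_pPart (p := p) (twoPt G x z)
    rw [S.full hz] at hQcard
    obtain ⟨g, hgx, hg⟩ := S.exists_conj_le hQp (hQK.trans inf_le_left)
    have heq : MulAut.conj g • Q = X₀ :=
      Subgroup.eq_of_le_of_card_ge hg (by rw [Coprime.card_conj, hQcard])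
    refine ⟨g, hgx, (S.fix_eq ?_).resolve_left fun e => hz (MulAction.injective g (hgx.trans e.symm))⟩
    exact heq ▸ (fix_conj S).2 (hQK.trans inf_le_right)
  obtain ⟨g, hgx, hgy⟩ := key y hy
  obtain ⟨g', hgx', hgy'⟩ := key y' hy'
  refine ⟨g'⁻¹ * g, ?_, ?_⟩
  · rw [MulAction.mem_stabilizer_iff, mul_smul, hgx, ← hgx', inv_smul_smul]
  · rw [mul_smul, hgy, ← hgy', inv_smul_smul]

end Setup

end Cfsg.Agent.Bender
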