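/-
No involution acts non-trivially on a `p`-subgroup of its point stabiliser, free case
(owner: helper82; paper proof NC_KILL.md).

`H` strongly embedded, `p` with a `Setup` on `G ⧸ H`.  A *bad pair* is an involution `v ∈ H` and a
`p`-subgroup `X ≤ H` normalised but not centralised by it, `X` of largest order for `v`.

* `Bad.normalizer_not_le` : the normaliser of `X` leaves `H`, so has `CoreTwo` in `H`
* `Bad.enlarge` : a `p`-subgroup over `X` centralising `v` modulo the core is `X`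
* `Bad.le_of_centralizes` : `X` contains every `p`-subgroup of `H` centralising it
* `Bad.exists_even` : an inverted element of `X` with centraliser of even order, inside `H`
* `Bad.core_le` : `O_p'` of the pair exchanged by `v` lies in `H`
-/
import Cfsg.Agent.Lib.Bender.Transitive
import Cfsg.Agent.Lib.Bender.Full
import Cfsg.Agent.Lib.Bender.Crit
import Cfsg.Agent.Lib.Bender.Good
import Cfsg.Agent.Lib.Bender.OrbitFix

set_option autoImplicit false
set_option linter.style.haveILetI false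

namespace Cfsg.Agent.Bender

open Cfsg Involution Aschbacher
open scoped Pointwise

universe u

variable {G : Type u} [Group G] [Finite G]

omit [Finite G] in
/-- Elements normalising a subgroup of odd order give with it a group of odd order. -/
theorem odd_card_sup_of_normalizes {R W : Subgroup G} (hRW : R ≤ Subgroup.normalizer (W : Set G))
    (hW : Odd (Nat.card W)) (hR : Odd (Nat.card R)) : Odd (Nat.card ↥(R ⊔ W)) := by
  set K := R ⊔ W with hK
  haveI : (W.subgroupOf K).Normal :=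
    Cores.subgroupOf_normal_of_le_normalizer (sup_le hRW Subgroup.le_normalizer)
  have h := Cores.card_sup_dvd (R.subgroupOf K) (W.subgroupOf K)
  rw [← Subgroup.subgroupOf_sup le_sup_left le_sup_right, Cores.card_subgroupOf le_sup_left,
    Cores.card_subgroupOf le_sup_right, Cores.card_subgroupOf le_rfl] at h
  exact (hR.mul hW).of_dvd_nat h

/-- A `p`-group, `p` odd, has odd order. -/
theorem odd_card_of_isPGroup {p : ℕ} [Fact p.Prime] (hp : p ≠ 2) {R : Subgroup G}
    (hR : IsPGroup p R) : Odd (Nat.card R) := by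
  obtain ⟨n, hn⟩ := IsPGroup.iff_card.1 hR
  rw [hn]
  exact ((Fact.out : p.Prime).odd_of_ne_two hp).pow

/-- An involution `v` of `H` and a `p`-subgroup of `H` normalised, not centralised by it, of
largest order for `v`. -/
structure Bad (H : Subgroup G) (p : ℕ) (v : G) (X : Subgroup G) : Prop where
  inv : orderOf v = 2
  mem : v ∈ H
  le : X ≤ H
  pgroup : IsPGroup p X
  norm : v ∈ Subgroup.normalizer (X : Set G)
  noncentral : ∃ x ∈ X, v * x ≠ x * v
  max : ∀ Y : Subgroup G, IsPGroup p Y → Y ≤ H → v ∈ Subgroup.normalizer (Y : Set G) →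
    (∃ y ∈ Y, v * y ≠ y * v) → Nat.card Y ≤ Nat.card X

/-- The odd core of `H ∩ M`. -/
def locCore (H M : Subgroup G) : Subgroup G := (oddCore ↥(H ⊓ M)).map (H ⊓ M).subtype

omit [Finite G] in
theorem locCore_le (H M : Subgroup G) : locCore H M ≤ H ⊓ M :=
  Subgroup.map_subtype_le _

theorem odd_locCore (H M : Subgroup G) : Odd (Nat.card (locCore H M)) := by
  rw [locCore, Cores.card_map_subtype]
  exact Nat.coprime_two_right.1 (Cores.coprime_card_pPrimeCore 2)

omit [Finite G] in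
theorem le_normalizer_locCore (H M : Subgroup G) :
    H ⊓ M ≤ Subgroup.normalizer (locCore H M : Set G) :=
  Subgroup.le_normalizer.trans (Cores.normalizer_le_normalizer_map _)

namespace Bad

variable {H : Subgroup G} {p : ℕ} [Fact p.Prime] {X₀ : Subgroup G} {a₀ b₀ : G ⧸ H} {v : G}
  {X : Subgroup G} (hH : IsStronglyEmbedded H)
  (S : Setup {d : G | orderOf d = 2} (fixPt H) p X₀ a₀ b₀) (B : Bad H p v X)

omit [Fact p.Prime] [Finite G] in
include B in
theorem ne_bot : X ≠ ⊥ := by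
  rintro rfl
  obtain ⟨x, hx, hne⟩ := B.noncentral
  rw [Subgroup.mem_bot.1 hx] at hne
  exact hne (by simp)

omit [Fact p.Prime] in
include S B in
theorem pt_eq : fixPt H v = ((1 : G) : G ⧸ H) :=
  ((S.pointClass.fixed_iff v B.inv _).1 (smul_one_eq.2 B.mem)).symm

omit [Fact p.Prime] in
theorem le_stab_one {Y : Subgroup G} (h : Y ≤ H) :
    Y ≤ MulAction.stabilizer G ((1 : G) : G ⧸ H) := fun _ hy =>
  MulAction.mem_stabilizer_iff.2 (smul_one_eq.2 (h hy))

omit [Fact p.Prime] in
theorem le_of_stab_one {Y : Subgroup G} (h : Y ≤ MulAction.stabilizer G ((1 : G) : G ⧸ H)) :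
    Y ≤ H := fun _ hy => smul_one_eq.1 (MulAction.mem_stabilizer_iff.1 (h hy))

include S in
/-- A `p`-subgroup of `H` fixes a further point. -/
theorem exists_second {Y : Subgroup G} (hY : IsPGroup p Y) (hYH : Y ≤ H) :
    ∃ b : G ⧸ H, ((1 : G) : G ⧸ H) ≠ b ∧ Y ≤ MulAction.stabilizer G b := by
  by_contra! hcon
  have h2 := S.fix_two hY (le_stab_one hYH)
  have h1 : Nat.card {x : G ⧸ H // Y ≤ MulAction.stabilizer G x} = 1 := by
    rw [Nat.card_eq_one_iff_unique]
    refine ⟨⟨fun x y => Subtype.ext ?_⟩, ⟨⟨_, le_stab_one hYH⟩⟩⟩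
    rcases eq_or_ne ((1 : G) : G ⧸ H) x.1 with e | e
    · rcases eq_or_ne ((1 : G) : G ⧸ H) y.1 with e' | e'
      · exact e.symm.trans e'
      · exact absurd y.2 (hcon y.1 e')
    · exact absurd x.2 (hcon x.1 e)
  rw [h1] at h2
  have hdvd : p ∣ 2 - 1 := (Nat.modEq_iff_dvd' (by omega)).1 h2
  exact (Fact.out : p.Prime).not_dvd_one hdvd

include S B in
/-- The Sylow subgroup of the pair exchanged by `v` at a fixed point of `X`. -/
theorem exists_pair_sylow {b : G ⧸ H} (hb : ((1 : G) : G ⧸ H) ≠ b)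
    (hXb : X ≤ MulAction.stabilizer G b) :
    v • b ≠ b ∧ X ≤ twoPt G b (v • b) ∧
    ∃ Q : Subgroup G, X ≤ Q ∧ Q ≤ twoPt G b (v • b) ∧ v ∈ Subgroup.normalizer (Q : Set G) ∧
      IsPGroup p Q ∧ Nat.card Q = Nat.card X₀ ∧ ¬ Q ≤ H := by
  have P := S.pointClass
  have hne : v • b ≠ b := fun e => hb (by
    rw [← B.pt_eq S]; exact ((P.fixed_iff v B.inv b).1 e).symm)
  have hXK : X ≤ twoPt G b (v • b) := le_inf hXb (le_stab_smul B.norm hXb)
  obtain ⟨Q, hXQ, hQK, hvQ, hQp, hQcard⟩ := exists_sylow_invariant B.inv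
    (swap_mem_normalizer_twoPt P (u := v) B.inv rfl) (S.odd _ _ hne.symm) hXK B.pgroup B.norm
  have hcard : Nat.card Q = Nat.card X₀ := hQcard.trans (S.full hne.symm)
  refine ⟨hne, hXK, Q, hXQ, hQK, hvQ, hQp, hcard, fun hQH => ?_⟩
  rcases S.full_two hQp hcard (hQK.trans inf_le_left) (hQK.trans inf_le_right) hne.symm
    (le_stab_one hQH) with e | e
  · exact hb e
  · refine hb ?_
    rw [← P.smul_smul_self (d := v) B.inv b, ← e]
    exact (smul_one_eq.2 B.mem).symm

include S B in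
/-- **(A)** The normaliser of `X` leaves `H`. -/
theorem normalizer_not_le : ¬ Subgroup.normalizer (X : Set G) ≤ H := by
  intro hM
  obtain ⟨b, hb, hXb⟩ := exists_second S B.pgroup B.le
  obtain ⟨-, -, Q, hXQ, -, hvQ, hQp, -, hQH⟩ := B.exists_pair_sylow S hb hXb
  obtain ⟨T, hXT, hTQ, hTn⟩ := exists_normalizing hQp
    (hXQ.lt_of_ne fun e => hQH (e ▸ B.le))
  set N := Q ⊓ Subgroup.normalizer (X : Set G) with hN
  have hTN : T ≤ N := le_inf hTQ hTn
  have hXN : X < N := hXT.trans_le hTN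
  have hvN : v ∈ Subgroup.normalizer (N : Set G) := Coprime.mem_normalizer_of_forall fun g hg =>
    ⟨(Subgroup.mem_normalizer_iff.1 hvQ g).1 hg.1,
      mem_normalizer_conj B.norm hg.2⟩
  obtain ⟨x, hx, hne⟩ := B.noncentral
  exact absurd (B.max N (hQp.to_le inf_le_left) (inf_le_right.trans hM) hvN
    ⟨x, hXN.le hx, hne⟩) (not_le.2 (card_lt_of_lt hXN))

include hH S B in
theorem coreTwo_inter (hcore : H.normalCore = ⊥) (hIH : CoreTwoBelow G) :
    CoreTwo (H ⊓ Subgroup.normalizer (X : Set G)) := by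
  refine coreTwo_of_le_inter hH hIH (fun e => B.ne_bot ?_) (B.normalizer_not_le S) le_rfl
  haveI : X.Normal := Subgroup.normalizer_eq_top_iff.1 e
  exact le_bot_iff.1 (hcore ▸ Subgroup.normal_le_normalCore.2 B.le)

include S B in
/-- A `p`-subgroup over `X` centralising `v` modulo the core is not larger than `X`. -/
theorem enlarge {M R : Subgroup G} (hvM' : v ∈ M) (hR : IsPGroup p R) (hXR : X ≤ R)
    (hRM : R ≤ H ⊓ M)
    (hcomm : ∀ r ∈ R, r⁻¹ * (v * r * v⁻¹) ∈ locCore H M) : Nat.card R ≤ Nat.card X := by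
  set O := locCore H M with hO
  set K := R ⊔ O with hK
  have hRN : R ≤ Subgroup.normalizer (O : Set G) := hRM.trans (le_normalizer_locCore H M)
  have hKodd : Odd (Nat.card K) :=
    odd_card_sup_of_normalizes hRN (odd_locCore H M) (odd_card_of_isPGroup S.odd_prime hR)
  have hvM : v ∈ H ⊓ M := ⟨B.mem, hvM'⟩
  have hvK : v ∈ Subgroup.normalizer (K : Set G) := by
    have hle : K ≤ K.comap (MulAut.conj v).toMonoidHom := by
      refine sup_le (fun g hg => ?_) (fun g hg => ?_)
      · have h1 := mul_mem (Subgroup.mem_sup_left hg : g ∈ K)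
          (Subgroup.mem_sup_right (hcomm g hg))
        rwa [mul_inv_cancel_left] at h1
      · exact Subgroup.mem_sup_right
          ((Subgroup.mem_normalizer_iff.1 (le_normalizer_locCore H M hvM) g).1 hg)
    exact Coprime.mem_normalizer_of_forall fun g hg => hle hg
  have hKH : K ≤ H := sup_le (hRM.trans inf_le_left) ((locCore_le H M).trans inf_le_left)
  obtain ⟨Q, hXQ, hQK, hvQ, hQp, hQcard⟩ := exists_sylow_invariant (p := p) B.inv hvK hKodd
    (hXR.trans le_sup_left) B.pgroup B.norm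
  obtain ⟨x, hx, hne⟩ := B.noncentral
  calc Nat.card R ≤ p ^ (Nat.card K).factorization p :=
        Coprime.card_le_of_isPGroup hR le_sup_left
    _ = Nat.card Q := hQcard.symm
    _ ≤ Nat.card X := B.max Q hQp (hQK.trans hKH) hvQ ⟨x, hXQ hx, hne⟩

include S B in
/-- No involution of `N(X)` at the point of `v` centralises `X`. -/
theorem odd_centralizer_inter :
    Odd (Nat.card ↥(Subgroup.centralizer (X : Set G) ⊓ H)) := by
  by_contra hodd
  obtain ⟨s, hs, hs2⟩ := exists_involution_mem (Nat.not_odd_iff_even.1 hodd)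
  have P := S.pointClass
  set M := Subgroup.normalizer (X : Set G) with hM
  have hsM : s ∈ M := Subgroup.centralizer_le_normalizer _ hs.1
  obtain ⟨g, hgM, hgH⟩ := SetLike.not_le_iff_exists.1 (B.normalizer_not_le S)
  set v' := g * v * g⁻¹ with hv'
  have hv'2 : orderOf v' = 2 := (Involution.orderOf_conj g v).trans B.inv
  have hv'M : v' ∈ M := mem_normalizer_conj hgM B.norm
  have hspt : fixPt H s = ((1 : G) : G ⧸ H) :=
    ((P.fixed_iff s hs2 _).1 (smul_one_eq.2 hs.2)).symm
  have hne : fixPt H v' ≠ ((1 : G) : G ⧸ H) := by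
    rw [hv', P.pt_conj g B.inv, B.pt_eq S]
    exact fun e => hgH (smul_one_eq.1 e)
  obtain ⟨k, hk, hks⟩ := exists_conj_in P (K := M) hs2 hv'2 hsM hv'M (by rw [hspt]; exact hne.symm)
  have hsc : ∀ x ∈ X, s * x = x * s := fun x hx =>
    (Subgroup.mem_centralizer_iff.1 hs.1 x hx).symm
  obtain ⟨x, hx, hxv⟩ := B.noncentral
  apply hxv
  -- `v = c s c⁻¹` with `c` normalising `X`
  set c := g⁻¹ * k with hc
  have hcM : c ∈ M := mul_mem (inv_mem hgM) hk
  have hcs : c * s * c⁻¹ = v := by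
    rw [hc, ← mul_left_inj (g⁻¹ * k), inv_mul_cancel_right]
    calc g⁻¹ * k * s = g⁻¹ * (k * s * k⁻¹) * k := by group
      _ = v * (g⁻¹ * k) := by rw [hks, hv']; group
  have h1 : c⁻¹ * x * c ∈ X := (Subgroup.mem_normalizer_iff''.1 hcM x).1 hx
  calc v * x = c * (s * (c⁻¹ * x * c)) * c⁻¹ := by rw [← hcs]; group
    _ = x * v := by rw [hsc _ h1, ← hcs]; group

omit [Finite G] in
include B in
/-- The action of an involution of `H ∩ N(X)` on `X` is trivial modulo the core. -/
theorem commutator_mem (hp : p ≠ 2) {M : Subgroup G} (hXM : X ≤ M) (hT : CoreTwo (H ⊓ M)) {f : G}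
    (hf : f ∈ H ⊓ M) (hfX : f ∈ Subgroup.normalizer (X : Set G)) (hf2 : orderOf f = 2) {x : G}
    (hx : x ∈ X) : x⁻¹ * (f * x * f⁻¹) ∈ locCore H M := by
  set Ma := H ⊓ M with hMa
  have hxM : x ∈ Ma := ⟨B.le hx, hXM hx⟩
  set s : Ma := ⟨x⁻¹ * f * x, mul_mem (mul_mem (inv_mem hxM) hf) hxM⟩ with hs
  set t : Ma := ⟨f, hf⟩ with ht
  have hs2 : orderOf (s : G) = 2 := by
    have := Involution.orderOf_conj x⁻¹ f
    rwa [inv_inv, hf2] at this
  set d : Ma := ⟨x, hxM⟩⁻¹ * (t * ⟨x, hxM⟩ * t⁻¹) with hd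
  have hdX : (d : G) ∈ X := mul_mem (inv_mem hx) ((Subgroup.mem_normalizer_iff.1 hfX x).1 hx)
  set φ := QuotientGroup.mk' (oddCore ↥Ma)
  have hsq : ∀ e : Ma, orderOf (e : G) = 2 → φ e * φ e = 1 := fun e he => by
    rw [← map_mul, show e * e = 1 from Subtype.ext (mul_self he), map_one]
  have hcomm : φ s * φ t = φ t * φ s := by
    have h := (QuotientGroup.eq_one_iff _).2 (hT s t hs2 hf2)
    rw [show ((s * t * s⁻¹ * t⁻¹ : Ma) : Ma ⧸ oddCore ↥Ma) = φ (s * t * s⁻¹ * t⁻¹) from rfl,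
      map_mul, map_mul, map_mul, map_inv, map_inv, mul_inv_eq_one, mul_inv_eq_iff_eq_mul] at h
    exact h
  have hdst : φ d = φ s * φ t := by
    rw [← map_mul]
    refine congrArg φ (Subtype.ext ?_)
    show x⁻¹ * (f * x * f⁻¹) = x⁻¹ * f * x * f
    rw [inv_eq hf2]
    group
  have hd2 : φ d * φ d = 1 := by
    rw [hdst, mul_assoc, ← mul_assoc (φ t), ← hcomm, mul_assoc (φ s) (φ t), hsq t hf2, mul_one,
      hsq s hs2]
  have hdv : orderOf (φ d) ∣ 2 := orderOf_dvd_of_pow_eq_one (by rw [sq, hd2])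
  obtain ⟨k, hk⟩ := B.pgroup ⟨(d : G), hdX⟩
  have hdp : orderOf (φ d) ∣ p ^ k := (orderOf_map_dvd φ d).trans
    (orderOf_dvd_of_pow_eq_one (Subtype.ext (by simpa using congrArg Subtype.val hk)))
  rcases (Nat.dvd_prime Nat.prime_two).1 hdv with e | e
  · exact ⟨d, (QuotientGroup.eq_one_iff d).1 (orderOf_eq_one_iff.1 e), rfl⟩
  · rw [e] at hdp
    have h2p : 2 = p := (Nat.prime_dvd_prime_iff_eq Nat.prime_two Fact.out).1
      (Nat.prime_two.dvd_of_dvd_pow hdp)
    exfalso
    exact hp h2p.symm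

include S B in
/-- `X` contains the `p`-subgroups of `H` centralising it. -/
theorem le_of_centralizes (hT : CoreTwo (H ⊓ Subgroup.normalizer (X : Set G))) {Y : Subgroup G} (hY : IsPGroup p Y) (hYH : Y ≤ H)
    (hYX : Y ≤ Subgroup.centralizer (X : Set G)) : Y ≤ X := by
  set Ma := H ⊓ Subgroup.normalizer (X : Set G) with hMa
  set C := Subgroup.centralizer (X : Set G) ⊓ H with hC
  have hCle : C ≤ Ma := le_inf inf_le_right (inf_le_left.trans (Subgroup.centralizer_le_normalizer _))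
  haveI : (C.subgroupOf Ma).Normal := by
    refine Cores.subgroupOf_normal_of_le_normalizer fun g hg => ?_
    refine Coprime.mem_normalizer_of_forall fun c hc => ⟨?_, ?_⟩
    · refine Subgroup.mem_centralizer_iff.2 fun x hx => ?_
      have h1 : g⁻¹ * x * g ∈ X := (Subgroup.mem_normalizer_iff''.1 hg.2 x).1 hx
      have h2 := Subgroup.mem_centralizer_iff.1 hc.1 _ h1
      calc x * (g * c * g⁻¹) = g * (g⁻¹ * x * g * c) * g⁻¹ := by group
        _ = g * c * g⁻¹ * x := by rw [h2]; group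
    · exact H.mul_mem (H.mul_mem hg.1 hc.2) (H.inv_mem hg.1)
  have hCO : C ≤ locCore H (Subgroup.normalizer (X : Set G)) := fun c hc => ⟨⟨c, hCle hc⟩,
    Cores.le_pPrimeCore (N := C.subgroupOf Ma) inferInstance (by
      rw [Cores.card_subgroupOf hCle]
      exact Nat.coprime_two_right.2 (B.odd_centralizer_inter S)) (Subgroup.mem_subgroupOf.2 hc),
    rfl⟩
  have hYN : Y ≤ Subgroup.normalizer (X : Set G) :=
    hYX.trans (Subgroup.centralizer_le_normalizer _)
  have hXYp : IsPGroup p ↥(X ⊔ Y) := B.pgroup.to_sup_of_normal_left' hY hYN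
  have hle := B.enlarge S B.norm hXYp le_sup_left
    (sup_le (le_inf B.le Subgroup.le_normalizer) (le_inf hYH hYN)) fun r hr => ?_
  · exact (Subgroup.eq_of_le_of_card_ge le_sup_left hle).symm ▸ le_sup_right
  have hvM : v ∈ Ma := ⟨B.mem, B.norm⟩
  set O := locCore H (Subgroup.normalizer (X : Set G))
  have hNO : Ma ≤ Subgroup.normalizer (O : Set G) := le_normalizer_locCore H (Subgroup.normalizer (X : Set G))
  rw [← SetLike.mem_coe, Subgroup.coe_mul_of_right_le_normalizer_left X Y hYN] at hr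
  obtain ⟨x, hx, y, hy, rfl⟩ := hr
  have hxM : x ∈ Ma := ⟨B.le hx, Subgroup.le_normalizer hx⟩
  have hyM : y ∈ Ma := ⟨hYH hy, hYN hy⟩
  have hyO : y ∈ O := hCO ⟨hYX hy, hYH hy⟩
  have hvy : v * y * v⁻¹ ∈ O := (Subgroup.mem_normalizer_iff.1 (hNO hvM) y).1 hyO
  have hcx : x⁻¹ * (v * x * v⁻¹) ∈ O := B.commutator_mem S.odd_prime Subgroup.le_normalizer hT hvM B.norm B.inv hx
  show (x * y)⁻¹ * (v * (x * y) * v⁻¹) ∈ O
  rw [show (x * y)⁻¹ * (v * (x * y) * v⁻¹) = y⁻¹ * (x⁻¹ * (v * x * v⁻¹)) * (v * y * v⁻¹) by group]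
  exact mul_mem (mul_mem (inv_mem hyO) hcx) hvy

include S B in
/-- Not all involutions of `H ∩ N(X)` are congruent to `v`; so one commuting with `v` differs. -/
theorem exists_commuting (hT : CoreTwo (H ⊓ Subgroup.normalizer (X : Set G))) :
    ∃ w ∈ H ⊓ Subgroup.normalizer (X : Set G), orderOf w = 2 ∧ w ≠ v ∧ Commute w v := by
  set Ma := H ⊓ Subgroup.normalizer (X : Set G) with hMa
  set O := locCore H (Subgroup.normalizer (X : Set G)) with hO
  have hvM : v ∈ Ma := ⟨B.mem, B.norm⟩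
  have hvi : v⁻¹ = v := inv_eq B.inv
  obtain ⟨s, hsM, hs2, hsO⟩ : ∃ s ∈ Ma, orderOf s = 2 ∧ s * v⁻¹ ∉ O := by
    by_contra! hcon
    obtain ⟨b, hb, hXb⟩ := exists_second S B.pgroup B.le
    obtain ⟨-, -, Q, hXQ, -, -, -, hQcard, hQH⟩ := B.exists_pair_sylow S hb hXb
    have hlt : Nat.card X < Nat.card X₀ :=
      hQcard ▸ card_lt_of_lt (hXQ.lt_of_ne fun e => hQH (e ▸ B.le))
    obtain ⟨T, hTp, hXT, hTo, hTn⟩ := S.exists_larger B.pgroup (le_stab_one B.le) hlt
    have hTM : T ≤ Ma := le_inf (le_of_stab_one hTo) hTn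
    refine absurd (B.enlarge S B.norm hTp hXT.le hTM fun r hr => ?_) (not_le.2 (card_lt_of_lt hXT))
    have h := hcon (r⁻¹ * v * r) (mul_mem (mul_mem (inv_mem (hTM hr)) hvM) (hTM hr))
      (by have := Involution.orderOf_conj r⁻¹ v; rwa [inv_inv, B.inv] at this)
    convert h using 1
    group
  by_cases hc : Commute s v
  · exact ⟨s, hsM, hs2, fun e => hsO (by rw [e, mul_inv_cancel]; exact O.one_mem), hc⟩
  set c := s * v with hcdef
  have hcM : c ∈ Ma := mul_mem hsM hvM
  have hinv : v * c * v⁻¹ = c⁻¹ := by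
    rw [hcdef, mul_inv_rev, inv_eq hs2, hvi, mul_assoc v, mul_assoc s, mul_self B.inv, mul_one]
  have hc2 : c * c ∈ O := by
    refine ⟨⟨c * c, mul_mem hcM hcM⟩, ?_, rfl⟩
    have h := hT ⟨s, hsM⟩ ⟨v, hvM⟩ hs2 B.inv
    have e : (⟨c * c, mul_mem hcM hcM⟩ : Ma) =
        ⟨s, hsM⟩ * ⟨v, hvM⟩ * ⟨s, hsM⟩⁻¹ * ⟨v, hvM⟩⁻¹ := by
      refine Subtype.ext ?_
      show c * c = s * v * s⁻¹ * v⁻¹
      rw [hcdef, inv_eq hs2, hvi]; group
    exact e ▸ h
  obtain ⟨l, hl⟩ : Even (orderOf c) := by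
    by_contra hodd
    obtain ⟨k, hk⟩ := Nat.not_even_iff_odd.1 hodd
    apply hsO
    rw [hvi]
    have h1 : c = (c * c) ^ (k + 1) := by
      rw [← sq, ← pow_mul, show 2 * (k + 1) = orderOf c + 1 by omega, pow_succ,
        pow_orderOf_eq_one, one_mul]
    show c ∈ O
    rw [h1]
    exact pow_mem hc2 _
  have hl0 : 0 < l := by
    have := orderOf_pos c
    omega
  set w := c ^ l with hw
  have hww : w * w = 1 := by rw [hw, ← pow_add, ← hl, pow_orderOf_eq_one]
  have hw1 : w ≠ 1 := pow_ne_one_of_lt_orderOf hl0.ne' (by omega)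
  have hwv : Commute w v := by
    have h1 : v * w * v⁻¹ = w := by
      rw [hw, ← conj_pow, hinv, inv_pow, ← hw]
      exact inv_eq_of_mul_eq_one_right hww
    exact (mul_inv_eq_iff_eq_mul.1 h1).symm
  refine ⟨w, pow_mem hcM l, Involution.orderOf_of_sq hww hw1, fun e => hc ?_, hwv⟩
  have h1 : Commute c v := e ▸ (Commute.refl c).pow_right l
  have h2 : s * v * v = v * (s * v) := h1.eq
  rw [mul_assoc, mul_self B.inv, mul_one] at h2
  show s * v = v * s
  conv_lhs => rw [h2]
  rw [← mul_assoc, mul_assoc (v * s), mul_self B.inv, mul_one]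

include S B in
/-- **(B)** An inverted element of `X` commuting with another involution of `H`; so its centraliser
lies in `H`. -/
theorem exists_even (hT : CoreTwo (H ⊓ Subgroup.normalizer (X : Set G))) :
    ∃ e ∈ X, e ≠ 1 ∧ v * e * v⁻¹ = e⁻¹ ∧ Subgroup.centralizer ({e} : Set G) ≤ H := by
  have P := S.pointClass
  obtain ⟨w, hwM, hw2, hwv, hcomm⟩ := B.exists_commuting S hT
  have hvv := mul_self B.inv
  have hww := mul_self hw2
  set A := fourOf hvv hww hcomm.symm with hA
  haveI := isMulCommutative_fourOf hvv hww hcomm.symm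
  have hne1 : ∀ {d : G}, orderOf d = 2 → d ≠ 1 := fun hd e => by simp [e] at hd
  have hAX : A ≤ Subgroup.normalizer (X : Set G) := by
    intro a ha
    rcases (ha : a = 1 ∨ a = v ∨ a = w ∨ a = v * w) with rfl | rfl | rfl | rfl
    exacts [one_mem _, B.norm, hwM.2, mul_mem B.norm hwM.2]
  have hcop : (Nat.card A).Coprime (Nat.card X) := by
    obtain ⟨n, hn⟩ := IsPGroup.iff_card.1 (card_fourOf_dvd hvv hww hcomm.symm)
    rw [hn]
    exact (Nat.coprime_two_left.2 (odd_card_of_isPGroup S.odd_prime B.pgroup)).pow_left n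
  obtain ⟨f, hfA, hf1, x, hx, hfx, hvx⟩ : ∃ f ∈ A, f ≠ 1 ∧ ∃ x ∈ X, Commute f x ∧ v * x ≠ x * v := by
    by_contra! hcon
    obtain ⟨x, hx, hne⟩ := B.noncentral
    have hle : X ≤ Subgroup.centralizer ({v} : Set G) :=
      Coprime.le_of_noncyclic (not_isCyclic_fourOf hvv hww hcomm.symm (hne1 B.inv) (hne1 hw2)
        hwv.symm) hAX hcop fun a ha ha1 y hy => mem_centralizer.2
          (hcon a ha ha1 y hy.1 (mem_centralizer.1 hy.2).symm).symm
    exact hne (mem_centralizer.1 (hle hx)).symm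
  have hfv : Commute f v :=
    congrArg Subtype.val (mul_comm' (⟨f, hfA⟩ : A) ⟨v, Or.inr (Or.inl rfl)⟩)
  have hfH : f ∈ H := by
    rcases (hfA : f = 1 ∨ f = v ∨ f = w ∨ f = v * w) with rfl | rfl | rfl | rfl
    exacts [one_mem _, B.mem, hwM.1, mul_mem B.mem hwM.1]
  have hf2 : orderOf f = 2 := by
    refine Involution.orderOf_of_sq ?_ hf1
    rcases (hfA : f = 1 ∨ f = v ∨ f = w ∨ f = v * w) with rfl | rfl | rfl | rfl
    exacts [one_mul 1, hvv, hww, by
      rw [mul_assoc, ← mul_assoc w, hcomm.eq, mul_assoc v w w, hww, mul_one, hvv]]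
  set e := x⁻¹ * (v * x * v⁻¹) with he
  have heX : e ∈ X := mul_mem (inv_mem hx) ((Subgroup.mem_normalizer_iff.1 B.norm x).1 hx)
  have he1 : e ≠ 1 := fun h => hvx (by
    rw [he, inv_mul_eq_one] at h
    exact mul_inv_eq_iff_eq_mul.1 h.symm)
  have hinv : v * e * v⁻¹ = e⁻¹ := by
    calc v * e * v⁻¹ = (v * x * v⁻¹)⁻¹ * ((v * v) * x * (v⁻¹ * v⁻¹)) := by rw [he]; group
      _ = e⁻¹ := by rw [hvv, inv_eq B.inv, hvv, he, inv_eq B.inv]; group
  have hfe : Commute f e := (hfx.inv_right).mul_right ((hfv.mul_right hfx).mul_right hfv.inv_right)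
  refine ⟨e, heX, he1, hinv, fun g hg => ?_⟩
  by_contra hgH
  have hodd := odd_centralizer_of_moved P S.odd (fun g hg => hg) (g := g) B.inv he1 hinv
    (by rw [B.pt_eq S]; exact smul_one_eq.2 (B.le heX)) (mem_centralizer.1 hg)
    (by rw [B.pt_eq S]; exact fun h => hgH (smul_one_eq.1 h))
  exact not_mem_of_odd hodd hf2 (mem_centralizer.2 hfe)

include S B in
/-- **(C)** `O_p'` of the stabiliser of a pair of fixed points exchanged by `v` lies in `H`. -/
theorem core_le {b : G ⧸ H} (hXK : X ≤ twoPt G b (v • b)) (hvb : v • b ≠ b)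
    (hT : CoreTwo (H ⊓ Subgroup.normalizer (X : Set G))) :
    core p (twoPt G b (v • b)) ≤ H := by
  have P := S.pointClass
  set U := core p (twoPt G b (v • b)) with hU
  set o : G ⧸ H := ((1 : G) : G ⧸ H) with ho
  obtain ⟨e, he, he1, hinv, hce⟩ := B.exists_even S hT
  have hvv := mul_self B.inv
  have hvU : v ∈ Subgroup.normalizer (U : Set G) :=
    normalizer_le_core p _ (swap_mem_normalizer_twoPt P (u := v) B.inv rfl)
  have heU : e ∈ Subgroup.normalizer (U : Set G) := le_normalizer_core p _ (hXK he)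
  have hvo : v • o = o := smul_one_eq.2 B.mem
  have heo : e • o = o := smul_one_eq.2 (B.le he)
  set v' := v * e with hv'
  have hv'2 : v' * v' = 1 := by
    calc v * e * (v * e) = (v * e * v⁻¹) * (v * v) * e := by group
      _ = 1 := by rw [hinv, hvv]; group
  obtain ⟨k, hk⟩ := B.pgroup ⟨e, he⟩
  have hke : e ^ p ^ k = 1 := by simpa using congrArg Subtype.val hk
  have hoC : ∀ d : G, orderOf d = 2 → d • o = o → ∀ g : G, Commute d g → g • o = o := by
    intro d hd hdo g hg
    have hpt : fixPt H d = o := ((P.fixed_iff d hd o).1 hdo).symm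
    have := P.commute_fix hd hg.symm
    rwa [hpt] at this
  have hv'ne : v' ≠ 1 := fun h => he1 (by
    have h1 : e = v := by
      rw [← inv_eq B.inv, eq_inv_iff_mul_eq_one]
      calc e * v = v * (v * e) * v := by rw [← mul_assoc, hvv, one_mul]
        _ = 1 := by rw [← hv', h, mul_one, hvv]
    have h2 : orderOf v ∣ p ^ k := orderOf_dvd_of_pow_eq_one (h1 ▸ hke)
    rw [B.inv] at h2
    exact absurd ((Nat.prime_dvd_prime_iff_eq Nat.prime_two Fact.out).1
      (Nat.prime_two.dvd_of_dvd_pow h2)).symm S.odd_prime)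
  have hfix := orbit_fixed (p := p) (odd_card_core (S.odd _ _ hvb.symm)) not_dvd_card_core
    hvv hv'2 hvo (by rw [hv', mul_smul, heo, hvo]) hvU (mul_mem hvU heU)
    (fun g _ hg => hoC v B.inv hvo g hg)
    (fun g _ hg => hoC v' (Involution.orderOf_of_sq hv'2 hv'ne)
      (by rw [hv', mul_smul, heo, hvo]) g hg)
    (k := k) (by rw [hv', ← mul_assoc, hvv, one_mul, hke])
  intro g hg
  set R := U ⊓ MulAction.stabilizer G o with hR
  have hege : ∀ y ∈ U, e • y • o = y • o := fun y hy => by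
    have := hfix y hy
    rwa [hv', ← mul_assoc, hvv, one_mul] at this
  have heo' : e⁻¹ • o = o := inv_smul_eq_iff.2 heo.symm
  obtain ⟨z, hzR, hzf⟩ := exists_fixed_coset (R := R) (p := p)
    (fun h => not_dvd_card_core (h.trans (Subgroup.card_dvd_of_le inf_le_left)))
    g (fun t => e * t * e⁻¹) (fun t ht => by
      obtain ⟨htU, hto⟩ := ht
      have h1 : t ∈ U := by simpa using U.mul_mem hg htU
      have h2 : e * t * e⁻¹ ∈ U := (Subgroup.mem_normalizer_iff.1 heU t).1 h1
      refine ⟨U.mul_mem (U.inv_mem hg) h2, MulAction.mem_stabilizer_iff.2 ?_⟩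
      have h3 : t • o = g • o := by
        have := MulAction.mem_stabilizer_iff.1 hto
        rwa [mul_smul, inv_smul_eq_iff] at this
      rw [mul_smul, inv_smul_eq_iff, mul_smul, mul_smul, heo', h3, hege g hg])
    (k := k) (fun t => by
      have : ∀ j : ℕ, (fun t => e * t * e⁻¹)^[j] t = e ^ j * t * (e ^ j)⁻¹ := by
        intro j
        induction j with
        | zero => simp
        | succ j ih => rw [Function.iterate_succ_apply', ih, pow_succ']; group
      rw [this, hke]; simp)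
  have hzo : z • o = g • o := by
    have := MulAction.mem_stabilizer_iff.1 hzR.2
    rwa [mul_smul, inv_smul_eq_iff] at this
  have hzH : z ∈ H := hce (mem_centralizer.2 (mul_inv_eq_iff_eq_mul.1 hzf).symm)
  exact smul_one_eq.1 (hzo.symm.trans (smul_one_eq.2 hzH))

end Bad

end Cfsg.Agent.Bender
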