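/-
An involution normalising `ZJ` of a Sylow subgroup (owner: helper82; step (D) of NC_KILL.md).

`L` a finite group whose involutions are conjugate and commute modulo `O(L)`, with an involution
acting non-trivially on a `p`-subgroup (`p` odd). Then some involution congruent to the given one
normalises `Z(J(T))` for every Sylow `p`-subgroup `T`.

* `mul_centerThompson_of_solvable` : `K = O_p'(K) N_K(ZJ(S))`, `K` solvable, 2-elements of exponent 2
* `exists_involution_normalizing_zj_class` : the involution, for a class of involutions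
* `exists_involution_normalizing_zj` : the same for all involutions
-/
import Cfsg.Agent.Lib.Bender.Good
import Cfsg.Agent.Lib.PLocal.ZJControl
import Cfsg.Agent.Lib.Coprime.PQ
import Cfsg.Agent.Lib.Solvable.Basic

set_option autoImplicit false
set_option linter.style.haveILetI false

namespace Cfsg.Agent.Bender

open Cfsg Involution

universe u

/-- Without elements of order four there is no section `SL₂(p)`, `p` odd. -/
theorem sl2Free_of_exponent {p : ℕ} [Fact p.Prime] (hp : p ≠ 2) {K : Type u} [Group K] [Finite K]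
    (h : ∀ (z : K) (n : ℕ), z ^ 2 ^ n = 1 → z * z = 1) : PLocal.SL2Free p K := by
  rintro ⟨A, B, hB, hiso⟩
  haveI : Fact (Nat.Prime 2) := ⟨Nat.prime_two⟩
  obtain ⟨T⟩ : Nonempty (Sylow 2 (⊤ : Subgroup K)) := inferInstance
  refine Quadratic.not_comm_sylow_two_of_section hp (H := ⊤) ⟨A, B, hB, le_top, hiso⟩ T ?_
  have hsq : ∀ a : (T : Subgroup (⊤ : Subgroup K)), a * a = 1 := fun a => by
    obtain ⟨n, hn⟩ := T.isPGroup' a
    exact Subtype.ext (Subtype.ext (h ((a : (⊤ : Subgroup K)) : K) n (by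
      simpa using congrArg (fun x : (T : Subgroup (⊤ : Subgroup K)) =>
        ((x : (⊤ : Subgroup K)) : K)) hn)))
  have hinv : ∀ a : (T : Subgroup (⊤ : Subgroup K)), a⁻¹ = a := fun a =>
    inv_eq_of_mul_eq_one_right (hsq a)
  exact ⟨⟨fun a b => by rw [← hinv (a * b), mul_inv_rev, hinv, hinv]⟩⟩

/-- `K = O_p'(K) N_K(ZJ(S))`, `K` solvable with 2-elements of exponent two. -/
theorem mul_centerThompson_of_solvable {p : ℕ} [Fact p.Prime] (hp : p ≠ 2) {K : Type u} [Group K]
    [Finite K] [Group.IsSolvable K] (h : ∀ (z : K) (n : ℕ), z ^ 2 ^ n = 1 → z * z = 1)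
    (S : Sylow p K) (g : K) :
    ∃ a ∈ pPrimeCore p K, ∃ n ∈ Subgroup.normalizer (centerThompsonOf p (S : Subgroup K) : Set K),
      g = a * n := by
  set U := pPrimeCore p K
  haveI : U.Normal := Cores.pPrimeCore_normal p K
  have hU : (Nat.card U).Coprime p := Cores.coprime_card_pPrimeCore p
  set φ := QuotientGroup.mk' U
  have hφs : Function.Surjective φ := QuotientGroup.mk'_surjective U
  haveI : Group.IsSolvable (K ⧸ U) := Group.isSolvable_of_surjective hφs
  have hO : pPrimeCore p (K ⧸ U) = ⊥ := Cores.pPrimeCore_quotient_self p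
  set S' := S.mapSurjective hφs
  have hinj : Set.InjOn φ (S : Subgroup K) := fun x hx y hy hxy => by
    have h1 : x⁻¹ * y ∈ U := QuotientGroup.eq.1 hxy
    obtain ⟨n, hn⟩ := IsPGroup.iff_card.1 S.isPGroup'
    exact inv_mul_eq_one.1 (Coprime.eq_one_of_mem_of_mem (hn ▸ hU.symm.pow_left n)
      (mul_mem (inv_mem hx) hy) h1)
  have hfree := (sl2Free_of_exponent hp h).quotient U
  have hZn : ((centerThompsonOf p (S : Subgroup K)).map φ).Normal := by
    rw [PLocal.map_centerThompsonOf φ hinj, ← Sylow.coe_mapSurjective]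
    exact PLocal.zjCenter_normal hp (Solvable.centralizer_pCore_le_of_isSolvable hO)
      (fun V _ hV => hfree.pStableOn hp V hV) S'
  exact RankThree.exists_mul_normalizer U hU
    (S.isPGroup'.to_le (inf_le_left.trans (PLocal.thompsonSubgroupOf_le _))) hZn g

/-- **An involution normalising `ZJ(T)`**, for a class `S` of involutions. -/
theorem exists_involution_normalizing_zj_class {p : ℕ} [Fact p.Prime] (hp : p ≠ 2) {L : Type u}
    [Group L] [Finite L] {S : Set L} (hS2 : ∀ s ∈ S, orderOf s = 2)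
    (hSc : ∀ g : L, ∀ s ∈ S, g * s * g⁻¹ ∈ S)
    (hL : ∀ s ∈ S, ∀ t ∈ S, s * t * s⁻¹ * t⁻¹ ∈ oddCore L) {v : L} (hvS : v ∈ S)
    (hcl : ∀ s : L, orderOf s = 2 → s ∈ Subgroup.closure S ⊔ oddCore L →
      ∃ k : L, k * s * k⁻¹ = v)
    {X : Subgroup L} (hX : IsPGroup p X) (hvX : v ∈ Subgroup.normalizer (X : Set L))
    (hnc : ∃ x ∈ X, v * x ≠ x * v) (T : Sylow p L) :
    ∃ v' : L, orderOf v' = 2 ∧
      v' ∈ Subgroup.normalizer (centerThompsonOf p (T : Subgroup L) : Set L) ∧
      v' * v⁻¹ ∈ oddCore L := by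
  have hv := hS2 v hvS
  haveI : Fact (Nat.Prime 2) := ⟨Nat.prime_two⟩
  set O := oddCore L with hOdef
  haveI hOn : O.Normal := Cores.pPrimeCore_normal 2 L
  have hOodd : Odd (Nat.card O) := Nat.coprime_two_right.1 (Cores.coprime_card_pPrimeCore 2)
  set φ := QuotientGroup.mk' O
  have hφs : Function.Surjective φ := QuotientGroup.mk'_surjective O
  set Sinv : Set (L ⧸ O) := φ '' S with hSinv
  set W := Subgroup.closure Sinv with hW
  haveI hWn : W.Normal := by
    refine ⟨fun k hk g => ?_⟩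
    induction hk using Subgroup.closure_induction with
    | mem x hx =>
      obtain ⟨g, rfl⟩ := hφs g
      obtain ⟨s, hs, rfl⟩ := hx
      exact Subgroup.subset_closure ⟨g * s * g⁻¹, hSc g s hs,
        by rw [map_mul, map_mul, map_inv]⟩
    | one => simp
    | mul x y _ _ hx hy =>
      have := mul_mem hx hy
      rwa [conj_mul] at this
    | inv x _ hx =>
      have := inv_mem hx
      rwa [conj_inv] at this
  have hcomm : ∀ a ∈ Sinv, ∀ b ∈ Sinv, a * b = b * a := by
    rintro _ ⟨s, hs, rfl⟩ _ ⟨t, ht, rfl⟩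
    have h : φ (s * t * s⁻¹ * t⁻¹) = 1 := (QuotientGroup.eq_one_iff _).2 (hL s hs t ht)
    rwa [map_mul, map_mul, map_mul, map_inv, map_inv, mul_inv_eq_one, mul_inv_eq_iff_eq_mul] at h
  haveI : IsMulCommutative W := Subgroup.isMulCommutative_closure hcomm
  have hsq : ∀ q ∈ W, q * q = 1 := by
    intro q hq
    induction hq using Subgroup.closure_induction with
    | mem x hx =>
      obtain ⟨s, hs, rfl⟩ := hx
      rw [← map_mul, mul_self (hS2 s hs), map_one]
    | one => simp
    | mul x y hxW hyW hx hy =>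
      have hc : x * y = y * x := congrArg Subtype.val (mul_comm' (⟨x, hxW⟩ : W) ⟨y, hyW⟩)
      calc x * y * (x * y) = x * (y * x) * y := by group
        _ = (x * x) * (y * y) := by rw [← hc]; group
        _ = 1 := by rw [hx, hy, one_mul]
    | inv x _ hx => rw [← mul_inv_rev, hx, inv_one]
  set Tq := (T : Subgroup L).map φ
  set K := (W ⊔ Tq).comap φ with hK
  have hTK : (T : Subgroup L) ≤ K := fun t ht =>
    Subgroup.mem_sup_right (Subgroup.mem_map_of_mem φ ht)
  have hvK : v ∈ K := Subgroup.mem_sup_left (Subgroup.subset_closure ⟨v, hvS, rfl⟩)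
  set L₀ := W.comap φ with hL₀
  have hL₀K : L₀ ≤ K := Subgroup.comap_mono le_sup_left
  -- the image of `K` in the quotient by the involutions is a `p`-group
  set π := QuotientGroup.mk' W
  set ψ : K →* (L ⧸ O) ⧸ W := π.comp (φ.comp K.subtype) with hψ
  have hψp : IsPGroup p ψ.range := by
    refine ((T.isPGroup'.map φ).map π).to_le ?_
    rintro _ ⟨k, rfl⟩
    have h1 : φ k ∈ (W : Subgroup (L ⧸ O)) ⊔ Tq := k.2
    have h2 : π (φ k) ∈ ((W ⊔ Tq).map π) := Subgroup.mem_map_of_mem π h1
    rwa [Subgroup.map_sup, show W.map π = ⊥ from (Subgroup.map_eq_bot_iff _).2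
      (QuotientGroup.ker_mk' W).ge, bot_sup_eq] at h2
  have hker : ∀ k : K, ψ k = 1 → φ k ∈ W := fun k hk => (QuotientGroup.eq_one_iff _).1 hk
  have hpow : ∀ (k : K) (m : ℕ), m.Coprime p → k ^ m = 1 → φ k ∈ W := by
    intro k m hm hk
    refine hker k (orderOf_eq_one_iff.1 ?_)
    obtain ⟨j, hj⟩ := hψp ⟨ψ k, k, rfl⟩
    have h1 : orderOf (ψ k) ∣ p ^ j := orderOf_dvd_of_pow_eq_one (congrArg Subtype.val hj)
    have h2 : orderOf (ψ k) ∣ m := orderOf_dvd_of_pow_eq_one (by rw [← map_pow, hk, map_one])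
    exact Nat.eq_one_of_dvd_coprimes (hm.symm.pow_left j) h1 h2
  have h2el : ∀ (z : K) (n : ℕ), z ^ 2 ^ n = 1 → z * z = 1 := by
    intro z n hz
    have hzW := hpow z (2 ^ n)
      (Nat.Coprime.pow_left n ((Nat.coprime_primes Nat.prime_two Fact.out).2 hp.symm)) hz
    have h1 : ((z * z : K) : L) ∈ O := (QuotientGroup.eq_one_iff _).1 (by
      show φ ((z : L) * z) = 1
      rw [map_mul]; exact hsq _ hzW)
    refine Subtype.ext (Coprime.eq_one_of_mem_of_mem (A := Subgroup.zpowers (z : L)) (K := O) ?_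
      (mul_mem (Subgroup.mem_zpowers _) (Subgroup.mem_zpowers _)) h1)
    rw [Nat.card_zpowers]
    refine Nat.Coprime.coprime_dvd_left
      (orderOf_dvd_of_pow_eq_one (congrArg Subtype.val hz)) ?_
    exact (Nat.coprime_two_left.2 hOodd).pow_left n
  -- `K` is solvable
  haveI : Group.IsSolvable O := OddOrderTheorem.solvable hOodd
  haveI : Group.IsSolvable W := Group.isSolvable_of_comm fun a b => mul_comm' a b
  haveI : Group.IsSolvable L₀ := by
    refine Group.isSolvable_of_ker_le_range (Subgroup.inclusion (H := O) (K := L₀) fun o ho => ?_)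
      (φ.subgroupComap W) fun k hk => ?_
    · show φ o ∈ W
      rw [show φ o = 1 from (QuotientGroup.eq_one_iff o).2 ho]
      exact W.one_mem
    · exact ⟨⟨k, (QuotientGroup.eq_one_iff (k : L)).1 (congrArg Subtype.val hk)⟩, rfl⟩
  haveI : Group.IsNilpotent ψ.range := hψp.isNilpotent
  haveI : Group.IsSolvable K :=
    Group.isSolvable_of_ker_le_range (Subgroup.inclusion hL₀K) ψ.rangeRestrict fun k hk =>
      ⟨⟨k, hker k (congrArg Subtype.val hk)⟩, rfl⟩
  -- `O_p'(K)` lies in the odd core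
  haveI hL₀n : L₀.Normal := hWn.comap φ
  haveI : (pPrimeCore p L₀).Characteristic := Cores.pPrimeCore_characteristic p L₀
  set P' := (pPrimeCore p L₀).map L₀.subtype with hP'
  haveI hP'n : P'.Normal := Cores.map_subtype_normal_of_characteristic L₀ _
  have hP'p : (Nat.card P').Coprime p := by
    rw [hP', Cores.card_map_subtype]; exact Cores.coprime_card_pPrimeCore p
  have hP'odd : Odd (Nat.card P') := by
    by_contra he
    obtain ⟨s, hs, hs2⟩ := exists_involution_mem (Nat.not_odd_iff_even.1 he)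
    obtain ⟨k, hk⟩ := hcl s hs2 (by
      have h : s ∈ L₀ := Subgroup.map_subtype_le _ hs
      rwa [hL₀, hW, hSinv, ← MonoidHom.map_closure, Subgroup.comap_map_eq,
        QuotientGroup.ker_mk'] at h)
    have hvP : v ∈ P' := hk ▸ hP'n.conj_mem s hs k
    obtain ⟨x, hx, hne⟩ := hnc
    apply hne
    have h1 : v * x * v⁻¹ * x⁻¹ ∈ X :=
      mul_mem ((Subgroup.mem_normalizer_iff.1 hvX x).1 hx) (inv_mem hx)
    have h2 : v * x * v⁻¹ * x⁻¹ ∈ P' := by
      have := mul_mem hvP (hP'n.conj_mem _ (inv_mem hvP) x)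
      convert this using 1
      group
    obtain ⟨n, hn⟩ := IsPGroup.iff_card.1 hX
    have h3 := Coprime.eq_one_of_mem_of_mem (hn ▸ hP'p.symm.pow_left n) h1 h2
    rwa [mul_inv_eq_one, mul_inv_eq_iff_eq_mul] at h3
  have hN : ∀ n ∈ pPrimeCore p K, (n : L) ∈ O := by
    set N := (pPrimeCore p K).map K.subtype with hNdef
    have hNp : (Nat.card N).Coprime p := by
      rw [hNdef, Cores.card_map_subtype]; exact Cores.coprime_card_pPrimeCore p
    have hNL : N ≤ L₀ := by
      rintro _ ⟨k, hk, rfl⟩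
      exact hpow k _ (Cores.coprime_card_pPrimeCore p) (orderOf_dvd_iff_pow_eq_one.1
        (Subgroup.orderOf_dvd_natCard _ hk))
    have hKN : K ≤ Subgroup.normalizer (N : Set L) :=
      Subgroup.le_normalizer.trans (Cores.normalizer_le_normalizer_map _)
    haveI := Cores.subgroupOf_normal_of_le_normalizer (H := N) (hL₀K.trans hKN)
    have hle : N.subgroupOf L₀ ≤ pPrimeCore p L₀ := Cores.le_pPrimeCore inferInstance
      (by rwa [Cores.card_subgroupOf hNL])
    intro n hn
    have hnN : (n : L) ∈ N := ⟨n, hn, rfl⟩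
    have hnP : (n : L) ∈ P' := ⟨⟨n, hNL hnN⟩, hle (Subgroup.mem_subgroupOf.2 hnN), rfl⟩
    refine (QuotientGroup.eq_one_iff _).1 (orderOf_eq_one_iff.1 ?_)
    have h1 : orderOf (φ n) ∣ 2 := orderOf_dvd_of_pow_eq_one (by
      rw [sq]; exact hsq _ (hNL hnN))
    have h2 : orderOf (φ n) ∣ Nat.card P' :=
      (orderOf_map_dvd φ _).trans (Subgroup.orderOf_dvd_natCard _ hnP)
    exact Nat.eq_one_of_dvd_coprimes (Nat.coprime_two_left.2 hP'odd) h1 h2
  -- the involution
  set TK := T.subtype hTK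
  obtain ⟨a, ha, n, hn, hvn⟩ := mul_centerThompson_of_solvable hp h2el TK ⟨v, hvK⟩
  have hφn : φ (n : L) = φ v := by
    have h1 : v = (a : L) * n := congrArg Subtype.val hvn
    rw [h1, map_mul, show φ (a : L) = 1 from (QuotientGroup.eq_one_iff _).2 (hN a ha), one_mul]
  have hn2 : (n : L) * n ∈ O := (QuotientGroup.eq_one_iff _).1 (by
    show φ ((n : L) * n) = 1
    rw [map_mul, hφn, ← map_mul, mul_self hv, map_one])
  obtain ⟨k, hk⟩ := hOodd
  set v' := (n : L) ^ (2 * k + 1)
  have hφv' : φ v' = φ v := by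
    rw [map_pow, hφn, pow_succ, pow_mul, sq, ← map_mul, mul_self hv, map_one, one_pow, one_mul]
  refine ⟨v', Involution.orderOf_of_sq ?_ fun h1 => ?_, ?_, ?_⟩
  · rw [← pow_add, ← two_mul, pow_mul, sq, ← hk]
    exact congrArg Subtype.val (pow_card_eq_one' (x := (⟨_, hn2⟩ : O)))
  · rw [h1, map_one] at hφv'
    have h2 : orderOf v ∣ Nat.card O :=
      Subgroup.orderOf_dvd_natCard _ ((QuotientGroup.eq_one_iff v).1 hφv'.symm)
    rw [hv] at h2
    omega
  · refine pow_mem ?_ _
    have h1 : (n : L) ∈ Subgroup.normalizer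
        ((centerThompsonOf p (TK : Subgroup K)).map K.subtype : Set L) :=
      Subgroup.le_normalizer_map K.subtype ⟨n, hn, rfl⟩
    rwa [PLocal.map_centerThompsonOf _ K.subtype_injective.injOn, T.coe_subtype,
      Subgroup.map_subgroupOf_eq_of_le hTK] at h1
  · exact (QuotientGroup.eq_one_iff _).1 (by
      show φ (v' * v⁻¹) = 1
      rw [map_mul, map_inv, hφv', mul_inv_cancel])

/-- **An involution normalising `ZJ(T)`.** -/
theorem exists_involution_normalizing_zj {p : ℕ} [Fact p.Prime] (hp : p ≠ 2) {L : Type u} [Group L]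
    [Finite L] (hL : ∀ s t : L, orderOf s = 2 → orderOf t = 2 → s * t * s⁻¹ * t⁻¹ ∈ oddCore L)
    {v : L} (hv : orderOf v = 2) (hcl : ∀ s : L, orderOf s = 2 → ∃ k : L, k * s * k⁻¹ = v)
    {X : Subgroup L} (hX : IsPGroup p X) (hvX : v ∈ Subgroup.normalizer (X : Set L))
    (hnc : ∃ x ∈ X, v * x ≠ x * v) (T : Sylow p L) :
    ∃ v' : L, orderOf v' = 2 ∧
      v' ∈ Subgroup.normalizer (centerThompsonOf p (T : Subgroup L) : Set L) ∧
      v' * v⁻¹ ∈ oddCore L := by
  exact exists_involution_normalizing_zj_class hp (S := {s | orderOf s = 2}) (fun s hs => hs)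
    (fun g s hs => (Involution.orderOf_conj g s).trans hs) (fun s hs t ht => hL s t hs ht) hv
    (fun s hs _ => hcl s hs) hX hvX hnc T

end Cfsg.Agent.Bender
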