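/-
Translations centralising an element of a centred subgroup (owner: helper1).

* `exists_translation` : if `P` is Sylow in `C(i)_c`, `k ∈ C(i)` moves `c` to `z` and some
  `p`-subgroup of `C(i)_{c,z}` has the order of `P`, then some `g ∈ N(P) ∩ C(i)` moves `c`
* `exists_translation_of_abelian` : the last hypothesis holds when `P` is an abelian Sylow subgroup
  of the stabiliser of `c` and the pair `c, z` has full `p`-part
-/
import Cfsg.Agent.Lib.Bender.Full

set_option autoImplicit false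
set_option linter.style.haveILetI false

namespace Cfsg.Agent.Bender

open Cfsg
open scoped Pointwise

universe u v

variable {G : Type u} {Ω : Type v} [Group G] [MulAction G Ω] [Finite G] {p : ℕ} [Fact p.Prime]

/-- Two `p`-subgroups of `K` of the largest order are conjugate in `K`. -/
theorem exists_conj_of_card_eq {K P Q : Subgroup G} (hP : IsPGroup p P) (hPK : P ≤ K)
    (hmax : ∀ R : Subgroup G, IsPGroup p R → R ≤ K → Nat.card R ≤ Nat.card P)
    (hQK : Q ≤ K) (hQ : Nat.card Q = Nat.card P) :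
    ∃ h ∈ K, MulAut.conj h • Q = P := by
  obtain ⟨S₀, hS₀p, hS₀K, hS₀c⟩ := exists_pPart (p := p) K
  have hc : Nat.card P = p ^ (Nat.card K).factorization p :=
    le_antisymm (Coprime.card_le_of_isPGroup hP hPK) (hS₀c.symm.trans_le (hmax S₀ hS₀p hS₀K))
  obtain ⟨S, hS⟩ := Coprime.exists_sylow_map_eq hQK (hQ.trans hc)
  obtain ⟨T, hT⟩ := Coprime.exists_sylow_map_eq hPK hc
  obtain ⟨g, hg⟩ := MulAction.exists_smul_eq K S T
  refine ⟨g, g.2, ?_⟩
  rw [← hS, ← hT, ← hg]
  exact (Coprime.map_subtype_smul g S).symm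

/-- **A translation centralising `i`.** -/
theorem exists_translation {P Q : Subgroup G} {i k : G} {c : Ω} (hP : IsPGroup p P)
    (hPi : P ≤ Subgroup.centralizer ({i} : Set G)) (hPc : P ≤ MulAction.stabilizer G c)
    (hmax : ∀ R : Subgroup G, IsPGroup p R →
      R ≤ Subgroup.centralizer ({i} : Set G) ⊓ MulAction.stabilizer G c → Nat.card R ≤ Nat.card P)
    (hk : Commute k i) (hkc : k • c ≠ c)
    (hQ : Q ≤ Subgroup.centralizer ({i} : Set G) ⊓ MulAction.stabilizer G c)
    (hQz : Q ≤ MulAction.stabilizer G (k • c)) (hcard : Nat.card Q = Nat.card P) :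
    ∃ g ∈ Subgroup.normalizer (P : Set G), Commute g i ∧ g • c ≠ c := by
  set K := Subgroup.centralizer ({i} : Set G) ⊓ MulAction.stabilizer G c with hK
  obtain ⟨h, hh, hhQ⟩ := exists_conj_of_card_eq hP (le_inf hPi hPc) hmax hQ hcard
  set k' := h * k with hk'
  have hk'i : Commute k' i := Commute.mul_left (mem_centralizer.1 hh.1) hk
  have hhc : h • c = c := MulAction.mem_stabilizer_iff.1 hh.2
  have hk'c : k' • c ≠ c := fun e => hkc (MulAction.injective h (by
    show h • k • c = h • c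
    rw [← mul_smul, ← hk', e, hhc]))
  -- `P` fixes `k' • c`
  have hPz : P ≤ MulAction.stabilizer G (k' • c) := by
    intro x hx
    rw [← hhQ, Coprime.mem_conj] at hx
    have h1 := MulAction.mem_stabilizer_iff.1 (hQz hx)
    rw [MulAction.mem_stabilizer_iff]
    rw [hk']
    calc x • (h * k) • c = h • (h⁻¹ * x * h) • k • c := by simp only [← mul_smul]; group
      _ = (h * k) • c := by rw [h1, mul_smul]
  have hQ' : MulAut.conj k'⁻¹ • P ≤ K := by
    intro x hx
    rw [Coprime.mem_conj, inv_inv] at hx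
    refine ⟨mem_centralizer.2 ?_, MulAction.mem_stabilizer_iff.2 ?_⟩
    · have h1 : Commute (k' * x * k'⁻¹) i := mem_centralizer.1 (hPi hx)
      have h2 := (hk'i.inv_left.mul_left h1).mul_left hk'i
      simpa [mul_assoc] using h2
    · have h1 := MulAction.mem_stabilizer_iff.1 (hPz hx)
      rw [mul_smul, mul_smul, inv_smul_smul] at h1
      exact MulAction.injective k' h1
  obtain ⟨h', hh', hh'P⟩ := exists_conj_of_card_eq hP (le_inf hPi hPc) hmax hQ'
    (Coprime.card_conj _ _)
  refine ⟨(h' * k'⁻¹)⁻¹, inv_mem (Coprime.mem_normalizer_of_conj_eq ?_), ?_, ?_⟩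
  · rw [map_mul, mul_smul]
    exact hh'P
  · exact (Commute.mul_left (mem_centralizer.1 hh'.1) hk'i.inv_left).inv_left
  · rw [mul_inv_rev, inv_inv, mul_smul,
      inv_smul_eq_iff.2 (MulAction.mem_stabilizer_iff.1 hh'.2).symm]
    exact hk'c

/-- The abelian case: `P` an abelian Sylow subgroup of the stabiliser of `c`, the pair `c, k • c` of
full `p`-part. -/
theorem exists_translation_of_abelian [Finite Ω] {P : Subgroup G} {i k : G} {c : Ω} (hP : IsPGroup p P)
    (hab : IsMulCommutative P) (hi : i ∈ P) (hPc : P ≤ MulAction.stabilizer G c)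
    (hmax : ∀ R : Subgroup G, IsPGroup p R → R ≤ MulAction.stabilizer G c →
      Nat.card R ≤ Nat.card P)
    (hk : Commute k i) (hkc : k • c ≠ c)
    (hfull : pPart p (Nat.card (twoPt G c (k • c))) = Nat.card P) :
    ∃ g ∈ Subgroup.normalizer (P : Set G), Commute g i ∧ g • c ≠ c := by
  have hicmem : i ∈ twoPt G c (k • c) := by
    refine ⟨hPc hi, MulAction.mem_stabilizer_iff.2 ?_⟩
    rw [← mul_smul, ← hk.eq, mul_smul, MulAction.mem_stabilizer_iff.1 (hPc hi)]
  obtain ⟨Q, hiQ, hQK, hQp, hQcard⟩ := exists_sylow_twoPt c (k • c)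
    (hP.to_le (Subgroup.zpowers_le.2 hi)) (Subgroup.zpowers_le.2 hicmem)
  rw [hfull] at hQcard
  obtain ⟨h, -, hhQ⟩ := exists_conj_of_card_eq hP hPc hmax (hQK.trans inf_le_left) hQcard
  have hiQ' : i ∈ Q := hiQ (Subgroup.mem_zpowers i)
  have hQi : Q ≤ Subgroup.centralizer ({i} : Set G) := by
    intro q hq
    have hconj : ∀ y ∈ Q, h * y * h⁻¹ ∈ P := fun y hy => by
      rw [← hhQ]
      exact Subgroup.smul_mem_pointwise_smul _ (MulAut.conj h) _ hy
    have h1 : (h * q * h⁻¹) * (h * i * h⁻¹) = (h * i * h⁻¹) * (h * q * h⁻¹) :=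
      congrArg Subtype.val (hab.is_comm.comm ⟨_, hconj q hq⟩ ⟨_, hconj i hiQ'⟩)
    refine mem_centralizer.2 ?_
    calc q * i = h⁻¹ * ((h * q * h⁻¹) * (h * i * h⁻¹)) * h := by group
      _ = i * q := by rw [h1]; group
  refine exists_translation hP (fun x hx => mem_centralizer.2
    (congrArg Subtype.val (hab.is_comm.comm ⟨x, hx⟩ ⟨i, hi⟩))) hPc
    (fun R hR hRK => hmax R hR (hRK.trans inf_le_right)) hk hkc
    (le_inf hQi (hQK.trans inf_le_left)) (hQK.trans inf_le_right) hQcard

end Cfsg.Agent.Bender
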