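/-
Involutions centralise the `p`-subgroups they normalise, free case (owner: helper82; NC_KILL.md).

`H` strongly embedded in a minimal situation without `CoreTwo`, `p` with a `Setup` on `G ⧸ H`.

* `le_core_of_centric` : in odd `K` an `X`-invariant `p'`-subgroup lies in `O_p'(K)` if `X` contains
  the `p`-subgroups centralising it
* `Bad.core_normalised` : step (C), the core of a pair is normalised by the involution
* `eq_one_of_inverted` : a `p`-element inverted by an involution fixing with it a point is trivial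
* `centralizes_of_setup` : every involution of `H` centralises each `p`-subgroup of `H` it normalises
-/
import Cfsg.Agent.Lib.Bender.FreeNC
import Cfsg.Agent.Lib.Bender.CentLemma
import Cfsg.Agent.Lib.Bender.InvolutionZJ
import Cfsg.Agent.Lib.Bender.Translation

set_option autoImplicit false
set_option linter.style.haveILetI false

namespace Cfsg.Agent.Bender

open Cfsg Involution Aschbacher
open scoped Pointwise

universe u

variable {G : Type u} [Group G] [Finite G]

/-- An element normalising a subgroup normalises its `Z(J)`. -/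
theorem normalizer_le_normalizer_centerThompsonOf {p : ℕ} (R : Subgroup G) :
    Subgroup.normalizer (R : Set G) ≤ Subgroup.normalizer (centerThompsonOf p R : Set G) := by
  intro g hg
  rw [Subgroup.mem_normalizer_iff_map_conj_eq] at hg ⊢
  have h := PLocal.map_centerThompsonOf (p := p) (MulAut.conj g).toMonoidHom (H := R)
    (MulAut.conj g).injective.injOn
  change (centerThompsonOf p R).map (MulAut.conj g).toMonoidHom = centerThompsonOf p R
  rw [h]
  exact congrArg (centerThompsonOf p) hg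

/-- In a group of odd order an `X`-invariant `p'`-subgroup lies in the `p'`-core, if `X` contains
the `p`-subgroups centralising it. -/
theorem le_core_of_centric {p : ℕ} [Fact p.Prime] (hp : p ≠ 2) {K X Y : Subgroup G}
    (hK : Odd (Nat.card K)) (hXK : X ≤ K) (hX : IsPGroup p X) (hYK : Y ≤ K)
    (hY : ¬ p ∣ Nat.card Y) (hXY : X ≤ Subgroup.normalizer (Y : Set G))
    (hcent : ∀ R : Subgroup G, IsPGroup p R → R ≤ K →
      R ≤ Subgroup.centralizer (X : Set G) → R ≤ X) : Y ≤ core p K := by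
  haveI : Group.IsSolvable K := OddOrderTheorem.solvable hK
  set U := pPrimeCore p K
  haveI : U.Normal := Cores.pPrimeCore_normal p K
  have hU : (Nat.card U).Coprime p := Cores.coprime_card_pPrimeCore p
  set φ := QuotientGroup.mk' U
  have hφs : Function.Surjective φ := QuotientGroup.mk'_surjective U
  haveI : Group.IsSolvable (K ⧸ U) := Group.isSolvable_of_surjective hφs
  have hO : pPrimeCore p (K ⧸ U) = ⊥ := Cores.pPrimeCore_quotient_self p
  set R := pCore p (K ⧸ U) with hR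
  have hRp : IsPGroup p R := Cores.isPGroup_pCore p _
  haveI hRn : R.Normal := Cores.pCore_normal p _
  obtain ⟨S, hS⟩ := (hX.comap_subtype : IsPGroup p (X.subgroupOf K)).exists_le_sylow
  set A := (X.subgroupOf K).map φ with hA
  set Yq := (Y.subgroupOf K).map φ with hYq
  have hYq' : (Nat.card Yq).Coprime p := by
    refine (Nat.Coprime.coprime_dvd_left ?_ (((Fact.out : p.Prime).coprime_iff_not_dvd.2 hY).symm))
    rw [← Cores.card_subgroupOf hYK]
    exact Subgroup.card_map_dvd _ φ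
  have hAY : A ≤ Subgroup.normalizer (Yq : Set (K ⧸ U)) := by
    rintro _ ⟨x, hx, rfl⟩
    exact Subgroup.le_normalizer_map φ ⟨x, Coprime.mem_normalizer_of_forall fun y hy =>
      (Subgroup.mem_normalizer_iff.1 (hXY hx) y).1 hy, rfl⟩
  have hn : ∀ B : Subgroup (K ⧸ U), B ≤ Subgroup.normalizer (R : Set (K ⧸ U)) := fun B =>
    (Subgroup.normalizer_eq_top_iff.2 hRn).ge.trans' le_top
  have hYR : Yq ≤ Subgroup.centralizer (R : Set (K ⧸ U)) := by
    refine le_centralizer_of_fixed_le hp ((hX.comap_subtype).map φ) hRp hYq' hAY (hn A) (hn Yq) ?_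
    rintro r ⟨hrR, hrA⟩
    have hrS : r ∈ (S.mapSurjective hφs : Subgroup (K ⧸ U)) := Cores.pCore_le_sylow _ hrR
    rw [Sylow.coe_mapSurjective] at hrS
    obtain ⟨s, hs, rfl⟩ := hrS
    have hsX : (s : G) ∈ X := by
      refine hcent (((Subgroup.zpowers s).map K.subtype)) ((S.isPGroup'.to_le
        (Subgroup.zpowers_le.2 hs)).map _) (Subgroup.map_subtype_le _) ?_
        ⟨s, Subgroup.mem_zpowers s, rfl⟩
      rw [Subgroup.map_le_iff_le_comap, Subgroup.zpowers_le]
      refine Subgroup.mem_centralizer_iff.2 fun x hx => ?_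
      set xk : K := ⟨x, hXK hx⟩
      have hxS : xk ∈ (S : Subgroup K) := hS hx
      have h1 : φ xk * φ s = φ s * φ xk :=
        Subgroup.mem_centralizer_iff.1 hrA _ ⟨xk, hx, rfl⟩
      have h2 : (s * xk)⁻¹ * (xk * s) ∈ U :=
        QuotientGroup.eq.1 (show φ (s * xk) = φ (xk * s) by rw [map_mul, map_mul, h1])
      obtain ⟨n, hn⟩ := IsPGroup.iff_card.1 S.isPGroup'
      exact congrArg Subtype.val (inv_mul_eq_one.1 (Coprime.eq_one_of_mem_of_mem
        (hn ▸ hU.symm.pow_left n) (mul_mem (inv_mem (mul_mem hs hxS)) (mul_mem hxS hs)) h2)).symm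
    have hrX : φ s ∈ A := ⟨s, hsX, rfl⟩
    refine Subgroup.mem_centralizer_iff.2 fun y hy => ?_
    have h1 : φ s * y * (φ s)⁻¹ * y⁻¹ ∈ Yq :=
      mul_mem ((Subgroup.mem_normalizer_iff.1 (hAY hrX) y).1 hy) (inv_mem hy)
    have h2 : φ s * y * (φ s)⁻¹ * y⁻¹ ∈ R := by
      have := mul_mem hrR (hRn.conj_mem _ (inv_mem hrR) y)
      simpa [mul_assoc] using this
    obtain ⟨n, hn⟩ := IsPGroup.iff_card.1 hRp
    have h3 := Coprime.eq_one_of_mem_of_mem (hn ▸ hYq'.pow_right n) h1 h2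
    rw [mul_inv_eq_one, mul_inv_eq_iff_eq_mul] at h3
    exact h3.symm
  have hle : Yq ≤ R := hYR.trans (Solvable.centralizer_pCore_le_of_isSolvable hO)
  intro y hy
  obtain ⟨n, hn⟩ := IsPGroup.iff_card.1 hRp
  have hyq : φ ⟨y, hYK hy⟩ ∈ Yq := ⟨⟨y, hYK hy⟩, hy, rfl⟩
  have h1 : φ ⟨y, hYK hy⟩ = 1 :=
    Coprime.eq_one_of_mem_of_mem (A := Yq) (K := R) (hn ▸ hYq'.pow_right n) hyq (hle hyq)
  exact ⟨⟨y, hYK hy⟩, (QuotientGroup.eq_one_iff _).1 h1, rfl⟩

/-- Conjugate subgroups have `p'`-cores of the same order. -/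
theorem card_core_conj {p : ℕ} (g : G) (K : Subgroup G) :
    Nat.card (core p (MulAut.conj g • K)) = Nat.card (core p K) := by
  unfold core
  rw [Cores.card_map_subtype, Cores.card_map_subtype,
    ← Cores.pPrimeCore_map_mulEquiv (Subgroup.equivSMul (MulAut.conj g) K) p,
    Subgroup.card_map_of_injective (Subgroup.equivSMul (MulAut.conj g) K).injective]

variable {H : Subgroup G}

/-- `CoreTwo` for a proper subgroup moving the base point. -/
theorem coreTwo_inter_of_moves (hH : IsStronglyEmbedded H) (hIH : CoreTwoBelow G) {M : Subgroup G}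
    (hM : M ≠ ⊤) (hMH : ¬ M ≤ H) : CoreTwo (H ⊓ M) :=
  coreTwo_of_le_inter hH hIH hM hMH le_rfl

variable {p : ℕ} [Fact p.Prime] {X₀ : Subgroup G} {a₀ b₀ : G ⧸ H} {v : G} {X : Subgroup G}

/-- **(C)** The core of a pair containing a bad pair is normalised by the involution. -/
theorem Bad.core_normalised (hH : IsStronglyEmbedded H) (hIH : CoreTwoBelow G)
    (hcore : H.normalCore = ⊥) (S : Setup {d : G | orderOf d = 2} (fixPt H) p X₀ a₀ b₀)
    (B : Bad H p v X) {b : G ⧸ H} (hb : ((1 : G) : G ⧸ H) ≠ b)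
    (hXb : X ≤ MulAction.stabilizer G b) :
    v ∈ Subgroup.normalizer (core p (twoPt G ((1 : G) : G ⧸ H) b) : Set G) := by
  have P := S.pointClass
  set o : G ⧸ H := ((1 : G) : G ⧸ H) with ho
  have hT := B.coreTwo_inter hH S hcore hIH
  obtain ⟨hne, hXK, -⟩ := B.exists_pair_sylow S hb hXb
  set K' := twoPt G b (v • b)
  set K := twoPt G o b
  have hUH := B.core_le S hXK hne hT
  have hUK : core p K' ≤ K := le_inf (Bad.le_stab_one hUH) ((Cfsg.Agent.Bender.core_le p K').trans inf_le_left)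
  have hle : core p K' ≤ core p K :=
    le_core_of_centric S.odd_prime (S.odd o b hb) (le_inf (Bad.le_stab_one B.le) hXb) B.pgroup hUK
      not_dvd_card_core (hXK.trans (le_normalizer_core p K'))
      fun R hR hRK hRX => B.le_of_centralizes S hT hR (Bad.le_of_stab_one (hRK.trans inf_le_left)) hRX
  -- both pairs are conjugate
  obtain ⟨g, hgb, hgv⟩ := S.transitive (x := b) (y := v • b) (y' := o) hne.symm hb.symm
  have hK : MulAut.conj g • K' = K := by
    ext k
    rw [Coprime.mem_conj]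
    show g⁻¹ * k * g ∈ twoPt G b (v • b) ↔ k ∈ twoPt G o b
    simp only [Subgroup.mem_inf, MulAction.mem_stabilizer_iff, mul_smul, hgv,
      MulAction.mem_stabilizer_iff.1 hgb, inv_smul_eq_iff]
    exact and_comm
  have heq : core p K' = core p K :=
    Subgroup.eq_of_le_of_card_ge hle (by rw [← hK, card_core_conj])
  rw [← heq]
  exact normalizer_le_core p _ (swap_mem_normalizer_twoPt P (u := v) B.inv rfl)

/-- Any bad configuration: a subgroup `M` moving the base point, containing a bad pair of the given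
order, with a second point of its orbit fixed by the `p`-subgroup. -/
def IsConfig (H : Subgroup G) (p N : ℕ) (v : G) (X M : Subgroup G) (g : G) : Prop :=
  Bad H p v X ∧ Nat.card X = N ∧ M ≠ ⊤ ∧ v ∈ M ∧ X ≤ M ∧ g ∈ M ∧ g ∉ H ∧
    X ≤ MulAction.stabilizer G (g : G ⧸ H)

/-- The stabiliser of the second point is transitive on the involutions of the base point. -/
theorem exists_conj_in_pair (hH : IsStronglyEmbedded H) {M : Subgroup G} {g : G} (hgM : g ∈ M)
    (hgH : g ∉ H) {v s : G} (hv : orderOf v = 2) (hvH : v ∈ H) (hvM : v ∈ M) (hs : orderOf s = 2)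
    (hsH : s ∈ H) (hsM : s ∈ M) :
    ∃ k ∈ M ⊓ twoPt G ((1 : G) : G ⧸ H) (g : G ⧸ H), k * s * k⁻¹ = v := by
  have P := pointClass_of_stronglyEmbedded hH
  set o : G ⧸ H := ((1 : G) : G ⧸ H) with ho
  have hpt : ∀ d : G, orderOf d = 2 → d ∈ H → fixPt H d = o := fun d hd hdH =>
    ((P.fixed_iff d hd o).1 (smul_one_eq.2 hdH)).symm
  set f := g * v * g⁻¹
  have hf : orderOf f = 2 := (Involution.orderOf_conj g v).trans hv
  have hfp : fixPt H f = (g : G ⧸ H) := by
    rw [P.pt_conj g hv, hpt v hv hvH, ho, MulAction.Quotient.smul_mk, smul_eq_mul, mul_one]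
  have hne : o ≠ (g : G ⧸ H) := fun e => hgH (by
    have := QuotientGroup.eq.1 e
    rwa [inv_one, one_mul] at this)
  have hfM : f ∈ M := mul_mem (mul_mem hgM hvM) (inv_mem hgM)
  obtain ⟨w, hw, hwM, hwe, hwp⟩ := exists_mid_in P (K := M) hv hf hvM hfM
    (by rw [hpt v hv hvH, hfp]; exact hne)
  obtain ⟨w', hw', hwM', hwe', hwp'⟩ := exists_mid_in P (K := M) hs hf hsM hfM
    (by rw [hpt s hs hsH, hfp]; exact hne)
  rw [hpt v hv hvH, hfp] at hwp
  rw [hpt s hs hsH, hfp] at hwp'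
  refine ⟨w⁻¹ * w', ⟨M.mul_mem (M.inv_mem hwM) hwM', MulAction.mem_stabilizer_iff.2 ?_,
    MulAction.mem_stabilizer_iff.2 ?_⟩, ?_⟩
  · rw [mul_smul, hwp', inv_smul_eq_iff, hwp]
  · rw [mul_smul, show w' • (g : G ⧸ H) = o by rw [← hwp', P.smul_smul_self hw'],
      inv_eq (P.inv w hw), hwp]
  · calc w⁻¹ * w' * s * (w⁻¹ * w')⁻¹ = w⁻¹ * (w' * s * w'⁻¹) * w := by group
      _ = v := by rw [hwe', ← hwe]; group

/-- The bound: the pair stabiliser in `M` has full `p`-part. -/
theorem Bad.pair_full (hH : IsStronglyEmbedded H)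
    (S : Setup {d : G | orderOf d = 2} (fixPt H) p X₀ a₀ b₀) (B : Bad H p v X) {M : Subgroup G}
    (hT : CoreTwo (H ⊓ M)) {g : G} (hgM : g ∈ M) (hgH : g ∉ H) (hvM : v ∈ M) (hXM : X ≤ M)
    (hXg : X ≤ MulAction.stabilizer G (g : G ⧸ H)) :
    pPart p (Nat.card ↥(H ⊓ M)) ≤ pPart p (Nat.card ↥(M ⊓ twoPt G ((1 : G) : G ⧸ H) g)) := by
  set o : G ⧸ H := ((1 : G) : G ⧸ H) with ho
  set Ma := H ⊓ M with hMa
  set K := M ⊓ twoPt G o g with hKdef
  have hKMa : K ≤ Ma := fun k hk => ⟨smul_one_eq.1 (MulAction.mem_stabilizer_iff.1 hk.2.1), hk.1⟩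
  set φ := QuotientGroup.mk' (oddCore ↥Ma) with hφ
  set vv : Ma := ⟨v, B.mem, hvM⟩ with hvv
  set cls : Set (Ma ⧸ oddCore ↥Ma) := {c | ∃ t : Ma, orderOf (t : G) = 2 ∧ φ t = c} with hcls
  have hS : ∀ k : Ma, ∀ c ∈ cls, φ k * c * (φ k)⁻¹ ∈ cls := by
    rintro k _ ⟨t, ht, rfl⟩
    refine ⟨k * t * k⁻¹, ?_, by rw [map_mul, map_mul, map_inv]⟩
    rw [Subgroup.coe_mul, Subgroup.coe_mul, Subgroup.coe_inv, Involution.orderOf_conj, ht]
  have htr : ∀ c ∈ cls, ∃ k : Ma, (k : G) ∈ K ∧ φ k * φ vv * (φ k)⁻¹ = c := by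
    rintro _ ⟨t, ht, rfl⟩
    obtain ⟨k, hk, e⟩ := exists_conj_in_pair hH hgM hgH B.inv B.mem hvM ht t.2.1 t.2.2
    refine ⟨⟨k, hKMa hk⟩⁻¹, ?_, ?_⟩
    · exact K.inv_mem hk
    · rw [← map_inv, ← map_mul, ← map_mul]
      refine congrArg φ (Subtype.ext ?_)
      show k⁻¹ * v * k⁻¹⁻¹ = (t : G)
      rw [← e]; group
  set C := (Subgroup.centralizer ({φ vv} : Set (Ma ⧸ oddCore ↥Ma))).comap φ
  have e1 := card_eq_mul_comap φ ⊤ cls (fun k _ => hS k) (s₀ := φ vv) ⟨vv, B.inv, rfl⟩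
    fun c hc => (htr c hc).imp fun k hk => ⟨trivial, hk.2⟩
  have e2 := card_eq_mul_comap φ (K.subgroupOf Ma) cls (fun k _ => hS k) (s₀ := φ vv)
    ⟨vv, B.inv, rfl⟩ fun c hc => (htr c hc).imp fun k hk => ⟨hk.1, hk.2⟩
  rw [top_inf_eq, Subgroup.card_top] at e1
  rw [Cores.card_subgroupOf hKMa] at e2
  have hcl0 : Nat.card cls ≠ 0 := by
    haveI : Nonempty cls := ⟨⟨φ vv, vv, B.inv, rfl⟩⟩
    exact Nat.card_pos.ne'
  rw [e1, e2, pPart_mul hcl0 Nat.card_pos.ne', pPart_mul hcl0 Nat.card_pos.ne']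
  refine Nat.mul_le_mul_left _ ?_
  -- the `p`-part of the stabiliser of the class is the order of `X`
  set CG := C.map Ma.subtype with hCG
  have hXC : X ≤ CG := by
    intro x hx
    refine ⟨⟨x, B.le hx, hXM hx⟩, ?_, rfl⟩
    obtain ⟨d, hd, hde⟩ := B.commutator_mem S.odd_prime hXM hT ⟨B.mem, hvM⟩ B.norm B.inv hx
    refine mem_centralizer.2 ?_
    have h1 : φ d = 1 := (QuotientGroup.eq_one_iff d).2 hd
    have h2 : d = ⟨x, B.le hx, hXM hx⟩⁻¹ * (vv * ⟨x, B.le hx, hXM hx⟩ * vv⁻¹) := Subtype.ext hde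
    rw [h2, map_mul, map_inv, map_mul, map_mul, map_inv, inv_mul_eq_one, eq_mul_inv_iff_mul_eq]
      at h1
    exact h1
  obtain ⟨T', hT'⟩ := (B.pgroup.comap_subtype : IsPGroup p (X.subgroupOf CG)).exists_le_sylow
  set T := (T' : Subgroup CG).map CG.subtype with hTdef
  have hTle : Nat.card T ≤ Nat.card X := by
    refine B.enlarge S hvM (T'.isPGroup'.map _)
      (fun x hx => ⟨⟨x, hXC hx⟩, hT' hx, rfl⟩)
      ((Subgroup.map_subtype_le _).trans (Subgroup.map_subtype_le _)) fun r hr => ?_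
    obtain ⟨⟨r, k, hk, rfl⟩, -, rfl⟩ := hr
    refine ⟨k⁻¹ * (vv * k * vv⁻¹), (QuotientGroup.eq_one_iff _).1 ?_, rfl⟩
    show φ (k⁻¹ * (vv * k * vv⁻¹)) = 1
    rw [map_mul, map_inv, map_mul, map_mul, map_inv, ← (mem_centralizer.1 hk : Commute _ _).eq,
      mul_inv_cancel_right, inv_mul_cancel]
  calc pPart p (Nat.card C) = pPart p (Nat.card CG) := by rw [hCG, Cores.card_map_subtype]
    _ = Nat.card T :=
      T'.card_eq_multiplicity.symm.trans (Cores.card_map_subtype _ _).symm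
    _ ≤ Nat.card X := hTle
    _ ≤ _ := by
      rw [← Cores.card_subgroupOf (show X ≤ Ma from le_inf B.le hXM)]
      refine Coprime.card_le_of_isPGroup B.pgroup.comap_subtype fun x hx => ⟨?_, ?_⟩
      · exact Subgroup.mem_subgroupOf.2 ⟨hXM hx, Bad.le_stab_one B.le hx, hXg hx⟩
      · obtain ⟨y, hy, hye⟩ := hXC hx
        rwa [show x = y from Subtype.ext hye.symm]

/-- A configuration with the largest `p`-part of `H ∩ M` contradicts the criterion. -/
theorem IsConfig.false_of_max (hH : IsStronglyEmbedded H) (hIH : CoreTwoBelow G)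
    (hcore : H.normalCore = ⊥) (hfail : ¬ CoreTwo H)
    (S : Setup {d : G | orderOf d = 2} (fixPt H) p X₀ a₀ b₀) {N : ℕ} {M : Subgroup G} {g : G}
    (hN : ∀ (w : G) (Y : Subgroup G), orderOf w = 2 → w ∈ H → IsPGroup p Y → Y ≤ H →
      w ∈ Subgroup.normalizer (Y : Set G) → (∃ y ∈ Y, w * y ≠ y * w) → Nat.card Y ≤ N)
    (hc : IsConfig H p N v X M g)
    (hmax : ∀ (v' : G) (X' M' : Subgroup G) (g' : G), IsConfig H p N v' X' M' g' →
      pPart p (Nat.card ↥(H ⊓ M')) ≤ pPart p (Nat.card ↥(H ⊓ M))) : False := by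
  obtain ⟨B, hXN, hM, hvM, hXM, hgM, hgH, hXg⟩ := hc
  have P := S.pointClass
  have hgo : g • ((1 : G) : G ⧸ H) = (g : G ⧸ H) := by
    rw [MulAction.Quotient.smul_mk, smul_eq_mul, mul_one]
  have hne : ((1 : G) : G ⧸ H) ≠ (g : G ⧸ H) := fun e => hgH (smul_one_eq.1 (hgo.trans e.symm))
  have hT := coreTwo_inter_of_moves hH hIH hM fun h => hgH (h hgM)
  set K := M ⊓ twoPt G ((1 : G) : G ⧸ H) (g : G ⧸ H) with hK
  have hKL : K ≤ H ⊓ M := fun k hk =>
    ⟨smul_one_eq.1 (MulAction.mem_stabilizer_iff.1 hk.2.1), hk.1⟩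
  have hXK : X ≤ K := le_inf hXM (le_inf (Bad.le_stab_one B.le) hXg)
  have hKodd : Odd (Nat.card K) :=
    (S.odd _ _ hne).of_dvd_nat (Subgroup.card_dvd_of_le inf_le_right)
  -- a swapper in `M` normalising a Sylow subgroup of `K` over `X`
  obtain ⟨w, hw, hwM, -, hwp⟩ := exists_mid_in P (K := M) (e := v) (f := g * v * g⁻¹) B.inv
    ((Involution.orderOf_conj g v).trans B.inv) hvM (mul_mem (mul_mem hgM hvM) (inv_mem hgM))
    (by rw [P.pt_conj g B.inv, B.pt_eq S, hgo]; exact hne)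
  rw [P.pt_conj g B.inv, B.pt_eq S, hgo] at hwp
  have hwK : w ∈ Subgroup.normalizer (K : Set G) := Coprime.mem_normalizer_of_forall fun k hk =>
    ⟨M.mul_mem (M.mul_mem hwM hk.1) (M.inv_mem hwM),
      (Subgroup.mem_normalizer_iff.1 (swap_mem_normalizer_twoPt P hw hwp) k).1 hk.2⟩
  obtain ⟨Q, -, hQK, hwQ, -, hQcard⟩ := exists_sylow_invariant (p := p) hw hwK hKodd
    (R := ⊥) bot_le IsPGroup.of_bot
    (Coprime.mem_normalizer_of_forall fun x hx => by simp [Subgroup.mem_bot.1 hx])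
  obtain ⟨T', hT'⟩ := (B.pgroup.comap_subtype : IsPGroup p (X.subgroupOf K)).exists_le_sylow
  set T := (T' : Subgroup K).map K.subtype with hTdef
  have hTp : IsPGroup p T := T'.isPGroup'.map _
  have hTK : T ≤ K := Subgroup.map_subtype_le _
  have hXT : X ≤ T := fun x hx => ⟨⟨x, hXK hx⟩, hT' hx, rfl⟩
  have hTcard : Nat.card T = pPart p (Nat.card K) :=
    (Cores.card_map_subtype _ _).trans T'.card_eq_multiplicity
  obtain ⟨h, hh, hhQ⟩ := exists_conj_of_card_eq (p := p) hTp hTK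
    (fun R hR hRK => (Coprime.card_le_of_isPGroup hR hRK).trans hTcard.ge) hQK
    (hQcard.trans hTcard.symm)
  set u := h * w * h⁻¹ with hu
  have hu2 : orderOf u = 2 := (Involution.orderOf_conj h w).trans hw
  have huM : u ∈ M := mul_mem (mul_mem hh.1 hwM) (inv_mem hh.1)
  have huo : u • ((1 : G) : G ⧸ H) = (g : G ⧸ H) := by
    rw [hu, mul_smul, mul_smul,
      inv_smul_eq_iff.2 (MulAction.mem_stabilizer_iff.1 hh.2.1).symm, hwp,
      MulAction.mem_stabilizer_iff.1 hh.2.2]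
  have huH : u ∉ H := fun e => hne ((smul_one_eq.2 e).symm.trans huo)
  have huT : u ∈ Subgroup.normalizer (T : Set G) := by
    rw [← hhQ]
    refine Coprime.mem_normalizer_of_forall fun x hx => ?_
    rw [Coprime.mem_conj] at hx ⊢
    convert (Subgroup.mem_normalizer_iff.1 hwQ _).1 hx using 1
    rw [hu]; group
  -- `T` is a Sylow subgroup of `H ∩ M`
  have hTL : T ≤ H ⊓ M := hTK.trans hKL
  have hTfull : Nat.card T = pPart p (Nat.card ↥(H ⊓ M)) :=
    le_antisymm (Coprime.card_le_of_isPGroup hTp hTL)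
      ((B.pair_full hH S hT hgM hgH hvM hXM hXg).trans hTcard.ge)
  have hvL : v ∈ H ⊓ M := ⟨B.mem, hvM⟩
  have hXL : X ≤ H ⊓ M := le_inf B.le hXM
  obtain ⟨⟨v', hv'L⟩, hv'2, hv'Z, hv'O⟩ := exists_involution_normalizing_zj S.odd_prime
    (L := ↥(H ⊓ M))
    (fun s t hs ht => hT s t ((Subgroup.orderOf_coe s).trans hs) ((Subgroup.orderOf_coe t).trans ht))
    (v := ⟨v, hvL⟩) ((Subgroup.orderOf_mk v hvL).trans B.inv)
    (fun s hs => by
      obtain ⟨k, hk, hks⟩ := exists_conj_in_pair hH hgM hgH B.inv B.mem hvM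
        ((Subgroup.orderOf_coe s).trans hs) s.2.1 s.2.2
      exact ⟨⟨k, hKL hk⟩, Subtype.ext hks⟩)
    (X := X.subgroupOf (H ⊓ M)) B.pgroup.comap_subtype
    (Coprime.mem_normalizer_of_forall fun x hx =>
      Subgroup.mem_subgroupOf.2 ((Subgroup.mem_normalizer_iff.1 B.norm _).1 hx))
    (by
      obtain ⟨x, hx, hne⟩ := B.noncentral
      exact ⟨⟨x, hXL hx⟩, hx, fun e => hne (congrArg Subtype.val e)⟩)
    (Sylow.ofCard (T.subgroupOf (H ⊓ M)) (by rw [Cores.card_subgroupOf hTL]; exact hTfull))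
  set O := locCore H M with hOdef
  replace hv'2 : orderOf v' = 2 := (Subgroup.orderOf_mk v' hv'L).symm.trans hv'2
  replace hv'O : v' * v⁻¹ ∈ O := ⟨_, hv'O, rfl⟩
  set Z := centerThompsonOf p T with hZ
  replace hv'Z : v' ∈ Subgroup.normalizer (Z : Set G) := by
    have h1 : v' ∈ Subgroup.normalizer ((centerThompsonOf p (T.subgroupOf (H ⊓ M))).map
        (H ⊓ M).subtype : Set G) :=
      Subgroup.le_normalizer_map (H ⊓ M).subtype ⟨⟨v', hv'L⟩, hv'Z, rfl⟩
    rwa [PLocal.map_centerThompsonOf _ (H ⊓ M).subtype_injective.injOn,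
      Subgroup.map_subgroupOf_eq_of_le hTL] at h1
  have hTne : T ≠ ⊥ := fun e => B.ne_bot (le_bot_iff.1 (e ▸ hXT))
  have hZne : Z ≠ ⊥ := by
    obtain ⟨z, hz, hz1, hzp⟩ := PLocal.exists_central_of_order_p hTp hTne
    exact fun e => hz1 (Subgroup.mem_bot.1 (e.le (PLocal.central_le_centerThompsonOf hz hzp)))
  have hZT : Z ≤ T := inf_le_left.trans (PLocal.thompsonSubgroupOf_le _)
  set M' := Subgroup.normalizer (Z : Set G) with hM'
  have hM'top : M' ≠ ⊤ := by
    intro e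
    haveI : Z.Normal := Subgroup.normalizer_eq_top_iff.1 e
    exact hZne (le_bot_iff.1
      (hcore ▸ Subgroup.normal_le_normalCore.2 (hZT.trans (hTL.trans inf_le_left))))
  have hTM' : T ≤ M' :=
    Subgroup.le_normalizer.trans (normalizer_le_normalizer_centerThompsonOf T)
  have huM' : u ∈ M' := normalizer_le_normalizer_centerThompsonOf T huT
  -- a bad pair of `v'` inside `M'`
  set K3 := X ⊔ (O ⊓ M') with hK3
  have hXM' : X ≤ M' := hXT.trans hTM'
  have hON : H ⊓ M ≤ Subgroup.normalizer (O : Set G) := le_normalizer_locCore H M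
  have hXN3 : X ≤ Subgroup.normalizer ((O ⊓ M' : Subgroup G) : Set G) := fun x hx =>
    Coprime.mem_normalizer_of_forall fun o ho =>
      ⟨(Subgroup.mem_normalizer_iff.1 (hON (hXL hx)) o).1 ho.1,
        M'.mul_mem (M'.mul_mem (hXM' hx) ho.2) (M'.inv_mem (hXM' hx))⟩
  have hK3L : K3 ≤ H ⊓ M := sup_le hXL (inf_le_left.trans (locCore_le H M))
  have hK3M' : K3 ≤ M' := sup_le hXM' inf_le_right
  have hXodd := odd_card_of_isPGroup S.odd_prime B.pgroup
  have hK3odd : Odd (Nat.card K3) :=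
    odd_card_sup_of_normalizes hXN3
      ((odd_locCore H M).of_dvd_nat (Subgroup.card_dvd_of_le inf_le_left)) hXodd
  have hv'K3 : v' ∈ Subgroup.normalizer (K3 : Set G) := by
    have hle : K3 ≤ K3.comap (MulAut.conj v').toMonoidHom := by
      refine sup_le (fun x hx => ?_) (fun o ho => ?_)
      · set y := v * x * v⁻¹ with hy
        have hyX : y ∈ X := (Subgroup.mem_normalizer_iff.1 B.norm x).1 hx
        set c := v' * v⁻¹ with hc
        have e : v' * x * v'⁻¹ = y * ((y⁻¹ * c * y) * c⁻¹) := by rw [hy, hc]; group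
        have h1 : (y⁻¹ * c * y) * c⁻¹ ∈ O :=
          mul_mem ((Subgroup.mem_normalizer_iff''.1 (hON (hXL hyX)) c).1 hv'O) (inv_mem hv'O)
        have h2 : (y⁻¹ * c * y) * c⁻¹ ∈ M' := by
          have := mul_mem (inv_mem (hXM' hyX)) (mul_mem (mul_mem hv'Z (hXM' hx)) (inv_mem hv'Z))
          rwa [e, inv_mul_cancel_left] at this
        show v' * x * v'⁻¹ ∈ K3
        rw [e]
        exact mul_mem (Subgroup.mem_sup_left hyX) (Subgroup.mem_sup_right ⟨h1, h2⟩)
      · exact Subgroup.mem_sup_right ⟨(Subgroup.mem_normalizer_iff.1 (hON hv'L) o).1 ho.1,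
          M'.mul_mem (M'.mul_mem hv'Z ho.2) (M'.inv_mem hv'Z)⟩
    exact Coprime.mem_normalizer_of_forall fun a ha => hle ha
  obtain ⟨X'', -, hX''K, hv'X'', hX''p, hX''card⟩ := exists_sylow_invariant (p := p) hv'2 hv'K3
    hK3odd (R := ⊥) bot_le IsPGroup.of_bot
    (Coprime.mem_normalizer_of_forall fun x hx => by simp [Subgroup.mem_bot.1 hx])
  -- `X` is a Sylow subgroup of `X O`
  set K5 := X ⊔ O with hK5
  have hK5L : K5 ≤ H ⊓ M := sup_le hXL (locCore_le H M)
  have hK5odd : Odd (Nat.card K5) :=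
    odd_card_sup_of_normalizes (hXL.trans hON) (odd_locCore H M) hXodd
  have hvK5 : v ∈ Subgroup.normalizer (K5 : Set G) := by
    have hle : K5 ≤ K5.comap (MulAut.conj v).toMonoidHom :=
      sup_le (fun x hx => Subgroup.mem_sup_left ((Subgroup.mem_normalizer_iff.1 B.norm x).1 hx))
        (fun o ho => Subgroup.mem_sup_right ((Subgroup.mem_normalizer_iff.1 (hON hvL) o).1 ho))
    exact Coprime.mem_normalizer_of_forall fun a ha => hle ha
  have hfull5 : p ^ (Nat.card K5).factorization p = Nat.card X := by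
    obtain ⟨Q5, hXQ5, hQ5K, hvQ5, hQ5p, hQ5card⟩ := exists_sylow_invariant (p := p) B.inv hvK5
      hK5odd le_sup_left B.pgroup B.norm
    obtain ⟨x, hx, hne⟩ := B.noncentral
    exact le_antisymm (hQ5card.symm.trans_le (B.max Q5 hQ5p
      (hQ5K.trans (hK5L.trans inf_le_left)) hvQ5 ⟨x, hXQ5 hx, hne⟩))
      (Coprime.card_le_of_isPGroup B.pgroup le_sup_left)
  have hK35 : K3 ≤ K5 := sup_le le_sup_left (inf_le_left.trans le_sup_right)
  have hX''eq : Nat.card X'' = Nat.card X :=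
    le_antisymm ((Coprime.card_le_of_isPGroup hX''p (hX''K.trans hK35)).trans hfull5.le)
      ((Coprime.card_le_of_isPGroup B.pgroup le_sup_left).trans hX''card.ge)
  -- a conjugating element in the core
  obtain ⟨k, hkmem, hkv⟩ : ∃ k ∈ O, k * v * k⁻¹ = v' := by
    have hvv' : v * v' ∈ O := by
      have h1 : v * (v' * v⁻¹) * v⁻¹ ∈ O := (Subgroup.mem_normalizer_iff.1 (hON hvL) _).1 hv'O
      convert h1 using 1
      rw [inv_eq B.inv]
      simp only [mul_assoc, mul_self B.inv, mul_one]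
    obtain ⟨l, hl⟩ := (odd_locCore H M).of_dvd_nat (Subgroup.orderOf_dvd_natCard _ hvv')
    refine ⟨(v * v') ^ (l : ℤ), O.zpow_mem hvv' _, ?_⟩
    rw [conj_left_zpow B.inv hv'2]
    have : (v * v') ^ (-(2 * (l : ℤ))) = v * v' := by
      rw [show -(2 * (l : ℤ)) = -(orderOf (v * v') : ℤ) + 1 by rw [hl]; push_cast; ring,
        zpow_add_one, zpow_neg, zpow_natCast, pow_orderOf_eq_one, inv_one, one_mul]
    rw [this, left_mul_mul_left B.inv hv'2]
  have hnc : ∃ y ∈ X'', v' * y ≠ y * v' := by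
    by_contra! hcent
    set Y := MulAut.conj k⁻¹ • X'' with hY
    have hYK : Y ≤ K5 ⊓ Subgroup.centralizer ({v} : Set G) := by
      intro y hy
      rw [hY, Coprime.mem_conj, inv_inv] at hy
      refine ⟨?_, mem_centralizer.2 ?_⟩
      · have h1 := mul_mem (mul_mem (inv_mem (Subgroup.mem_sup_right hkmem : k ∈ K5))
          (hK35 (hX''K hy))) (Subgroup.mem_sup_right hkmem : k ∈ K5)
        show y ∈ K5
        rwa [show k⁻¹ * (k * y * k⁻¹) * k = y by group] at h1
      · have h1 := hcent _ hy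
        rw [← hkv] at h1
        calc y * v = k⁻¹ * (k * y * k⁻¹ * (k * v * k⁻¹)) * k := by group
          _ = v * y := by rw [← h1]; group
    have hcop : (Nat.card (Subgroup.zpowers v)).Coprime (Nat.card K5) := by
      rw [Nat.card_zpowers, B.inv]; exact Nat.coprime_two_left.2 hK5odd
    have h1 := Coprime.card_inf_centralizer_eq (Subgroup.zpowers_le.2 hvK5) hcop (Q := X)
      le_sup_left (Subgroup.zpowers_le.2 B.norm) hfull5.symm (Subgroup.mem_zpowers v)
    have hYp : IsPGroup p Y := hX''p.map _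
    have h2 := Coprime.card_le_of_isPGroup hYp hYK
    have e1 : Nat.card Y = Nat.card X := (Coprime.card_conj _ _).trans hX''eq
    rw [← h1, e1] at h2
    obtain ⟨x, hx, hne⟩ := B.noncentral
    have h3 := (Subgroup.eq_of_le_of_card_ge inf_le_left h2).ge hx
    exact hne (mem_centralizer.1 h3.2).symm
  have hX''H : X'' ≤ H := hX''K.trans (hK3L.trans inf_le_left)
  have B' : Bad H p v' X'' := ⟨hv'2, hv'L.1, hX''H, hX''p, hv'X'', hnc,
    fun Y hY hYH hvY hne => (hN v' Y hv'2 hv'L.1 hY hYH hvY hne).trans (hX''eq.trans hXN).ge⟩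
  obtain ⟨k3, hk3, hk3X⟩ := exists_conj_of_card_eq (p := p) hX''p hX''K
    (fun R hR hRK => (Coprime.card_le_of_isPGroup hR hRK).trans hX''card.ge)
    (le_sup_left : X ≤ K3) hX''eq.symm
  have hk3o : k3 • ((1 : G) : G ⧸ H) = ((1 : G) : G ⧸ H) := smul_one_eq.2 (hK3L hk3).1
  have hcfg : IsConfig H p N v' X'' M' (k3 * u) := by
    refine ⟨B', hX''eq.trans hXN, hM'top, hv'Z, hX''K.trans hK3M', mul_mem (hK3M' hk3) huM',
      fun e => huH ?_, ?_⟩
    · have := H.mul_mem (H.inv_mem (hK3L hk3).1) e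
      rwa [inv_mul_cancel_left] at this
    · rw [show ((k3 * u : G) : G ⧸ H) = k3 • (g : G ⧸ H) by
        rw [← huo, ← mul_smul, MulAction.Quotient.smul_mk, smul_eq_mul, mul_one], ← hk3X]
      exact (Setup.fix_conj S).2 hXg
  -- so `T` is full
  have hTo : T ≤ MulAction.stabilizer G ((1 : G) : G ⧸ H) := Bad.le_stab_one (hTL.trans inf_le_left)
  have hTg : T ≤ MulAction.stabilizer G (g : G ⧸ H) := hTK.trans (inf_le_right.trans inf_le_right)
  have hTX₀ : Nat.card T = Nat.card X₀ := by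
    refine le_antisymm (S.max T hTp _ _ hne hTo hTg) (le_of_not_gt fun hlt => ?_)
    obtain ⟨T₁, hT₁p, hlt₁, hT₁o, hT₁n⟩ := S.exists_larger hTp hTo hlt
    refine not_le.2 (card_lt_of_lt hlt₁) ?_
    calc Nat.card T₁ ≤ pPart p (Nat.card ↥(H ⊓ M')) := Coprime.card_le_of_isPGroup hT₁p
          (le_inf (Bad.le_of_stab_one hT₁o)
            (hT₁n.trans (normalizer_le_normalizer_centerThompsonOf T)))
      _ ≤ pPart p (Nat.card ↥(H ⊓ M)) := hmax v' X'' M' (k3 * u) hcfg
      _ = Nat.card T := hTfull.symm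
  -- the criterion
  set D' := twoPt G ((1 : G) : G ⧸ H) (g : G ⧸ H) with hD'
  by_cases hU : core p D' = ⊥
  · have hD'Z : D' ≤ M' := fun d hd => by
      obtain ⟨a, ha, n, -, hn, hdn⟩ := exists_core_mul_centerThompson S.odd_prime (S.odd _ _ hne)
        (le_inf hTo hTg : T ≤ D')
        (le_antisymm (Coprime.card_le_of_isPGroup hTp (le_inf hTo hTg))
          ((S.card_le hne).trans hTX₀.ge)) hd
      rw [hU, Subgroup.mem_bot] at ha
      rwa [hdn, ha, one_mul]
    exact crit_of_below hH hIH hcore hfail Z _ _ hne hZne (hZT.trans (le_inf hTo hTg)) hD'Z v' hv'2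
      ((P.fixed_iff v' hv'2 _).1 (smul_one_eq.2 hv'L.1)).symm hv'Z u hu2 huo huM'
  · exact crit_of_below hH hIH hcore hfail (core p D') _ _ hne hU (core_le p D')
      (le_normalizer_core p D') v B.inv (B.pt_eq S) (B.core_normalised hH hIH hcore S hne hXg) u
      hu2 huo (normalizer_le_core p _ (swap_mem_normalizer_twoPt P hu2 huo))

/-- **No involution of `H` acts non-trivially on a `p`-subgroup of `H`**, for `p` with a setup. -/
theorem centralizes_of_setup (hH : IsStronglyEmbedded H) (hIH : CoreTwoBelow G)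
    (hcore : H.normalCore = ⊥) (hfail : ¬ CoreTwo H)
    (S : Setup {d : G | orderOf d = 2} (fixPt H) p X₀ a₀ b₀) (w : G) (Y : Subgroup G)
    (hw : orderOf w = 2) (hwH : w ∈ H) (hY : IsPGroup p Y) (hYH : Y ≤ H)
    (hwY : w ∈ Subgroup.normalizer (Y : Set G)) : ∀ y ∈ Y, Commute w y := by
  by_contra! hcon
  set cand : Set (G × Subgroup G) := {q | orderOf q.1 = 2 ∧ q.1 ∈ H ∧ IsPGroup p q.2 ∧ q.2 ≤ H ∧
    q.1 ∈ Subgroup.normalizer (q.2 : Set G) ∧ ∃ y ∈ q.2, q.1 * y ≠ y * q.1}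
  obtain ⟨⟨v, X⟩, ⟨hv, hvH, hXp, hXH, hvX, hnc⟩, hmax⟩ := Set.exists_max_image cand
    (fun q => Nat.card q.2) (Set.toFinite _) ⟨(w, Y), hw, hwH, hY, hYH, hwY, hcon⟩
  have hN : ∀ (w : G) (Y : Subgroup G), orderOf w = 2 → w ∈ H → IsPGroup p Y → Y ≤ H →
      w ∈ Subgroup.normalizer (Y : Set G) → (∃ y ∈ Y, w * y ≠ y * w) → Nat.card Y ≤ Nat.card X :=
    fun w Y h1 h2 h3 h4 h5 h6 => hmax (w, Y) ⟨h1, h2, h3, h4, h5, h6⟩
  have B : Bad H p v X :=
    ⟨hv, hvH, hXH, hXp, hvX, hnc, fun Y hY hYH hvY hne => hN v Y hv hvH hY hYH hvY hne⟩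
  obtain ⟨g, hgM, hgH⟩ := SetLike.not_le_iff_exists.1 (B.normalizer_not_le S)
  have hfirst : IsConfig H p (Nat.card X) v X (Subgroup.normalizer (X : Set G)) g := by
    refine ⟨B, rfl, fun e => B.ne_bot ?_, hvX, Subgroup.le_normalizer, hgM, hgH, ?_⟩
    · haveI : X.Normal := Subgroup.normalizer_eq_top_iff.1 e
      exact le_bot_iff.1 (hcore ▸ Subgroup.normal_le_normalCore.2 hXH)
    · have h1 := le_stab_smul hgM (Bad.le_stab_one (H := H) hXH)
      rwa [MulAction.Quotient.smul_mk, smul_eq_mul, mul_one] at h1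
  obtain ⟨⟨v', X', M', g'⟩, hc, hcmax⟩ := Set.exists_max_image
    {q : G × Subgroup G × Subgroup G × G | IsConfig H p (Nat.card X) q.1 q.2.1 q.2.2.1 q.2.2.2}
    (fun q => pPart p (Nat.card ↥(H ⊓ q.2.2.1))) (Set.toFinite _) ⟨(v, X, _, g), hfirst⟩
  exact hc.false_of_max hH hIH hcore hfail S hN fun a b c d h => hcmax (a, b, c, d) h

/-- A `p`-element inverted by an involution and fixing a fixed point of it is trivial. -/
theorem eq_one_of_inverted (hH : IsStronglyEmbedded H) (hIH : CoreTwoBelow G)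
    (hcore : H.normalCore = ⊥) (hfail : ¬ CoreTwo H)
    (S : Setup {d : G | orderOf d = 2} (fixPt H) p X₀ a₀ b₀) {v k : G} (hv : orderOf v = 2)
    (hinv : v * k * v⁻¹ = k⁻¹) (hk : ∃ i : ℕ, orderOf k = p ^ i) {c : G ⧸ H} (hvc : v • c = c)
    (hkc : k • c = c) : k = 1 := by
  induction c using QuotientGroup.induction_on with
  | _ g =>
    have hgo : g • ((1 : G) : G ⧸ H) = (g : G ⧸ H) := by
      rw [MulAction.Quotient.smul_mk, smul_eq_mul, mul_one]
    have hmem : ∀ d : G, d • (g : G ⧸ H) = g → g⁻¹ * d * g ∈ H := fun d hd => smul_one_eq.1 (by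
      rw [mul_smul, mul_smul, hgo, hd, inv_smul_eq_iff, hgo])
    obtain ⟨i, hi⟩ := hk
    have hY : IsPGroup p (Subgroup.zpowers (g⁻¹ * k * g)) := IsPGroup.of_card
      (n := i) (by
        have e := Involution.orderOf_conj g⁻¹ k
        rw [inv_inv] at e
        rw [Nat.card_zpowers, e, hi])
    have hnorm : g⁻¹ * v * g ∈ Subgroup.normalizer (Subgroup.zpowers (g⁻¹ * k * g) : Set G) := by
      refine Coprime.mem_normalizer_of_forall fun x hx => ?_
      obtain ⟨n, rfl⟩ := Subgroup.mem_zpowers_iff.1 hx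
      rw [← conj_zpow]
      refine Subgroup.zpow_mem _ ?_ n
      rw [show g⁻¹ * v * g * (g⁻¹ * k * g) * (g⁻¹ * v * g)⁻¹ = g⁻¹ * (v * k * v⁻¹) * g by group,
        hinv, show g⁻¹ * k⁻¹ * g = (g⁻¹ * k * g)⁻¹ by group]
      exact Subgroup.inv_mem _ (Subgroup.mem_zpowers _)
    have hc := centralizes_of_setup hH hIH hcore hfail S (g⁻¹ * v * g) _
      (by have := Involution.orderOf_conj g⁻¹ v; rwa [inv_inv, hv] at this) (hmem v hvc) hY
      (Subgroup.zpowers_le.2 (hmem k hkc)) hnorm _ (Subgroup.mem_zpowers _)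
    have h1 : v * k = k * v := by
      calc v * k = g * (g⁻¹ * v * g * (g⁻¹ * k * g)) * g⁻¹ := by group
        _ = k * v := by rw [hc.eq]; group
    rw [h1, mul_inv_cancel_right] at hinv
    have h2 : orderOf k ∣ 2 := orderOf_dvd_of_pow_eq_one (by
      rw [sq, mul_eq_one_iff_eq_inv]; exact hinv)
    refine orderOf_eq_one_iff.1 (Nat.eq_one_of_dvd_coprimes
      ((Nat.coprime_two_left.2 ((Fact.out : p.Prime).odd_of_ne_two S.odd_prime).pow)) h2 hi.dvd)

end Cfsg.Agent.Bender
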