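/-
Commuting involutions at a point, free case of Bender's theorem (owner: helper1).

`P : PointClass G Ω D pt` with all involutions in `D` and odd two-point stabilisers; `u₀` exchanges
`a, b`, `v₀` is an involution at `a` whose centraliser in `G_ab` centralises `u₀`.  Then `u₀` gives
a reflection of the commuting graph on the involutions at `a` through every midpoint; as the number
of involutions of an even group is odd, midpoints of neighbours are neighbours, so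

* `commute_trans_at` : commuting is transitive on the involutions at `a`.
-/
import Cfsg.Agent.Lib.Bender.CoreTwo
import Cfsg.Agent.Lib.Bender.Sharp
import Cfsg.Agent.Lib.Bender.Good

set_option autoImplicit false
set_option linter.style.haveILetI false
set_option linter.unusedSectionVars false

namespace Cfsg.Agent.Bender

open Cfsg Involution Aschbacher
open scoped Pointwise

universe u v

variable {G : Type u} {Ω : Type v} [Group G] [MulAction G Ω] [Finite G] [Finite Ω]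
variable {D : Set G} {pt : G → Ω}

theorem conj_conj (g h x : G) : g * h * x * (g * h)⁻¹ = g * (h * x * h⁻¹) * g⁻¹ := by group

theorem commute_conj_iff {g x y : G} :
    Commute (g * x * g⁻¹) (g * y * g⁻¹) ↔ Commute x y := by
  constructor <;> intro h
  · have := h.map (MulAut.conj g⁻¹).toMonoidHom
    simpa [mul_assoc] using this
  · exact h.map (MulAut.conj g).toMonoidHom

theorem commute_inv_mul_of_conj_eq {g h x : G} (e : g * x * g⁻¹ = h * x * h⁻¹) :
    Commute (g⁻¹ * h) x := by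
  show g⁻¹ * h * x = x * (g⁻¹ * h)
  calc g⁻¹ * h * x = g⁻¹ * (h * x * h⁻¹) * h := by group
    _ = x * (g⁻¹ * h) := by rw [← e]; group

variable (P : PointClass G Ω D pt)
  (hodd : ∀ x y : Ω, x ≠ y → Odd (Nat.card (twoPt G x y)))
  (hD : ∀ g : G, orderOf g = 2 → g ∈ D)
  {a b : Ω} (hab : a ≠ b) {v₀ u₀ : G} (hv₀ : v₀ ∈ D) (hva : pt v₀ = a) (hu₀ : u₀ ∈ D)
  (hua : u₀ • a = b)
  (hcent : twoPt G a b ⊓ Subgroup.centralizer ({v₀} : Set G) ≤ Subgroup.centralizer ({u₀} : Set G))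
include P hodd hD hab hv₀ hva hu₀ hua hcent

theorem swap_twoPt {h : G} (hh : h ∈ twoPt G a b) : u₀ * h * u₀⁻¹ ∈ twoPt G a b :=
  (Subgroup.mem_normalizer_iff.1 (swap_mem_normalizer_twoPt P hu₀ hua) h).1 hh

theorem commute_swap_iff {h : G} (hh : h ∈ twoPt G a b) : Commute h v₀ ↔ Commute h u₀ := by
  have heq : twoPt G a b ⊓ Subgroup.centralizer ({v₀} : Set G) =
      twoPt G a b ⊓ Subgroup.centralizer ({u₀} : Set G) := by
    refine Subgroup.eq_of_le_of_card_ge (le_inf inf_le_left hcent) (le_of_eq ?_)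
    have h1 := card_twoPt P hab hv₀ hva
    rw [card_twoPt_swap P hab hu₀ hua, card_point_eq P b a] at h1
    exact Nat.eq_of_mul_eq_mul_left (P.odd_card a).pos h1
  constructor <;> intro hc
  · exact mem_centralizer.1 (heq.le ⟨hh, mem_centralizer.2 hc⟩).2
  · exact mem_centralizer.1 (heq.ge ⟨hh, mem_centralizer.2 hc⟩).2

/-- The reflection in `u₀` is well defined on the involutions at `a`. -/
theorem twist_eq {g h : G} (hg : g ∈ twoPt G a b) (hh : h ∈ twoPt G a b)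
    (e : g * v₀ * g⁻¹ = h * v₀ * h⁻¹) :
    (u₀ * g * u₀⁻¹) * v₀ * (u₀ * g * u₀⁻¹)⁻¹ = (u₀ * h * u₀⁻¹) * v₀ * (u₀ * h * u₀⁻¹)⁻¹ := by
  have hc := commute_inv_mul_of_conj_eq e
  have hc' := (commute_swap_iff P hodd hD hab hv₀ hva hu₀ hua hcent
    (mul_mem (inv_mem hg) hh)).1 hc
  rw [show u₀ * h * u₀⁻¹ = u₀ * g * u₀⁻¹ * (g⁻¹ * h) by
    calc u₀ * h * u₀⁻¹ = u₀ * g * ((g⁻¹ * h) * u₀⁻¹) := by group
      _ = _ := by rw [hc'.inv_right.eq]; group]
  rw [conj_conj (u₀ * g * u₀⁻¹) (g⁻¹ * h) v₀, hc.eq, mul_inv_cancel_right]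

/-- The reflection preserves commuting with `v₀`. -/
theorem commute_twist {h : G} (hh : h ∈ twoPt G a b) (hc : Commute v₀ (h * v₀ * h⁻¹)) :
    Commute v₀ ((u₀ * h * u₀⁻¹) * v₀ * (u₀ * h * u₀⁻¹)⁻¹) := by
  obtain ⟨j, ⟨⟨hj, hinv⟩, hjv⟩, -⟩ := existsUnique_inverted_conj P hodd (P.inv u₀ hu₀) hua hab
    hv₀ hva (P.conj_mem h v₀ hv₀)
    (by rw [P.pt_conj h hv₀, hva]; exact MulAction.mem_stabilizer_iff.1 hh.1)
  rw [twist_eq P hodd hD hab hv₀ hva hu₀ hua hcent hh hj hjv.symm, hinv]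
  rw [← hjv] at hc
  have := (commute_conj_iff (g := j⁻¹)).2 hc
  rw [show j⁻¹ * (j * v₀ * j⁻¹) * j⁻¹⁻¹ = v₀ by group] at this
  exact this.symm

/-- If some involution commutes with `v₀` and `w`, the midpoint commutes with both. -/
theorem exists_mid_common {w k : G} (hk : k ∈ twoPt G a b) (hinv : u₀ * k * u₀⁻¹ = k⁻¹)
    (hw : k * v₀ * k⁻¹ = w) (hne : w ≠ v₀)
    (hnbr : ∃ t, orderOf t = 2 ∧ Commute v₀ t ∧ Commute w t) :
    ∃ x h : G, orderOf x = 2 ∧ Commute v₀ x ∧ Commute w x ∧ x ≠ v₀ ∧ h ∈ twoPt G a b ∧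
      h * v₀ * h⁻¹ = x ∧ h * u₀ * h⁻¹ = k * u₀ := by
  classical
  set K := twoPt G a b
  let N := {x : G // orderOf x = 2 ∧ Commute v₀ x ∧ Commute w x ∧ x ≠ v₀ ∧ x ≠ w}
  have hrep : ∀ x : N, ∃ h ∈ K, h * v₀ * h⁻¹ = x.1 := fun x =>
    P.exists_conj_point hab hv₀ hva (hD _ x.2.1)
      ((P.pt_eq_of_commute hv₀ (hD _ x.2.1) x.2.2.1).symm.trans hva)
  choose h hh hx using hrep
  have hh' : ∀ x : N, k * (u₀ * h x * u₀⁻¹) ∈ K := fun x =>
    mul_mem hk (swap_twoPt P hodd hD hab hv₀ hva hu₀ hua hcent (hh x))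
  have hu2 : u₀ * u₀ = 1 := mul_self (P.inv u₀ hu₀)
  have hui : u₀⁻¹ = u₀ := inv_eq (P.inv u₀ hu₀)
  have hback : ∀ x : N, u₀ * (k * (u₀ * h x * u₀⁻¹)) * u₀⁻¹ = k⁻¹ * h x := fun x => by
    calc u₀ * (k * (u₀ * h x * u₀⁻¹)) * u₀⁻¹
        = (u₀ * k * u₀⁻¹) * ((u₀ * u₀) * h x * (u₀ * u₀)⁻¹) := by group
      _ = k⁻¹ * h x := by rw [hinv, hu2]; group
  have hswap := fun {g : G} (hg : g ∈ K) =>
    commute_swap_iff P hodd hD hab hv₀ hva hu₀ hua hcent hg
  let σ : N → N := fun x => ⟨k * (u₀ * h x * u₀⁻¹) * v₀ * (k * (u₀ * h x * u₀⁻¹))⁻¹, by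
    refine ⟨(orderOf_conj _ _).trans (P.inv v₀ hv₀), ?_, ?_, ?_, ?_⟩
    · have h1 : Commute v₀ (k⁻¹ * h x * v₀ * (k⁻¹ * h x)⁻¹) := by
        rw [conj_conj, hx]
        have := (commute_conj_iff (g := k⁻¹)).2 x.2.2.2.1
        rwa [show k⁻¹ * w * k⁻¹⁻¹ = v₀ by rw [← hw]; group] at this
      have h2 := commute_twist P hodd hD hab hv₀ hva hu₀ hua hcent
        (mul_mem (inv_mem hk) (hh x)) h1
      rwa [show u₀ * (k⁻¹ * h x) * u₀⁻¹ = k * (u₀ * h x * u₀⁻¹) by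
        rw [← hinv]
        calc u₀ * (u₀ * k * u₀⁻¹ * h x) * u₀⁻¹ = (u₀ * u₀) * k * (u₀⁻¹ * h x * u₀⁻¹) := by group
          _ = _ := by rw [hu2, hui]; group] at h2
    · rw [conj_conj, ← hw, commute_conj_iff]
      exact commute_twist P hodd hD hab hv₀ hva hu₀ hua hcent (hh x) (by rw [hx]; exact x.2.2.1)
    · intro e
      have h1 : Commute (k * (u₀ * h x * u₀⁻¹)) v₀ := mul_inv_eq_iff_eq_mul.1 e
      have h2 := (hswap (hh' x)).1 h1
      have h3 : k⁻¹ * h x = k * (u₀ * h x * u₀⁻¹) := by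
        rw [← hback x, ← h2.eq, mul_inv_cancel_right]
      rw [← h3] at h1
      refine x.2.2.2.2.2 ?_
      calc x.1 = k * ((k⁻¹ * h x) * v₀ * (k⁻¹ * h x)⁻¹) * k⁻¹ := by rw [← hx x]; group
        _ = w := by rw [h1.eq, mul_inv_cancel_right, hw]
    · intro e
      rw [conj_conj, ← hw] at e
      have e' : (u₀ * h x * u₀⁻¹) * v₀ * (u₀ * h x * u₀⁻¹)⁻¹ = v₀ :=
        mul_left_cancel (mul_right_cancel e)
      have h2 := (hswap (swap_twoPt P hodd hD hab hv₀ hva hu₀ hua hcent (hh x))).1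
        (mul_inv_eq_iff_eq_mul.1 e')
      have h3 : h x = u₀ * h x * u₀⁻¹ := by
        calc h x = u₀ * (u₀ * h x * u₀⁻¹) * u₀⁻¹ := by
              rw [hui]
              calc h x = (u₀ * u₀) * h x * (u₀ * u₀) := by rw [hu2, one_mul, mul_one]
                _ = _ := by group
          _ = u₀ * h x * u₀⁻¹ := by rw [← h2.eq, mul_inv_cancel_right]
      exact x.2.2.2.2.1 (by rw [← hx x, h3, e'])⟩
  have hσ : ∀ x, σ (σ x) = x := by
    intro x
    apply Subtype.ext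
    show k * (u₀ * h (σ x) * u₀⁻¹) * v₀ * (k * (u₀ * h (σ x) * u₀⁻¹))⁻¹ = x.1
    rw [conj_conj, twist_eq P hodd hD hab hv₀ hva hu₀ hua hcent (hh _) (hh' x) (hx (σ x)),
      hback x, ← conj_conj, mul_inv_cancel_left, hx]
  -- the number of common neighbours is odd
  set L := Subgroup.centralizer ({v₀} : Set G) ⊓ Subgroup.centralizer ({w} : Set G) with hL
  have hmem : ∀ {t : G}, t ∈ L ↔ Commute v₀ t ∧ Commute w t := fun {t} => by
    rw [hL, Subgroup.mem_inf, mem_centralizer, mem_centralizer]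
    exact ⟨fun h => ⟨h.1.symm, h.2.symm⟩, fun h => ⟨h.1.symm, h.2.symm⟩⟩
  have hL2 : Even (Nat.card L) := by
    obtain ⟨t, ht, hc⟩ := hnbr
    exact even_iff_two_dvd.2 (ht ▸ Subgroup.orderOf_dvd_natCard L (hmem.2 hc))
  have hcount : Odd (Nat.card {t : G // orderOf t = 2 ∧ Commute v₀ t ∧ Commute w t}) := by
    convert odd_card_involutions hL2 using 1
    exact Nat.card_congr
      { toFun := fun t => ⟨⟨t.1, hmem.2 t.2.2⟩, by rw [← Subgroup.orderOf_coe]; exact t.2.1⟩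
        invFun := fun t => ⟨t.1.1, by rw [Subgroup.orderOf_coe]; exact t.2, hmem.1 t.1.2⟩
        left_inv := fun t => rfl
        right_inv := fun t => rfl }
  have hw2 : orderOf w = 2 := by rw [← hw, orderOf_conj]; exact P.inv v₀ hv₀
  have hNodd : Odd (Nat.card N) := by
    let S : Set G := {t | orderOf t = 2 ∧ Commute v₀ t ∧ Commute w t}
    have hS : Odd S.ncard := by rwa [← Nat.card_coe_set_eq]
    have hN : Nat.card N = (S \ {v₀, w}).ncard := by
      rw [← Nat.card_coe_set_eq]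
      refine Nat.card_congr (Equiv.subtypeEquivRight fun t => ?_)
      simp only [S, Set.mem_sdiff, Set.mem_setOf_eq, Set.mem_insert_iff, Set.mem_singleton_iff,
        not_or]
      tauto
    by_cases hcw : Commute v₀ w
    · have hsub : ({v₀, w} : Set G) ⊆ S := by
        rintro t (rfl | rfl)
        · exact ⟨P.inv _ hv₀, Commute.refl _, hcw.symm⟩
        · exact ⟨hw2, hcw, Commute.refl _⟩
      have h2 : ({v₀, w} : Set G).ncard = 2 := Set.ncard_pair hne.symm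
      have h3 := Set.ncard_sdiff_add_ncard_of_subset hsub
      rw [hN, Nat.odd_iff]
      rw [Nat.odd_iff] at hS
      omega
    · have hd : S \ {v₀, w} = S := by
        refine sdiff_eq_left.2 (Set.disjoint_left.2 ?_)
        rintro t ht (rfl | rfl)
        · exact hcw ht.2.2.symm
        · exact hcw ht.2.1
      rwa [hN, hd]
  obtain ⟨x, hfix⟩ := exists_fixed_of_odd hNodd σ hσ
  have e : k * (u₀ * h x * u₀⁻¹) * v₀ * (k * (u₀ * h x * u₀⁻¹))⁻¹ = h x * v₀ * (h x)⁻¹ :=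
    (congrArg Subtype.val hfix).trans (hx x).symm
  have hcK : (h x)⁻¹ * (k * (u₀ * h x * u₀⁻¹)) ∈ K := mul_mem (inv_mem (hh x)) (hh' x)
  set c := (h x)⁻¹ * (k * (u₀ * h x * u₀⁻¹)) with hc
  have hcu : Commute c u₀ := (hswap hcK).1 (commute_inv_mul_of_conj_eq e.symm)
  have hku : k * u₀ * (k * u₀) = 1 := by
    calc k * u₀ * (k * u₀) = k * ((u₀ * k * u₀⁻¹) * (u₀ * u₀)) := by group
      _ = 1 := by rw [hinv, hu2, mul_one, mul_inv_cancel]
  have hcu2 : (c * u₀) * (c * u₀) = 1 := by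
    have e1 : c * u₀ = (h x)⁻¹ * (k * u₀) * h x := by rw [hc]; group
    rw [e1]
    calc (h x)⁻¹ * (k * u₀) * h x * ((h x)⁻¹ * (k * u₀) * h x)
        = (h x)⁻¹ * (k * u₀ * (k * u₀)) * h x := by group
      _ = 1 := by rw [hku, mul_one, inv_mul_cancel]
  have hc2 : c * c = 1 := by
    calc c * c = c * u₀ * (c * u₀) * (u₀ * u₀)⁻¹ := by
          rw [show c * u₀ * (c * u₀) = c * (u₀ * c) * u₀ by group, ← hcu.eq]; group
      _ = 1 := by rw [hcu2, hu2, inv_one, one_mul]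
  have hc1 : c = 1 := by
    by_contra hc1
    have h1 := Subgroup.orderOf_dvd_natCard _ hcK
    rw [orderOf_of_sq hc2 hc1] at h1
    exact Nat.not_even_iff_odd.2 (hodd a b hab) (even_iff_two_dvd.2 h1)
  refine ⟨x.1, h x, x.2.1, x.2.2.1, x.2.2.2.1, x.2.2.2.2.1, hh x, hx x, ?_⟩
  rw [hc, inv_mul_eq_one] at hc1
  calc h x * u₀ * (h x)⁻¹ = (k * (u₀ * h x * u₀⁻¹)) * u₀ * (h x)⁻¹ := by rw [← hc1]
    _ = k * u₀ := by group

/-- An involution commuting with a neighbour of `v₀` commutes with `v₀`. -/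
theorem commute_of_common {t w : G} (hw : orderOf w = 2) (ht : orderOf t = 2)
    (h1 : Commute v₀ t) (h2 : Commute t w) : Commute v₀ w := by
  classical
  by_contra hcon
  have hta : pt t = a := by rw [← P.pt_eq_of_commute hv₀ (hD t ht) h1, hva]
  have hwa : pt w = a := by rw [← P.pt_eq_of_commute (hD t ht) (hD w hw) h2, hta]
  have hinvj : ∀ x : G, orderOf x = 2 → pt x = a →
      ∃ k, (k ∈ twoPt G a b ∧ u₀ * k * u₀⁻¹ = k⁻¹) ∧ k * v₀ * k⁻¹ = x := fun x hx hxa =>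
    (existsUnique_inverted_conj P hodd (P.inv u₀ hu₀) hua hab hv₀ hva (hD x hx) hxa).exists
  let A := {x : G // orderOf x = 2 ∧ Commute v₀ x ∧ x ≠ v₀}
  choose k hk hkv using fun x : A => hinvj x.1 x.2.1
    ((P.pt_eq_of_commute hv₀ (hD _ x.2.1) x.2.2.1).symm.trans hva)
  choose m g hm2 hm hmw hm1 hg hgv hgu using fun x : A =>
    exists_mid_common P hodd hD hab hv₀ hva hu₀ hua hcent (hk x).1 (hk x).2 (hkv x) x.2.2.2
      ⟨v₀, P.inv v₀ hv₀, Commute.refl _, x.2.2.1.symm⟩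
  have hinj : ∀ {g₁ g₂ k₁ k₂ : G}, g₁ ∈ twoPt G a b → g₂ ∈ twoPt G a b →
      g₁ * v₀ * g₁⁻¹ = g₂ * v₀ * g₂⁻¹ → g₁ * u₀ * g₁⁻¹ = k₁ * u₀ → g₂ * u₀ * g₂⁻¹ = k₂ * u₀ →
      k₁ = k₂ := by
    intro g₁ g₂ k₁ k₂ h₁ h₂ e e₁ e₂
    have hc := (commute_swap_iff P hodd hD hab hv₀ hva hu₀ hua hcent
      (mul_mem (inv_mem h₁) h₂)).1 (commute_inv_mul_of_conj_eq e)
    refine mul_right_cancel (b := u₀) ?_
    rw [← e₁, ← e₂]
    calc g₁ * u₀ * g₁⁻¹ = g₁ * ((g₁⁻¹ * g₂) * u₀ * (g₁⁻¹ * g₂)⁻¹) * g₁⁻¹ := by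
          rw [hc.eq, mul_inv_cancel_right]
      _ = g₂ * u₀ * g₂⁻¹ := by group
  let f : A → A := fun x => ⟨m x, hm2 x, hm x, hm1 x⟩
  have hf : Function.Injective f := fun x y e => by
    have e' : m x = m y := congrArg Subtype.val e
    exact Subtype.ext (by
      rw [← hkv x, ← hkv y,
        hinj (hg x) (hg y) ((hgv x).trans (e'.trans (hgv y).symm)) (hgu x) (hgu y)])
  obtain ⟨k', ⟨hk', hinv'⟩, hkw⟩ := hinvj w hw hwa
  have hne : w ≠ v₀ := fun e => hcon (e ▸ Commute.refl v₀)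
  obtain ⟨x, g', hx2, hx, -, hx1, hg', hgv', hgu'⟩ := exists_mid_common P hodd hD hab hv₀ hva
    hu₀ hua hcent hk' hinv' hkw hne ⟨t, ht, h1, h2.symm⟩
  obtain ⟨y, hy⟩ := Finite.surjective_of_injective hf ⟨x, hx2, hx, hx1⟩
  have e' : m y = x := congrArg Subtype.val hy
  have := hinj (hg y) hg' ((hgv y).trans (e'.trans hgv'.symm)) (hgu y) hgu'
  exact hcon (by rw [← hkw, ← this, hkv y]; exact y.2.2.1)

/-- **Commuting is transitive on the involutions at `a`.** -/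
theorem commute_trans_at {v t w : G} (hv : orderOf v = 2) (ht : orderOf t = 2) (hw : orderOf w = 2)
    (hpt : pt v = a) (h1 : Commute v t) (h2 : Commute t w) : Commute v w := by
  obtain ⟨d, -, hd⟩ := P.exists_conj_point hab hv₀ hva (hD v hv) hpt
  have hv' : d⁻¹ * v * d⁻¹⁻¹ = v₀ := by rw [← hd]; group
  have e1 := (commute_conj_iff (g := d⁻¹)).2 h1
  rw [hv'] at e1
  refine (commute_conj_iff (g := d⁻¹)).1 ?_
  rw [hv']
  exact commute_of_common P hodd hD hab hv₀ hva hu₀ hua hcent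
    ((orderOf_conj _ _).trans hw) ((orderOf_conj _ _).trans ht) e1
    ((commute_conj_iff (g := d⁻¹)).2 h2)

end Cfsg.Agent.Bender
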