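/-
Swappers inside a normal subgroup, free case of Bender's theorem (owner: helper1).

`K` is any subgroup, `P : PointClass G Ω D pt`.

Main results:
* `odd_of_pt_mem`, `pt_mem_of_odd` : parity of a set stable under a member of `D`
* `card_swap_in`, `card_pts_in` : the swappers in `K` of a pair and the members of `D` in `K` at a
  point are equally many
* `card_eq_swap_mul` : a group fixing the pair and containing the rotations is transitive on them
* `exists_conj_normalizing` : a swapper of `E` may be chosen to normalise a Sylow subgroup of `E`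
-/
import Cfsg.Agent.Lib.Bender.Transitive
import Cfsg.Agent.Lib.Bender.Full
import Cfsg.Agent.Lib.Bender.Sharp

set_option autoImplicit false
set_option linter.style.haveILetI false
set_option linter.unusedSectionVars false

namespace Cfsg.Agent.Bender

open Cfsg Involution Aschbacher
open scoped Pointwise

universe u v

variable {G : Type u} {Ω : Type v} [Group G] [MulAction G Ω] [Finite G] [Finite Ω]
variable {D : Set G} {pt : G → Ω} (P : PointClass G Ω D pt)
include P

theorem smul_back {t : G} {x y : Ω} (ht : t ∈ D) (h : t • x = y) : t • y = x := by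
  rw [← h, P.smul_smul_self ht]

/-- A member of `D` stabilising a set of odd size has its point there. -/
theorem pt_mem_of_odd {t : G} (ht : t ∈ D) {s : Set Ω} (hst : ∀ z ∈ s, t • z ∈ s)
    (hs : Odd (Nat.card s)) : pt t ∈ s := by
  obtain ⟨⟨z, hz⟩, e⟩ := exists_fixed_of_odd hs (fun z => ⟨t • z.1, hst z z.2⟩)
    (fun z => Subtype.ext (P.smul_smul_self ht z.1))
  rwa [← (P.fixed_iff t ht z).1 (congrArg Subtype.val e)]

/-- A set stable under a member of `D` and containing its point has odd size. -/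
theorem odd_of_pt_mem {t : G} (ht : t ∈ D) {s : Set Ω} (hst : ∀ z ∈ s, t • z ∈ s)
    (hpt : pt t ∈ s) : Odd (Nat.card s) := by
  have hst' : ∀ z ∈ s \ {pt t}, t • z ∈ s \ {pt t} := fun z hz => ⟨hst z hz.1, fun e => hz.2 (by
    have e' : t • z = pt t := e
    exact MulAction.injective t (e'.trans (P.smul_pt ht).symm))⟩
  have h1 : ¬ Odd (Nat.card ↑(s \ {pt t})) := fun h => (pt_mem_of_odd P ht hst' h).2 rfl
  rw [Nat.card_coe_set_eq] at h1 ⊢
  rw [← Set.ncard_sdiff_singleton_add_one hpt]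
  exact (Nat.not_odd_iff_even.1 h1).add_one

theorem smul_swap_conj {t g : G} {x y : Ω} (htx : t • x = y) (hgx : g • x = x) (hgy : g • y = y) :
    (g * t * g⁻¹) • x = y := by
  rw [mul_smul, mul_smul, inv_smul_eq_iff.2 hgx.symm, htx, hgy]

/-- Swappers in `K` of `z, z'` are as many as the members of `D` in `K` at `z'`. -/
theorem card_swap_in {K : Subgroup G} {z z' : Ω} (hne : z ≠ z') {f : G} (hf : f ∈ D) (hfK : f ∈ K)
    (hfz : pt f = z) :
    Nat.card {q : G // q ∈ D ∧ q ∈ K ∧ q • z = z'} =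
      Nat.card {g : G // g ∈ D ∧ g ∈ K ∧ pt g = z'} := by
  refine Nat.card_congr (Equiv.ofBijective
    (fun q => ⟨q.1 * f * q.1⁻¹, P.conj_mem q f hf, K.mul_mem (K.mul_mem q.2.2.1 hfK)
      (K.inv_mem q.2.2.1), by rw [P.pt_conj q.1 hf, hfz, q.2.2.2]⟩) ⟨fun q q' e => ?_, fun g => ?_⟩)
  · refine Subtype.ext (P.mid_unique hf q.2.1 q'.2.1 ?_ (congrArg Subtype.val e))
    rw [hfz, q.2.2.2]
    exact hne.symm
  · obtain ⟨w, hw, hwK, hwe, hwp⟩ := exists_mid_in P hf g.2.1 hfK g.2.2.1 (by rw [hfz, g.2.2.2]; exact hne)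
    exact ⟨⟨w, hw, hwK, by rwa [hfz, g.2.2.2] at hwp⟩, Subtype.ext hwe⟩

/-- A swapper in `K` carries the members of `D` in `K` at one point to the other. -/
theorem card_pts_in {K : Subgroup G} {z z' : Ω} {q : G} (hq : q ∈ D) (hqK : q ∈ K)
    (hqz : q • z = z') :
    Nat.card {g : G // g ∈ D ∧ g ∈ K ∧ pt g = z} =
      Nat.card {g : G // g ∈ D ∧ g ∈ K ∧ pt g = z'} :=
  Nat.card_congr (Equiv.subtypeEquiv (MulAut.conj q).toEquiv fun g => by
    show (g ∈ D ∧ g ∈ K ∧ pt g = z) ↔ (q * g * q⁻¹ ∈ D ∧ q * g * q⁻¹ ∈ K ∧ pt (q * g * q⁻¹) = z')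
    constructor
    · rintro ⟨h1, h2, h3⟩
      exact ⟨P.conj_mem q g h1, K.mul_mem (K.mul_mem hqK h2) (K.inv_mem hqK),
        by rw [P.pt_conj q h1, h3, hqz]⟩
    · rintro ⟨h1, h2, h3⟩
      have h1' : g ∈ D := by simpa [mul_assoc] using P.conj_mem q⁻¹ _ h1
      refine ⟨h1', ?_, MulAction.injective q ?_⟩
      · simpa [mul_assoc] using K.mul_mem (K.mul_mem (K.inv_mem hqK) h2) hqK
      · show q • pt g = q • z
        rw [← P.pt_conj q h1', h3, hqz])

variable (hodd : ∀ x y : Ω, x ≠ y → Odd (Nat.card (twoPt G x y)))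
include hodd

/-- A group fixing `z, z'`, normalising `K` and containing the products of its swappers: its order
is their number times the centraliser of one of them. -/
theorem card_eq_swap_mul {K E : Subgroup G} {z z' : Ω} (hne : z ≠ z') (hE : E ≤ twoPt G z z')
    (hEK : E ≤ Subgroup.normalizer (K : Set G)) (hKE : K ⊓ twoPt G z z' ≤ E) {q : G} (hq : q ∈ D)
    (hqK : q ∈ K) (hqz : q • z = z') :
    Nat.card E = Nat.card {t : G // t ∈ D ∧ t ∈ K ∧ t • z = z'} *
      Nat.card ↥(E ⊓ Subgroup.centralizer ({q} : Set G)) := by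
  refine card_eq_mul_centralizer E {t | t ∈ D ∧ t ∈ K ∧ t • z = z'} ?_ ⟨hq, hqK, hqz⟩ ?_
  · rintro k hk t ⟨ht, htK, htz⟩
    exact ⟨P.conj_mem k t ht, (Subgroup.mem_normalizer_iff.1 (hEK hk) t).1 htK,
      smul_swap_conj P htz (MulAction.mem_stabilizer_iff.1 (hE hk).1)
        (MulAction.mem_stabilizer_iff.1 (hE hk).2)⟩
  · rintro t ⟨ht, htK, htz⟩
    have hd : q * t ∈ K ⊓ twoPt G z z' := by
      refine ⟨K.mul_mem hqK htK, MulAction.mem_stabilizer_iff.2 ?_, MulAction.mem_stabilizer_iff.2 ?_⟩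
      · rw [mul_smul, htz, smul_back P hq hqz]
      · rw [mul_smul, smul_back P ht htz, hqz]
    obtain ⟨k, hk⟩ := hodd z z' hne
    have hord := orderOf_dvd_iff_pow_eq_one.1 (Subgroup.orderOf_dvd_natCard _ hd.2)
    refine ⟨((q * t) ^ (k + 1))⁻¹, E.inv_mem (E.pow_mem (hKE hd) _), ?_⟩
    have hu := P.inv q hq
    have hi := inverts_pow (inverts_mul_left hu (P.inv t ht)) (k + 1)
    calc ((q * t) ^ (k + 1))⁻¹ * q * ((q * t) ^ (k + 1))⁻¹⁻¹
        = q * (q * ((q * t) ^ (k + 1))⁻¹ * q⁻¹) * (q * t) ^ (k + 1) := by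
          rw [inv_eq hu, ← mul_assoc q, ← mul_assoc q, mul_self hu, one_mul, inv_inv]
      _ = q * ((q * t) ^ (k + 1) * (q * t) ^ (k + 1)) := by
          rw [← conj_inv, hi, inv_inv, mul_assoc]
      _ = t := by
          rw [← pow_add, show k + 1 + (k + 1) = (2 * k + 1) + 1 by omega, ← hk, pow_succ, hord,
            one_mul, ← mul_assoc, mul_self hu, one_mul]

/-- If `p` divides the number of swappers in `K`, none centralises a Sylow `p`-subgroup of `E`. -/
theorem not_le_centralizer_swap {p : ℕ} [Fact p.Prime] {K E X : Subgroup G} {z z' : Ω}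
    (hne : z ≠ z') (hE : E ≤ twoPt G z z') (hEK : E ≤ Subgroup.normalizer (K : Set G))
    (hKE : K ⊓ twoPt G z z' ≤ E) {q : G} (hq : q ∈ D) (hqK : q ∈ K) (hqz : q • z = z')
    (hdvd : p ∣ Nat.card {t : G // t ∈ D ∧ t ∈ K ∧ t • z = z'}) (hX : IsPGroup p X) (hXE : X ≤ E)
    (hcard : Nat.card X = pPart p (Nat.card E)) :
    ¬ X ≤ Subgroup.centralizer ({q} : Set G) := by
  intro hc
  have hn : Nat.card {t : G // t ∈ D ∧ t ∈ K ∧ t • z = z'} ≠ 0 := fun e =>
    (Nat.card_eq_zero.1 e).elim (fun h => h.false ⟨q, hq, hqK, hqz⟩)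
      fun h => not_finite {t : G // t ∈ D ∧ t ∈ K ∧ t • z = z'}
  have h2 := Coprime.card_le_of_isPGroup hX (le_inf hXE hc)
  rw [hcard, card_eq_swap_mul P hodd hne hE hEK hKE hq hqK hqz, pPart_mul hn Nat.card_pos.ne'] at h2
  have h4 : p ≤ pPart p (Nat.card {t : G // t ∈ D ∧ t ∈ K ∧ t • z = z'}) :=
    Nat.le_self_pow ((Fact.out : p.Prime).factorization_pos_of_dvd hn hdvd).ne' p
  have h5 : 0 < pPart p (Nat.card ↥(E ⊓ Subgroup.centralizer ({q} : Set G))) :=
    pow_pos (Fact.out : p.Prime).pos _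
  have h6 := (Fact.out : p.Prime).two_le
  nlinarith [h2]

omit P hodd in
/-- An involution normalising a group of odd order is conjugate under it to one normalising a given
Sylow subgroup. -/
theorem exists_conj_normalizing {p : ℕ} [Fact p.Prime] {E X : Subgroup G} {q : G}
    (hq : orderOf q = 2) (hqE : q ∈ Subgroup.normalizer (E : Set G)) (hEodd : Odd (Nat.card E))
    (hXE : X ≤ E) (hcard : Nat.card X = pPart p (Nat.card E)) :
    ∃ g ∈ E, g * q * g⁻¹ ∈ Subgroup.normalizer (X : Set G) := by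
  obtain ⟨Q, -, hQE, hwQ, -, hQcard⟩ := exists_sylow_invariant (p := p) hq hqE hEodd
    (R := ⊥) bot_le IsPGroup.of_bot (by
      rw [Subgroup.normalizer_eq_top_iff.2 inferInstance]; exact Subgroup.mem_top q)
  obtain ⟨S, hS⟩ := Coprime.exists_sylow_map_eq hQE hQcard
  obtain ⟨T, hT⟩ := Coprime.exists_sylow_map_eq hXE hcard
  obtain ⟨g, hg⟩ := MulAction.exists_smul_eq E S T
  have hXQ : MulAut.conj (g : G) • Q = X := by
    rw [← hS, ← hT, ← hg]
    exact (Coprime.map_subtype_smul g S).symm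
  refine ⟨g, g.2, ?_⟩
  rw [← hXQ]
  refine Coprime.mem_normalizer_of_conj_eq ?_
  rw [← mul_smul, ← map_mul, inv_mul_cancel_right, map_mul, mul_smul,
    Coprime.conj_eq_of_mem_normalizer hwQ]

end Cfsg.Agent.Bender
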