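/-
Swappers centralising a `p`-subgroup, free case of Bender's theorem (owner: helper1).

`K ≤ M ≤ N(K)` with all involutions of `M` in `K`, `F` an `M`-stable set containing the points of
the members of `D` in `K`, every pair of `F` exchanged inside `K` by a number of swappers divisible
by `p`.  If a `p`-subgroup of `M` fixes three points of `F`, every pair of those is exchanged by a
member of `D` in `K` centralising it, provided no member of `D` acts non-trivially on a
`p`-subgroup fixing its point.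

* `LocalSetup.exists_swap_centralizing`
-/
import Cfsg.Agent.Lib.Bender.SwapCount
import Cfsg.Agent.Lib.Bender.Good
import Cfsg.Agent.Lib.Bender.Induction

set_option autoImplicit false
set_option linter.style.haveILetI false
set_option linter.unusedSectionVars false

namespace Cfsg.Agent.Bender

open Cfsg Involution Aschbacher
open scoped Pointwise

universe u v

variable {G : Type u} {Ω : Type v} [Group G] [MulAction G Ω] [Finite G] [Finite Ω]
variable {D : Set G} {pt : G → Ω}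

/-- The data of the local argument. -/
structure LocalSetup (D : Set G) (pt : G → Ω) (p : ℕ) (K M : Subgroup G) (F : Set Ω) : Prop where
  pointClass : PointClass G Ω D pt
  odd : ∀ x y : Ω, x ≠ y → Odd (Nat.card (twoPt G x y))
  all_inv : ∀ g : G, orderOf g = 2 → g ∈ D
  le : K ≤ M
  normalizes : M ≤ Subgroup.normalizer (K : Set G)
  invol_mem : ∀ t ∈ M, orderOf t = 2 → t ∈ K
  stable : ∀ g ∈ M, ∀ z ∈ F, g • z ∈ F
  pt_mem : ∀ t ∈ D, t ∈ K → pt t ∈ F
  swap : ∀ z ∈ F, ∀ z' ∈ F, z ≠ z' → ∃ q ∈ D, q ∈ K ∧ q • z = z'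
  dvd : ∀ z ∈ F, ∀ z' ∈ F, z ≠ z' → p ∣ Nat.card {t : G // t ∈ D ∧ t ∈ K ∧ t • z = z'}
  odd_prime : p ≠ 2
  nc : ∀ t ∈ D, ∀ X : Subgroup G, IsPGroup p X → t ∈ Subgroup.normalizer (X : Set G) →
    X ≤ MulAction.stabilizer G (pt t) → X ≤ Subgroup.centralizer ({t} : Set G)

/-- A 2-element argument: an element exchanging two points inside `L` gives such an involution. -/
theorem exists_involution_swap {L : Subgroup G} {x y : Ω} (hne : x ≠ y)
    (hodd : Odd (Nat.card (twoPt G x y))) {g : G} (hg : g ∈ L) (hgx : g • x = y) (hgy : g • y = x) :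
    ∃ t ∈ L, orderOf t = 2 ∧ t • x = y := by
  have hg2 : g * g ∈ twoPt G x y :=
    ⟨MulAction.mem_stabilizer_iff.2 (by rw [mul_smul, hgx, hgy]),
      MulAction.mem_stabilizer_iff.2 (by rw [mul_smul, hgy, hgx])⟩
  have hn : (g * g) ^ Nat.card (twoPt G x y) = 1 :=
    orderOf_dvd_iff_pow_eq_one.1 (Subgroup.orderOf_dvd_natCard _ hg2)
  obtain ⟨k, hk⟩ := hodd
  rw [hk] at hn
  have hfix : (g * g) ^ k • x = x :=
    MulAction.mem_stabilizer_iff.1 ((twoPt G x y).pow_mem hg2 k).1
  have hmove : g ^ (2 * k + 1) • x = y := by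
    rw [pow_succ', pow_mul, pow_two, mul_smul, hfix, hgx]
  refine ⟨g ^ (2 * k + 1), L.pow_mem hg _, orderOf_of_sq ?_ fun e => hne ?_, hmove⟩
  · rw [← (Commute.refl g).mul_pow, hn]
  · rwa [e, one_smul] at hmove

namespace LocalSetup

variable {p : ℕ} [Fact p.Prime] {K M : Subgroup G} {F : Set Ω} (S : LocalSetup D pt p K M F)
include S

/-- The fixed points in `F` of `X`. -/
theorem stable_fix {X : Subgroup G} {g : G} (hg : g ∈ M) (hgX : g ∈ Subgroup.normalizer (X : Set G))
    {z : Ω} (hz : z ∈ {z : Ω | z ∈ F ∧ X ≤ MulAction.stabilizer G z}) :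
    g • z ∈ {z : Ω | z ∈ F ∧ X ≤ MulAction.stabilizer G z} :=
  ⟨S.stable g hg z hz.1, le_stab_smul hgX hz.2⟩

/-- With an odd number of fixed points a normalising member of `D` in `K` centralises. -/
theorem centralizes_of_odd {X : Subgroup G} (hX : IsPGroup p X)
    (hk : Odd (Nat.card {z : Ω | z ∈ F ∧ X ≤ MulAction.stabilizer G z})) {t : G} (ht : t ∈ D)
    (htK : t ∈ K) (htX : t ∈ Subgroup.normalizer (X : Set G)) :
    X ≤ Subgroup.centralizer ({t} : Set G) :=
  S.nc t ht X hX htX (pt_mem_of_odd S.pointClass ht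
    (fun _ hz => S.stable_fix (S.le htK) htX hz) hk).2

/-- A member of `D` in `K` centralising `X` makes their number odd. -/
theorem odd_of_centralizes {X : Subgroup G} {t : G} (ht : t ∈ D) (htK : t ∈ K)
    (htc : X ≤ Subgroup.centralizer ({t} : Set G)) :
    Odd (Nat.card {z : Ω | z ∈ F ∧ X ≤ MulAction.stabilizer G z}) := by
  have htX : t ∈ Subgroup.normalizer (X : Set G) := Subgroup.mem_normalizer_fintype fun x hx => by
    show t * x * t⁻¹ ∈ X
    rwa [(mem_centralizer.1 (htc hx)).symm.eq, mul_inv_cancel_right]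
  refine odd_of_pt_mem S.pointClass ht (fun _ hz => S.stable_fix (S.le htK) htX hz)
    ⟨S.pt_mem t ht htK, fun x hx => ?_⟩
  exact MulAction.mem_stabilizer_iff.2 (S.pointClass.commute_fix ht (mem_centralizer.1 (htc hx)))

/-- A pair on which `X` is a full Sylow subgroup of `M`: a normalising swapper, and the number of
fixed points is even. -/
theorem of_full {X : Subgroup G} (hX : IsPGroup p X) {z z' : Ω} (hz : z ∈ F) (hz' : z' ∈ F)
    (hne : z ≠ z') (hXE : X ≤ M ⊓ twoPt G z z')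
    (hcard : Nat.card X = pPart p (Nat.card ↥(M ⊓ twoPt G z z'))) :
    (∃ t ∈ D, t ∈ K ∧ t ∈ Subgroup.normalizer (X : Set G) ∧ t • z = z') ∧
      ¬ Odd (Nat.card {z : Ω | z ∈ F ∧ X ≤ MulAction.stabilizer G z}) := by
  have P := S.pointClass
  obtain ⟨q, hq, hqK, hqz⟩ := S.swap z hz z' hz' hne
  have hqE : q ∈ Subgroup.normalizer ((M ⊓ twoPt G z z' : Subgroup G) : Set G) := by
    refine Coprime.mem_normalizer_of_forall fun g hg => ⟨?_, ?_⟩
    · exact M.mul_mem (M.mul_mem (S.le hqK) hg.1) (M.inv_mem (S.le hqK))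
    · exact (Subgroup.mem_normalizer_iff.1 (swap_mem_normalizer_twoPt P hq hqz) g).1 hg.2
  have hEodd : Odd (Nat.card ↥(M ⊓ twoPt G z z')) :=
    Odd.of_dvd_nat (S.odd z z' hne) (Subgroup.card_dvd_of_le inf_le_right)
  obtain ⟨g, hg, hgq⟩ := exists_conj_normalizing (P.inv q hq) hqE hEodd hXE hcard
  have ht : g * q * g⁻¹ ∈ D := P.conj_mem g q hq
  have htK : g * q * g⁻¹ ∈ K := (Subgroup.mem_normalizer_iff.1 (S.normalizes hg.1) q).1 hqK
  have htz : (g * q * g⁻¹) • z = z' := smul_swap_conj P hqz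
    (MulAction.mem_stabilizer_iff.1 hg.2.1) (MulAction.mem_stabilizer_iff.1 hg.2.2)
  refine ⟨⟨_, ht, htK, hgq, htz⟩, fun hk => ?_⟩
  exact not_le_centralizer_swap P S.odd hne (E := M ⊓ twoPt G z z') inf_le_right
    (inf_le_left.trans S.normalizes) (fun g hg => ⟨S.le hg.1, hg.2⟩) ht htK htz
    (S.dvd z hz z' hz' hne) hX hXE hcard (S.centralizes_of_odd hX hk ht htK hgq)

/-- **Every pair of fixed points is exchanged by a centralising member of `D` in `K`.** -/
theorem exists_swap_centralizing (X : Subgroup G) (hX : IsPGroup p X) (hXM : X ≤ M)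
    (h3 : ∃ a b c : Ω, a ≠ b ∧ a ≠ c ∧ b ≠ c ∧
      (a ∈ F ∧ X ≤ MulAction.stabilizer G a) ∧ (b ∈ F ∧ X ≤ MulAction.stabilizer G b) ∧
      (c ∈ F ∧ X ≤ MulAction.stabilizer G c)) :
    ∀ z z' : Ω, z ∈ F → z' ∈ F → z ≠ z' → X ≤ MulAction.stabilizer G z →
      X ≤ MulAction.stabilizer G z' →
      ∃ t ∈ D, t ∈ K ∧ t • z = z' ∧ X ≤ Subgroup.centralizer ({t} : Set G) := by
  classical
  induction hn : Nat.card M - Nat.card X using Nat.strong_induction_on generalizing X with
  | _ n ih =>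
  have P := S.pointClass
  have hp : p.Prime := Fact.out
  set FX : Set Ω := {z : Ω | z ∈ F ∧ X ≤ MulAction.stabilizer G z} with hFX
  set N := M ⊓ Subgroup.normalizer (X : Set G) with hN
  have hXN : X ≤ N := le_inf hXM Subgroup.le_normalizer
  have hstab : ∀ g ∈ N, ∀ z ∈ FX, g • z ∈ FX := fun g hg z hz => S.stable_fix hg.1 hg.2 hz
  -- larger subgroups
  have hbig : ∀ T : Subgroup G, IsPGroup p T → T ≤ M → X < T → ∀ z z' y : Ω, z ≠ z' → z ≠ y →
      z' ≠ y → z ∈ F → z' ∈ F → y ∈ F → T ≤ MulAction.stabilizer G z →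
      T ≤ MulAction.stabilizer G z' → T ≤ MulAction.stabilizer G y →
      ∃ t ∈ D, t ∈ K ∧ t • z = z' ∧ T ≤ Subgroup.centralizer ({t} : Set G) := by
    intro T hT hTM hlt z z' y h1 h2 h4 hz hz' hy hTz hTz' hTy
    refine ih (Nat.card M - Nat.card T) ?_ T hT hTM
      ⟨z, z', y, h1, h2, h4, ⟨hz, hTz⟩, ⟨hz', hTz'⟩, hy, hTy⟩ rfl z z' hz hz' h1 hTz hTz'
    have := card_lt_of_lt hlt
    have := Subgroup.card_le_of_le hTM
    omega
  let rel : Ω → Ω → Prop := fun z z' => ∃ g ∈ N, g • z = z'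
  have rsymm : ∀ {z z'}, rel z z' → rel z' z := fun {z z'} ⟨g, hg, e⟩ =>
    ⟨g⁻¹, inv_mem hg, by rw [← e, inv_smul_smul]⟩
  have rtrans : ∀ {x y z}, rel x y → rel y z → rel x z := fun {x y z} ⟨g, hg, e⟩ ⟨h, hh, e'⟩ =>
    ⟨h * g, mul_mem hh hg, by rw [mul_smul, e, e']⟩
  have hcentN : ∀ {t : G}, t ∈ K → X ≤ Subgroup.centralizer ({t} : Set G) → t ∈ N :=
    fun {t} htK htc => ⟨S.le htK, Subgroup.mem_normalizer_fintype fun x hx => by
      show t * x * t⁻¹ ∈ X
      rwa [(mem_centralizer.1 (htc hx)).symm.eq, mul_inv_cancel_right]⟩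
  -- the three kinds of pairs
  have key : ∀ z ∈ FX, ∀ z' ∈ FX, z ≠ z' →
      ((∃ t ∈ D, t ∈ K ∧ t ∈ N ∧ t • z = z') ∧ ¬ Odd (Nat.card FX)) ∨
      (∃ T : Subgroup G, IsPGroup p T ∧ T ≤ M ∧ X < T ∧ (∃ y ∈ F, y ≠ z ∧ y ≠ z' ∧
          T ≤ MulAction.stabilizer G y) ∧ T ≤ MulAction.stabilizer G z ∧
          T ≤ MulAction.stabilizer G z' ∧
          ∃ t ∈ D, t ∈ K ∧ t ∈ N ∧ t • z = z' ∧ T ≤ Subgroup.centralizer ({t} : Set G)) ∨
      (∃ T : Subgroup G, IsPGroup p T ∧ X < T ∧ T ≤ N ∧ T ≤ MulAction.stabilizer G z ∧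
          T ≤ MulAction.stabilizer G z' ∧
          (∀ y ∈ F, T ≤ MulAction.stabilizer G y → y = z ∨ y = z') ∧
          Nat.card T = pPart p (Nat.card ↥(N ⊓ MulAction.stabilizer G z))) := by
    intro z hz z' hz' hne
    have hXle : X ≤ N ⊓ twoPt G z z' := le_inf hXN (le_inf hz.2 hz'.2)
    obtain ⟨T₀, hT₀⟩ := (hX.comap_subtype :
      IsPGroup p (X.subgroupOf (N ⊓ twoPt G z z'))).exists_le_sylow
    set T := (T₀ : Subgroup ↥(N ⊓ twoPt G z z')).map (N ⊓ twoPt G z z').subtype with hTdef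
    have hT : IsPGroup p T := T₀.2.map _
    have hXT : X ≤ T := fun g hg => ⟨⟨g, hXle hg⟩, hT₀ hg, rfl⟩
    have hTle : T ≤ N ⊓ twoPt G z z' := Subgroup.map_subtype_le _
    have hTmax : ∀ Q : Subgroup G, IsPGroup p Q → Q ≤ N ⊓ twoPt G z z' → T ≤ Q → Q = T := by
      intro Q hQ hQle hTQ
      refine (Subgroup.eq_of_le_of_card_ge hTQ ?_).symm
      rw [hTdef, Cores.card_map_subtype, T₀.card_eq_multiplicity]
      exact Coprime.card_le_of_isPGroup hQ hQle
    by_cases hXT' : T = X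
    · left
      obtain ⟨Q, hXQ, hQ, hQp, hQcard⟩ : ∃ Q : Subgroup G, X ≤ Q ∧ Q ≤ M ⊓ twoPt G z z' ∧
          IsPGroup p Q ∧ Nat.card Q = pPart p (Nat.card ↥(M ⊓ twoPt G z z')) := by
        obtain ⟨R, hR⟩ := (hX.comap_subtype :
          IsPGroup p (X.subgroupOf (M ⊓ twoPt G z z'))).exists_le_sylow
        exact ⟨(R : Subgroup _).map (M ⊓ twoPt G z z').subtype,
          fun g hg => ⟨⟨g, hXM hg, hz.2 hg, hz'.2 hg⟩, hR hg, rfl⟩, Subgroup.map_subtype_le _,
          R.2.map _, by rw [Cores.card_map_subtype, R.card_eq_multiplicity]⟩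
      have hQX : Q = X := by
        refine (hXQ.eq_or_lt.resolve_right fun hlt => ?_).symm
        obtain ⟨R, hXR, hRQ, hRn⟩ := exists_normalizing hQp hlt
        have := hTmax R (hQp.to_le hRQ)
          (fun g hg => ⟨⟨(hQ (hRQ hg)).1, hRn hg⟩, (hQ (hRQ hg)).2⟩) (hXT'.le.trans hXR.le)
        exact hXR.ne (hXT'.symm.trans this.symm)
      rw [hQX] at hQcard
      obtain ⟨⟨t, ht, htK, htX, htz⟩, hk⟩ :=
        S.of_full hX hz.1 hz'.1 hne (hXle.trans (inf_le_inf_right _ inf_le_left)) hQcard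
      exact ⟨⟨t, ht, htK, ⟨S.le htK, htX⟩, htz⟩, hk⟩
    have hlt : X < T := lt_of_le_of_ne hXT (Ne.symm hXT')
    have hTz : T ≤ MulAction.stabilizer G z := fun g hg => (hTle hg).2.1
    have hTz' : T ≤ MulAction.stabilizer G z' := fun g hg => (hTle hg).2.2
    have hTN : T ≤ N := fun g hg => (hTle hg).1
    by_cases hy : ∃ y ∈ F, y ≠ z ∧ y ≠ z' ∧ T ≤ MulAction.stabilizer G y
    · obtain ⟨y, hyF, hy1, hy2, hyT⟩ := hy
      obtain ⟨t, ht, htK, htz, htc⟩ := hbig T hT (hTN.trans inf_le_left) hlt z z' y hne hy1.symm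
        hy2.symm hz.1 hz'.1 hyF hTz hTz' hyT
      exact Or.inr (Or.inl ⟨T, hT, hTN.trans inf_le_left, hlt, ⟨y, hyF, hy1, hy2, hyT⟩, hTz, hTz',
        t, ht, htK, hcentN htK (hXT.trans htc), htz, htc⟩)
    push Not at hy
    refine Or.inr (Or.inr ⟨T, hT, hlt, hTN, hTz, hTz',
      fun y hyF hyT => or_iff_not_imp_left.2 fun h => by_contra fun h' => hy y hyF h h' hyT, ?_⟩)
    obtain ⟨R₀, hR₀⟩ := (hT.comap_subtype :
      IsPGroup p (T.subgroupOf (N ⊓ MulAction.stabilizer G z))).exists_le_sylow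
    set R := (R₀ : Subgroup ↥(N ⊓ MulAction.stabilizer G z)).map
      (N ⊓ MulAction.stabilizer G z).subtype with hRdef
    have hTR : T ≤ R := fun g hg => ⟨⟨g, hTN hg, hTz hg⟩, hR₀ hg, rfl⟩
    have hRle : R ≤ N ⊓ MulAction.stabilizer G z := Subgroup.map_subtype_le _
    have hRT : R = T := by
      refine (hTR.eq_or_lt.resolve_right fun hl => ?_).symm
      obtain ⟨U, hTU, hUR, hUn⟩ := exists_normalizing (R₀.2.map _ : IsPGroup p R) hl
      refine hTU.ne (hTmax U ((R₀.2.map _ : IsPGroup p R).to_le hUR) (fun g hg => ?_) hTU.le).symm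
      have hgz := (hRle (hUR hg)).2
      refine ⟨(hRle (hUR hg)).1, hgz, MulAction.mem_stabilizer_iff.2 ?_⟩
      by_contra hmv
      refine hy (g • z') (S.stable g (hRle (hUR hg)).1.1 z' hz'.1) (fun e => hne ?_) hmv
        (le_stab_smul (hUn hg) hTz')
      exact MulAction.injective g ((MulAction.mem_stabilizer_iff.1 hgz).trans e.symm)
    calc Nat.card T = Nat.card R := by rw [hRT]
      _ = _ := by rw [hRdef, Cores.card_map_subtype, R₀.card_eq_multiplicity]
  -- points of the same orbit are exchanged by a normalising member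
  have hsame : ∀ z ∈ FX, ∀ z' ∈ FX, z ≠ z' → rel z z' → ∃ t ∈ D, t ∈ K ∧ t ∈ N ∧ t • z = z' := by
    intro z hz z' hz' hne hr
    rcases key z hz z' hz' hne with ⟨h, -⟩ | ⟨T, -, -, -, -, -, -, t, ht, htK, htN, htz, -⟩ |
      ⟨T, hT, -, hTN, hTz, hTz', honly, hTcard⟩
    · exact h
    · exact ⟨t, ht, htK, htN, htz⟩
    obtain ⟨g, hg, hgz⟩ := hr
    -- move `T` back to itself inside the stabiliser of `z'`
    have hT' : MulAut.conj g • T ≤ N ⊓ MulAction.stabilizer G z' := by
      intro x hx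
      have hx' := Coprime.mem_conj.1 hx
      refine ⟨?_, MulAction.mem_stabilizer_iff.2 ?_⟩
      · have := mul_mem (mul_mem hg (hTN hx')) (inv_mem hg)
        simpa [mul_assoc] using this
      · rw [← hgz]
        calc x • g • z = g • (g⁻¹ * x * g) • z := by simp only [← mul_smul]; group
          _ = g • z := by rw [MulAction.mem_stabilizer_iff.1 (hTz hx')]
    have hcardz : Nat.card ↥(N ⊓ MulAction.stabilizer G z') =
        Nat.card ↥(N ⊓ MulAction.stabilizer G z) :=
      Nat.card_congr (Equiv.subtypeEquiv (MulAut.conj g⁻¹).toEquiv fun x => by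
        show (x ∈ N ∧ x • z' = z') ↔ (g⁻¹ * x * g⁻¹⁻¹ ∈ N ∧ (g⁻¹ * x * g⁻¹⁻¹) • z = z)
        rw [inv_inv, mul_smul, mul_smul, hgz, inv_smul_eq_iff, hgz]
        refine and_congr_left' ⟨fun h => mul_mem (mul_mem (inv_mem hg) h) hg, fun h => ?_⟩
        simpa [mul_assoc] using mul_mem (mul_mem hg h) (inv_mem hg))
    obtain ⟨S₁, hS₁⟩ := Coprime.exists_sylow_map_eq (K := N ⊓ MulAction.stabilizer G z') hT'
      (by rw [Coprime.card_conj, hcardz]; exact hTcard)
    obtain ⟨S₂, hS₂⟩ := Coprime.exists_sylow_map_eq (K := N ⊓ MulAction.stabilizer G z')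
      (le_inf hTN hTz') (by rw [hcardz]; exact hTcard)
    obtain ⟨h, hh⟩ := MulAction.exists_smul_eq ↥(N ⊓ MulAction.stabilizer G z') S₁ S₂
    have hconj : MulAut.conj ((h : G) * g) • T = T := by
      rw [map_mul, mul_smul]
      conv_rhs => rw [← hS₂, ← hh]
      rw [← hS₁]
      exact (Coprime.map_subtype_smul h S₁).symm
    have hgn := Coprime.mem_normalizer_of_conj_eq hconj
    have hgM : (h : G) * g ∈ N := mul_mem h.2.1 hg
    have e1 : ((h : G) * g) • z = z' := by
      rw [mul_smul, hgz]; exact MulAction.mem_stabilizer_iff.1 h.2.2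
    have e2 : ((h : G) * g) • z' = z := (honly _ (S.stable _ hgM.1 z' hz'.1)
      (le_stab_smul hgn hTz')).resolve_right fun e =>
        hne (MulAction.injective ((h : G) * g) (e1.trans e.symm))
    obtain ⟨t, htN, ht2, htz⟩ := exists_involution_swap hne (S.odd z z' hne) hgM e1 e2
    exact ⟨t, S.all_inv t ht2, S.invol_mem t htN.1 ht2, htN, htz⟩
  -- two partners of the third kind lie in one orbit
  have hcross : ∀ z ∈ FX, ∀ y ∈ FX, z ≠ y → ¬ rel z y →
      ∃ T : Subgroup G, IsPGroup p T ∧ X < T ∧ T ≤ N ∧ T ≤ MulAction.stabilizer G z ∧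
          T ≤ MulAction.stabilizer G y ∧
          (∀ w ∈ F, T ≤ MulAction.stabilizer G w → w = z ∨ w = y) ∧
          Nat.card T = pPart p (Nat.card ↥(N ⊓ MulAction.stabilizer G z)) := by
    intro z hz y hy hne hr
    rcases key z hz y hy hne with ⟨⟨t, -, -, htN, htz⟩, -⟩ | ⟨T, -, -, -, -, -, -, t, -, -, htN, htz, -⟩ |
      h
    · exact absurd ⟨t, htN, htz⟩ hr
    · exact absurd ⟨t, htN, htz⟩ hr
    · exact h
  have hpartner : ∀ z ∈ FX, ∀ y y' : Ω, z ≠ y → z ≠ y' → y' ∈ F → ∀ T T' : Subgroup G,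
      T ≤ N → T ≤ MulAction.stabilizer G z → T ≤ MulAction.stabilizer G y →
      (∀ w ∈ F, T ≤ MulAction.stabilizer G w → w = z ∨ w = y) →
      Nat.card T = pPart p (Nat.card ↥(N ⊓ MulAction.stabilizer G z)) →
      T' ≤ N → T' ≤ MulAction.stabilizer G z → T' ≤ MulAction.stabilizer G y' →
      Nat.card T' = pPart p (Nat.card ↥(N ⊓ MulAction.stabilizer G z)) → rel y' y := by
    intro z hz y y' hzy hzy' hy' T T' hTN hTz hTy honly hTc hT'N hT'z hT'y' hT'c
    obtain ⟨S₁, hS₁⟩ := Coprime.exists_sylow_map_eq (K := N ⊓ MulAction.stabilizer G z)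
      (le_inf hT'N hT'z) hT'c
    obtain ⟨S₂, hS₂⟩ := Coprime.exists_sylow_map_eq (K := N ⊓ MulAction.stabilizer G z)
      (le_inf hTN hTz) hTc
    obtain ⟨h, hh⟩ := MulAction.exists_smul_eq ↥(N ⊓ MulAction.stabilizer G z) S₁ S₂
    have hconj : MulAut.conj (h : G) • T' = T := by
      rw [← hS₁, ← hS₂, ← hh]
      exact (Coprime.map_subtype_smul h S₁).symm
    refine ⟨h, h.2.1, (honly _ (S.stable _ h.2.1.1 y' hy') ?_).resolve_left fun e => hzy'
      (MulAction.injective (h : G) ((MulAction.mem_stabilizer_iff.1 h.2.2).trans e.symm))⟩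
    intro x hx
    rw [← hconj] at hx
    rw [MulAction.mem_stabilizer_iff]
    calc x • (h : G) • y' = (h : G) • ((h : G)⁻¹ * x * (h : G)) • y' := by
          simp only [← mul_smul]; group
      _ = (h : G) • y' := by
          rw [MulAction.mem_stabilizer_iff.1 (hT'y' (Coprime.mem_conj.1 hx))]
  by_cases hk : Odd (Nat.card FX)
  · -- an odd number of fixed points: a single orbit
    intro z z' hzF hz'F hne hXz hXz'
    have hz : z ∈ FX := ⟨hzF, hXz⟩
    have hz' : z' ∈ FX := ⟨hz'F, hXz'⟩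
    suffices hr : rel z z' by
      obtain ⟨t, ht, htK, htN, htz⟩ := hsame z hz z' hz' hne hr
      exact ⟨t, ht, htK, htz, S.centralizes_of_odd hX hk ht htK htN.2⟩
    by_contra hr
    -- the orbits have odd size
    have horb : ∀ x ∈ FX, ∀ y ∈ FX, ¬ rel x y → Odd (Nat.card {w : Ω | w ∈ FX ∧ rel x w}) := by
      intro x hx y hy hxy
      have hxy' : x ≠ y := fun e => hxy (e ▸ ⟨1, one_mem _, one_smul _ _⟩)
      by_cases h1 : ∃ w ∈ FX, rel x w ∧ w ≠ x
      · obtain ⟨w, hw, hxw, hwx⟩ := h1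
        rcases key x hx w hw hwx.symm with ⟨-, hev⟩ |
          ⟨T, hT, hTM, hlt, ⟨y₀, hy₀F, hy₀x, hy₀w, hy₀T⟩, hTx, hTw, t, ht, htK, htN, -, htc⟩ |
          ⟨T, -, -, hTN, hTx, hTw, honly, hTc⟩
        · exact absurd hk hev
        · refine odd_of_pt_mem P ht (fun v hv => ⟨hstab t htN v hv.1, rtrans hv.2 ⟨t, htN, rfl⟩⟩) ?_
          have hTpt : T ≤ MulAction.stabilizer G (pt t) := fun g hg =>
            MulAction.mem_stabilizer_iff.2 (P.commute_fix ht (mem_centralizer.1 (htc hg)))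
          refine ⟨⟨S.pt_mem t ht htK, hlt.le.trans hTpt⟩, ?_⟩
          rcases eq_or_ne x (pt t) with e | e
          · exact ⟨1, one_mem _, by rw [one_smul]; exact e⟩
          obtain ⟨s, -, hsK, hsx, hsc⟩ : ∃ s ∈ D, s ∈ K ∧ s • x = pt t ∧
              T ≤ Subgroup.centralizer ({s} : Set G) := by
            rcases eq_or_ne w (pt t) with e' | e'
            · exact hbig T hT hTM hlt x (pt t) y₀ e hy₀x.symm (e' ▸ hy₀w.symm) hx.1
                (S.pt_mem t ht htK) hy₀F hTx hTpt hy₀T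
            · exact hbig T hT hTM hlt x (pt t) w e hwx.symm e'.symm hx.1
                (S.pt_mem t ht htK) hw.1 hTx hTpt hTw
          exact ⟨s, hcentN hsK (hlt.le.trans hsc), hsx⟩
        · obtain ⟨T', -, -, hT'N, hT'x, hT'y, -, hT'c⟩ := hcross x hx y hy hxy'.symm.symm hxy
          exact absurd (rtrans hxw (rsymm (hpartner x hx w y hwx.symm hxy' hy.1 T T' hTN hTx hTw
            honly hTc hT'N hT'x hT'y hT'c))) hxy
      · push Not at h1
        rw [Nat.card_coe_set_eq, show {w : Ω | w ∈ FX ∧ rel x w} = {x} from Set.ext fun w =>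
          ⟨fun h => h1 w h.1 h.2, fun h => by
            rw [Set.mem_singleton_iff] at h
            subst h
            exact ⟨hx, 1, one_mem _, one_smul _ _⟩⟩,
          Set.ncard_singleton]
        exact odd_one
    have hall : ∀ w ∈ FX, rel z w ∨ rel z' w := by
      intro w hw
      by_contra! hcon
      have hzw : z ≠ w := fun e => hcon.1 (e ▸ ⟨1, one_mem _, one_smul _ _⟩)
      obtain ⟨T, -, -, hTN, hTz, hTw, honly, hTc⟩ := hcross z hz w hw hzw hcon.1
      obtain ⟨T', -, -, hT'N, hT'z, hT'z', -, hT'c⟩ := hcross z hz z' hz' hne hr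
      exact hcon.2 (hpartner z hz w z' hzw hne hz'.1 T T' hTN hTz hTw honly hTc hT'N hT'z hT'z' hT'c)
    have hsum : Nat.card FX = Nat.card {w : Ω | w ∈ FX ∧ rel z w} +
        Nat.card {w : Ω | w ∈ FX ∧ rel z' w} := by
      rw [Nat.card_coe_set_eq, Nat.card_coe_set_eq, Nat.card_coe_set_eq,
        ← Set.ncard_union_eq (Set.disjoint_left.2 fun w h h' => hr (rtrans h.2 (rsymm h'.2)))]
      refine congrArg Set.ncard (Set.ext fun w =>
        ⟨fun h => (hall w h).imp (⟨h, ·⟩) (⟨h, ·⟩), fun h => h.elim And.left And.left⟩)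
    exact Nat.not_even_iff_odd.2 hk
      (hsum ▸ (horb z hz z' hz' hr).add_odd (horb z' hz' z hz fun h => hr (rsymm h)))
  · -- an even number is impossible
    exfalso
    have hmove : ∀ t ∈ D, t ∈ K → t ∈ N → ¬ X ≤ MulAction.stabilizer G (pt t) := fun t ht htK htN h =>
      hk (odd_of_pt_mem P ht (fun w hw => hstab t htN w hw) ⟨S.pt_mem t ht htK, h⟩)
    have hXodd : Odd (Nat.card X) := by
      obtain ⟨e, he⟩ := IsPGroup.iff_card.1 hX
      rw [he]
      exact (hp.odd_of_ne_two S.odd_prime).pow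
    have hcomm : ∀ t ∈ D, t ∈ K → t ∈ N → ∀ s ∈ D, s ∈ K → s ∈ N → Commute t s → t = s := by
      intro t ht htK htN s hs hsK hsN hc
      by_contra hne
      refine hmove t ht htK htN ?_
      set V := fourOf (mul_self (P.inv t ht)) (mul_self (P.inv s hs)) hc
      haveI := isMulCommutative_fourOf (mul_self (P.inv t ht)) (mul_self (P.inv s hs)) hc
      refine Coprime.le_of_noncyclic (A := V) (not_isCyclic_fourOf _ _ _ (ne_one (P.inv t ht))
        (ne_one (P.inv s hs)) hne) ?_ ?_ ?_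
      · rintro x (rfl | rfl | rfl | rfl)
        · exact one_mem _
        · exact htN.2
        · exact hsN.2
        · exact mul_mem htN.2 hsN.2
      · obtain ⟨j, hj⟩ := (card_fourOf_dvd (mul_self (P.inv t ht)) (mul_self (P.inv s hs))
          hc).exists_card_eq
        rw [hj]
        exact Nat.Coprime.pow_left j (Nat.coprime_two_left.2 hXodd)
      · rintro x (rfl | rfl | rfl | rfl) hx1 g ⟨-, hg⟩ <;>
          have hgx := Subgroup.mem_centralizer_singleton_iff.1 hg
        · exact absurd rfl hx1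
        · exact MulAction.mem_stabilizer_iff.2 (P.commute_fix ht hgx)
        · rw [P.pt_eq_of_commute ht hs hc]
          exact MulAction.mem_stabilizer_iff.2 (P.commute_fix hs hgx)
        · exact MulAction.mem_stabilizer_iff.2 (P.product t ht s hs hc hne g hgx)
    -- all members of `D` in `K ∩ N` agree modulo the odd core
    set O := (pPrimeCore 2 ↥N).map N.subtype with hOdef
    haveI : Fact (Nat.Prime 2) := ⟨Nat.prime_two⟩
    have hON : O ≤ N := Subgroup.map_subtype_le _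
    have hOodd : Odd (Nat.card O) := by
      rw [hOdef, Cores.card_map_subtype]
      exact Nat.coprime_two_right.1 (Cores.coprime_card_pPrimeCore 2)
    have hOn : ∀ g ∈ N, ∀ o ∈ O, g * o * g⁻¹ ∈ O := by
      rintro g hg _ ⟨⟨o, ho'⟩, ho, rfl⟩
      exact ⟨_, (Cores.pPrimeCore_normal 2 _).conj_mem _ ho ⟨g, hg⟩, rfl⟩
    have hmod : ∀ t ∈ D, t ∈ K → t ∈ N → ∀ s ∈ D, s ∈ K → s ∈ N → ∃ o ∈ O, s = o * t := by
      intro t ht htK htN s hs hsK hsN
      have hiso : IsIsolatedInvolution (⟨t, htN⟩ : N) := by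
        refine ⟨by rw [← Subgroup.orderOf_coe]; exact P.inv t ht, fun g hg => Subtype.ext ?_⟩
        refine (hcomm t ht htK htN _ (P.conj_mem _ t ht)
          ((Subgroup.mem_normalizer_iff.1 (S.normalizes g.2.1) t).1 htK)
          (mul_mem (mul_mem g.2 htN) (inv_mem g.2)) ?_).symm
        exact congrArg Subtype.val hg
      have hoddts : Odd (orderOf (t * s)) := by
        rw [← Nat.not_even_iff_odd]
        intro he
        obtain ⟨r, hr2, hrt, hrs, hrmem⟩ := exists_commuting_involution (P.inv t ht) (P.inv s hs) he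
        have hrK : r ∈ K := Subgroup.zpowers_le.2 (K.mul_mem htK hsK) hrmem
        have hrN : r ∈ N := Subgroup.zpowers_le.2 (N.mul_mem htN hsN) hrmem
        have hrD := S.all_inv r hr2
        have e1 := hcomm r hrD hrK hrN t ht htK htN hrt
        have e2 := hcomm r hrD hrK hrN s hs hsK hsN hrs
        rw [← e1, ← e2, mul_self hr2, orderOf_one] at he
        exact absurd he (by decide)
      obtain ⟨d, hd, hds⟩ := exists_conj_of_odd (P.inv t ht) (P.inv s hs) hoddts
      have hdN : d ∈ N := (Subgroup.closure_le _).2 (by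
        rintro _ (rfl | rfl)
        · exact htN
        · exact hsN) hd
      have hz : t * d * t⁻¹ * d⁻¹ ∈ O :=
        ⟨_, ZStar.zStar_of_brauerSuzuki ZStar.uniqueInvolution hiso ⟨d, hdN⟩, rfl⟩
      refine ⟨(t * d * t⁻¹ * d⁻¹)⁻¹, O.inv_mem hz, ?_⟩
      rw [← hds]
      group
    -- points of an orbit come in one pair
    have horb : ∀ x ∈ FX, ∀ w ∈ FX, x ≠ w → rel x w → ∀ w' ∈ FX, x ≠ w' → rel x w' → w' = w := by
      intro x hx w hw hxw hr w' hw' hxw' hr'
      obtain ⟨t, ht, htK, htN, htx⟩ := hsame x hx w hw hxw hr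
      have hfixO : ∀ o ∈ O, o • x = x := by
        intro o ho
        by_contra hox
        obtain ⟨s, hs, hsK, hsN, hsx⟩ :=
          hsame x hx _ (hstab o (hON ho) x hx) (Ne.symm hox) ⟨o, hON ho, rfl⟩
        obtain ⟨o₁, ho₁, hso⟩ := hmod t ht htK htN s hs hsK hsN
        -- the orbit of the core is stable under `t` and has odd size
        have hsz : Odd (Nat.card {v : Ω | ∃ g ∈ O, g • x = v}) := by
          refine Odd.of_dvd_nat hOodd ?_
          have e : Nat.card {v : Ω | ∃ g ∈ O, g • x = v} = Nat.card (MulAction.orbit O x) := by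
            refine Nat.card_congr (Equiv.subtypeEquivRight fun v => ?_)
            exact ⟨fun ⟨g, hg, e⟩ => ⟨⟨g, hg⟩, e⟩, fun ⟨g, e⟩ => ⟨g, g.2, e⟩⟩
          rw [e]
          exact Dvd.intro _ (Nat.card_prod _ _ ▸ Nat.card_congr
            (MulAction.orbitProdStabilizerEquivGroup O x))
        have htx' : ∃ g ∈ O, g • x = t • x := ⟨o₁⁻¹ * o, O.mul_mem (O.inv_mem ho₁) ho, by
          rw [mul_smul, ← hsx, hso, mul_smul, inv_smul_smul]⟩
        have hst : ∀ v ∈ {v : Ω | ∃ g ∈ O, g • x = v}, t • v ∈ {v : Ω | ∃ g ∈ O, g • x = v} := by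
          rintro v ⟨g, hg, rfl⟩
          obtain ⟨g', hg', e⟩ := htx'
          exact ⟨t * g * t⁻¹ * g', O.mul_mem (hOn t htN g hg) hg', by
            rw [mul_smul, e, mul_smul, mul_smul, inv_smul_smul]⟩
        obtain ⟨g, hg, e⟩ := pt_mem_of_odd P ht hst hsz
        exact hmove t ht htK htN (e ▸ (hstab g (hON hg) x hx).2)
      obtain ⟨s, hs, hsK, hsN, hsx⟩ := hsame x hx w' hw' hxw' hr'
      obtain ⟨o, ho, rfl⟩ := hmod t ht htK htN s hs hsK hsN
      have e := hfixO _ (hOn t⁻¹ (inv_mem htN) o ho)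
      calc w' = (o * t) • x := hsx.symm
        _ = t • (t⁻¹ * o * t⁻¹⁻¹) • x := by simp only [← mul_smul]; group
        _ = w := by rw [e, htx]
    have hpair : ∀ x ∈ FX, ∀ w ∈ FX, ∀ y ∈ FX, x ≠ w → rel x w → ¬ rel x y → False := by
      intro x hx w hw y hy hxw hr hxy
      have hxy' : x ≠ y := fun e => hxy (e ▸ ⟨1, one_mem _, one_smul _ _⟩)
      obtain ⟨T, -, -, hTN, hTx, -, honly, -⟩ := hcross x hx y hy hxy' hxy
      have hTw : T ≤ MulAction.stabilizer G w := by
        intro g hg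
        have hgx := MulAction.mem_stabilizer_iff.1 (hTx hg)
        refine MulAction.mem_stabilizer_iff.2 (horb x hx w hw hxw hr _ (hstab g (hTN hg) w hw)
          (fun e => hxw (MulAction.injective g (hgx.trans e))) (rtrans hr ⟨g, hTN hg, rfl⟩))
      rcases honly w hw.1 hTw with e | e
      · exact hxw e.symm
      · exact hxy (e ▸ hr)
    obtain ⟨a, b, c, hab, hac, hbc, ha, hb, hc⟩ := h3
    by_cases h1 : rel a b
    · by_cases h2 : rel a c
      · exact hbc (horb a ha b hb hab h1 c hc hac h2).symm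
      · exact hpair a ha b hb c hc hab h1 h2
    · by_cases h2 : rel a c
      · exact hpair a ha c hc b hb hac h2 h1
      · obtain ⟨T, -, -, hTN, hTa, hTb, honly, hTc⟩ := hcross a ha b hb hab h1
        obtain ⟨T', -, -, hT'N, hT'a, hT'c, -, hT'card⟩ := hcross a ha c hc hac h2
        have hcb : rel c b :=
          hpartner a ha b c hab hac hc.1 T T' hTN hTa hTb honly hTc hT'N hT'a hT'c hT'card
        exact hpair b hb c hc a ha hbc (rsymm hcb) fun h => h1 (rsymm h)

end LocalSetup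

end Cfsg.Agent.Bender
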