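/-
A centralising swapper, free case of Bender's theorem (owner: helper1).

If no member of `D` acts non-trivially on an `r`-subgroup fixing its point, for the primes `r`
dividing the number of members of `D` at a point, then

* `exists_swapper_centralizing` : a group of odd order fixing `x, y` and centralised by a member of
  `D` at `x` is centralised by one exchanging `x` and `y`.
-/
import Cfsg.Agent.Lib.Bender.SwapLocal
import Cfsg.Agent.Lib.Bender.Centred

set_option autoImplicit false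
set_option linter.style.haveILetI false
set_option linter.unusedSectionVars false

namespace Cfsg.Agent.Bender

open Cfsg Involution Aschbacher
open scoped Pointwise commutatorElement

universe u v

theorem exists_normal_prime_index_of_solvable (G : Type u) [Group G] [Finite G]
    [Group.IsSolvable G] [Nontrivial G] : ∃ M : Subgroup G, M.Normal ∧ M.index.Prime := by
  have hne : commutator G ≠ ⊤ := (Group.IsSolvable.commutator_lt_top_of_nontrivial G).ne
  obtain ⟨M, hM, hle⟩ := (eq_top_or_exists_le_coatom (commutator G)).resolve_left hne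
  haveI hMn : M.Normal := Subgroup.Normal.mk fun m hm g => by
    rw [show g * m * g⁻¹ = ⁅g, m⁆ * m by rw [commutatorElement_def]; group]
    exact M.mul_mem (hle (Subgroup.commutator_mem_commutator (Subgroup.mem_top g)
      (Subgroup.mem_top m))) hm
  refine ⟨M, hMn, ?_⟩
  haveI : Nontrivial (G ⧸ M) := QuotientGroup.nontrivial_iff.2 hM.1
  haveI : IsSimpleGroup (G ⧸ M) := ⟨fun H _ => by
    rcases eq_or_ne (H.comap (QuotientGroup.mk' M)) M with he | he
    · left
      rw [← Subgroup.map_comap_eq_self_of_surjective (QuotientGroup.mk'_surjective M) H, he,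
        Subgroup.map_eq_bot_iff, QuotientGroup.ker_mk']
    · right
      have := hM.2 _ (lt_of_le_of_ne ((QuotientGroup.ker_mk' M).symm.le.trans
        (Subgroup.ker_le_comap _ H)) he.symm)
      rw [← Subgroup.map_comap_eq_self_of_surjective (QuotientGroup.mk'_surjective M) H, this,
        Subgroup.map_top_of_surjective _ (QuotientGroup.mk'_surjective M)]⟩
  have hcomm : ∀ x y : G ⧸ M, x * y = y * x := fun x y => by
    induction x using QuotientGroup.induction_on with
    | H x => induction y using QuotientGroup.induction_on with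
      | H y =>
        rw [← QuotientGroup.mk_mul, ← QuotientGroup.mk_mul, QuotientGroup.eq]
        have := hle (Subgroup.commutator_mem_commutator (Subgroup.mem_top y⁻¹)
          (Subgroup.mem_top x⁻¹))
        simpa [commutatorElement_def, mul_assoc] using this
  letI : CommGroup (G ⧸ M) := { (inferInstance : Group (G ⧸ M)) with mul_comm := hcomm }
  rw [M.index_eq_card]
  exact IsSimpleGroup.prime_card

variable {G : Type u} {Ω : Type v} [Group G] [MulAction G Ω] [Finite G] [Finite Ω]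
variable {D : Set G} {pt : G → Ω}

/-- A `p`-group acting on a set of elements by conjugation without fixed points. -/
theorem dvd_card_of_conj_free {p : ℕ} [Fact p.Prime] {R : Subgroup G} (hR : IsPGroup p R)
    {s : Set G} (hs : ∀ r ∈ R, ∀ x ∈ s, r * x * r⁻¹ ∈ s)
    (hfree : ∀ x ∈ s, ¬ R ≤ Subgroup.centralizer ({x} : Set G)) : p ∣ Nat.card s := by
  letI : MulAction R s :=
    { smul := fun r x => ⟨(r : G) * x.1 * (r : G)⁻¹, hs r r.2 x.1 x.2⟩
      one_smul := fun x => Subtype.ext (by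
        show ((1 : R) : G) * x.1 * ((1 : R) : G)⁻¹ = x.1
        rw [Subgroup.coe_one, one_mul, inv_one, mul_one])
      mul_smul := fun a b x => Subtype.ext (by
        show ((a * b : R) : G) * x.1 * ((a * b : R) : G)⁻¹ =
          (a : G) * ((b : G) * x.1 * (b : G)⁻¹) * (a : G)⁻¹
        rw [Subgroup.coe_mul]; group) }
  refine Nat.modEq_zero_iff_dvd.1 ((hR.card_modEq_card_fixedPoints s).trans (congrArg (· % p) ?_))
  refine Nat.card_eq_zero.2 (Or.inl ⟨fun x => hfree x.1.1 x.1.2 fun g hg => ?_⟩)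
  exact mem_centralizer.2 (mul_inv_eq_iff_eq_mul.1 (congrArg Subtype.val (x.2 ⟨g, hg⟩)))

variable (P : PointClass G Ω D pt)
  (hodd : ∀ x y : Ω, x ≠ y → Odd (Nat.card (twoPt G x y)))
  (hD : ∀ g : G, orderOf g = 2 → g ∈ D)
  (hNC : ∀ (r : ℕ) [Fact r.Prime], (∀ z : Ω, r ∣ Nat.card {f : G // f ∈ D ∧ pt f = z}) →
    ∀ t ∈ D, ∀ X : Subgroup G, IsPGroup r X → t ∈ Subgroup.normalizer (X : Set G) →
    X ≤ MulAction.stabilizer G (pt t) → X ≤ Subgroup.centralizer ({t} : Set G))
include P hodd hD hNC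

/-- **A centralising swapper.** -/
theorem exists_swapper_centralizing (V : Subgroup G) (hV : Odd (Nat.card V)) (x y : Ω)
    (hxy : x ≠ y) (hVxy : V ≤ twoPt G x y) {v : G} (hv : v ∈ D) (hvx : pt v = x)
    (hVv : V ≤ Subgroup.centralizer ({v} : Set G)) :
    ∃ t ∈ D, t • x = y ∧ V ≤ Subgroup.centralizer ({t} : Set G) := by
  classical
  induction hn : Nat.card V using Nat.strong_induction_on generalizing V x y v with
  | _ n ih =>
  rcases subsingleton_or_nontrivial V with hsub | hnt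
  · obtain ⟨f, hf, hfy⟩ := P.exists_at y
    obtain ⟨w, hw, -, hwp⟩ := P.exists_mid hv hf (by rwa [hvx, hfy])
    refine ⟨w, hw, by rwa [hvx, hfy] at hwp, fun g hg => ?_⟩
    have h1 : (⟨g, hg⟩ : V) = 1 := Subsingleton.elim _ _
    rw [show g = 1 from congrArg Subtype.val h1]
    exact one_mem _
  haveI : Group.IsSolvable V := OddOrderTheorem.solvable hV
  obtain ⟨M₀, hM₀, hr⟩ := exists_normal_prime_index_of_solvable V
  set r := M₀.index with hrdef
  haveI : Fact r.Prime := ⟨hr⟩
  have hr2 : r ≠ 2 := fun e => Nat.not_even_iff_odd.2 hV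
    (even_iff_two_dvd.2 (e ▸ M₀.index_dvd_card))
  set Y := M₀.map V.subtype with hYdef
  have hYV : Y ≤ V := Subgroup.map_subtype_le _
  have hlt : Nat.card Y < n := by
    rw [← hn, hYdef, Cores.card_map_subtype, ← M₀.card_mul_index]
    exact lt_mul_of_one_lt_right Nat.card_pos hr.one_lt
  have hYn : ∀ g ∈ V, g ∈ Subgroup.normalizer (Y : Set G) := fun g hg =>
    Coprime.mem_normalizer_of_forall (by
      rintro _ ⟨a, ha, rfl⟩
      exact ⟨⟨g, hg⟩ * a * ⟨g, hg⟩⁻¹, hM₀.conj_mem a ha ⟨g, hg⟩, rfl⟩)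
  -- an `r`-element outside `Y`
  obtain ⟨g₀, -, hg₀⟩ := SetLike.exists_of_lt (lt_top_iff_ne_top.2 fun e : M₀ = ⊤ =>
    hr.ne_one (by rw [hrdef, e, Subgroup.index_top]))
  set e := (orderOf g₀).factorization r with he
  set n' := orderOf g₀ / r ^ e with hn'
  set g := g₀ ^ n' with hg
  have hcop : n'.Coprime r :=
    (hr.coprime_iff_not_dvd.2 (Nat.not_dvd_ordCompl hr (orderOf_pos g₀).ne')).symm
  have hgM : g ∉ M₀ := by
    intro h
    refine hg₀ ?_
    have h1 : g₀ ^ r ∈ M₀ := M₀.pow_index_mem g₀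
    have h2 := M₀.mul_mem (M₀.zpow_mem h (n'.gcdA r)) (M₀.zpow_mem h1 (n'.gcdB r))
    rwa [hg, ← zpow_natCast g₀ n', ← zpow_natCast g₀ r, ← zpow_mul, ← zpow_mul, ← zpow_add,
      ← Nat.gcd_eq_gcd_ab, hcop, Nat.cast_one, zpow_one] at h2
  set R := Subgroup.zpowers (g : G) with hR
  have hRV : R ≤ V := Subgroup.zpowers_le.2 g.2
  have hRp : IsPGroup r R := by
    refine IsPGroup.of_card (n := e) ?_
    have hdvd : n' ∣ orderOf g₀ := Nat.div_dvd_of_dvd (Nat.ordProj_dvd _ _)
    have hpos : 0 < n' := Nat.ordCompl_pos r (orderOf_pos g₀).ne'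
    rw [hR, Nat.card_zpowers, Subgroup.orderOf_coe, hg, orderOf_pow' g₀ hpos.ne',
      Nat.gcd_eq_right hdvd, hn', Nat.div_div_self (Nat.ordProj_dvd _ _) (orderOf_pos g₀).ne']
  have hVYR : V ≤ Y ⊔ R := by
    have htop : M₀ ⊔ Subgroup.zpowers g = ⊤ := by
      have h1 : M₀ < M₀ ⊔ Subgroup.zpowers g := lt_of_le_of_ne le_sup_left fun e =>
        hgM (e ▸ Subgroup.mem_sup_right (Subgroup.mem_zpowers g))
      have h2 := Subgroup.index_dvd_of_le h1.le
      rcases (Nat.dvd_prime hr).1 h2 with e | e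
      · exact Subgroup.index_eq_one.1 e
      · exact absurd (Subgroup.index_strictAnti h1) (by omega)
    intro a ha
    have : (⟨a, ha⟩ : V) ∈ M₀ ⊔ Subgroup.zpowers g := htop ▸ Subgroup.mem_top _
    have h' := Subgroup.mem_map_of_mem V.subtype this
    rwa [Subgroup.map_sup, MonoidHom.map_zpowers] at h'
  -- the local setting
  set K := Subgroup.centralizer (Y : Set G) with hK
  have hKmem : ∀ {t : G}, t ∈ K ↔ Y ≤ Subgroup.centralizer ({t} : Set G) := fun {t} => by
    rw [hK, Subgroup.mem_centralizer_iff]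
    exact ⟨fun h a ha => mem_centralizer.2 (h a ha), fun h a ha => mem_centralizer.1 (h ha)⟩
  have hvK : v ∈ K := hKmem.2 (hYV.trans hVv)
  set M := K ⊔ R with hM
  have hRK : R ≤ Subgroup.normalizer (K : Set G) := by
    intro a ha
    refine Coprime.mem_normalizer_of_forall fun c hc => ?_
    rw [hK, Subgroup.mem_centralizer_iff] at hc ⊢
    intro z hz
    have hz' : a⁻¹ * z * a ∈ Y := (Subgroup.mem_normalizer_iff''.1 (hYn a (hRV ha)) z).1 hz
    calc z * (a * c * a⁻¹) = a * ((a⁻¹ * z * a) * c) * a⁻¹ := by group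
      _ = a * (c * (a⁻¹ * z * a)) * a⁻¹ := by rw [hc _ hz']
      _ = a * c * a⁻¹ * z := by group
  have hMY : M ≤ Subgroup.normalizer (Y : Set G) := sup_le (fun t ht =>
    Coprime.mem_normalizer_of_forall fun a ha => by
      rwa [(mem_centralizer.1 (hKmem.1 ht ha)).symm.eq, mul_inv_cancel_right])
    fun a ha => hYn a (hRV ha)
  let F : Set Ω := {z | Y ≤ MulAction.stabilizer G z}
  have hIH : ∀ z z' : Ω, z ≠ z' → Y ≤ MulAction.stabilizer G z → Y ≤ MulAction.stabilizer G z' →
      ∀ f ∈ D, f ∈ K → pt f = z → ∃ t ∈ D, t ∈ K ∧ t • z = z' := by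
    intro z z' hne hz hz' f hf hfK hfz
    obtain ⟨t, ht, htz, htY⟩ := ih _ hlt Y (hV.of_dvd_nat (Subgroup.card_dvd_of_le hYV)) z z' hne
      (le_inf hz hz') hf hfz (hKmem.1 hfK) rfl
    exact ⟨t, ht, hKmem.2 htY, htz⟩
  have hxF : Y ≤ MulAction.stabilizer G x := hYV.trans (hVxy.trans inf_le_left)
  have hyF : Y ≤ MulAction.stabilizer G y := hYV.trans (hVxy.trans inf_le_right)
  have hpts : ∀ z ∈ F, ∃ f ∈ D, f ∈ K ∧ pt f = z := by
    intro z hz
    rcases eq_or_ne x z with rfl | hne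
    · exact ⟨v, hv, hvK, hvx⟩
    obtain ⟨t, ht, htK, htz⟩ := hIH x z hne hxF hz v hv hvK hvx
    exact ⟨t * v * t⁻¹, P.conj_mem t v hv, K.mul_mem (K.mul_mem htK hvK) (K.inv_mem htK),
      by rw [P.pt_conj t hv, hvx, htz]⟩
  by_cases hfix : ∃ t ∈ D, t ∈ K ∧ t • x = y ∧ R ≤ Subgroup.centralizer ({t} : Set G)
  · obtain ⟨t, ht, htK, htx, htR⟩ := hfix
    exact ⟨t, ht, htx, hVYR.trans (sup_le (hKmem.1 htK) htR)⟩
  push Not at hfix
  have hdvd : r ∣ Nat.card {t : G // t ∈ D ∧ t ∈ K ∧ t • x = y} :=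
    dvd_card_of_conj_free hRp (s := {t | t ∈ D ∧ t ∈ K ∧ t • x = y})
      (fun a ha t ⟨ht, htK, htx⟩ => ⟨P.conj_mem a t ht, (Subgroup.mem_normalizer_iff.1 (hRK ha) t).1 htK,
        smul_swap_conj P htx (MulAction.mem_stabilizer_iff.1 (hVxy (hRV ha)).1)
          (MulAction.mem_stabilizer_iff.1 (hVxy (hRV ha)).2)⟩)
      fun t ⟨ht, htK, htx⟩ => hfix t ht htK htx
  have hdiv : ∀ z : Ω, r ∣ Nat.card {f : G // f ∈ D ∧ pt f = z} := by
    intro z
    rw [card_point_eq P z x]
    obtain ⟨q, hq, hqK, hqx⟩ := hIH x y hxy hxF hyF v hv hvK hvx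
    set E := K ⊓ twoPt G x y with hE
    have hqE : q ∈ Subgroup.normalizer (E : Set G) :=
      Coprime.mem_normalizer_of_forall fun a ha => ⟨K.mul_mem (K.mul_mem hqK ha.1) (K.inv_mem hqK),
        (Subgroup.mem_normalizer_iff.1 (swap_mem_normalizer_twoPt P hq hqx) a).1 ha.2⟩
    obtain ⟨Q, -, hQE, hqQ, hQp, hQcard⟩ := exists_sylow_invariant (p := r) (P.inv q hq) hqE
      ((hodd x y hxy).of_dvd_nat (Subgroup.card_dvd_of_le inf_le_right))
      (R := ⊥) bot_le IsPGroup.of_bot (by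
        rw [Subgroup.normalizer_eq_top_iff.2 inferInstance]; exact Subgroup.mem_top q)
    have hnot := not_le_centralizer_swap P hodd hxy (E := E) inf_le_right
      (inf_le_left.trans Subgroup.le_normalizer) le_rfl hq hqK hqx hdvd hQp hQE hQcard
    obtain ⟨h, hh, hhq⟩ := SetLike.not_le_iff_exists.1 hnot
    set g₁ := q * h * q⁻¹ * h⁻¹ with hg₁
    have hg₁Q : g₁ ∈ Q := Q.mul_mem ((Subgroup.mem_normalizer_iff.1 hqQ h).1 hh) (Q.inv_mem hh)
    have hg₁1 : g₁ ≠ 1 := fun e => hhq (mem_centralizer.2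
      (mul_inv_eq_iff_eq_mul.1 (mul_inv_eq_one.1 e)).symm)
    have hinv : q * g₁ * q⁻¹ = g₁⁻¹ := by
      rw [hg₁, mul_inv_rev, mul_inv_rev, mul_inv_rev, inv_inv, inv_inv, inv_eq (P.inv q hq)]
      calc q * (q * h * q * h⁻¹) * q = (q * q) * h * q * h⁻¹ * q := by group
        _ = h * (q * (h⁻¹ * q)) := by rw [mul_self (P.inv q hq)]; group
    obtain ⟨⟨g₂, hg₂z⟩, hg₂⟩ := exists_prime_orderOf_dvd_card' (G := Subgroup.zpowers g₁) r (by
      obtain ⟨j, hj⟩ := (IsPGroup.iff_orderOf.1 hQp) ⟨g₁, hg₁Q⟩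
      rw [Subgroup.orderOf_mk] at hj
      rw [Nat.card_zpowers, hj]
      refine dvd_pow_self r fun e => hg₁1 ?_
      rwa [e, pow_zero, orderOf_eq_one_iff] at hj)
    rw [Subgroup.orderOf_mk] at hg₂
    obtain ⟨k, rfl⟩ := Subgroup.mem_zpowers_iff.1 hg₂z
    have hg₂K : g₁ ^ k ∈ twoPt G x y := (twoPt G x y).zpow_mem (hQE hg₁Q).2 k
    refine dvd_card_of_conj_free (R := Subgroup.zpowers (g₁ ^ k))
      (IsPGroup.of_card (n := 1) (by rw [Nat.card_zpowers, hg₂, pow_one]))
      (s := {f | f ∈ D ∧ pt f = x}) ?_ ?_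
    · intro a ha f hf
      refine ⟨P.conj_mem a f hf.1, ?_⟩
      rw [P.pt_conj a hf.1, hf.2]
      exact MulAction.mem_stabilizer_iff.1 ((Subgroup.zpowers_le.2 hg₂K) ha).1
    · intro f hf hle
      have := eq_one_of_inverted_commute P hodd (P.inv q hq) hqx hxy hg₂K (inverts_zpow hinv k)
        hf.1 (Or.inl hf.2) (mem_centralizer.1 (hle (Subgroup.mem_zpowers _)))
      rw [this, orderOf_one] at hg₂
      exact hr.one_lt.ne hg₂
  have S : LocalSetup D pt r K M F := by
    refine ⟨P, hodd, hD, le_sup_left, sup_le Subgroup.le_normalizer hRK, ?_,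
      fun t ht z hz => le_stab_smul (hMY ht) hz,
      fun t ht htK a ha => MulAction.mem_stabilizer_iff.2
        (P.commute_fix ht (mem_centralizer.1 (hKmem.1 htK ha))), ?_, ?_, hr2,
      fun t ht X hX h1 h2 => hNC r hdiv t ht X hX h1 h2⟩
    · intro t ht ht2
      obtain ⟨k, hk, a, ha, rfl⟩ := (Coprime.mem_sup_iff hRK).1 ht
      have hsq := mul_self ht2
      have haa : a * a ∈ K := by
        have h1 : a * a = (k * (a * k * a⁻¹))⁻¹ * (k * a * (k * a)) := by group
        rw [h1, hsq, mul_one]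
        exact K.inv_mem (K.mul_mem hk ((Subgroup.mem_normalizer_iff.1 (hRK ha) k).1 hk))
      obtain ⟨j, hj⟩ := hV
      have hpow : a ^ (2 * j + 1) = 1 := by
        rw [← hj]
        exact orderOf_dvd_iff_pow_eq_one.1 (Subgroup.orderOf_dvd_natCard V (hRV ha))
      refine K.mul_mem hk ?_
      have h3 : a = (a * a) ^ (j + 1) := by
        rw [← sq, ← pow_mul, show 2 * (j + 1) = (2 * j + 1) + 1 by ring, pow_succ, hpow, one_mul]
      rw [h3]
      exact K.pow_mem haa _
    · intro z hz z' hz' hne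
      obtain ⟨f, hf, hfK, hfz⟩ := hpts z hz
      exact hIH z z' hne hz hz' f hf hfK hfz
    · intro z hz z' hz' hne
      have hcount : ∀ w ∈ F, Nat.card {g : G // g ∈ D ∧ g ∈ K ∧ pt g = w} =
          Nat.card {g : G // g ∈ D ∧ g ∈ K ∧ pt g = x} := by
        intro w hw
        rcases eq_or_ne x w with rfl | hne'
        · rfl
        obtain ⟨t, ht, htK, htw⟩ := hIH x w hne' hxF hw v hv hvK hvx
        exact (card_pts_in P ht htK htw).symm
      obtain ⟨f, hf, hfK, hfz⟩ := hpts z hz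
      rw [card_swap_in P hne hf hfK hfz, hcount z' hz', ← hcount y hyF,
        ← card_swap_in P hxy hv hvK hvx]
      exact hdvd
  have hvy : v • y ≠ y := fun e => hxy (((P.fixed_iff v hv y).1 e).trans hvx).symm
  have hvx' : v • x = x := by rw [← hvx]; exact P.smul_pt hv
  have hvyx : v • y ≠ x := fun e => hxy (MulAction.injective v (hvx'.trans e.symm))
  have hRv : R ≤ MulAction.stabilizer G (v • y) := fun a ha => by
    rw [MulAction.mem_stabilizer_iff, ← mul_smul, (mem_centralizer.1 (hVv (hRV ha))).eq, mul_smul,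
      MulAction.mem_stabilizer_iff.1 (hVxy (hRV ha)).2]
  obtain ⟨t, ht, htK, htx, htR⟩ := S.exists_swap_centralizing R hRp le_sup_right
    ⟨x, y, v • y, hxy, hvyx.symm, hvy.symm, ⟨hxF, hRV.trans (hVxy.trans inf_le_left)⟩,
      ⟨hyF, hRV.trans (hVxy.trans inf_le_right)⟩,
      le_stab_smul (hMY (Subgroup.mem_sup_left hvK)) hyF, hRv⟩
    x y hxF hyF hxy (hRV.trans (hVxy.trans inf_le_left)) (hRV.trans (hVxy.trans inf_le_right))
  exact absurd htR (hfix t ht htK htx)

end Cfsg.Agent.Bender
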