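/-
The free case and Bender's theorem (owner: helper1).

* `free_case` : the free case hypothesis of `coreTwo_of_cases`
* `coreTwo` : the involutions of a strongly embedded subgroup commute modulo its odd core

Proof of the free case: `exists_swapper_centralizing` gives a swapper centralised by the centraliser
of an involution in `G_ab`, so (`commute_trans_at`) commuting is transitive on the involutions of
`H`.  If they do not all commute and the classes are not singletons, an involution exchanging two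
classes inverts a non-trivial element `k` fixing both; it fixes no involution of a class, so a
power of it is an element of prime order `l` dividing the class size, which divides the number of
involutions.  By the `Setup` for `l` it fixes two points, so the involution centralises it: absurd.
-/
import Cfsg.Agent.Lib.Bender.Centred
import Cfsg.Agent.Lib.Bender.FreeNormal
import Cfsg.Agent.Lib.Bender.Reflection
import Cfsg.Agent.Lib.Bender.SwapCentral

set_option autoImplicit false
set_option linter.style.haveILetI false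
set_option linter.unusedSectionVars false

namespace Cfsg.Agent.Bender

open Cfsg Involution Aschbacher
open scoped Pointwise

universe u

variable {G : Type u} [Group G] [Finite G] {H : Subgroup G}

/-- The involutions at a point are as many as those of `H`. -/
theorem card_at_eq (hH : IsStronglyEmbedded H) (z : G ⧸ H) :
    Nat.card {f : G // f ∈ {d : G | orderOf d = 2} ∧ fixPt H f = z} =
      Nat.card {t : H // orderOf t = 2} := by
  have P := pointClass_of_stronglyEmbedded hH
  rw [card_point_eq P z ((1 : G) : G ⧸ H)]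
  exact Nat.card_congr
    { toFun := fun f => ⟨⟨f.1, smul_one_eq.1 (by
        have h := P.smul_pt f.2.1
        rwa [f.2.2] at h)⟩, by rw [← Subgroup.orderOf_coe]; exact f.2.1⟩
      invFun := fun t => ⟨t.1, show orderOf (t.1 : G) = 2 by rw [Subgroup.orderOf_coe]; exact t.2,
        ((P.fixed_iff _ (show orderOf (t.1 : G) = 2 by rw [Subgroup.orderOf_coe]; exact t.2) _).1
          (smul_one_eq.2 t.1.2)).symm⟩
      left_inv := fun f => rfl
      right_inv := fun t => rfl }

theorem nc_of_setup (hH : IsStronglyEmbedded H) (hIH : CoreTwoBelow G) (hcore : H.normalCore = ⊥)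
    (hfail : ¬ CoreTwo H) {r : ℕ} [Fact r.Prime] {X₀ : Subgroup G} {a₀ b₀ : G ⧸ H}
    (S : Setup {d : G | orderOf d = 2} (fixPt H) r X₀ a₀ b₀) (t : G) (ht : orderOf t = 2)
    (X : Subgroup G) (hX : IsPGroup r X) (htX : t ∈ Subgroup.normalizer (X : Set G))
    (hfix : X ≤ MulAction.stabilizer G (fixPt H t)) :
    X ≤ Subgroup.centralizer ({t} : Set G) := by
  have P := pointClass_of_stronglyEmbedded hH
  obtain ⟨g, hg⟩ : ∃ g : G, g • ((1 : G) : G ⧸ H) = fixPt H t :=
    MulAction.exists_smul_eq G _ _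
  have hmem : ∀ x : G, x • fixPt H t = fixPt H t → g⁻¹ * x * g ∈ H := fun x hx => smul_one_eq.1 (by
    rw [mul_smul, mul_smul, hg, hx, ← hg, inv_smul_smul])
  intro x hx
  have h := centralizes_of_setup hH hIH hcore hfail S (g⁻¹ * t * g) (MulAut.conj g⁻¹ • X)
    (by have := Involution.orderOf_conj g⁻¹ t; rwa [inv_inv, ht] at this)
    (hmem t (P.smul_pt ht)) (hX.map _)
    (fun a ha => by
      have ha' := Coprime.mem_conj.1 ha
      rw [inv_inv] at ha'
      have := hmem _ (MulAction.mem_stabilizer_iff.1 (hfix ha'))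
      simpa [mul_assoc] using this)
    (Coprime.mem_normalizer_of_forall fun a ha => by
      rw [Coprime.mem_conj, inv_inv] at ha ⊢
      have := (Subgroup.mem_normalizer_iff.1 htX _).1 ha
      simpa [mul_assoc] using this)
    (g⁻¹ * x * g) (Coprime.mem_conj.2 (by simpa [mul_assoc] using hx))
  refine mem_centralizer.2 ?_
  have h' := (commute_conj_iff (g := g⁻¹) (x := t) (y := x)).1 (by rwa [inv_inv])
  exact h'.symm

theorem free_case (hH : IsStronglyEmbedded H) (hIH : CoreTwoBelow G) (hcore : H.normalCore = ⊥)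
    (hfail : ¬ CoreTwo H)
    (hcases : ∀ (p : ℕ) [Fact p.Prime], p ∣ Nat.card {t : H // orderOf t = 2} →
      ∃ (X : Subgroup G) (a b : G ⧸ H), Setup {d : G | orderOf d = 2} (fixPt H) p X a b) :
    False := by
  classical
  have P := pointClass_of_stronglyEmbedded hH
  have hodd : ∀ x y : G ⧸ H, x ≠ y → Odd (Nat.card (twoPt G x y)) := fun x y h => odd_two_point hH h
  have hNC : ∀ (r : ℕ) [Fact r.Prime], (∀ z : G ⧸ H,
      r ∣ Nat.card {f : G // f ∈ {d : G | orderOf d = 2} ∧ fixPt H f = z}) →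
      ∀ t ∈ {d : G | orderOf d = 2}, ∀ X : Subgroup G, IsPGroup r X →
      t ∈ Subgroup.normalizer (X : Set G) → X ≤ MulAction.stabilizer G (fixPt H t) →
      X ≤ Subgroup.centralizer ({t} : Set G) := by
    intro r _ hr t ht X hX h1 h2
    obtain ⟨X₀, a₀, b₀, S⟩ := hcases r (by rw [← card_at_eq hH ((1 : G) : G ⧸ H)]; exact hr _)
    exact nc_of_setup hH hIH hcore hfail S t ht X hX h1 h2
  set o : G ⧸ H := ((1 : G) : G ⧸ H) with ho
  obtain ⟨e₀, -, he₀⟩ := exists_not_mem hH
  have hob : o ≠ (e₀ : G ⧸ H) := fun e => he₀ (by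
    have := QuotientGroup.eq.1 e
    rwa [inv_one, one_mul] at this)
  obtain ⟨v₀, hv₀, hv₀a⟩ := P.exists_at o
  obtain ⟨u₀, hu₀, hu₀a, hcent⟩ := exists_swapper_centralizing P hodd (fun g h => h) hNC
    (twoPt G o (e₀ : G ⧸ H) ⊓ Subgroup.centralizer ({v₀} : Set G))
    ((hodd o _ hob).of_dvd_nat (Subgroup.card_dvd_of_le inf_le_left)) o _ hob inf_le_left hv₀ hv₀a
    inf_le_right
  have hpt : ∀ {x : G}, orderOf x = 2 → x ∈ H → fixPt H x = o := fun {x} hx hxH =>
    ((P.fixed_iff x hx o).1 (smul_one_eq.2 hxH)).symm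
  have hmem : ∀ {x y : G}, orderOf x = 2 → x ∈ H → orderOf y = 2 → Commute x y → y ∈ H := by
    intro x y hx hxH hy hc
    refine smul_one_eq.1 ?_
    have h1 := P.smul_pt (d := y) hy
    rwa [← P.pt_eq_of_commute hx hy hc, hpt hx hxH, ho] at h1
  have htr : ∀ {x y z : G}, orderOf x = 2 → x ∈ H → orderOf y = 2 → orderOf z = 2 → Commute x y →
      Commute y z → Commute x z := fun {x y z} hx hxH hy hz h1 h2 =>
    commute_trans_at P hodd (fun g h => h) hob hv₀ hv₀a hu₀ hu₀a hcent hx hy hz (hpt hx hxH) h1 h2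
  -- classes are neither trivial nor everything
  obtain ⟨v, hvH, v₁, hv₁H, hv, hv₁, hvv₁, hne₁⟩ : ∃ v ∈ H, ∃ v₁ ∈ H, orderOf v = 2 ∧
      orderOf v₁ = 2 ∧ Commute v v₁ ∧ v ≠ v₁ := by
    by_contra! hcon
    exact hfail (coreTwo_of_isolated fun s hs t ht h1 h2 h3 => hcon s hs t ht h1 h2 h3)
  obtain ⟨y, hyH, hy, hvy⟩ : ∃ y ∈ H, orderOf y = 2 ∧ ¬ Commute v y := by
    by_contra! hcon
    refine hfail fun s t hs ht => ?_
    have hst : Commute (s : G) (t : G) :=
      htr hs s.2 hv ht (hcon s s.2 hs).symm (hcon t t.2 ht)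
    have : s * t * s⁻¹ * t⁻¹ = 1 := Subtype.ext (by
      show (s : G) * t * (s : G)⁻¹ * (t : G)⁻¹ = 1
      rw [hst.eq]; group)
    rw [this]
    exact one_mem _
  have hv₁y : ¬ Commute v₁ y := fun h => hvy (htr hv hvH hv₁ hy hvv₁ h)
  have hrefl : ∀ {a b : G}, orderOf a = 2 → a ∈ H → orderOf b = 2 → b ∈ H → ¬ Commute a b →
      ∃ z, orderOf z = 2 ∧ z ∈ H ∧ z * a * z⁻¹ = b := by
    intro a b ha haH hb hbH hab
    obtain ⟨l, hl⟩ : Odd (orderOf (a * b)) := by
      rw [← Nat.not_even_iff_odd]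
      intro he
      obtain ⟨r, hr, hra, hrb, -⟩ := exists_commuting_involution ha hb he
      exact hab (htr ha haH hr hb hra.symm hrb)
    have hne : a ≠ b := fun e => hab (e ▸ Commute.refl a)
    refine ⟨a * (a * b) ^ ((l + 1 : ℕ) : ℤ), orderOf_mul_zpow ha hb hne _,
      H.mul_mem haH (H.zpow_mem (H.mul_mem haH hbH) _), ?_⟩
    rw [conj_left_mul_zpow ha hb,
      show (2 * ((l + 1 : ℕ) : ℤ)) = (orderOf (a * b) : ℤ) + 1 by rw [hl]; push_cast; ring,
      zpow_add_one, zpow_natCast, pow_orderOf_eq_one, one_mul, left_mul_mul_left ha hb]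
  obtain ⟨z, hz, hzH, hzv⟩ := hrefl hv hvH hy hyH hvy
  obtain ⟨z', hz', hz'H, hz'v⟩ := hrefl hv₁ hv₁H hy hyH hv₁y
  have hzy : z * y * z⁻¹ = v := by
    rw [← hzv, inv_eq hz]
    calc z * (z * v * z) * z = (z * z) * v * (z * z) := by group
      _ = v := by rw [mul_self hz, one_mul, mul_one]
  have hz'y : z' * y * z'⁻¹ = v₁ := by
    rw [← hz'v, inv_eq hz']
    calc z' * (z' * v₁ * z') * z' = (z' * z') * v₁ * (z' * z') := by group
      _ = v₁ := by rw [mul_self hz', one_mul, mul_one]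
  set k := z * z' with hk
  have hk1 : k ≠ 1 := by
    intro e
    have e' : z = z' := by rw [← inv_eq hz']; exact eq_inv_of_mul_eq_one_left e
    exact hne₁ (by rw [← hzy, e', hz'y])
  have hkv₁ : k * v₁ * k⁻¹ = v := by rw [hk, conj_conj, hz'v, hzy]
  have hky : k * y * k⁻¹ = z * v₁ * z⁻¹ := by rw [hk, conj_conj, hz'y]
  have hkH : k ∈ H := H.mul_mem hzH hz'H
  have hinvk : z * k * z⁻¹ = k⁻¹ := inverts_mul_left hz hz'
  -- the two classes
  let c : Set G := {x | orderOf x = 2 ∧ Commute v x}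
  let c' : Set G := {x | orderOf x = 2 ∧ Commute y x}
  have hck : ∀ x ∈ c, k * x * k⁻¹ ∈ c := by
    rintro x ⟨hx, hxc⟩
    refine ⟨(orderOf_conj _ _).trans hx, ?_⟩
    have h1 : Commute (k * v₁ * k⁻¹) (k * x * k⁻¹) :=
      commute_conj_iff.2 (htr hv₁ hv₁H hv hx hvv₁.symm hxc)
    rwa [hkv₁] at h1
  have hck' : ∀ x ∈ c', k * x * k⁻¹ ∈ c' := by
    rintro x ⟨hx, hxc⟩
    refine ⟨(orderOf_conj _ _).trans hx, ?_⟩
    have h1 : Commute (z * v₁ * z⁻¹) (k * x * k⁻¹) := hky ▸ commute_conj_iff.2 hxc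
    have h2 : Commute y (z * v₁ * z⁻¹) := hzv ▸ commute_conj_iff.2 hvv₁
    exact htr hy hyH ((orderOf_conj _ _).trans hv₁) ((orderOf_conj _ _).trans hx) h2 h1
  have hoddc : ∀ x₀ : G, orderOf x₀ = 2 → Odd (Nat.card {x : G | orderOf x = 2 ∧ Commute x₀ x}) := by
    intro x₀ hx₀
    have hev : Even (Nat.card (Subgroup.centralizer ({x₀} : Set G))) :=
      even_iff_two_dvd.2 (hx₀ ▸ Subgroup.orderOf_dvd_natCard _ (mem_centralizer.2 (Commute.refl x₀)))
    convert odd_card_involutions hev using 1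
    exact Nat.card_congr
      { toFun := fun t => ⟨⟨t.1, mem_centralizer.2 t.2.2.symm⟩, by
          rw [← Subgroup.orderOf_coe]; exact t.2.1⟩
        invFun := fun t => ⟨t.1.1, by rw [Subgroup.orderOf_coe]; exact t.2,
          (mem_centralizer.1 t.1.2).symm⟩
        left_inv := fun t => rfl
        right_inv := fun t => rfl }
  have hpow : ∀ (s : Set G), (∀ x ∈ s, k * x * k⁻¹ ∈ s) →
      ∀ j : ℕ, ∀ x ∈ s, k ^ j * x * (k ^ j)⁻¹ ∈ s := by
    intro s hs j
    induction j with
    | zero => intro x hx; simpa using hx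
    | succ j hj => intro x hx; rw [pow_succ', conj_conj]; exact hs _ (hj x hx)
  have hkodd : Odd (orderOf k) := by
    rw [← Nat.not_even_iff_odd]
    rintro ⟨j, hj⟩
    have hpos := orderOf_pos k
    have hi2 : orderOf (k ^ j) = 2 := orderOf_of_sq (by rw [← pow_add, ← hj, pow_orderOf_eq_one])
      (pow_ne_one_of_lt_orderOf (by omega) (by omega))
    have hfix : ∀ x₀ : G, orderOf x₀ = 2 → x₀ ∈ H →
        (∀ x ∈ {x : G | orderOf x = 2 ∧ Commute x₀ x},
          k * x * k⁻¹ ∈ {x : G | orderOf x = 2 ∧ Commute x₀ x}) → Commute x₀ (k ^ j) := by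
      intro x₀ hx₀ hx₀H hs
      obtain ⟨⟨x, hx, hxc⟩, e⟩ := exists_fixed_of_odd (hoddc x₀ hx₀)
        (fun x => ⟨k ^ j * x.1 * (k ^ j)⁻¹, hpow _ hs j x.1 x.2⟩) (fun x => Subtype.ext (by
          show k ^ j * (k ^ j * x.1 * (k ^ j)⁻¹) * (k ^ j)⁻¹ = x.1
          rw [← conj_conj, mul_self hi2]; simp))
      exact htr hx₀ hx₀H hx hi2 hxc (mul_inv_eq_iff_eq_mul.1 (congrArg Subtype.val e)).symm
    exact hvy (htr hv hvH hi2 hy (hfix v hv hvH hck) (hfix y hy hyH hck').symm)
  -- a power of prime order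
  obtain ⟨l, hl, hlk⟩ := Nat.exists_prime_and_dvd (mt orderOf_eq_one_iff.1 hk1)
  haveI : Fact l.Prime := ⟨hl⟩
  have hl2 : l ≠ 2 := fun e => Nat.not_even_iff_odd.2 hkodd (even_iff_two_dvd.2 (e ▸ hlk))
  set g := k ^ (orderOf k / l) with hg
  have hgl : orderOf g = l := orderOf_pow_orderOf_div (orderOf_pos k).ne' hlk
  have hginv : z * g * z⁻¹ = g⁻¹ := inverts_pow hinvk _
  have hgH : g ∈ H := H.pow_mem hkH _
  have hg_ne : g * g ≠ 1 := fun e => by
    have h1 := orderOf_dvd_of_pow_eq_one (n := 2) (x := g) (by rw [sq, e])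
    rw [hgl] at h1
    exact hl2 ((Nat.prime_dvd_prime_iff_eq hl Nat.prime_two).1 h1)
  -- it fixes no involution of the class of `v`
  have hfree : ∀ x ∈ c, ¬ Commute g x := by
    rintro x ⟨hx, hxc⟩ hgx
    have hxH : x ∈ H := hmem hv hvH hx hxc
    set x' := z * x * z⁻¹ with hx'
    have hx'2 : orderOf x' = 2 := (orderOf_conj _ _).trans hx
    have hyx' : Commute y x' := hzv ▸ commute_conj_iff.2 hxc
    have hxx' : ¬ Commute x x' := fun h =>
      hvy (htr hv hvH hx'2 hy (htr hv hvH hx hx'2 hxc h) hyx'.symm)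
    have hgx' : Commute g x' := by
      have h1 : Commute (z * g * z⁻¹) (z * x * z⁻¹) := commute_conj_iff.2 hgx
      rw [hginv] at h1
      exact Commute.inv_left_iff.1 h1
    obtain ⟨l', hl'⟩ : Odd (orderOf (x * x')) := by
      rw [← Nat.not_even_iff_odd]
      intro he
      obtain ⟨r, hr, hra, hrb, -⟩ := exists_commuting_involution hx hx'2 he
      exact hxx' (htr hx hxH hr hx'2 hra.symm hrb)
    set z₀ := x * (x * x') ^ ((l' + 1 : ℕ) : ℤ) with hz₀
    have hz₀x : z₀ * x * z₀⁻¹ = x' := by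
      rw [hz₀, conj_left_mul_zpow hx hx'2,
        show (2 * ((l' + 1 : ℕ) : ℤ)) = (orderOf (x * x') : ℤ) + 1 by rw [hl']; push_cast; ring,
        zpow_add_one, zpow_natCast, pow_orderOf_eq_one, one_mul, left_mul_mul_left hx hx'2]
    have hz₀2 : orderOf z₀ = 2 :=
      orderOf_mul_zpow hx hx'2 (fun e => hxx' (e ▸ Commute.refl x)) _
    have hgz₀ : Commute g z₀ := hgx.mul_right ((hgx.mul_right hgx').zpow_right _)
    set cc := z₀ * z with hcc
    have hback : ∀ w : G, orderOf w = 2 → w * x * w⁻¹ = x' → w * x' * w⁻¹ = x := by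
      intro w hw e
      rw [← e, inv_eq hw]
      calc w * (w * x * w) * w = (w * w) * x * (w * w) := by group
        _ = x := by rw [mul_self hw, one_mul, mul_one]
    have hccx : Commute cc x := mul_inv_eq_iff_eq_mul.1 (by
      rw [hcc, conj_conj, ← hx', hback z₀ hz₀2 hz₀x])
    have hccx' : Commute cc x' := mul_inv_eq_iff_eq_mul.1 (by
      rw [hcc, conj_conj, hback z hz hx'.symm, hz₀x])
    have hccodd : Odd (orderOf cc) := by
      rw [← Nat.not_even_iff_odd]
      rintro ⟨j, hj⟩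
      have hpos := orderOf_pos cc
      have hi2 : orderOf (cc ^ j) = 2 :=
        orderOf_of_sq (by rw [← pow_add, ← hj, pow_orderOf_eq_one])
          (pow_ne_one_of_lt_orderOf (by omega) (by omega))
      exact hxx' (htr hx hxH hi2 hx'2 (hccx.pow_left j).symm (hccx'.pow_left j))
    have hcg : cc * g * cc⁻¹ = g⁻¹ := by
      rw [hcc, conj_conj, hginv, hgz₀.inv_left.symm.eq, mul_inv_cancel_right]
    have hc2 : Commute (cc * cc) g := mul_inv_eq_iff_eq_mul.1 (by
      rw [conj_conj, hcg]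
      calc cc * g⁻¹ * cc⁻¹ = (cc * g * cc⁻¹)⁻¹ := by group
        _ = g := by rw [hcg, inv_inv])
    obtain ⟨j, hj⟩ := hccodd
    have hccg : Commute cc g := by
      have h3 : cc = (cc * cc) ^ (j + 1) := by
        rw [← sq, ← pow_mul, show 2 * (j + 1) = (2 * j + 1) + 1 by ring, pow_succ, ← hj,
          pow_orderOf_eq_one, one_mul]
      rw [h3]
      exact hc2.pow_left _
    rw [hccg.eq, mul_inv_cancel_right] at hcg
    exact hg_ne (by nth_rewrite 1 [hcg]; exact inv_mul_cancel g)
  -- so `l` divides the size of the class, hence the number of involutions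
  have hlc : l ∣ Nat.card c := by
    refine dvd_card_of_conj_free (R := Subgroup.zpowers g)
      (IsPGroup.of_card (n := 1) (by rw [Nat.card_zpowers, hgl, pow_one])) (s := c) ?_
      fun x hx hle => hfree x hx (mem_centralizer.1 (hle (Subgroup.mem_zpowers g)))
    intro a ha x hx
    obtain ⟨j, rfl⟩ : ∃ j : ℕ, k ^ j = a := by
      obtain ⟨i, rfl⟩ := (mem_powers_iff_mem_zpowers.2 ha : a ∈ Submonoid.powers g)
      exact ⟨orderOf k / l * i, by rw [pow_mul]⟩
    exact hpow c hck j x hx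
  have hcm : Nat.card c ∣ Nat.card {t : H // orderOf t = 2} := by
    set I : Set G := {x | orderOf x = 2 ∧ x ∈ H}
    have hI : Nat.card I = Nat.card {t : H // orderOf t = 2} := Nat.card_congr
      { toFun := fun t => ⟨⟨t.1, t.2.2⟩, by rw [← Subgroup.orderOf_coe]; exact t.2.1⟩
        invFun := fun t => ⟨t.1.1, by rw [Subgroup.orderOf_coe]; exact t.2, t.1.2⟩
        left_inv := fun t => rfl
        right_inv := fun t => rfl }
    have hIstab : ∀ h ∈ H, ∀ s ∈ I, h * s * h⁻¹ ∈ I := fun h hh s hs =>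
      ⟨(orderOf_conj _ _).trans hs.1, H.mul_mem (H.mul_mem hh hs.2) (H.inv_mem hh)⟩
    have hIsub : ∀ s : G, orderOf s = 2 → s ∈ H → ∃ h ∈ H, h * v * h⁻¹ = s := by
      intro s hs hsH
      obtain ⟨d, hd, e⟩ :=
        exists_conj_two_point hH hob hv (smul_one_eq.2 hvH) hs (smul_one_eq.2 hsH)
      exact ⟨d, smul_one_eq.1 (MulAction.mem_stabilizer_iff.1 hd.1), e⟩
    let M : Subgroup G :=
      { carrier := {h | h ∈ H ∧ Commute v (h * v * h⁻¹)}
        one_mem' := ⟨H.one_mem, by simp⟩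
        mul_mem' := by
          rintro a b ⟨ha, hac⟩ ⟨hb, hbc⟩
          refine ⟨H.mul_mem ha hb, htr hv hvH ((orderOf_conj _ _).trans hv)
            ((orderOf_conj _ _).trans hv) hac ?_⟩
          rw [conj_conj]
          exact commute_conj_iff.2 hbc
        inv_mem' := by
          rintro a ⟨ha, hac⟩
          refine ⟨H.inv_mem ha, ?_⟩
          have h1 := (commute_conj_iff (g := a⁻¹)).2 hac
          rw [show a⁻¹ * (a * v * a⁻¹) * a⁻¹⁻¹ = v by group] at h1
          exact h1.symm }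
    have hcv : (v : G) ∈ c := ⟨hv, Commute.refl v⟩
    have e1 := card_eq_mul_centralizer M c (fun h hh s hs => ⟨(orderOf_conj _ _).trans hs.1,
        htr hv hvH ((orderOf_conj _ _).trans hv) ((orderOf_conj _ _).trans hs.1) hh.2
          (commute_conj_iff.2 hs.2)⟩) hcv
      (fun s hs => by
        obtain ⟨h, hh, e⟩ := hIsub s hs.1 (hmem hv hvH hs.1 hs.2)
        exact ⟨h, ⟨hh, e.symm ▸ hs.2⟩, e⟩)
    have e2 := card_eq_mul_centralizer H I hIstab ⟨hv, hvH⟩ fun s hs => hIsub s hs.1 hs.2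
    have hM : M ⊓ Subgroup.centralizer ({v} : Set G) = H ⊓ Subgroup.centralizer ({v} : Set G) := by
      refine le_antisymm (fun h hh => ⟨hh.1.1, hh.2⟩) fun h hh => ⟨⟨hh.1, ?_⟩, hh.2⟩
      rw [(mem_centralizer.1 hh.2).eq, mul_inv_cancel_right]
    rw [hM] at e1
    have e3 := Subgroup.card_dvd_of_le (show M ≤ H from fun h hh => hh.1)
    rw [e1, e2] at e3
    rw [← hI]
    exact (Nat.mul_dvd_mul_iff_right Nat.card_pos).1 e3
  -- it fixes two points, so the exchanging involution centralises it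
  obtain ⟨X₀, a₀, b₀, S⟩ := hcases l (hlc.trans hcm)
  have hc := nc_of_setup hH hIH hcore hfail S z hz (Subgroup.zpowers g)
    (IsPGroup.of_card (n := 1) (by rw [Nat.card_zpowers, hgl, pow_one]))
    (Coprime.mem_normalizer_of_forall fun a ha => by
      obtain ⟨i, rfl⟩ := Subgroup.mem_zpowers_iff.1 ha
      rw [inverts_zpow hginv]
      exact inv_mem (zpow_mem (Subgroup.mem_zpowers g) i))
    (by
      rw [hpt hz hzH]
      exact Subgroup.zpowers_le.2 (MulAction.mem_stabilizer_iff.2 (smul_one_eq.2 hgH)))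
    (Subgroup.mem_zpowers g)
  have hgz := mem_centralizer.1 hc
  rw [hgz.symm.eq, mul_inv_cancel_right] at hginv
  exact hg_ne (by nth_rewrite 1 [hginv]; exact inv_mul_cancel g)

/-- **Bender.** The involutions of a strongly embedded subgroup commute modulo its odd core. -/
theorem coreTwo (hH : IsStronglyEmbedded H) : CoreTwo H :=
  coreTwo_induction (fun _ _ _ _ hH hIH hcore h2 => coreTwo_of_cases hH hIH hcore h2
    (fun hfail p _ P => centred_case hH hIH hcore hfail p P)
    (fun hfail _ hcases => free_case hH hIH hcore hfail hcases)) hH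

end Cfsg.Agent.Bender
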