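/-
The half `RankOneHalf` of Bender's theorem, common part of step 2c (owner: helper8).

`HalfHyp H` : `H` strongly embedded with trivial core, its involutions commute, none of them inverts
a non-trivial element of odd order of `H`, and the centraliser conclusions of stage 1 are available.

* `eq_one_of_inverted_at`, `commute_at`, `commute_of_normalizes` : the same at every point
* `not_central` : a non-trivial element of `H` is not central
-/
import Cfsg.Agent.Lib.Bender.Step
import Cfsg.Agent.Lib.Bender.Final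

set_option autoImplicit false
set_option linter.style.haveILetI false
set_option linter.unusedSectionVars false

namespace Cfsg.Agent.Bender

open Cfsg Involution Aschbacher
open scoped Pointwise

universe u

variable {G : Type u} [Group G] [Finite G] {H : Subgroup G}

/-- The hypotheses available after steps 2a, 2b. -/
structure HalfHyp (H : Subgroup G) : Prop where
  se : IsStronglyEmbedded H
  core : H.normalCore = ⊥
  comm : ∀ s ∈ H, ∀ t ∈ H, orderOf s = 2 → orderOf t = 2 → Commute s t
  nc : ∀ v k : G, orderOf v = 2 → v ∈ H → k ∈ H → Odd (orderOf k) → v * k * v⁻¹ = k⁻¹ → k = 1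
  coreTwo : ∀ (M : Subgroup G) (L : Subgroup M), IsStronglyEmbedded L → CoreTwo L

/-- An element of `2`-power order. -/
def IsTwoEl {M : Type*} [Monoid M] (x : M) : Prop := ∃ k : ℕ, x ^ 2 ^ k = 1

theorem IsTwoEl.conj {M : Type*} [Group M] {x : M} (h : IsTwoEl x) (g : M) :
    IsTwoEl (g * x * g⁻¹) := by
  obtain ⟨k, hk⟩ := h
  exact ⟨k, by rw [conj_pow, hk, mul_one, mul_inv_cancel]⟩

theorem isTwoEl_of_orderOf {x : G} (h : orderOf x = 2) : IsTwoEl x :=
  ⟨1, by rw [pow_one, ← h, pow_orderOf_eq_one]⟩

/-- An element both of `2`-power order and in a subgroup of odd order is trivial. -/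
theorem IsTwoEl.eq_one {M : Type*} [Group M] {x : M} (h : IsTwoEl x) {N : Subgroup M}
    (hN : Odd (Nat.card N)) (hx : x ∈ N) : x = 1 := by
  obtain ⟨k, hk⟩ := h
  exact orderOf_eq_one_iff.1 (Nat.eq_one_of_dvd_coprimes
    ((Nat.coprime_two_left.2 hN).pow_left k) (orderOf_dvd_of_pow_eq_one hk)
    (Subgroup.orderOf_dvd_natCard N hx))

namespace HalfHyp

variable (hh : HalfHyp H)
include hh

theorem pc : PointClass G (G ⧸ H) {d | orderOf d = 2} (fixPt H) :=
  pointClass_of_stronglyEmbedded hh.se

theorem odd_twoPt {x y : G ⧸ H} (h : x ≠ y) : Odd (Nat.card (twoPt G x y)) :=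
  odd_two_point hh.se h

/-- No involution inverts an element of odd order fixing its point. -/
theorem eq_one_of_inverted_at {v k : G} {c : G ⧸ H} (hv : orderOf v = 2) (hvc : v • c = c)
    (hkc : k • c = c) (hk : Odd (orderOf k)) (hi : v * k * v⁻¹ = k⁻¹) : k = 1 := by
  induction c using QuotientGroup.induction_on with
  | _ g =>
    rw [smul_mk_eq_iff] at hvc hkc
    have ho : ∀ x : G, orderOf (g⁻¹ * x * g) = orderOf x := fun x => by
      have := Involution.orderOf_conj g⁻¹ x
      rwa [inv_inv] at this
    have h1 := hh.nc (g⁻¹ * v * g) (g⁻¹ * k * g) ((ho v).trans hv) hvc hkc (by rwa [ho k]) (by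
      calc g⁻¹ * v * g * (g⁻¹ * k * g) * (g⁻¹ * v * g)⁻¹ = g⁻¹ * (v * k * v⁻¹) * g := by group
        _ = (g⁻¹ * k * g)⁻¹ := by rw [hi]; group)
    rw [← orderOf_eq_one_iff, ← ho k, h1, orderOf_one]

/-- Involutions at the same point commute. -/
theorem commute_at {v w : G} {c : G ⧸ H} (hv : orderOf v = 2) (hw : orderOf w = 2)
    (hvc : v • c = c) (hwc : w • c = c) : Commute v w := by
  induction c using QuotientGroup.induction_on with
  | _ g =>
    rw [smul_mk_eq_iff] at hvc hwc
    have ho : ∀ x : G, orderOf (g⁻¹ * x * g) = orderOf x := fun x => by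
      have := Involution.orderOf_conj g⁻¹ x
      rwa [inv_inv] at this
    have h1 := hh.comm _ hvc _ hwc ((ho v).trans hv) ((ho w).trans hw)
    have h2 := h1.map (MulAut.conj g).toMonoidHom
    simpa [mul_assoc] using h2

/-- An involution centralises a subgroup of odd order it normalises, if that fixes its point. -/
theorem commute_of_normalizes {v : G} {c : G ⧸ H} (hv : orderOf v = 2) (hvc : v • c = c)
    {Y : Subgroup G} (hY : Odd (Nat.card Y)) (hvY : v ∈ Subgroup.normalizer (Y : Set G))
    (hYc : Y ≤ MulAction.stabilizer G c) {y : G} (hy : y ∈ Y) : Commute v y := by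
  set k := v * y * v⁻¹ * y⁻¹ with hk
  have hkY : k ∈ Y := Y.mul_mem ((Subgroup.mem_normalizer_iff.1 hvY y).1 hy) (Y.inv_mem hy)
  have hi : v * k * v⁻¹ = k⁻¹ := by
    rw [hk, inv_eq hv]
    calc v * (v * y * v * y⁻¹) * v = (v * v) * y * v * y⁻¹ * v := by group
      _ = y * v * y⁻¹ * v := by rw [mul_self hv, one_mul]
      _ = (v * y * v * y⁻¹)⁻¹ := by simp only [mul_inv_rev, inv_inv, inv_eq hv]; group
  have h1 := hh.eq_one_of_inverted_at hv hvc (MulAction.mem_stabilizer_iff.1 (hYc hkY))
    (hY.of_dvd_nat (Subgroup.orderOf_dvd_natCard Y hkY)) hi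
  rw [hk, mul_inv_eq_one, mul_inv_eq_iff_eq_mul] at h1
  exact h1

/-- The centraliser of a non-trivial element fixing a point is proper. -/
theorem not_central {y : G} {c : G ⧸ H} (hy1 : y ≠ 1) (hyc : y • c = c) :
    Subgroup.centralizer ({y} : Set G) ≠ ⊤ := by
  intro e
  have hc : ∀ g : G, Commute g y := fun g => mem_centralizer.1 (e.ge (Subgroup.mem_top g))
  have hall : ∀ g : G, y • (g : G ⧸ H) = (g : G ⧸ H) := by
    intro g
    induction c using QuotientGroup.induction_on with
    | _ g₀ =>
      rw [smul_mk_eq_iff] at hyc ⊢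
      rw [(hc g₀⁻¹).eq, mul_assoc, inv_mul_cancel, mul_one] at hyc
      rwa [(hc g⁻¹).eq, mul_assoc, inv_mul_cancel, mul_one]
  haveI := faithful_of_normalCore hh.core
  refine hy1 (FaithfulSMul.eq_of_smul_eq_smul (α := G ⧸ H) fun x => ?_)
  rw [one_smul]
  induction x using QuotientGroup.induction_on with
  | _ g => exact hall g

end HalfHyp

end Cfsg.Agent.Bender
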