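/-
Centralising involutions for `p`-subgroups fixing three points (Bender's theorem, step 2c;
owner: helper8).

`p` odd, `m` the number of involutions of `H`.
* `HalfHyp.exists_inv_of_not_dvd` : `p ∤ m`: a `p`-subgroup fixing a point is centralised by an
  involution there
* `HalfHyp.exists_second_inv` : `p ∣ m`: by one involution only never
* `HalfHyp.exists_inv_of_three` : `p ∣ m`: a `p`-subgroup fixing three points is centralised by an
  involution at each fixed point (downward induction; at the top `Z*` in the normaliser)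
* `HalfHyp.not_dvd_card_pred` : `p ∣ m`: `p` does not divide `|Ω| - 1`
-/
import Cfsg.Agent.Lib.Bender.HalfBasic
import Cfsg.Agent.Lib.Bender.Translation
import Cfsg.Agent.Lib.Bender.SwapCentral

set_option autoImplicit false
set_option linter.style.haveILetI false
set_option linter.unusedSectionVars false

namespace Cfsg.Agent.Bender

open Cfsg Involution Aschbacher Cfsg.Agent.SuzukiRankOne
open scoped Pointwise

universe u

variable {G : Type u} [Group G] [Finite G] {H : Subgroup G}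

local notation "o" => ((1 : G) : G ⧸ H)

/-- The involutions at the point `c`. -/
def invAt (H : Subgroup G) (c : G ⧸ H) : Set G := {t | orderOf t = 2 ∧ t • c = c}

theorem card_invAt (c : G ⧸ H) :
    Nat.card (invAt H c) = Nat.card {t : G // orderOf t = 2 ∧ t ∈ H} :=
  card_fixing c

theorem conj_mem_invAt {c : G ⧸ H} {g t : G} (ht : t ∈ invAt H c) :
    g * t * g⁻¹ ∈ invAt H (g • c) :=
  ⟨(Involution.orderOf_conj g t).trans ht.1, by rw [mul_smul, mul_smul, inv_smul_smul, ht.2]⟩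

/-- An element exchanging two points gives an involution in any subgroup containing it. -/
theorem exists_involution_of_swap {N : Subgroup G} {g : G} (hg : g ∈ N) {x z : G ⧸ H}
    (hxz : x ≠ z) (h1 : g • x = z) (h2 : g • z = x) : ∃ u ∈ N, orderOf u = 2 := by
  have hev : Even (orderOf g) := by
    by_contra h
    obtain ⟨k, hk⟩ := Nat.not_even_iff_odd.1 h
    have hfix : g ^ 2 ∈ MulAction.stabilizer G x := by
      rw [MulAction.mem_stabilizer_iff, sq, mul_smul, h1, h2]
    have h3 : g = (g ^ 2) ^ (k + 1) := by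
      rw [← pow_mul, show 2 * (k + 1) = 2 * k + 1 + 1 by ring, pow_succ, ← hk, pow_orderOf_eq_one,
        one_mul]
    have h4 : g • x = x := h3 ▸ MulAction.mem_stabilizer_iff.1 (pow_mem hfix (k + 1))
    exact hxz (h4.symm.trans h1)
  obtain ⟨k, hk⟩ := even_iff_two_dvd.1 hev
  refine ⟨g ^ k, N.pow_mem hg k, ?_⟩
  have hpos : 0 < orderOf g := orderOf_pos g
  rw [orderOf_pow' _ (by omega), hk, Nat.gcd_eq_right (Dvd.intro_left 2 rfl),
    Nat.mul_div_left 2 (by omega)]

namespace HalfHyp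

variable (hh : HalfHyp H) {p : ℕ} [Fact p.Prime]
include hh

theorem exists_inv_of_not_dvd (hpm : ¬ p ∣ Nat.card {t : G // orderOf t = 2 ∧ t ∈ H})
    {Y : Subgroup G} (hY : IsPGroup p Y) {c : G ⧸ H} (hc : Y ≤ MulAction.stabilizer G c) :
    ∃ t : G, orderOf t = 2 ∧ t • c = c ∧ t ∈ Subgroup.centralizer (Y : Set G) := by
  by_contra hcon
  push Not at hcon
  refine hpm ((card_invAt c).symm ▸ dvd_card_of_conj_free hY (s := invAt H c) ?_ ?_)
  · intro r hr x hx
    have := conj_mem_invAt (g := r) hx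
    rwa [MulAction.mem_stabilizer_iff.1 (hc hr)] at this
  · intro x hx hle
    exact hcon x hx.1 hx.2 fun r hr => (mem_centralizer.1 (hle hr)).eq

theorem exists_second_inv (hpm : p ∣ Nat.card {t : G // orderOf t = 2 ∧ t ∈ H})
    {Y : Subgroup G} (hY : IsPGroup p Y) {c : G ⧸ H} (hc : Y ≤ MulAction.stabilizer G c) {t : G}
    (ht : orderOf t = 2) (htc : t • c = c) (htY : t ∈ Subgroup.centralizer (Y : Set G)) :
    ∃ t' : G, orderOf t' = 2 ∧ t' • c = c ∧ t' ∈ Subgroup.centralizer (Y : Set G) ∧ t' ≠ t := by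
  by_contra hcon
  push Not at hcon
  have h1 : p ∣ Nat.card ↥(invAt H c \ {t}) := by
    refine dvd_card_of_conj_free hY ?_ ?_
    · rintro r hr x ⟨hx, hxt⟩
      have := conj_mem_invAt (g := r) hx
      rw [MulAction.mem_stabilizer_iff.1 (hc hr)] at this
      refine ⟨this, fun e => hxt ?_⟩
      rw [Set.mem_singleton_iff] at e ⊢
      have hcr : r * t * r⁻¹ = t := by rw [htY r hr, mul_inv_cancel_right]
      exact mul_left_cancel (mul_right_cancel (e.trans hcr.symm))
    · rintro x ⟨hx, hxt⟩ hle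
      exact hxt (hcon x hx.1 hx.2 fun r hr => (mem_centralizer.1 (hle hr)).eq)
  have h2 : Nat.card ↥(invAt H c \ {t}) + 1 = Nat.card {t : G // orderOf t = 2 ∧ t ∈ H} := by
    rw [← card_invAt c, Nat.card_coe_set_eq, Nat.card_coe_set_eq]
    exact Set.ncard_sdiff_singleton_add_one (show t ∈ invAt H c from ⟨ht, htc⟩) (Set.toFinite _)
  exact (Fact.out : p.Prime).not_dvd_one ((Nat.dvd_add_right h1).1 (h2 ▸ hpm))

omit [Fact p.Prime] in
theorem transitive (h2 : TwoInvolutions G) {b z : G ⧸ H} (hb : b ≠ o) (hz : z ≠ o) :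
    ∃ h ∈ H, h • b = z := by
  induction b using QuotientGroup.induction_on with
  | _ g₁ =>
  induction z using QuotientGroup.induction_on with
  | _ g₂ =>
  have hne : ∀ g : G, (g : G ⧸ H) ≠ o → g ∉ H := fun g h hg => h (by
    rw [QuotientGroup.eq, mul_one]; exact H.inv_mem hg)
  obtain ⟨x, y, hx1, hy1, hxy, hx, hy, hc⟩ := h2
  have hS : CoreTwo H := fun s t hs ht => by
    rw [(show s * t = t * s from Subtype.ext (hh.comm _ s.2 _ t.2 hs ht).eq), mul_inv_cancel_right,
      mul_inv_cancel]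
    exact one_mem _
  obtain ⟨h, hhH, e⟩ := transitive_of_coreTwo hh.se ⟨x, y, hx1, hy1, hxy, hx, hy, hc⟩ hS g₁ g₂
    (hne _ hb) (hne _ hz)
  exact ⟨h, hhH, by rw [MulAction.Quotient.smul_mk, smul_eq_mul, eq_comm, QuotientGroup.eq]; exact e⟩

omit [Fact p.Prime] in
/-- `G` is doubly transitive. -/
theorem two_transitive (h2 : TwoInvolutions G) {x z x' z' : G ⧸ H} (hxz : x ≠ z) (hxz' : x' ≠ z') :
    ∃ g : G, g • x = x' ∧ g • z = z' := by
  have key : ∀ x z : G ⧸ H, x ≠ z → ∀ b : G ⧸ H, b ≠ o → ∃ g : G, g • o = x ∧ g • b = z := by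
    intro x z hxz b hb
    induction x using QuotientGroup.induction_on with
    | _ a =>
      have ha : a • o = (a : G ⧸ H) := by rw [MulAction.Quotient.smul_mk, smul_eq_mul, mul_one]
      obtain ⟨h, hhH, e⟩ := hh.transitive h2 (z := a⁻¹ • z) hb fun e => hxz (by
        rw [← ha, ← e, smul_inv_smul])
      refine ⟨a * h, ?_, ?_⟩
      · rw [mul_smul, smul_one_eq.2 hhH, ha]
      · rw [mul_smul, e, smul_inv_smul]
  obtain ⟨b, hb⟩ : ∃ b : G ⧸ H, b ≠ o := by
    by_contra hcon
    push Not at hcon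
    exact hxz ((hcon x).trans (hcon z).symm)
  obtain ⟨g, hg, hg'⟩ := key x z hxz b hb
  obtain ⟨g', hg1, hg2⟩ := key x' z' hxz' b hb
  exact ⟨g' * g⁻¹, by rw [mul_smul, ← hg, inv_smul_smul, hg1],
    by rw [mul_smul, ← hg', inv_smul_smul, hg2]⟩

omit [Fact p.Prime] in
theorem card_twoPt_const (h2 : TwoInvolutions G) {x z x' z' : G ⧸ H} (hxz : x ≠ z) (hxz' : x' ≠ z') :
    Nat.card (twoPt G x z) = Nat.card (twoPt G x' z') := by
  obtain ⟨g, rfl, rfl⟩ := hh.two_transitive h2 hxz hxz'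
  refine Nat.card_congr (Equiv.subtypeEquiv (MulAut.conj g).toEquiv fun k => ?_)
  show k ∈ twoPt G x z ↔ g * k * g⁻¹ ∈ twoPt G (g • x) (g • z)
  simp only [Subgroup.mem_inf, MulAction.mem_stabilizer_iff, mul_smul, inv_smul_smul,
    smul_left_cancel_iff]

omit [Fact p.Prime] in
/-- If every two fixed points of `Y` are exchanged by an involution normalising `Y` and there are
three of them, then each carries an involution centralising `Y`. -/
theorem exists_inv_of_swappers {Y : Subgroup G} (hY : Odd (Nat.card Y))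
    (hsw : ∀ x z : G ⧸ H, x ≠ z → Y ≤ MulAction.stabilizer G x → Y ≤ MulAction.stabilizer G z →
      ∃ u : G, orderOf u = 2 ∧ u ∈ Subgroup.normalizer (Y : Set G) ∧ u • x = z)
    {a b c : G ⧸ H} (ha : Y ≤ MulAction.stabilizer G a) (hb : Y ≤ MulAction.stabilizer G b)
    (hc : Y ≤ MulAction.stabilizer G c) (hab : a ≠ b) (hac : a ≠ c) (hbc : b ≠ c)
    {e : G ⧸ H} (he : Y ≤ MulAction.stabilizer G e) :
    ∃ t : G, orderOf t = 2 ∧ t • e = e ∧ t ∈ Subgroup.centralizer (Y : Set G) := by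
  set N := Subgroup.normalizer (Y : Set G) with hNdef
  have PC := hh.pc
  -- one such involution suffices
  suffices h : ∃ v : G, orderOf v = 2 ∧ v ∈ N ∧ Y ≤ MulAction.stabilizer G (fixPt H v) by
    obtain ⟨v, hv, hvN, hvY⟩ := h
    have hcen : ∀ w : G, orderOf w = 2 → w ∈ N → ∀ d : G ⧸ H, w • d = d →
        Y ≤ MulAction.stabilizer G d → w ∈ Subgroup.centralizer (Y : Set G) := fun w hw hwN d hwd hd y hy =>
      (hh.commute_of_normalizes hw hwd hY hwN hd hy).eq.symm
    rcases eq_or_ne (fixPt H v) e with rfl | hne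
    · exact ⟨v, hv, PC.smul_pt hv, hcen v hv hvN _ (PC.smul_pt hv) hvY⟩
    · obtain ⟨u, hu, huN, hue⟩ := hsw _ _ hne hvY he
      have h1 : orderOf (u * v * u⁻¹) = 2 := (Involution.orderOf_conj u v).trans hv
      have h2 : (u * v * u⁻¹) • e = e := by
        rw [← hue, mul_smul, mul_smul, inv_smul_smul, PC.smul_pt hv]
      exact ⟨_, h1, h2, hcen _ h1 (mem_normalizer_conj huN hvN) e h2 he⟩
  by_contra hcon
  push Not at hcon
  -- no two commuting involutions normalise `Y`
  have hnone : ∀ u w : G, orderOf u = 2 → orderOf w = 2 → u ∈ N → w ∈ N → Commute u w → u = w := by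
    intro u w hu hw huN hwN huw
    by_contra hne
    haveI := isMulCommutative_fourOf (mul_self hu) (mul_self hw) huw
    obtain ⟨k, hk⟩ := IsPGroup.iff_card.1 (card_fourOf_dvd (mul_self hu) (mul_self hw) huw)
    refine hcon u hu huN (Coprime.le_of_noncyclic
      (not_isCyclic_fourOf (mul_self hu) (mul_self hw) huw (ne_one hu) (ne_one hw) hne) ?_
      (by rw [hk]; exact (Nat.coprime_two_left.2 hY).pow_left k) fun g hg hg1 x hx => ?_)
    · intro g hg
      rcases hg with rfl | rfl | rfl | rfl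
      · exact one_mem _
      · exact huN
      · exact hwN
      · exact mul_mem huN hwN
    · have hgu : Commute g u := by
        rcases hg with e | e | e | e <;> rw [e]
        · exact Commute.one_left u
        · exact huw.symm
        · exact (Commute.refl u).mul_left huw.symm
      have hg2 : orderOf g = 2 := by
        refine Involution.orderOf_of_sq ?_ hg1
        rcases hg with rfl | rfl | rfl | rfl
        · exact one_mul 1
        · exact mul_self hu
        · exact mul_self hw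
        · rw [mul_assoc, ← mul_assoc w, ← huw.eq, mul_assoc u w w, mul_self hw, mul_one, mul_self hu]
      rw [← PC.pt_eq_of_commute (show g ∈ {d : G | orderOf d = 2} from hg2)
        (show u ∈ {d : G | orderOf d = 2} from hu) hgu]
      exact MulAction.mem_stabilizer_iff.2 (PC.commute_fix hg2 (mem_centralizer.1 hx.2))
  set O := pPrimeCore 2 N with hO
  have hOodd : Odd (Nat.card (O.map N.subtype)) := by
    rw [Subgroup.card_map_of_injective N.subtype_injective]
    exact Nat.coprime_two_right.1 (Cores.coprime_card_pPrimeCore (G := N) 2)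
  have hmul : ∀ u w : G, orderOf u = 2 → orderOf w = 2 → u ∈ N → w ∈ N →
      w * u ∈ O.map N.subtype := by
    intro u w hu hw huN hwN
    set u' : N := ⟨u, huN⟩
    set w' : N := ⟨w, hwN⟩
    have hu' : orderOf u' = 2 := by rw [← Subgroup.orderOf_coe]; exact hu
    have hiso : IsIsolatedInvolution u' := ⟨hu', fun g hg => Subtype.ext (hnone _ _ hu
      (by rw [Subgroup.coe_mul, Subgroup.coe_mul, Subgroup.coe_inv, Involution.orderOf_conj]; exact hu)
      huN (SetLike.coe_mem _) (congrArg Subtype.val hg)).symm⟩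
    by_cases hpt : fixPt H u = fixPt H w
    · have h1 : Commute u w := hh.commute_at hu hw (PC.smul_pt hu) (hpt ▸ PC.smul_pt hw)
      rw [hnone u w hu hw huN hwN h1, mul_self hw]
      exact one_mem _
    · obtain ⟨g, hgN, hg⟩ := exists_conj_in PC (K := N) (show u ∈ {d : G | orderOf d = 2} from hu)
        (show w ∈ {d : G | orderOf d = 2} from hw) huN hwN hpt
      have h1 := ZStar.zStar_of_brauerSuzuki ZStar.uniqueInvolution hiso ⟨g, hgN⟩
      refine ⟨_, O.inv_mem h1, ?_⟩
      show (u * g * u⁻¹ * g⁻¹)⁻¹ = w * u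
      rw [← hg]
      group
      simp [inv_eq hu]
  set F : Set (G ⧸ H) := {x | Y ≤ MulAction.stabilizer G x} with hF
  have hN : ∀ g ∈ O.map N.subtype, g ∈ N := Subgroup.map_subtype_le _
  have htrans : ∀ z w : G ⧸ H, z ≠ w → z ∈ F → w ∈ F → ∃ g ∈ O.map N.subtype, g • z = w := by
    intro z w hzw hz hw
    obtain ⟨x, hxF, hxz, hxw⟩ : ∃ x ∈ F, x ≠ z ∧ x ≠ w := by
      by_cases h1 : a ≠ z ∧ a ≠ w
      · exact ⟨a, ha, h1⟩
      by_cases h2 : b ≠ z ∧ b ≠ w
      · exact ⟨b, hb, h2⟩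
      refine ⟨c, hc, fun e => ?_, fun e => ?_⟩ <;>
        rcases not_and_or.1 h1 with h | h <;> rcases not_and_or.1 h2 with h' | h' <;>
        simp only [ne_eq, not_not] at h h' <;> subst_vars <;> contradiction
    obtain ⟨u, hu, huN, hux⟩ := hsw x z hxz hxF hz
    obtain ⟨u', hu', hu'N, hu'x⟩ := hsw x w hxw hxF hw
    refine ⟨u' * u, hmul u u' hu hu' huN hu'N, ?_⟩
    rw [mul_smul, ← hux, PC.smul_smul_self hu, hu'x]
  have hFodd : Odd (Nat.card F) := by
    have horb : MulAction.orbit ↥(O.map N.subtype) a = F := by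
      ext x
      refine ⟨?_, fun hx => ?_⟩
      · rintro ⟨g, rfl⟩
        exact le_stab_smul (hN _ g.2) ha
      · rcases eq_or_ne a x with rfl | hne
        · exact MulAction.mem_orbit_self _
        · obtain ⟨g, hg, e⟩ := htrans a x hne ha hx
          exact ⟨⟨g, hg⟩, e⟩
    refine hOodd.of_dvd_nat ⟨Nat.card (MulAction.stabilizer ↥(O.map N.subtype) a), ?_⟩
    rw [← horb, ← Nat.card_prod]
    exact (Nat.card_congr (MulAction.orbitProdStabilizerEquivGroup _ a)).symm
  obtain ⟨u, hu, huN, -⟩ := hsw a b hab ha hb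
  obtain ⟨⟨x, hx⟩, hxu⟩ := exists_fixed_of_odd hFodd
    (fun x : F => (⟨u • x.1, le_stab_smul huN x.2⟩ : F)) (fun x => Subtype.ext (PC.smul_smul_self hu _))
  exact hcon u hu huN ((PC.fixed_iff u hu x).1 (congrArg Subtype.val hxu) ▸ hx)

/-- A full `p`-subgroup fixes two points only. -/
theorem eq_or_eq_of_full (h2 : TwoInvolutions G)
    (hpm : p ∣ Nat.card {t : G // orderOf t = 2 ∧ t ∈ H}) {Y : Subgroup G} (hY : IsPGroup p Y)
    {x z w : G ⧸ H} (hxz : x ≠ z) (hYxz : Y ≤ twoPt G x z)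
    (hcard : Nat.card Y = pPart p (Nat.card (twoPt G x z))) (hw : Y ≤ MulAction.stabilizer G w) :
    w = x ∨ w = z := by
  by_contra hcon
  push Not at hcon
  have hYodd : Odd (Nat.card Y) := (hh.odd_twoPt hxz).of_dvd_nat (Subgroup.card_dvd_of_le hYxz)
  have hfull : ∀ a b : G ⧸ H, a ≠ b → Nat.card Y = pPart p (Nat.card (twoPt G a b)) :=
    fun a b hab => by rw [hcard, hh.card_twoPt_const h2 hxz hab]
  have hsw : ∀ a b : G ⧸ H, a ≠ b → Y ≤ MulAction.stabilizer G a → Y ≤ MulAction.stabilizer G b →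
      ∃ u : G, orderOf u = 2 ∧ u ∈ Subgroup.normalizer (Y : Set G) ∧ u • a = b := fun a b hab ha hb =>
    exists_swap_normalizing hh.pc hab (hh.odd_twoPt hab) (le_inf ha hb) (hfull a b hab)
  obtain ⟨v, hv, hvw, hvY⟩ := hh.exists_inv_of_swappers hYodd hsw (hYxz.trans inf_le_left)
    (hYxz.trans inf_le_right) hw hxz (Ne.symm hcon.1) (Ne.symm hcon.2) hw
  have hvx : v • x ≠ x := fun e => hcon.1 (fixed_unique hh.se hv hvw e)
  have hvN : v ∈ Subgroup.normalizer (Y : Set G) := Subgroup.centralizer_le_normalizer _ hvY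
  have hY2 : Y ≤ twoPt G x (v • x) :=
    le_inf (hYxz.trans inf_le_left) (le_stab_smul hvN (hYxz.trans inf_le_left))
  obtain ⟨g, hg, hg1, hgi⟩ := exists_inverted hh.pc (Ne.symm hvx) hY2 (hfull _ _ (Ne.symm hvx))
    (by
      have : Nat.card {f : G // f ∈ {d : G | orderOf d = 2} ∧ fixPt H f = v • x} =
          Nat.card {t : G // orderOf t = 2 ∧ t ∈ H} := by
        rw [← card_fixing (v • x)]
        exact Nat.card_congr (Equiv.subtypeEquivRight fun f =>
          ⟨fun h => ⟨h.1, h.2 ▸ hh.pc.smul_pt h.1⟩,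
            fun h => ⟨h.1, ((hh.pc.fixed_iff f h.1 _).1 h.2).symm⟩⟩)
      rwa [this]) hY hv rfl hvN
  refine hg1 ?_
  rw [(hvY g hg).symm, mul_inv_cancel_right] at hgi
  exact orderOf_eq_one_iff.1 (Nat.eq_one_of_dvd_coprimes (Nat.coprime_two_left.2
    (hYodd.of_dvd_nat (Subgroup.orderOf_dvd_natCard Y hg)))
    (orderOf_dvd_of_pow_eq_one (by rw [sq]; nth_rw 1 [hgi]; rw [inv_mul_cancel])) (dvd_refl _))

/-- A `p`-subgroup fixing two points fixes `2` points mod `p`. -/
theorem card_fixed_modEq (h2 : TwoInvolutions G)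
    (hpm : p ∣ Nat.card {t : G // orderOf t = 2 ∧ t ∈ H}) {Y : Subgroup G} (hY : IsPGroup p Y) :
    Nat.card {x : G ⧸ H // Y ≤ MulAction.stabilizer G x} ≡ 2 [MOD p] := by
  obtain ⟨e, he, heH⟩ := exists_not_mem hh.se
  have hne : o ≠ (e : G ⧸ H) := fun h => heH (by
    have := QuotientGroup.eq.1 h
    rwa [inv_one, one_mul] at this)
  obtain ⟨P, hP, hPle, hPcard⟩ := exists_pPart (p := p) (twoPt G o (e : G ⧸ H))
  have hcard2 : Nat.card {x : G ⧸ H // P ≤ MulAction.stabilizer G x} = 2 := by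
    rw [Nat.card_eq_two_iff]
    refine ⟨⟨o, hPle.trans inf_le_left⟩, ⟨_, hPle.trans inf_le_right⟩,
      fun h => hne (congrArg Subtype.val h), ?_⟩
    ext ⟨x, hx⟩
    simp only [Set.mem_insert_iff, Set.mem_singleton_iff, Subtype.mk.injEq, Set.mem_univ, iff_true]
    exact hh.eq_or_eq_of_full h2 hpm hP hne hPle hPcard hx
  rw [← hcard2]
  exact ((fix_modEq (Ω := G ⧸ H) (R := ⊥) hY bot_le).symm).trans
    (fix_modEq (Ω := G ⧸ H) (R := ⊥) hP bot_le)

/-- `p` does not divide the number of moved points. -/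
theorem not_dvd_card_pred (h2 : TwoInvolutions G)
    (hpm : p ∣ Nat.card {t : G // orderOf t = 2 ∧ t ∈ H}) :
    ¬ p ∣ Nat.card {x : G ⧸ H // x ≠ o} := by
  intro hdvd
  have h1 := hh.card_fixed_modEq h2 hpm (Y := ⊥) IsPGroup.of_bot
  rw [show Nat.card {x : G ⧸ H // (⊥ : Subgroup G) ≤ MulAction.stabilizer G x} = Nat.card (G ⧸ H) from
    Nat.card_congr (Equiv.subtypeUnivEquiv fun x => bot_le)] at h1
  classical
  rw [← Nat.card_congr (Equiv.optionSubtypeNe o), Finite.card_option] at h1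
  have h3 : 0 + 1 ≡ 2 [MOD p] :=
    ((Nat.modEq_zero_iff_dvd.2 hdvd).symm.add_right 1).trans h1
  exact (Fact.out : p.Prime).not_dvd_one ((Nat.modEq_iff_dvd' (by norm_num)).1 h3)

/-- For two points `x = o` and `z`: the centraliser of a subgroup centralised at all its points
moves `z` to every other fixed point while fixing `o`. -/
theorem exists_centralizing_smul (hpm : p ∣ Nat.card {t : G // orderOf t = 2 ∧ t ∈ H})
    {R : Subgroup G} (hR : IsPGroup p R) (ho : R ≤ MulAction.stabilizer G o)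
    (hcent : ∀ c : G ⧸ H, R ≤ MulAction.stabilizer G c →
      ∃ t : G, orderOf t = 2 ∧ t • c = c ∧ t ∈ Subgroup.centralizer (R : Set G))
    {z w : G ⧸ H} (hz : R ≤ MulAction.stabilizer G z) (hw : R ≤ MulAction.stabilizer G w)
    (hzo : z ≠ o) (hwo : w ≠ o) :
    ∃ g ∈ Subgroup.centralizer (R : Set G), g • o = o ∧ g • z = w := by
  set M := Subgroup.centralizer (R : Set G) with hM
  obtain ⟨d, hd, hdo, hdM⟩ := hcent o ho
  obtain ⟨d', hd', hd'o, hd'M, hne⟩ := hh.exists_second_inv hpm hR ho hd hdo hdM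
  have PC := hh.pc
  have key : ∀ c : G ⧸ H, R ≤ MulAction.stabilizer G c → c ≠ o → ∃ g : M, (g : G) ∉ H ∧ (g : G) • o = c := by
    intro c hc hco
    obtain ⟨t, ht, htc, htM⟩ := hcent c hc
    have hpo : fixPt H d = o := ((PC.fixed_iff d hd o).1 hdo).symm
    have hpc : fixPt H t = c := ((PC.fixed_iff t ht c).1 htc).symm
    obtain ⟨g, hg, hgt⟩ := exists_conj_in PC (K := M) (e := d) (f := t) hd ht hdM htM
      (by rw [hpo, hpc]; exact hco.symm)
    have hgc : g • o = c := by
      rw [← hpc, ← hgt, PC.pt_conj g (show d ∈ {d : G | orderOf d = 2} from hd), hpo]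
    exact ⟨⟨g, hg⟩, fun h => hco (by rw [← hgc, smul_one_eq.2 h]), hgc⟩
  obtain ⟨g₁, hg₁, rfl⟩ := key z hz hzo
  obtain ⟨g₂, hg₂, rfl⟩ := key w hw hwo
  have hMH : ¬ M ≤ H := fun h => hg₁ (h g₁.2)
  have hL := isStronglyEmbedded_inter hh.se M hMH hd hdM (smul_one_eq.1 hdo)
  have hc : Commute d d' := hh.commute_at hd hd' hdo hd'o
  obtain ⟨h, hhH, e⟩ := transitive_of_coreTwo hL
    ⟨⟨d, hdM⟩, ⟨d', hd'M⟩, fun e => ne_one hd (congrArg Subtype.val e),
      fun e => ne_one hd' (congrArg Subtype.val e), fun e => hne (congrArg Subtype.val e).symm,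
      Subtype.ext (mul_self hd), Subtype.ext (mul_self hd'), Subtype.ext hc.eq⟩
    (hh.coreTwo M _ hL) g₁ g₂ (fun e => hg₁ (Subgroup.mem_subgroupOf.1 e))
    (fun e => hg₂ (Subgroup.mem_subgroupOf.1 e))
  refine ⟨h, h.2, smul_one_eq.2 (Subgroup.mem_subgroupOf.1 hhH), ?_⟩
  rw [← mul_smul, MulAction.Quotient.smul_mk, MulAction.Quotient.smul_mk, smul_eq_mul, smul_eq_mul,
    mul_one, mul_one, eq_comm, QuotientGroup.eq]
  exact Subgroup.mem_subgroupOf.1 e

/-- A `p`-subgroup fixing three points is centralised by an involution at each of its points. -/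
theorem exists_inv_of_three (h2 : TwoInvolutions G)
    (hpm : p ∣ Nat.card {t : G // orderOf t = 2 ∧ t ∈ H})
    {Y : Subgroup G} (hY : IsPGroup p Y)
    {a b c : G ⧸ H} (ha : Y ≤ MulAction.stabilizer G a) (hb : Y ≤ MulAction.stabilizer G b)
    (hc : Y ≤ MulAction.stabilizer G c) (hab : a ≠ b) (hac : a ≠ c) (hbc : b ≠ c)
    {e : G ⧸ H} (he : Y ≤ MulAction.stabilizer G e) :
    ∃ t : G, orderOf t = 2 ∧ t • e = e ∧ t ∈ Subgroup.centralizer (Y : Set G) := by
  induction h : Nat.card G - Nat.card Y using Nat.strong_induction_on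
    generalizing Y a b c e with
  | _ n ih =>
  set N := Subgroup.normalizer (Y : Set G) with hN
  -- a larger normalising subgroup for each pair
  have hbig : ∀ x z : G ⧸ H, x ≠ z → Y ≤ MulAction.stabilizer G x → Y ≤ MulAction.stabilizer G z →
      ∃ R : Subgroup G, Y < R ∧ IsPGroup p R ∧ R ≤ N ∧ R ≤ twoPt G x z := by
    intro x z hxz hx hz
    obtain ⟨S, hYS⟩ := (hY.comap_subtype (K := twoPt G x z)).exists_le_sylow
    have hS : Nat.card ↥((S : Subgroup (twoPt G x z)).map (twoPt G x z).subtype) =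
        pPart p (Nat.card (twoPt G x z)) :=
      (Subgroup.card_map_of_injective (twoPt G x z).subtype_injective).trans S.card_eq_multiplicity
    have hle : Y ≤ (S : Subgroup (twoPt G x z)).map (twoPt G x z).subtype := fun y hy =>
      ⟨⟨y, hx hy, hz hy⟩, hYS hy, rfl⟩
    have hlt : Y < (S : Subgroup (twoPt G x z)).map (twoPt G x z).subtype := by
      refine lt_of_le_of_ne hle fun eq => ?_
      obtain ⟨w, hw, hwx, hwz⟩ : ∃ w, Y ≤ MulAction.stabilizer G w ∧ w ≠ x ∧ w ≠ z := by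
        by_cases h1 : a ≠ x ∧ a ≠ z
        · exact ⟨a, ha, h1⟩
        by_cases h3 : b ≠ x ∧ b ≠ z
        · exact ⟨b, hb, h3⟩
        refine ⟨c, hc, fun e => ?_, fun e => ?_⟩ <;>
          rcases not_and_or.1 h1 with h | h <;> rcases not_and_or.1 h3 with h' | h' <;>
          simp only [ne_eq, not_not] at h h' <;> subst_vars <;> contradiction
      rcases hh.eq_or_eq_of_full h2 hpm hY hxz (le_inf hx hz) (by rw [← hS, ← eq]) hw with h | h
      · exact hwx h
      · exact hwz h
    obtain ⟨T, hYT, hTS, hTN⟩ := exists_normalizing (S.2.map _) hlt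
    exact ⟨T, hYT, (S.2.map _).to_le hTS, hTN, hTS.trans (Subgroup.map_subtype_le _)⟩
  -- transitivity at `o` for the conjugates of `Y`
  have hstep : ∀ Y' : Subgroup G, IsPGroup p Y' → Nat.card Y' = Nat.card Y →
      Y' ≤ MulAction.stabilizer G o →
      (∀ z : G ⧸ H, z ≠ o → Y' ≤ MulAction.stabilizer G z →
        ∃ R : Subgroup G, Y' < R ∧ IsPGroup p R ∧ R ≤ Subgroup.normalizer (Y' : Set G) ∧ R ≤ twoPt G o z) →
      ∀ z w : G ⧸ H, z ≠ o → w ≠ o → Y' ≤ MulAction.stabilizer G z → Y' ≤ MulAction.stabilizer G w →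
      ∃ g ∈ Subgroup.normalizer (Y' : Set G), g • o = o ∧ g • z = w := by
    intro Y' hY' hcard ho hR z w hzo hwo hz hw
    set N' := Subgroup.normalizer (Y' : Set G) ⊓ MulAction.stabilizer G o with hN'
    by_contra hcon
    push Not at hcon
    have hz_w : w ∉ MulAction.orbit ↥N' z := by
      rintro ⟨g, hg⟩
      exact hcon g g.2.1 g.2.2 hg
    have hmain : ∀ v u : G ⧸ H, v ≠ o → Y' ≤ MulAction.stabilizer G v →
        ∀ R : Subgroup G, Y' < R → IsPGroup p R → R ≤ Subgroup.normalizer (Y' : Set G) →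
        R ≤ twoPt G o v →
        Nat.card ↥(MulAction.orbit ↥N' u) ≡
          Nat.card {x : G ⧸ H // x ∈ MulAction.orbit ↥N' u ∧ R ≤ MulAction.stabilizer G x} [MOD p] ∧
        ∀ x : G ⧸ H, x ≠ o → R ≤ MulAction.stabilizer G x → x ∈ MulAction.orbit ↥N' v := by
      intro v u hvo hv R hYR hRp hRN hRv
      have hRN' : R ≤ N' := le_inf hRN (hRv.trans inf_le_left)
      refine ⟨card_modEq_fixed hRp _ fun q hq x hx => ?_, fun x hxo hx => ?_⟩
      · obtain ⟨g, rfl⟩ := hx
        exact ⟨(⟨q, hRN' hq⟩ : N') * g, mul_smul q (g : G) u⟩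
      rcases eq_or_ne x v with rfl | hxv
      · exact MulAction.mem_orbit_self _
      have hlt : Nat.card G - Nat.card R < n := by
        have h1 : Nat.card Y' < Nat.card R :=
          Set.Finite.card_lt_card (Set.toFinite _) (SetLike.coe_ssubset_coe.2 hYR)
        have h3 := Subgroup.card_le_card_group R
        omega
      obtain ⟨g, hg, hgo, hgx⟩ := hh.exists_centralizing_smul hpm hRp (hRv.trans inf_le_left)
        (fun d hd => ih _ hlt hRp (hRv.trans inf_le_left) (hRv.trans inf_le_right) hx hvo.symm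
          hxo.symm hxv.symm hd rfl) (hRv.trans inf_le_right) hx hvo hxo
      exact ⟨⟨g, Subgroup.centralizer_le_normalizer _ (Subgroup.centralizer_le hYR.le hg),
        MulAction.mem_stabilizer_iff.2 hgo⟩, hgx⟩
    have hone : ∀ v : G ⧸ H, v ≠ o → Y' ≤ MulAction.stabilizer G v →
        Nat.card ↥(MulAction.orbit ↥N' v) + 1 ≡ 2 [MOD p] := by
      intro v hvo hv
      obtain ⟨R, hYR, hRp, hRN, hRv⟩ := hR v hvo hv
      obtain ⟨h1, h3⟩ := hmain v v hvo hv R hYR hRp hRN hRv
      have hnot : ∀ x ∈ MulAction.orbit ↥N' v, x ≠ o := by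
        rintro x ⟨g, rfl⟩ e
        exact hvo (MulAction.injective (g : G) (e.trans (MulAction.mem_stabilizer_iff.1 g.2.2).symm))
      classical
      refine (h1.add_right 1).trans (Nat.ModEq.trans ?_ (hh.card_fixed_modEq h2 hpm hRp))
      refine congrArg (· % p) ?_
      rw [← Nat.card_congr (Equiv.optionSubtypeNe
        (⟨o, hRv.trans inf_le_left⟩ : {x : G ⧸ H // R ≤ MulAction.stabilizer G x})), Finite.card_option]
      refine congrArg (· + 1) (Nat.card_congr
        { toFun := fun x => ⟨⟨x.1, x.2.2⟩, fun e => hnot x.1 x.2.1 (congrArg Subtype.val e)⟩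
          invFun := fun x => ⟨x.1.1, h3 _ (fun e => x.2 (Subtype.ext e)) x.1.2, x.1.2⟩
          left_inv := fun x => rfl
          right_inv := fun x => rfl })
    obtain ⟨R, hYR, hRp, hRN, hRz⟩ := hR z hzo hz
    obtain ⟨h1, h3⟩ := hmain z w hzo hz R hYR hRp hRN hRz
    have h0 : Nat.card {x : G ⧸ H // x ∈ MulAction.orbit ↥N' w ∧ R ≤ MulAction.stabilizer G x} = 0 := by
      refine Nat.card_eq_zero.2 (Or.inl ⟨fun x => hz_w ?_⟩)
      have hxo : x.1 ≠ o := by
        obtain ⟨g, hg⟩ := x.2.1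
        intro e
        exact hwo (MulAction.injective (g : G)
          ((hg.trans e).trans (MulAction.mem_stabilizer_iff.1 g.2.2).symm))
      rw [← MulAction.orbit_eq_iff.2 (h3 x.1 hxo x.2.2), MulAction.orbit_eq_iff.2 x.2.1]
      exact MulAction.mem_orbit_self _
    rw [h0] at h1
    exact (Fact.out : p.Prime).not_dvd_one
      ((Nat.modEq_iff_dvd' (by norm_num)).1 ((h1.symm.add_right 1).trans (hone w hwo hw)))
  -- at every point
  have htrans : ∀ x z w : G ⧸ H, z ≠ x → w ≠ x → Y ≤ MulAction.stabilizer G x →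
      Y ≤ MulAction.stabilizer G z → Y ≤ MulAction.stabilizer G w →
      ∃ g ∈ N, g • x = x ∧ g • z = w := by
    intro x z w hzx hwx hx hz hw
    obtain ⟨k, hk⟩ : ∃ k : G, k • x = o := by
      induction x using QuotientGroup.induction_on with
      | _ a => exact ⟨a⁻¹, by rw [MulAction.Quotient.smul_mk, smul_eq_mul, inv_mul_cancel]⟩
    have hmem : ∀ (Y₀ : Subgroup G) (v : G ⧸ H), MulAut.conj k • Y₀ ≤ MulAction.stabilizer G (k • v) ↔
        Y₀ ≤ MulAction.stabilizer G v := by
      intro Y₀ v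
      constructor
      · intro h1 y hy
        have := h1 (Coprime.conj_mem_conj.2 hy)
        rwa [MulAction.mem_stabilizer_iff, mul_smul, mul_smul, inv_smul_smul,
          smul_left_cancel_iff] at this
      · intro h1 y hy
        rw [Coprime.mem_conj] at hy
        have := h1 hy
        rw [MulAction.mem_stabilizer_iff, mul_smul, mul_smul, inv_smul_eq_iff] at this
        exact this
    have hnorm : ∀ g : G, g ∈ Subgroup.normalizer ((MulAut.conj k • Y : Subgroup G) : Set G) ↔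
        k⁻¹ * g * k ∈ N := by
      intro g
      have e : ∀ y : G, k⁻¹ * (g * y * g⁻¹) * k =
          k⁻¹ * g * k * (k⁻¹ * y * k) * (k⁻¹ * g * k)⁻¹ := fun y => by group
      simp only [hN, Subgroup.mem_normalizer_iff, Coprime.mem_conj, e]
      refine ⟨fun h1 y => ?_, fun h1 y => h1 _⟩
      have := h1 (k * y * k⁻¹)
      rwa [show k⁻¹ * (k * y * k⁻¹) * k = y by group] at this
    have hR : ∀ v : G ⧸ H, v ≠ o → MulAut.conj k • Y ≤ MulAction.stabilizer G v →
        ∃ R : Subgroup G, MulAut.conj k • Y < R ∧ IsPGroup p R ∧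
          R ≤ Subgroup.normalizer ((MulAut.conj k • Y : Subgroup G) : Set G) ∧ R ≤ twoPt G o v := by
      intro v hvo hv
      obtain ⟨v, rfl⟩ : ∃ v', k • v' = v := ⟨k⁻¹ • v, smul_inv_smul k v⟩
      obtain ⟨R, hYR, hRp, hRN, hRv⟩ := hbig x v (fun e => hvo (by rw [← e, hk])) hx ((hmem Y v).1 hv)
      refine ⟨MulAut.conj k • R, ?_, hRp.map _, fun y hy => ?_, le_inf ?_ ?_⟩
      · exact lt_of_le_of_ne (Subgroup.pointwise_smul_le_pointwise_smul_iff.2 hYR.le)
          fun e => hYR.ne (MulAction.injective _ e)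
      · rw [Coprime.mem_conj] at hy
        exact (hnorm y).2 (hRN hy)
      · exact hk ▸ (hmem R x).2 (hRv.trans inf_le_left)
      · exact (hmem R v).2 (hRv.trans inf_le_right)
    obtain ⟨g, hg, hgo, hgz⟩ := hstep (MulAut.conj k • Y)
      (hY.map _) (Coprime.card_conj _ _) (hk ▸ (hmem Y x).2 hx) hR
      (k • z) (k • w) (fun e => hzx (MulAction.injective k (e.trans hk.symm)))
      (fun e => hwx (MulAction.injective k (e.trans hk.symm))) ((hmem Y z).2 hz) ((hmem Y w).2 hw)
    refine ⟨k⁻¹ * g * k, (hnorm g).1 hg, ?_, ?_⟩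
    · rw [mul_smul, mul_smul, hk, hgo, ← hk, inv_smul_smul]
    · rw [mul_smul, mul_smul, hgz, inv_smul_smul]
  -- so every pair is exchanged by an involution of `N`
  have hg0 : ∃ g ∈ N, g • a = b ∧ g • b = a := by
    obtain ⟨g, hg, hgc, hga⟩ := htrans c a b hac hbc hc ha hb
    have hgb : g • b ≠ b := fun e => hab (MulAction.injective g (hga.trans e.symm))
    have hgbF := le_stab_smul hg hb
    obtain ⟨g', hg', hg'b, hg'x⟩ := htrans b (g • b) a hgb hab hb hgbF ha
    exact ⟨g' * g, mul_mem hg' hg, by rw [mul_smul, hga, hg'b], by rw [mul_smul, hg'x]⟩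
  obtain ⟨g0, hg0N, hga, hgb⟩ := hg0
  obtain ⟨u, huN, hu⟩ := exists_involution_of_swap hg0N hab hga hgb
  obtain ⟨x₀, hx₀, hux₀⟩ : ∃ x₀, Y ≤ MulAction.stabilizer G x₀ ∧ u • x₀ ≠ x₀ := by
    by_cases h1 : u • a = a
    · exact ⟨b, hb, fun e => hab (fixed_unique hh.se hu h1 e)⟩
    · exact ⟨a, ha, h1⟩
  refine hh.exists_inv_of_swappers ?_ (fun x z hxz hx hz => ?_) ha hb hc hab hac hbc he
  · exact (hh.odd_twoPt hab).of_dvd_nat (Subgroup.card_dvd_of_le (le_inf ha hb))
  · have hy0 := le_stab_smul huN hx₀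
    -- move `x₀` to `x`, then `u x₀` to `z`
    obtain ⟨g1, hg1, hg1x⟩ : ∃ g1 ∈ N, g1 • x₀ = x := by
      rcases eq_or_ne x₀ x with rfl | hne
      · exact ⟨1, one_mem _, one_smul G _⟩
      obtain ⟨d, hd, hdx₀, hdx⟩ : ∃ d, Y ≤ MulAction.stabilizer G d ∧ d ≠ x₀ ∧ d ≠ x := by
        by_cases h1 : a ≠ x₀ ∧ a ≠ x
        · exact ⟨a, ha, h1⟩
        by_cases h3 : b ≠ x₀ ∧ b ≠ x
        · exact ⟨b, hb, h3⟩
        refine ⟨c, hc, fun e => ?_, fun e => ?_⟩ <;>
          rcases not_and_or.1 h1 with h | h <;> rcases not_and_or.1 h3 with h' | h' <;>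
          simp only [ne_eq, not_not] at h h' <;> subst_vars <;> contradiction
      obtain ⟨g, hg, -, hgx⟩ := htrans d x₀ x hdx₀.symm hdx.symm hd hx₀ hx
      exact ⟨g, hg, hgx⟩
    have hne1 : g1 • u • x₀ ≠ x := fun e => hux₀ (MulAction.injective g1 (e.trans hg1x.symm))
    obtain ⟨g2, hg2, hg2x, hg2z⟩ :=
      htrans x (g1 • u • x₀) z hne1 hxz.symm hx (le_stab_smul hg1 hy0) hz
    refine ⟨g2 * g1 * u * (g2 * g1)⁻¹, (Involution.orderOf_conj _ u).trans hu,
      mem_normalizer_conj (mul_mem hg2 hg1) huN, ?_⟩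
    have e : (g2 * g1)⁻¹ • x = x₀ := by rw [inv_smul_eq_iff, mul_smul, hg1x, hg2x]
    rw [mul_smul, mul_smul, e, mul_smul, hg2z]

end HalfHyp

end Cfsg.Agent.Bender
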