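/-
Fusion in the centraliser of an element centralised by two involutions of `H` (Bender's theorem,
step 2c; owner: helper8).

`y ∈ H` centralised by an involution at each of its fixed points and by two involutions of `H`.
By induction the centraliser in `C(y)` of the kernel on `Fix y` is a rank one group modulo that
kernel, so

* `HalfHyp.fuse` : the `2`-elements of `H` centralising that kernel are regular on the other fixed
  points of `y`: an element of `C_H(y)` fixing two of them centralises the one between them, and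
  their number is a power of `2`.
-/
import Cfsg.Agent.Lib.Bender.HalfBasic

set_option autoImplicit false
set_option linter.style.haveILetI false
set_option linter.unusedSectionVars false

namespace Cfsg.Agent.Bender

open Cfsg Involution Aschbacher Cfsg.Agent.SuzukiRankOne
open scoped Pointwise

universe u

/-- `RankOneHalf` for groups smaller than `G`. -/
def RankOneBelow (G : Type u) [Group G] : Prop :=
  ∀ (G' : Type u) [Group G'] [Finite G'], Nat.card G' < Nat.card G → ∀ H' : Subgroup G',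
    IsStronglyEmbedded H' → H'.normalCore = ⊥ → TwoInvolutions G' →
    ∃ (t : G') (Q : Subgroup G'), IsRankOneSetup G' (G' ⧸ H') ((1 : G') : G' ⧸ H') t Q

/-- In a rank one set-up the elements of `2`-power order of the stabiliser lie in `Q`. -/
theorem mem_of_isTwoEl {G Ω : Type*} [Group G] [Finite G] [MulAction G Ω] {a : Ω} {t : G}
    {Q : Subgroup G} (h : IsRankOneSetup G Ω a t Q) {x : G} (hx : x ∈ MulAction.stabilizer G a)
    (hx2 : IsTwoEl x) : x ∈ Q := by
  obtain ⟨q, hq, d, hd, rfl⟩ := RankOne.Setup.exists_decomp h hx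
  have hpow : ∀ n : ℕ, ∃ q' ∈ Q, (q * d) ^ n = q' * d ^ n := by
    intro n
    induction n with
    | zero => exact ⟨1, Q.one_mem, by simp⟩
    | succ n ih =>
      obtain ⟨q', hq', e⟩ := ih
      exact ⟨q' * (d ^ n * q * (d ^ n)⁻¹),
        Q.mul_mem hq' (h.conj_mem _ (pow_mem hd.1 n) q hq), by rw [pow_succ, e]; group⟩
  obtain ⟨k, hk⟩ := hx2
  obtain ⟨q', hq', e⟩ := hpow (2 ^ k)
  have h1 : d ^ 2 ^ k ∈ Q ⊓ MulAction.stabilizer G (t • a) := by
    refine ⟨?_, pow_mem hd.2 _⟩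
    rw [hk] at e
    exact (inv_eq_of_mul_eq_one_right e.symm) ▸ Q.inv_mem hq'
  rw [h.inf_eq_bot, Subgroup.mem_bot] at h1
  rw [IsTwoEl.eq_one ⟨k, h1⟩ h.odd_card hd, mul_one]
  exact hq

/-- An element whose image has `2`-power order may be replaced by one of `2`-power order. -/
theorem exists_isTwoEl_lift {M M' : Type*} [Group M] [Group M'] [Finite M] (f : M →* M')
    (hodd : Odd (Nat.card f.ker)) {x : M} {k : ℕ} (hx : f x ^ 2 ^ k = 1) :
    ∃ x' : M, x' ^ 2 ^ k = 1 ∧ f x' = f x := by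
  have hN : (x ^ 2 ^ k) ^ Nat.card f.ker = 1 :=
    congrArg Subtype.val (pow_card_eq_one'
      (x := (⟨x ^ 2 ^ k, by rw [MonoidHom.mem_ker, map_pow, hx]⟩ : f.ker)))
  rcases Nat.eq_zero_or_pos k with rfl | hk0
  · rw [pow_zero, pow_one] at hx
    exact ⟨1, one_pow _, by rw [map_one, hx]⟩
  obtain ⟨j, hj⟩ := Nat.exists_mul_mod_eq_one_of_coprime
    ((Nat.coprime_two_right.2 hodd).pow_right k) (Nat.one_lt_two_pow hk0.ne')
  refine ⟨x ^ (Nat.card f.ker * j), ?_, ?_⟩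
  · rw [← pow_mul, show Nat.card f.ker * j * 2 ^ k = 2 ^ k * Nat.card f.ker * j by ring, pow_mul,
      pow_mul, hN, one_pow]
  · rw [map_pow, ← Nat.div_add_mod (Nat.card f.ker * j) (2 ^ k), hj.2, pow_add, pow_mul, hx,
      one_pow, one_mul, pow_one]

variable {G : Type u} [Group G] [Finite G] {H : Subgroup G}

local notation "o" => ((1 : G) : G ⧸ H)

/-- The elements commuting with `y` that fix all its fixed points. -/
def fixKernel (H : Subgroup G) (y : G) : Subgroup G :=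
  Subgroup.centralizer ({y} : Set G) ⊓
    ⨅ c : {c : G ⧸ H // y • c = c}, MulAction.stabilizer G c.1

theorem mem_fixKernel {y k : G} :
    k ∈ fixKernel H y ↔ Commute k y ∧ ∀ c : G ⧸ H, y • c = c → k • c = c := by
  rw [fixKernel, Subgroup.mem_inf, Subgroup.mem_iInf, mem_centralizer, Subtype.forall]
  simp only [MulAction.mem_stabilizer_iff]

theorem smul_fixed_of_commute {y g : G} (hg : Commute g y) {c : G ⧸ H} (hc : y • c = c) :
    y • g • c = g • c := by
  rw [← mul_smul, ← hg.eq, mul_smul, hc]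

theorem conj_mem_fixKernel {y g k : G} (hg : Commute g y) (hk : k ∈ fixKernel H y) :
    g * k * g⁻¹ ∈ fixKernel H y := by
  rw [mem_fixKernel] at hk ⊢
  refine ⟨(hg.mul_left hk.1).mul_left hg.inv_left, fun c hc => ?_⟩
  rw [mul_smul, mul_smul, hk.2 _ (smul_fixed_of_commute hg.inv_left hc), smul_inv_smul]

namespace HalfHyp

variable (hh : HalfHyp H)
include hh

/-- An involution commuting with `y` centralises the kernel. -/
theorem mem_centralizer_fixKernel {y : G} (hy : y ∈ H) {b : G ⧸ H} (hyb : y • b = b) (hbo : b ≠ o)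
    {v : G} (hv : orderOf v = 2) (hvy : Commute v y) :
    v ∈ Subgroup.centralizer (fixKernel H y : Set G) := by
  have hodd : Odd (Nat.card (fixKernel H y)) :=
    (hh.odd_twoPt hbo).of_dvd_nat (Subgroup.card_dvd_of_le fun k hk =>
      ⟨(mem_fixKernel.1 hk).2 b hyb, (mem_fixKernel.1 hk).2 o (smul_one_eq.2 hy)⟩)
  have hyc : y • fixPt H v = fixPt H v := hh.pc.commute_fix hv hvy.symm
  have hN : v ∈ Subgroup.normalizer (fixKernel H y : Set G) :=
    Subgroup.mem_normalizer_fintype fun k hk => conj_mem_fixKernel hvy hk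
  intro k hk
  exact (hh.commute_of_normalizes hv (hh.pc.smul_pt hv) hodd hN
    (fun a ha => (mem_fixKernel.1 ha).2 _ hyc) hk).symm

/-- **Fusion.** -/
theorem fuse (hK : KernelShape.{u, u}) (hIH : RankOneBelow G) {y : G} (hy : y ∈ H) (hy1 : y ≠ 1)
    (hcent : ∀ c : G ⧸ H, y • c = c → ∃ t : G, orderOf t = 2 ∧ Commute t y ∧ t • c = c)
    {t₁ t₂ : G} (ht₁ : orderOf t₁ = 2) (ht₂ : orderOf t₂ = 2) (ht₁H : t₁ ∈ H) (ht₂H : t₂ ∈ H)
    (hne : t₁ ≠ t₂) (ht₁y : Commute t₁ y) (ht₂y : Commute t₂ y)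
    {b : G ⧸ H} (hyb : y • b = b) (hbo : b ≠ o) :
    (∀ z : G ⧸ H, y • z = z → z ≠ o → ∀ h ∈ H, Commute h y → h • b = b → h • z = z →
      ∃ q ∈ H, IsTwoEl q ∧ q • b = z ∧ Commute q h) ∧
    ∃ k : ℕ, Nat.card {c : G ⧸ H // y • c = c ∧ c ≠ o} = 2 ^ k := by
  classical
  set K := fixKernel H y with hKdef
  set M := Subgroup.centralizer (K : Set G) with hMdef
  have hyK : y ∈ K := mem_fixKernel.2 ⟨Commute.refl y, fun c hc => hc⟩
  have hMy : ∀ g ∈ M, Commute g y := fun g hg => (hg y hyK).symm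
  have hinv : ∀ v : G, orderOf v = 2 → Commute v y → v ∈ M := fun v hv hvy =>
    hh.mem_centralizer_fixKernel hy hyb hbo hv hvy
  have hoK : ∀ k ∈ K, k ∈ H := fun k hk =>
    smul_one_eq.1 ((mem_fixKernel.1 hk).2 o (smul_one_eq.2 hy))
  have hKodd : Odd (Nat.card K) :=
    (hh.odd_twoPt hbo).of_dvd_nat (Subgroup.card_dvd_of_le fun k hk =>
      ⟨(mem_fixKernel.1 hk).2 b hyb, (mem_fixKernel.1 hk).2 o (smul_one_eq.2 hy)⟩)
  have PC := hh.pc
  have horbit : ∀ c : G ⧸ H, y • c = c → ∃ g : M, (g : G) • o = c := by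
    intro c hc
    rcases eq_or_ne c o with rfl | hco
    · exact ⟨1, one_smul G _⟩
    obtain ⟨t, ht, hty, htc⟩ := hcent c hc
    have hpo : fixPt H t₁ = o := ((PC.fixed_iff t₁ ht₁ o).1 (smul_one_eq.2 ht₁H)).symm
    have hpc : fixPt H t = c := ((PC.fixed_iff t ht c).1 htc).symm
    obtain ⟨g, hg, hgt⟩ := exists_conj_in PC (K := M) (e := t₁) (f := t) ht₁ ht
      (hinv _ ht₁ ht₁y) (hinv _ ht hty) (by rw [hpo, hpc]; exact hco.symm)
    exact ⟨⟨g, hg⟩, by
      show g • o = c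
      rw [← hpc, ← hgt, PC.pt_conj g (show t₁ ∈ {d : G | orderOf d = 2} from ht₁), hpo]⟩
  have hMH : ¬ M ≤ H := fun hle => by
    obtain ⟨g, hg⟩ := horbit b hyb
    exact hbo (by rw [← hg, smul_one_eq.2 (hle g.2)])
  set L := H.subgroupOf M with hLdef
  have hL : IsStronglyEmbedded L := isStronglyEmbedded_inter hh.se M hMH ht₁ (hinv _ ht₁ ht₁y) ht₁H
  set N : Subgroup M := K.subgroupOf M with hNdef
  have hmemN : ∀ x : M, x ∈ N ↔ (x : G) ∈ K := fun x => Subgroup.mem_subgroupOf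
  haveI hNn : N.Normal := ⟨fun n hn g => by
    have e : g * n * g⁻¹ = n := Subtype.ext (by
      show (g : G) * n * (g : G)⁻¹ = n
      rw [(g.2 n hn).symm, mul_inv_cancel_right])
    rwa [e]⟩
  have hNcen : ∀ g : M, ∀ n ∈ N, Commute g n := fun g n hn => Subtype.ext (g.2 (n : G) hn).symm
  have hNL : N ≤ L := fun n hn => Subgroup.mem_subgroupOf.2 (hoK _ hn)
  have hNodd : Odd (Nat.card N) :=
    hKodd.of_dvd_nat (Subgroup.card_comap_dvd_of_injective K M.subtype M.subtype_injective)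
  set f := QuotientGroup.mk' N with hf
  have hfs : Function.Surjective f := QuotientGroup.mk'_surjective N
  have hker : Odd (Nat.card f.ker) := by rwa [hf, QuotientGroup.ker_mk']
  set L' := L.map f with hL'
  have hcomap : L'.comap f = L := by
    rw [hL', Subgroup.comap_map_eq, hf, QuotientGroup.ker_mk', sup_eq_left.2 hNL]
  have hmemL : ∀ g : M, f g ∈ L' ↔ (g : G) ∈ H := fun g => by
    rw [← Subgroup.mem_comap, hcomap, hLdef, Subgroup.mem_subgroupOf]
  have hcore : L'.normalCore = ⊥ := by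
    refine (Subgroup.eq_bot_iff_forall _).2 fun x hx => ?_
    obtain ⟨g, rfl⟩ := hfs x
    rw [hf, QuotientGroup.mk'_apply, QuotientGroup.eq_one_iff, hmemN, mem_fixKernel]
    refine ⟨hMy g g.2, fun c hc => ?_⟩
    obtain ⟨m, rfl⟩ := horbit c hc
    haveI := L'.normalCore_normal
    have h1 := L'.normalCore_le (this.conj_mem _ hx (f m⁻¹))
    rw [← map_inv, ← map_mul, ← map_mul, hmemL] at h1
    rw [← inv_smul_eq_iff, smul_smul, smul_smul, smul_one_eq]
    simpa [mul_assoc] using h1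
  have hfne : ∀ v : M, orderOf (v : G) = 2 → f v ≠ 1 := fun v hv e =>
    not_mem_of_odd hKodd hv ((hmemN v).1 ((QuotientGroup.eq_one_iff v).1 e))
  have h2 : TwoInvolutions (M ⧸ N) := by
    set a₁ : M := ⟨t₁, hinv _ ht₁ ht₁y⟩
    set a₂ : M := ⟨t₂, hinv _ ht₂ ht₂y⟩
    have hc : Commute t₁ t₂ := hh.comm _ ht₁H _ ht₂H ht₁ ht₂
    have h12 : orderOf ((a₁ * a₂ : M) : G) = 2 :=
      Involution.orderOf_of_sq (by
        show t₁ * t₂ * (t₁ * t₂) = 1
        rw [mul_assoc, ← mul_assoc t₂, ← hc.eq, mul_assoc t₁ t₂ t₂, mul_self ht₂, mul_one,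
          mul_self ht₁])
        fun e => hne (by
          show t₁ = t₂
          rw [eq_inv_of_mul_eq_one_left (show t₁ * t₂ = 1 from e), inv_eq ht₂])
    refine ⟨f a₁, f a₂, hfne a₁ ht₁, hfne a₂ ht₂, fun e => hfne _ h12 ?_, ?_, ?_, ?_⟩
    · rw [map_mul, e, ← map_mul, show a₂ * a₂ = 1 from Subtype.ext (mul_self ht₂), map_one]
    · rw [← map_mul, show a₁ * a₁ = 1 from Subtype.ext (mul_self ht₁), map_one]
    · rw [← map_mul, show a₂ * a₂ = 1 from Subtype.ext (mul_self ht₂), map_one]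
    · rw [← map_mul, show a₁ * a₂ = a₂ * a₁ from Subtype.ext hc.eq, map_mul]
  have hlt : Nat.card (M ⧸ N) < Nat.card G := by
    have hM : M ≠ ⊤ := fun e => hh.not_central hy1 (smul_one_eq.2 hy)
      (eq_top_iff.2 fun g _ => mem_centralizer.2 (hMy g (e ▸ Subgroup.mem_top g)))
    refine lt_of_le_of_lt (Nat.card_le_card_of_surjective f hfs) ?_
    exact lt_of_le_of_ne (Subgroup.card_le_card_group M) fun e =>
      hM (Subgroup.eq_top_of_card_eq M e)
  obtain ⟨t, Q, hs⟩ := hIH (M ⧸ N) hlt L' (isStronglyEmbedded_map hL hNL) hcore h2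
  haveI := faithful_of_normalCore hcore
  obtain ⟨hQ, -⟩ := hK _ _ _ t Q hs h2
  have hst : ∀ g : M, f g ∈ MulAction.stabilizer (M ⧸ N) ((1 : M ⧸ N) : (M ⧸ N) ⧸ L') ↔
      (g : G) ∈ H := fun g => by
    rw [MulAction.stabilizer_quotient, hmemL]
  -- the points of the quotient are the fixed points of `y`
  have hpoint : ∀ g g' : M, (f g : (M ⧸ N) ⧸ L') = f g' ↔ (g : G) • o = (g' : G) • o := fun g g' => by
    rw [QuotientGroup.eq, ← map_inv, ← map_mul, hmemL, MulAction.Quotient.smul_mk,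
      MulAction.Quotient.smul_mk, QuotientGroup.eq]
    simp
  have hbase : ∀ g : M, ((f g : (M ⧸ N)) : (M ⧸ N) ⧸ L') ≠ ((1 : M ⧸ N) : (M ⧸ N) ⧸ L') ↔
      (g : G) • o ≠ o := fun g => by
    rw [ne_eq, ← map_one f, hpoint]
    simp
  obtain ⟨mb, hmb⟩ := horbit b hyb
  have hmb' : (((f mb) : M ⧸ N) : (M ⧸ N) ⧸ L') ≠ ((1 : M ⧸ N) : (M ⧸ N) ⧸ L') :=
    (hbase mb).2 (by rw [hmb]; exact hbo)
  have hact : ∀ x g g' : M, f x • ((f g : M ⧸ N) : (M ⧸ N) ⧸ L') = ((f g' : M ⧸ N) : (M ⧸ N) ⧸ L') ↔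
      (x : G) • ((g : G) • o) = (g' : G) • o := fun x g g' => by
    rw [MulAction.Quotient.smul_mk, smul_eq_mul, ← map_mul, hpoint, Subgroup.coe_mul, mul_smul]
  have hex : ∀ z : G ⧸ H, y • z = z → z ≠ o → ∃ q : M, (q : G) ∈ H ∧ IsTwoEl (q : G) ∧ f q ∈ Q ∧
      (q : G) • b = z := by
    intro z hz hzo
    obtain ⟨mz, hmz⟩ := horbit z hz
    obtain ⟨qb, hqb, -⟩ := RankOne.Setup.regular hs hmb' ((hbase mz).2 (by rw [hmz]; exact hzo))
    obtain ⟨x, hx⟩ := hfs qb
    obtain ⟨k, hk⟩ := hQ qb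
    obtain ⟨x', hx', e⟩ := exists_isTwoEl_lift f hker (x := x) (k := k) (by
      rw [hx]; simpa using congrArg Subtype.val hk)
    rw [hx] at e
    refine ⟨x', (hst x').1 (e ▸ hs.le qb.2), ⟨k, ?_⟩, e ▸ qb.2, ?_⟩
    · rw [← Subgroup.coe_pow, hx', Subgroup.coe_one]
    · rw [← hmb, ← hmz]
      exact (hact x' mb mz).1 (by rw [e]; exact hqb)
  have huniq : ∀ q q' : M, (q : G) ∈ H → (q' : G) ∈ H → IsTwoEl (q : G) → IsTwoEl (q' : G) →
      (q : G) • b = (q' : G) • b → q = q' := by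
    rintro q q' hqH hq'H ⟨k, hk⟩ ⟨k', hk'⟩ e
    have hmem : ∀ (x : M) (j : ℕ), (x : G) ∈ H → (x : G) ^ 2 ^ j = 1 → f x ∈ Q := fun x j hx hj =>
      mem_of_isTwoEl hs ((hst x).2 hx)
        ⟨j, by rw [← map_pow, show x ^ 2 ^ j = 1 from Subtype.ext (by simpa using hj), map_one]⟩
    have h1 : f (q'⁻¹ * q) ∈ Q := by
      rw [map_mul, map_inv]
      exact Q.mul_mem (Q.inv_mem (hmem q' k' hq'H hk')) (hmem q k hqH hk)
    have h3 : f (q'⁻¹ * q) = 1 := RankOne.Setup.eq_one_of_fix hs h1 hmb' ((hact _ mb mb).2 (by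
      rw [hmb, Subgroup.coe_mul, mul_smul, e, Subgroup.coe_inv, inv_smul_smul]))
    have h4 : q'⁻¹ * q ∈ N := (QuotientGroup.eq_one_iff _).1 h3
    have h5 : (q'⁻¹ * q) ^ 2 ^ (k + k') = 1 := by
      have hc : Commute q'⁻¹ q := by
        have := ((Commute.refl q').mul_right (hNcen q' _ h4)).inv_left
        rwa [mul_inv_cancel_left] at this
      have hone : ∀ (x : M) (j l : ℕ), (x : G) ^ 2 ^ j = 1 → x ^ 2 ^ (j + l) = 1 := fun x j l hj =>
        Subtype.ext (by rw [Subgroup.coe_pow, pow_add, pow_mul, hj, one_pow, Subgroup.coe_one])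
      rw [hc.mul_pow, inv_pow, hone q k k' hk, add_comm k k', hone q' k' k hk', inv_one, one_mul]
    exact (inv_mul_eq_one.1 (IsTwoEl.eq_one ⟨_, h5⟩ hNodd h4)).symm
  refine ⟨fun z hz hzo h hhH hhy hhb hhz => ?_, ?_⟩
  · obtain ⟨q, hqH, hq2, -, hqb⟩ := hex z hz hzo
    have hconjM : h * q * h⁻¹ ∈ M := by
      intro k hk
      have h1 : h⁻¹ * k * h ∈ K := by simpa using conj_mem_fixKernel hhy.inv_left hk
      have h2 := q.2 _ h1
      calc k * (h * q * h⁻¹) = h * ((h⁻¹ * k * h) * q) * h⁻¹ := by group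
        _ = h * (q * (h⁻¹ * k * h)) * h⁻¹ := by rw [h2]
        _ = h * q * h⁻¹ * k := by group
    have e := huniq ⟨_, hconjM⟩ q (H.mul_mem (H.mul_mem hhH hqH) (H.inv_mem hhH)) hqH (hq2.conj h)
      hq2 (by
        show (h * (q : G) * h⁻¹) • b = (q : G) • b
        rw [mul_smul, mul_smul, inv_smul_eq_iff.2 hhb.symm, hqb, hhz])
    exact ⟨q, hqH, hq2, hqb, (mul_inv_eq_iff_eq_mul.1 (congrArg Subtype.val e)).symm⟩
  · obtain ⟨k, hk⟩ := IsPGroup.iff_card.1 hQ
    refine ⟨k, ?_⟩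
    rw [← hk]
    have hlift : ∀ qe : Q, ∃ q : M, (q : G) ∈ H ∧ IsTwoEl (q : G) ∧ f q = (qe : M ⧸ N) := by
      intro qe
      obtain ⟨x, hx⟩ := hfs qe
      obtain ⟨j, hj⟩ := hQ qe
      obtain ⟨x', hx', e⟩ := exists_isTwoEl_lift f hker (x := x) (k := j) (by
        rw [hx]; simpa using congrArg Subtype.val hj)
      rw [hx] at e
      exact ⟨x', (hst x').1 (e ▸ hs.le qe.2), ⟨j, by rw [← Subgroup.coe_pow, hx', Subgroup.coe_one]⟩, e⟩
    choose q hqH hq2 hqe using hlift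
    have hmove : ∀ g : M, (g : G) ∈ H →
        y • ((g : G) • b) = (g : G) • b ∧ (g : G) • b ≠ o := fun g hg =>
      ⟨smul_fixed_of_commute (hMy g g.2) hyb, fun e =>
        hbo (MulAction.injective (g : G) (e.trans (smul_one_eq.2 hg).symm))⟩
    refine (Nat.card_congr (Equiv.ofBijective
      (fun qe : Q => (⟨(q qe : G) • b, hmove _ (hqH qe)⟩ : {c : G ⧸ H // y • c = c ∧ c ≠ o}))
      ⟨fun a a' e => Subtype.ext ?_, fun c => ?_⟩)).symm
    · rw [← hqe a, ← hqe a', huniq _ _ (hqH a) (hqH a') (hq2 a) (hq2 a') (congrArg Subtype.val e)]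
    · obtain ⟨x, hxH, hx2, hxQ, hxb⟩ := hex c.1 c.2.1 c.2.2
      refine ⟨⟨f x, hxQ⟩, Subtype.ext ?_⟩
      show (q ⟨f x, hxQ⟩ : G) • b = c.1
      rw [← hxb, ← hmb, ← mul_smul, ← mul_smul, ← Subgroup.coe_mul, ← Subgroup.coe_mul, ← hpoint,
        map_mul, map_mul, hqe]

end HalfHyp

end Cfsg.Agent.Bender
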