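/-
Transfer and descent to a regular normal subgroup (Bender's theorem, step 2c; owner: helper8).

A smallest normal subgroup `X` of `H` containing the elements of `2`-power order and transitive on
the other points is either regular, so the wanted `Q`, or every element of prime power order of
`D = X_b` outside `D'` has for its element of prime order one centralising exactly one involution
of `H` (`Lone`): the residual situation `Stuck`.

* `HalfHyp.rankOne_or_stuck_le`, `HalfHyp.rankOne_or_stuck` : the dichotomy, below a candidate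
* `Stuck.exists_lone` : in the residual situation lone elements exist
-/
import Cfsg.Agent.Lib.Bender.HalfFuse
import Cfsg.Agent.Lib.Bender.HalfCent

set_option autoImplicit false
set_option linter.style.haveILetI false
set_option linter.unusedSectionVars false

namespace Cfsg.Agent.Bender

open Cfsg Involution Aschbacher Cfsg.Agent.SuzukiRankOne
open scoped Pointwise

universe u

variable {G : Type u} [Group G] [Finite G] {H : Subgroup G}

local notation "o" => ((1 : G) : G ⧸ H)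

/-- A transfer is a power if all the conjugates met have the same image. -/
theorem transfer_eq_pow_of {X A : Type*} [Group X] [Finite X] [CommGroup A] {D : Subgroup X}
    (φ : D →* A) {g : X} (hg : g ∈ D)
    (key : ∀ (k : ℕ) (g₀ : X) (h : g₀⁻¹ * g ^ k * g₀ ∈ D), φ ⟨_, h⟩ = φ ⟨g, hg⟩ ^ k) :
    MonoidHom.transfer φ g = φ ⟨g, hg⟩ ^ D.index := by
  classical
  haveI := Fintype.ofFinite (X ⧸ D)
  rw [MonoidHom.transfer_eq_prod_quotient_orbitRel_zpowers_quot,
    Subgroup.index_eq_sum_minimalPeriod D g, ← Finset.prod_pow_eq_pow_sum]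
  exact Fintype.prod_congr _ _ fun q => key _ _ _

/-- The element of order `s` lies in every nontrivial subgroup of a cyclic `s`-group. -/
theorem pow_mem_zpowers_of_ne_one {g : G} {s k : ℕ} [Fact s.Prime] (hg : orderOf g = s ^ (k + 1))
    {j : ℕ} (hj : g ^ j ≠ 1) : g ^ s ^ k ∈ Subgroup.zpowers (g ^ j) := by
  obtain ⟨i, hi, hgcd⟩ := (Nat.dvd_prime_pow (Fact.out : s.Prime)).1
    (Nat.gcd_dvd_right j (s ^ (k + 1)))
  have hik : i ≤ k := by
    by_contra h
    obtain rfl : i = k + 1 := by omega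
    exact hj (orderOf_dvd_iff_pow_eq_one.1 (hg ▸ hgcd ▸ Nat.gcd_dvd_left j (s ^ (k + 1))))
  have h1 : g ^ s ^ i ∈ Subgroup.zpowers (g ^ j) := by
    rw [← hgcd, ← zpow_natCast g (Nat.gcd j (s ^ (k + 1))), Nat.gcd_eq_gcd_ab, zpow_add, zpow_mul, zpow_mul, zpow_natCast,
      zpow_natCast, ← hg, pow_orderOf_eq_one, one_zpow, mul_one]
    exact Subgroup.zpow_mem _ (Subgroup.mem_zpowers _) _
  rw [show s ^ k = s ^ i * s ^ (k - i) by rw [← pow_add, Nat.add_sub_cancel' hik], pow_mul]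
  exact Subgroup.pow_mem _ h1 _

/-- An element centralising exactly one involution of `H`. -/
def Lone (H : Subgroup G) (y : G) : Prop :=
  ∃! v : G, orderOf v = 2 ∧ v ∈ H ∧ Commute v y

/-- A normal subgroup of `H` with its elements of `2`-power order, transitive on the other points. -/
structure Cand (H X : Subgroup G) : Prop where
  le : X ≤ H
  conj : ∀ h ∈ H, ∀ x ∈ X, h * x * h⁻¹ ∈ X
  two : ∀ x ∈ H, IsTwoEl x → x ∈ X
  trans : ∀ b z : G ⧸ H, b ≠ ((1 : G) : G ⧸ H) → z ≠ ((1 : G) : G ⧸ H) → ∃ x ∈ X, x • b = z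

/-- The residual situation of the transfer argument. -/
structure Stuck (H X : Subgroup G) (b : G ⧸ H) : Prop where
  cand : Cand H X
  min : ∀ X' : Subgroup G, Cand H X' → X' ≤ X → X' = X
  ne : b ≠ ((1 : G) : G ⧸ H)
  fixer : X ⊓ MulAction.stabilizer G b ≠ ⊥
  lone : ∀ (s : ℕ), s.Prime → ∀ (k : ℕ), ∀ g ∈ X ⊓ MulAction.stabilizer G b,
    orderOf g = s ^ (k + 1) →
    g ∉ (⁅X ⊓ MulAction.stabilizer G b, X ⊓ MulAction.stabilizer G b⁆ : Subgroup G) →
    ¬ s ∣ Nat.card {t : G // orderOf t = 2 ∧ t ∈ H} ∧ Lone H (g ^ s ^ k)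

namespace HalfHyp

variable (hh : HalfHyp H)
include hh

theorem cand_self (h2 : TwoInvolutions G) : Cand H H :=
  ⟨le_rfl, fun h hhH x hx => H.mul_mem (H.mul_mem hhH hx) (H.inv_mem hhH), fun x hx _ => hx,
    fun b z hb hz => hh.transitive h2 hb hz⟩

/-- Fixed points of an element of prime order of `H ∩ G_b` which is not lone. -/
theorem fused_of_not_lone (hK : KernelShape.{u, u}) (hIH : RankOneBelow G) (h2 : TwoInvolutions G)
    {s : ℕ} [Fact s.Prime] {y : G} (hy : y ∈ H) (hys : orderOf y = s) {b : G ⧸ H} (hyb : y • b = b)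
    (hbo : b ≠ o)
    (hnot : s ∣ Nat.card {t : G // orderOf t = 2 ∧ t ∈ H} ∨ ¬ Lone H y) :
    (∀ z : G ⧸ H, y • z = z → z ≠ o → ∀ h ∈ H, Commute h y → h • b = b → h • z = z →
      ∃ q ∈ H, IsTwoEl q ∧ q • b = z ∧ Commute q h) ∧
    ∃ k : ℕ, Nat.card {c : G ⧸ H // y • c = c ∧ c ≠ o} = 2 ^ k := by
  by_cases h3 : ∃ c : G ⧸ H, y • c = c ∧ c ≠ o ∧ c ≠ b
  swap
  · push Not at h3
    refine ⟨fun z hz hzo h _ _ hhb _ => ⟨1, H.one_mem, ⟨0, one_pow _⟩,
      by rw [one_smul, h3 z hz hzo], Commute.one_left h⟩, 0, ?_⟩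
    rw [pow_zero, Nat.card_eq_one_iff_unique]
    exact ⟨⟨fun c c' => Subtype.ext ((h3 c.1 c.2.1 c.2.2).trans (h3 c'.1 c'.2.1 c'.2.2).symm)⟩,
      ⟨⟨b, hyb, hbo⟩⟩⟩
  obtain ⟨c₀, hc₀, hc₀o, hc₀b⟩ := h3
  have hy1 : y ≠ 1 := fun e => (Fact.out : s.Prime).ne_one (by rw [← hys, e, orderOf_one])
  set Y := Subgroup.zpowers y with hY
  have hYp : IsPGroup s Y := IsPGroup.of_card (n := 1) (by rw [hY, Nat.card_zpowers, hys, pow_one])
  have hYle : ∀ c : G ⧸ H, y • c = c → Y ≤ MulAction.stabilizer G c := fun c hc =>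
    Subgroup.zpowers_le.2 hc
  have hcomm : ∀ t : G, t ∈ Subgroup.centralizer (Y : Set G) → Commute t y := fun t ht =>
    (ht y (Subgroup.mem_zpowers y)).symm
  have hoy : y • o = o := smul_one_eq.2 hy
  have hcent : ∀ c : G ⧸ H, y • c = c →
      ∃ t : G, orderOf t = 2 ∧ t • c = c ∧ t ∈ Subgroup.centralizer (Y : Set G) := by
    intro c hc
    by_cases hsm : s ∣ Nat.card {t : G // orderOf t = 2 ∧ t ∈ H}
    · exact hh.exists_inv_of_three h2 hsm hYp (hYle _ hoy) (hYle _ hyb) (hYle _ hc₀) hbo.symm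
        hc₀o.symm hc₀b.symm (hYle _ hc)
    · exact hh.exists_inv_of_not_dvd hsm hYp (hYle _ hc)
  obtain ⟨t₁, ht₁, ht₁o, ht₁Y⟩ := hcent o hoy
  obtain ⟨t₂, ht₂, ht₂H, ht₂y, hne⟩ : ∃ t₂ : G, orderOf t₂ = 2 ∧ t₂ ∈ H ∧ Commute t₂ y ∧ t₂ ≠ t₁ := by
    rcases hnot with hsm | hnot
    · obtain ⟨t', ht', ht'o, ht'Y, hne⟩ := hh.exists_second_inv hsm hYp (hYle _ hoy) ht₁ ht₁o ht₁Y
      exact ⟨t', ht', smul_one_eq.1 ht'o, hcomm _ ht'Y, hne⟩
    · by_contra hcon
      push Not at hcon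
      exact hnot ⟨t₁, ⟨ht₁, smul_one_eq.1 ht₁o, hcomm _ ht₁Y⟩, fun v hv =>
        hcon v hv.1 hv.2.1 hv.2.2⟩
  exact hh.fuse hK hIH hy hy1 (fun c hc => by
      obtain ⟨t, ht, htc, htY⟩ := hcent c hc
      exact ⟨t, ht, hcomm t htY, htc⟩)
    ht₁ ht₂ (smul_one_eq.1 ht₁o) ht₂H hne.symm (hcomm _ ht₁Y) ht₂y hyb hbo

/-- **Transfer.** In a smallest candidate the elements outside `D'` are lone. -/
theorem lone_of_min (hK : KernelShape.{u, u}) (hIH : RankOneBelow G) (h2 : TwoInvolutions G)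
    {X : Subgroup G} (hX : Cand H X) (hmin : ∀ X' : Subgroup G, Cand H X' → X' ≤ X → X' = X)
    {b : G ⧸ H} (hbo : b ≠ o) {s : ℕ} (hs : s.Prime) {k : ℕ} {g : G}
    (hg : g ∈ X ⊓ MulAction.stabilizer G b) (hgs : orderOf g = s ^ (k + 1))
    (hgD : g ∉ (⁅X ⊓ MulAction.stabilizer G b, X ⊓ MulAction.stabilizer G b⁆ : Subgroup G)) :
    ¬ s ∣ Nat.card {t : G // orderOf t = 2 ∧ t ∈ H} ∧ Lone H (g ^ s ^ k) := by
  classical
  haveI : Fact s.Prime := ⟨hs⟩
  by_contra hcon
  rw [not_and_or, not_not] at hcon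
  set y := g ^ s ^ k with hy
  have hyo : orderOf y = s := by
    rw [hy, orderOf_pow, hgs, Nat.gcd_eq_right (pow_dvd_pow s k.le_succ),
      Nat.pow_div k.le_succ hs.pos, Nat.succ_sub le_rfl, Nat.sub_self, pow_one]
  have hyH : y ∈ H := H.pow_mem (hX.le hg.1) _
  have hyb : y • b = b := MulAction.mem_stabilizer_iff.1 (pow_mem hg.2 _)
  obtain ⟨hfused, j, hj⟩ := hh.fused_of_not_lone hK hIH h2 hyH hyo hyb hbo hcon
  -- the parities
  have hs2 : s ≠ 2 := by
    rintro rfl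
    exact not_mem_of_odd (hh.odd_twoPt hbo) hyo ⟨MulAction.mem_stabilizer_iff.2 hyb,
      MulAction.mem_stabilizer_iff.2 (smul_one_eq.2 hyH)⟩
  have hcop2 : ∀ i : ℕ, (2 ^ i).Coprime s := fun i =>
    ((Nat.coprime_primes Nat.prime_two hs).2 (Ne.symm hs2)).pow_left i
  -- the transfer
  set Dx : Subgroup X := MulAction.stabilizer X b with hDx
  set gx : X := ⟨g, hg.1⟩ with hgx
  have hgxD : gx ∈ Dx := hg.2
  set N := Nat.card (Abelianization Dx) with hN
  set c := N / s ^ N.factorization s with hc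
  set φ : Dx →* Abelianization Dx := (powMonoidHom c).comp Abelianization.of with hφ
  set V := MonoidHom.transfer φ with hV
  have hφpow : ∀ a, φ a ^ s ^ N.factorization s = 1 := fun a => by
    show (Abelianization.of a ^ c) ^ s ^ N.factorization s = 1
    rw [← pow_mul, hc, Nat.div_mul_cancel (Nat.ordProj_dvd N s), hN, pow_card_eq_one']
  have hφg : φ ⟨gx, hgxD⟩ ≠ 1 := by
    intro e
    have e' : Abelianization.of (⟨gx, hgxD⟩ : Dx) ^ c = 1 := e
    have h1 : orderOf (Abelianization.of (⟨gx, hgxD⟩ : Dx)) ∣ s ^ (k + 1) := by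
      refine (orderOf_map_dvd _ _).trans (dvd_of_eq ?_)
      rw [← Subgroup.orderOf_coe, ← Subgroup.orderOf_coe]
      exact hgs
    have h3 : (s ^ (k + 1)).Coprime c :=
      (Nat.coprime_ordCompl hs (Nat.card_pos (α := Abelianization Dx)).ne').pow_left _
    have h4 := orderOf_eq_one_iff.1
      (Nat.eq_one_of_dvd_coprimes h3 h1 (orderOf_dvd_of_pow_eq_one e'))
    rw [← MonoidHom.mem_ker, Abelianization.ker_of] at h4
    refine hgD ?_
    have hmap : Dx.map X.subtype = X ⊓ MulAction.stabilizer G b := by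
      ext z
      exact ⟨by rintro ⟨w, hw, rfl⟩; exact ⟨w.2, hw⟩, fun hz => ⟨⟨z, hz.1⟩, hz.2, rfl⟩⟩
    rw [← hmap, ← Subgroup.map_commutator]
    rw [commutator_def] at h4
    refine Subgroup.mem_map.2 ⟨gx, ?_, rfl⟩
    have h5 : gx ∈ (⁅(⊤ : Subgroup Dx), ⊤⁆ : Subgroup Dx).map Dx.subtype := ⟨_, h4, rfl⟩
    rwa [Subgroup.map_commutator, ← MonoidHom.range_eq_map, Subgroup.range_subtype] at h5
  have horbit : MulAction.orbit X b = {z : G ⧸ H | z ≠ o} := by
    ext z
    refine ⟨?_, fun hz => ?_⟩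
    · rintro ⟨x, rfl⟩ e
      exact hbo (MulAction.injective (x : G) (e.trans (smul_one_eq.2 (hX.le x.2)).symm))
    · obtain ⟨x, hx, e⟩ := hX.trans b z hbo hz
      exact ⟨⟨x, hx⟩, e⟩
  have hindex : Dx.index = Nat.card {z : G ⧸ H // z ≠ o} := by
    rw [hDx, MulAction.index_stabilizer, horbit, ← Nat.card_coe_set_eq]
    rfl
  have hsindex : ¬ s ∣ Dx.index := by
    have h1 : Nat.card {z : G ⧸ H | z ≠ o} ≡ 2 ^ j [MOD s] := by
      refine (card_modEq_fixed (Q := Subgroup.zpowers y) (p := s)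
        (IsPGroup.of_card (n := 1) (by rw [Nat.card_zpowers, hyo, pow_one])) _ ?_).trans
        (congrArg (· % s) ?_)
      · intro q hq z hz e
        exact hz (MulAction.injective q (e.trans (smul_one_eq.2 (Subgroup.zpowers_le.2 hyH hq)).symm))
      · rw [← hj]
        exact Nat.card_congr (Equiv.subtypeEquivRight fun z =>
          ⟨fun h => ⟨h.2 (Subgroup.mem_zpowers y), h.1⟩, fun h => ⟨h.2, Subgroup.zpowers_le.2 h.1⟩⟩)
    intro hdvd
    rw [hindex] at hdvd
    exact hs.ne_one (Nat.eq_one_of_dvd_coprimes (hcop2 j).symm dvd_rfl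
      (Nat.modEq_zero_iff_dvd.1 (h1.symm.trans (Nat.modEq_zero_iff_dvd.2 hdvd))))
  have hVg : V gx = φ ⟨gx, hgxD⟩ ^ Dx.index := by
    refine transfer_eq_pow_of φ hgxD fun i g₀ hmem => ?_
    by_cases hi : gx ^ i = 1
    · have e : (⟨g₀⁻¹ * gx ^ i * g₀, hmem⟩ : Dx) = 1 := Subtype.ext (by
        show g₀⁻¹ * gx ^ i * g₀ = 1
        rw [hi, mul_one, inv_mul_cancel])
      rw [e, map_one, ← map_pow, show (⟨gx, hgxD⟩ : Dx) ^ i = 1 from Subtype.ext hi, map_one]
    set h : G := g ^ i with hh'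
    have hzfix : h • (g₀ : G) • b = (g₀ : G) • b := by
      have h1 : ((g₀⁻¹ * gx ^ i * g₀ : X) : G) • b = b := hmem
      rw [Subgroup.coe_mul, Subgroup.coe_mul, Subgroup.coe_inv, Subgroup.coe_pow, mul_smul,
        mul_smul, inv_smul_eq_iff] at h1
      exact h1
    have hyz : y • (g₀ : G) • b = (g₀ : G) • b :=
      Subgroup.zpowers_le.2 (MulAction.mem_stabilizer_iff.2 hzfix)
        (pow_mem_zpowers_of_ne_one hgs fun e => hi (Subtype.ext e))
    have hzo : (g₀ : G) • b ≠ o := fun e =>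
      hbo (MulAction.injective (g₀ : G) (e.trans (smul_one_eq.2 (hX.le g₀.2)).symm))
    obtain ⟨q, hqH, hq2, hqb, hqh⟩ := hfused _ hyz hzo h (H.pow_mem (hX.le hg.1) i)
      ((Commute.refl g).pow_pow i _) (MulAction.mem_stabilizer_iff.1 (pow_mem hg.2 i)) hzfix
    set qx : X := ⟨q, hX.two q hqH hq2⟩
    have hd : qx⁻¹ * g₀ ∈ Dx := by
      show (q⁻¹ * (g₀ : G)) • b = b
      rw [mul_smul, ← hqb, inv_smul_smul]
    have hhD : gx ^ i ∈ Dx := Dx.pow_mem hgxD i
    have e : (⟨g₀⁻¹ * gx ^ i * g₀, hmem⟩ : Dx) =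
        (⟨qx⁻¹ * g₀, hd⟩ : Dx)⁻¹ * (⟨gx, hgxD⟩ : Dx) ^ i * ⟨qx⁻¹ * g₀, hd⟩ := by
      refine Subtype.ext (Subtype.ext ?_)
      show (g₀ : G)⁻¹ * h * g₀ = (q⁻¹ * g₀)⁻¹ * h * (q⁻¹ * g₀)
      calc (g₀ : G)⁻¹ * h * g₀ = (g₀ : G)⁻¹ * (h * q) * (q⁻¹ * g₀) := by group
        _ = _ := by rw [← hqh.eq]; group
    rw [e, map_mul, map_mul, map_inv, map_pow, mul_comm, mul_inv_cancel_left]
  have hVne : V gx ≠ 1 := by
    rw [hVg]
    intro e
    refine hφg (orderOf_eq_one_iff.1 (Nat.eq_one_of_dvd_coprimes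
      ((hs.coprime_iff_not_dvd.2 hsindex).pow_left (N.factorization s))
      (orderOf_dvd_of_pow_eq_one (hφpow _)) (orderOf_dvd_of_pow_eq_one e)))
  have hVpow : ∀ x, V x ^ s ^ N.factorization s = 1 := by
    intro x
    haveI := Fintype.ofFinite (X ⧸ Dx)
    rw [hV, MonoidHom.transfer_eq_prod_quotient_orbitRel_zpowers_quot, ← Finset.prod_pow]
    exact Finset.prod_eq_one fun q _ => hφpow _
  -- the smaller candidate
  let X' : Subgroup G :=
    { carrier := {x | ∃ hx : x ∈ X, ∀ (h : G) (hh : h ∈ H), V ⟨h * x * h⁻¹, hX.conj h hh x hx⟩ = 1}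
      one_mem' := ⟨X.one_mem, fun h hh => by
        rw [show (⟨h * 1 * h⁻¹, hX.conj h hh 1 X.one_mem⟩ : X) = 1 from Subtype.ext (by
          rw [Subgroup.coe_one]; group), map_one]⟩
      mul_mem' := by
        rintro x z ⟨hx, hx'⟩ ⟨hz, hz'⟩
        refine ⟨X.mul_mem hx hz, fun h hh => ?_⟩
        rw [show (⟨h * (x * z) * h⁻¹, hX.conj h hh _ (X.mul_mem hx hz)⟩ : X) =
          ⟨h * x * h⁻¹, hX.conj h hh x hx⟩ * ⟨h * z * h⁻¹, hX.conj h hh z hz⟩ from Subtype.ext (by
            rw [Subgroup.coe_mul]; group), map_mul, hx' h hh, hz' h hh, one_mul]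
      inv_mem' := by
        rintro x ⟨hx, hx'⟩
        refine ⟨X.inv_mem hx, fun h hh => ?_⟩
        rw [show (⟨h * x⁻¹ * h⁻¹, hX.conj h hh _ (X.inv_mem hx)⟩ : X) =
          (⟨h * x * h⁻¹, hX.conj h hh x hx⟩ : X)⁻¹ from Subtype.ext (by
            rw [Subgroup.coe_inv]; group), map_inv, hx' h hh, inv_one] }
  have hX'le : X' ≤ X := fun x hx => hx.1
  have hmemX' : ∀ x ∈ X, x ∈ X' ↔ ∀ (h : G) (hhH : h ∈ H) (hx : h * x * h⁻¹ ∈ X),
      V ⟨h * x * h⁻¹, hx⟩ = 1 := fun x hx =>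
    ⟨fun ⟨_, h1⟩ h hhH _ => h1 h hhH, fun h1 => ⟨hx, fun h hhH => h1 h hhH _⟩⟩
  have hX'conj : ∀ k ∈ H, ∀ x ∈ X', k * x * k⁻¹ ∈ X' := by
    intro k hk x hx
    refine (hmemX' _ (hX.conj k hk x hx.1)).2 fun h hhH hmem => ?_
    have := (hmemX' x hx.1).1 hx (h * k) (H.mul_mem hhH hk)
      (hX.conj _ (H.mul_mem hhH hk) x hx.1)
    convert this using 3
    group
  have hcand : Cand H X' := by
    refine ⟨hX'le.trans hX.le, hX'conj, ?_, fun b' z hb' hz => ?_⟩
    · intro x hxH hx2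
      refine (hmemX' x (hX.two x hxH hx2)).2 fun h hhH hmem => ?_
      obtain ⟨i, hi⟩ := hx2.conj h
      refine orderOf_eq_one_iff.1 (Nat.eq_one_of_dvd_coprimes
        ((hcop2 i).pow_right (N.factorization s)) ?_ (orderOf_dvd_of_pow_eq_one (hVpow _)))
      refine orderOf_dvd_of_pow_eq_one ?_
      rw [← map_pow, show (⟨h * x * h⁻¹, hmem⟩ : X) ^ 2 ^ i = 1 from Subtype.ext (by
        rw [Subgroup.coe_pow, Subgroup.coe_one]; exact hi), map_one]
    · set K := X'.subgroupOf X with hKdef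
      haveI : K.Normal := ⟨fun n hn x => Subgroup.mem_subgroupOf.2
        (hX'conj x (hX.le x.2) n (Subgroup.mem_subgroupOf.1 hn))⟩
      have hq : IsPGroup s (X ⧸ K) := by
        intro q
        induction q using QuotientGroup.induction_on with
        | _ x =>
          refine ⟨N.factorization s, ?_⟩
          rw [← QuotientGroup.mk_pow, QuotientGroup.eq_one_iff, hKdef, Subgroup.mem_subgroupOf,
            Subgroup.coe_pow]
          refine (hmemX' _ (X.pow_mem x.2 _)).2 fun h hhH hmem => ?_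
          rw [show (⟨h * (x : G) ^ s ^ N.factorization s * h⁻¹, hmem⟩ : X) =
            (⟨h * x * h⁻¹, hX.conj h hhH _ x.2⟩ : X) ^ s ^ N.factorization s from Subtype.ext (by
              rw [Subgroup.coe_pow, conj_pow]), map_pow, hVpow]
      obtain ⟨e, he⟩ := IsPGroup.iff_card.1 hq
      have htop : K ⊔ Dx = ⊤ := by
        refine Subgroup.index_eq_one.1 (Nat.eq_one_of_dvd_coprimes
          ((hs.coprime_iff_not_dvd.2 hsindex).pow_left e) ?_
          (Subgroup.index_dvd_of_le (le_sup_right : Dx ≤ K ⊔ Dx)))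
        rw [← he, ← Subgroup.index_eq_card]
        exact Subgroup.index_dvd_of_le le_sup_left
      have hmove : ∀ z' : G ⧸ H, z' ≠ o → ∃ x ∈ X', x • b = z' := by
        intro z' hz'
        obtain ⟨x, hx, e⟩ := hX.trans b z' hbo hz'
        have h1 : (⟨x, hx⟩ : X) ∈ ((K ⊔ Dx : Subgroup X) : Set X) := htop ▸ Subgroup.mem_top _
        rw [Subgroup.normal_mul] at h1
        obtain ⟨n, hn, d, hd, hnd⟩ := h1
        refine ⟨n, Subgroup.mem_subgroupOf.1 hn, ?_⟩
        rw [← e, show x = ((n * d : X) : G) from (congrArg Subtype.val hnd).symm, Subgroup.coe_mul, mul_smul,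
          show (d : G) • b = b from hd]
      obtain ⟨x₁, hx₁, rfl⟩ := hmove b' hb'
      obtain ⟨x₂, hx₂, rfl⟩ := hmove z hz
      exact ⟨x₂ * x₁⁻¹, mul_mem hx₂ (inv_mem hx₁), by rw [mul_smul, inv_smul_smul]⟩
  have hgX' : g ∈ X' := (hmin X' hcand hX'le).symm ▸ hg.1
  refine hVne ?_
  have := (hmemX' g hg.1).1 hgX' 1 H.one_mem (by rw [one_mul, inv_one, mul_one]; exact hg.1)
  convert this using 3
  rw [one_mul, inv_one, mul_one]

/-- **Dichotomy.** A rank one set-up or the residual situation below a given candidate. -/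
theorem rankOne_or_stuck_le {C : Subgroup G} (hC : Cand H C) (hK : KernelShape.{u, u}) (hIH : RankOneBelow G) (h2 : TwoInvolutions G) :
    (∃ (t : G) (Q : Subgroup G), IsRankOneSetup G (G ⧸ H) o t Q) ∨
      ∃ (X : Subgroup G) (b : G ⧸ H), Stuck H X b ∧ X ≤ C := by
  obtain ⟨t, ht, htH⟩ := exists_not_mem hh.se
  have hb : t • o ≠ o := fun e => htH (smul_one_eq.1 e)
  obtain ⟨X, ⟨hX, hXC⟩, hmin⟩ := Set.Finite.exists_minimal
    (Set.toFinite {X : Subgroup G | Cand H X ∧ X ≤ C}) ⟨C, hC, le_rfl⟩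
  have hmin' : ∀ X' : Subgroup G, Cand H X' → X' ≤ X → X' = X := fun X' h1 h3 =>
    le_antisymm h3 (hmin ⟨h1, h3.trans hXC⟩ h3)
  by_cases hD : X ⊓ MulAction.stabilizer G (t • o) = ⊥
  swap
  · exact Or.inr ⟨X, t • o, ⟨hX, hmin', hb, hD, fun s hs k g hg hgs hgD =>
      hh.lone_of_min hK hIH h2 hX hmin' hb hs hg hgs hgD⟩, hXC⟩
  refine Or.inl ⟨t, X, ?_⟩
  have hst : MulAction.stabilizer G o = H := MulAction.stabilizer_quotient H
  refine ⟨MulAction.is_two_pretransitive_iff.2 fun h1 h3 => hh.two_transitive h2 h1 h3,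
    mul_self ht, ne_one ht, by rwa [hst], by rw [hst]; exact hX.le, by rw [hst]; exact hX.conj,
    hD, ?_, ?_, hh.odd_twoPt (Ne.symm hb)⟩
  · refine le_antisymm (sup_le (by rw [hst]; exact hX.le) inf_le_left) fun g hg => ?_
    have hgb : g • t • o ≠ o := fun e => hb (MulAction.injective g
      (e.trans (MulAction.mem_stabilizer_iff.1 hg).symm))
    obtain ⟨q, hq, e⟩ := hX.trans _ _ hb hgb
    have : g = q * (q⁻¹ * g) := by group
    rw [this]
    refine Subgroup.mul_mem_sup hq (Subgroup.mem_inf.2 ⟨mul_mem (inv_mem ?_) hg, ?_⟩)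
    · rw [hst]; exact hX.le hq
    · rw [MulAction.mem_stabilizer_iff, mul_smul, ← e, inv_smul_smul]
  · obtain ⟨u, huH, hu⟩ := exists_involution_mem hh.se.2.1
    rw [even_iff_two_dvd, ← hu]
    exact Subgroup.orderOf_dvd_natCard _ (hX.two u huH (isTwoEl_of_orderOf hu))

/-- The dichotomy below `H`. -/
theorem rankOne_or_stuck (hK : KernelShape.{u, u}) (hIH : RankOneBelow G) (h2 : TwoInvolutions G) :
    (∃ (t : G) (Q : Subgroup G), IsRankOneSetup G (G ⧸ H) o t Q) ∨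
      ∃ (X : Subgroup G) (b : G ⧸ H), Stuck H X b :=
  (hh.rankOne_or_stuck_le (hh.cand_self h2) hK hIH h2).imp_right fun ⟨X, b, h, _⟩ => ⟨X, b, h⟩

end HalfHyp

/-- In the residual situation some element of prime order is lone. -/
theorem Stuck.exists_lone (hH : IsStronglyEmbedded H) {X : Subgroup G} {b : G ⧸ H}
    (h : Stuck H X b) :
    ∃ (s k : ℕ) (g : G), s.Prime ∧ g ∈ X ⊓ MulAction.stabilizer G b ∧ orderOf g = s ^ (k + 1) ∧
      ¬ s ∣ Nat.card {t : G // orderOf t = 2 ∧ t ∈ H} ∧ Lone H (g ^ s ^ k) := by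
  classical
  set D := X ⊓ MulAction.stabilizer G b with hD
  have hodd : Odd (Nat.card D) := (odd_two_point hH h.ne).of_dvd_nat
    (Subgroup.card_dvd_of_le fun g hg => ⟨hg.2, smul_one_eq.2 (h.cand.le hg.1)⟩)
  haveI : Group.IsSolvable D := OddOrderTheorem.solvable hodd
  haveI : Nontrivial D := (Subgroup.nontrivial_iff_ne_bot D).2 h.fixer
  by_contra hcon
  push Not at hcon
  have hle : D ≤ (⁅D, D⁆ : Subgroup G) := by
    intro g hg
    induction hn : orderOf g using Nat.recOnPosPrimePosCoprime generalizing g with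
    | zero => exact absurd hn (orderOf_pos g).ne'
    | one => rw [orderOf_eq_one_iff.1 hn]; exact one_mem _
    | prime_pow s k hs hk =>
      obtain ⟨i, rfl⟩ : ∃ i, k = i + 1 := ⟨k - 1, by omega⟩
      by_contra hgD
      exact hcon s i g hs hg hn (h.lone s hs i g hg hn hgD).1 (h.lone s hs i g hg hn hgD).2
    | coprime a a' ha ha' hcop iha iha' =>
      obtain ⟨n, m, hnm⟩ := (Nat.isCoprime_iff_coprime.2 hcop : IsCoprime (a : ℤ) a')
      have h1 : orderOf (g ^ a) = a' := by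
        rw [orderOf_pow, hn, Nat.gcd_eq_right (dvd_mul_right a a'), Nat.mul_div_cancel_left _ (by omega)]
      have h2 : orderOf (g ^ a') = a := by
        rw [orderOf_pow, hn, Nat.gcd_eq_right (dvd_mul_left a' a), Nat.mul_div_cancel _ (by omega)]
      have e : g = (g ^ a) ^ n * (g ^ a') ^ m := by
        rw [← zpow_natCast, ← zpow_natCast g a', ← zpow_mul, ← zpow_mul, ← zpow_add,
          mul_comm (a : ℤ), mul_comm (a' : ℤ), hnm, zpow_one]
      rw [e]
      exact mul_mem (zpow_mem (iha' (pow_mem hg a) h1) n) (zpow_mem (iha (pow_mem hg a') h2) m)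
  refine (Group.IsSolvable.commutator_lt_top_of_nontrivial D).ne (eq_top_iff.2 fun x _ => ?_)
  have h1 : (x : G) ∈ (commutator D).map D.subtype := by
    rw [commutator_def, Subgroup.map_commutator, ← MonoidHom.range_eq_map, Subgroup.range_subtype]
    exact hle x.2
  obtain ⟨x', hx', e⟩ := h1
  rwa [← Subtype.ext e]

end Cfsg.Agent.Bender
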