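/-
The stabiliser of a vector in an odd group transitive on the non-trivial vectors of an elementary
abelian 2-group (Bender's theorem, step 2c; owner: helper8).

If an element `g` of prime order fixes only one non-trivial vector `v`, the stabiliser of `v` is
`⟨g⟩`: for an abelian normal `A`, semiregular, the vectors are spanned by the `A`-orbit of `v`, so
they form a field on which the stabiliser acts faithfully with fixed field of order two (Artin).

* `LinearSplit.mem_zpowers_of_fixes`
-/
import Cfsg.Agent.Lib.Bender.HalfOddSplit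
import Mathlib.FieldTheory.Fixed
import Mathlib.RingTheory.IntegralDomain

set_option autoImplicit false
set_option linter.style.haveILetI false
set_option linter.unusedSectionVars false

namespace Cfsg.Agent.Bender

namespace LinearSplit

variable {L Z : Type*} [Group L] [Finite L] [CommGroup Z] [Finite Z] [MulDistribMulAction L Z]
  [FaithfulSMul L Z]
  (hsq : ∀ z : Z, z * z = 1) (htrans : ∀ x y : Z, x ≠ 1 → y ≠ 1 → ∃ h : L, h • x = y)
  (hodd : Odd (Nat.card L))

/-- An element as an endomorphism of the vectors. -/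
def toEnd (l : L) : AddMonoid.End (Additive Z) :=
  MonoidHom.toAdditive (MulDistribMulAction.toMonoidHom Z l)

theorem toEnd_apply (l : L) (z : Z) : toEnd l (Additive.ofMul z) = Additive.ofMul (l • z) := rfl

theorem toEnd_one : toEnd (Z := Z) (1 : L) = 1 :=
  AddMonoidHom.ext fun z => by
    show Additive.ofMul ((1 : L) • Additive.toMul z) = z
    rw [one_smul]; rfl

theorem toEnd_mul (l m : L) : toEnd (Z := Z) (l * m) = toEnd l * toEnd m :=
  AddMonoidHom.ext fun z => by
    show Additive.ofMul ((l * m) • Additive.toMul z) = Additive.ofMul (l • m • Additive.toMul z)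
    rw [mul_smul]

/-- The subgroup spanned by the translates of a vector. -/
def span (A : Subgroup L) (z : Z) : Subgroup Z := Subgroup.closure {w | ∃ c ∈ A, c • z = w}

theorem self_mem_span (A : Subgroup L) (z : Z) : z ∈ span A z :=
  Subgroup.subset_closure ⟨1, one_mem A, one_smul L z⟩

theorem smul_mem_span {A : Subgroup L} {z w : Z} {l : L} (hl : ∀ c ∈ A, l * c * l⁻¹ ∈ A)
    (hw : w ∈ span A z) : l • w ∈ span A (l • z) := by
  induction hw using Subgroup.closure_induction with
  | mem w hw =>
    obtain ⟨c, hc, rfl⟩ := hw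
    exact Subgroup.subset_closure ⟨l * c * l⁻¹, hl c hc, by rw [mul_smul, mul_smul, inv_smul_smul]⟩
  | one => rw [smul_one]; exact one_mem _
  | mul a b _ _ ha hb => rw [smul_mul']; exact mul_mem ha hb
  | inv a _ ha => rw [smul_inv']; exact inv_mem ha

include hsq htrans hodd in
/-- The stabiliser of `v` is generated by `g`. -/
theorem mem_zpowers_of_fixes {g : L} {v : Z} (hv : v ≠ 1) (hg : (orderOf g).Prime) (hgv : g • v = v)
    (honly : ∀ z : Z, z ≠ 1 → g • z = z → z = v) {x : L} (hxv : x • v = v) :
    x ∈ Subgroup.zpowers g := by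
  classical
  haveI : Group.IsSolvable L := S1131.oddSolvable L hodd
  have hg1 : g ≠ 1 := fun e => Nat.not_prime_one (orderOf_one (G := L) ▸ e ▸ hg)
  have htop : (⊤ : Subgroup L) ≠ ⊥ := fun e => hg1 (Subgroup.mem_bot.1 (e ▸ Subgroup.mem_top g))
  obtain ⟨p, hp, A, hAn, hA0, -, hAc, -, hexp, -⟩ :=
    Solvable.exists_minimal_normal_pGroup (N := (⊤ : Subgroup L)) htop
  have hc : ∀ a ∈ A, ∀ b ∈ A, a * b = b * a := fun a ha b hb =>
    congrArg Subtype.val (mul_comm' (⟨a, ha⟩ : A) ⟨b, hb⟩)
  have hsr : ∀ a ∈ A, ∀ z : Z, z ≠ 1 → a • z = z → a = 1 := fun a ha z hz e =>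
    semiregular hsq htrans hodd hAn hc ha hz e
  obtain ⟨a, ha, ha1⟩ := A.bot_or_exists_ne_one.resolve_left hA0
  -- the orbit sums of non-trivial members of `A` vanish
  have horb : ∀ c ∈ A, c ≠ 1 → ∀ y : Z, ∏ j ∈ Finset.range p, c ^ j • y = 1 := by
    intro c hcA hc1 y
    by_contra hne
    refine hc1 (hsr c hcA _ hne ?_)
    rw [Finset.smul_prod']
    simp only [← mul_smul, ← pow_succ']
    have h1 := Finset.prod_range_succ (fun j => c ^ j • y) p
    rw [Finset.prod_range_succ', hexp c hcA, pow_zero] at h1
    exact mul_right_cancel h1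
  -- the translates of `v` span
  set r := orderOf g with hr
  have hspan : ∀ z : Z, z ∈ span A v := by
    intro z
    set gj : ℕ → L := fun j => a ^ j * g * (a ^ j)⁻¹ with hgj
    set P : ℕ → Z := fun j => ∏ i ∈ Finset.range r, gj j ^ i • z with hP
    have hPfix : ∀ j, P j ∈ span A v := by
      intro j
      have h1 : g • ((a ^ j)⁻¹ • P j) = (a ^ j)⁻¹ • P j := by
        have h2 : gj j • P j = P j := by
          have h3 := Finset.prod_range_succ (fun i => gj j ^ i • z) r
          have hord : gj j ^ r = 1 := by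
            rw [hgj, conj_pow, pow_orderOf_eq_one, mul_one, mul_inv_cancel]
          rw [Finset.prod_range_succ', hord, pow_zero] at h3
          rw [hP, Finset.smul_prod']
          simp only [← mul_smul, ← pow_succ']
          exact mul_right_cancel h3
        nth_rw 2 [← h2]
        simp only [hgj, ← mul_smul]
        congr 1
        group
      by_cases e : (a ^ j)⁻¹ • P j = 1
      · rw [show P j = a ^ j • (1 : Z) from inv_smul_eq_iff.1 e, smul_one]
        exact one_mem _
      · exact Subgroup.subset_closure ⟨a ^ j, pow_mem ha j,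
          (inv_smul_eq_iff.1 (honly _ e h1)).symm⟩
    have hprod : ∏ j ∈ Finset.range p, P j = z := by
      rw [hP, Finset.prod_comm, Finset.prod_eq_single 0]
      · simp only [pow_zero, one_smul, Finset.prod_const, Finset.card_range]
        have hp2 : Odd p := by
          haveI := Fact.mk hp
          exact orderOf_eq_prime (hexp a ha) ha1 ▸ hodd.of_dvd_nat (orderOf_dvd_natCard a)
        obtain ⟨k, hk⟩ := hp2
        rw [hk, pow_succ, pow_mul, pow_two, hsq, one_pow, one_mul]
      · intro i hi hi0
        set b := g ^ i * a * (g ^ i)⁻¹ with hb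
        have hbA : b ∈ A := hAn.conj_mem a ha _
        have hne : a * b⁻¹ ≠ 1 := by
          intro e
          rw [mul_inv_eq_one] at e
          have hcomm : Commute (g ^ i) a := mul_inv_eq_iff_eq_mul.1 e.symm
          have hcop : Nat.Coprime i r := ((hg.coprime_iff_not_dvd).2 fun hd =>
            hi0 (Nat.eq_zero_of_dvd_of_lt hd (Finset.mem_range.1 hi))).symm
          obtain ⟨m, hm⟩ : ∃ m : ℤ, (g ^ i) ^ m = g := ⟨Nat.gcdA i r, by
            have h1 : g ^ ((Nat.gcd i r : ℕ) : ℤ) = (g ^ i) ^ Nat.gcdA i r := by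
              rw [Nat.gcd_eq_gcd_ab, zpow_add, zpow_mul, zpow_mul, zpow_natCast, zpow_natCast, hr,
                pow_orderOf_eq_one, one_zpow, mul_one]
            rw [← h1, hcop.gcd_eq_one, Nat.cast_one, zpow_one]⟩
          have hga : Commute g a := hm ▸ hcomm.zpow_left m
          have h1 : g • (a • v) = a • v := by rw [← mul_smul, hga.eq, mul_smul, hgv]
          have hav : a • v ≠ 1 := fun h => hv ((smul_eq_iff_eq_inv_smul a).1 h |>.trans (smul_one _))
          exact ha1 (hsr a ha v hv (honly _ hav h1))
        have e : ∀ j, gj j ^ i • z = (a * b⁻¹) ^ j • (g ^ i • z) := fun j => by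
          rw [(show Commute a b⁻¹ from (show Commute a b from hc a ha b hbA).inv_right).mul_pow,
            inv_pow, hb]
          simp only [hgj, conj_pow, ← mul_smul]
          congr 1
          group
        simp only [e]
        exact horb _ (mul_mem ha (inv_mem hbA)) hne _
      · intro h
        exact absurd (Finset.mem_range.2 hg.pos) h
    rw [← hprod]
    exact Subgroup.prod_mem _ fun j _ => hPfix j
  have hspan' : ∀ w : Z, w ≠ 1 → ∀ z : Z, z ∈ span A w := by
    intro w hw z
    obtain ⟨l, rfl⟩ := htrans v w hv hw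
    have h1 := smul_mem_span (l := l) (fun c hc' => hAn.conj_mem c hc' l) (hspan (l⁻¹ • z))
    rwa [smul_inv_smul] at h1
  -- the field
  set S : Subring (AddMonoid.End (Additive Z)) := Subring.closure (toEnd '' (A : Set L)) with hS
  letI : CommRing S := Subring.closureCommRingOfComm (by
    rintro _ ⟨c, hc', rfl⟩ _ ⟨d, hd, rfl⟩
    rw [← toEnd_mul, ← toEnd_mul, hc c hc' d hd])
  have hmemA : ∀ c ∈ A, toEnd c ∈ S := fun c hc' => Subring.subset_closure ⟨c, hc', rfl⟩
  let ev : S → Z := fun f => Additive.toMul (f.1 (Additive.ofMul v))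
  have hev0 : ∀ f : S, ev f = 1 → f = 0 := by
    intro f hf
    refine Subtype.ext (AddMonoidHom.ext fun z => ?_)
    have hmem : ∀ w : Z, w ∈ span A v → f.1 (Additive.ofMul w) = 0 := by
      intro w hw
      induction hw using Subgroup.closure_induction with
      | mem w hw =>
        obtain ⟨c, hc', rfl⟩ := hw
        have h1 : f.1 * toEnd c = toEnd c * f.1 :=
          congrArg Subtype.val (mul_comm f (⟨_, hmemA c hc'⟩ : S))
        have h2 := DFunLike.congr_fun h1 (Additive.ofMul v)
        have h3 : f.1 (Additive.ofMul v) = 0 := congrArg Additive.ofMul hf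
        rw [AddMonoid.End.coe_mul, Function.comp_apply, AddMonoid.End.coe_mul, Function.comp_apply,
          toEnd_apply, h3, map_zero] at h2
        exact h2
      | one => exact map_zero _
      | mul x y _ _ hx hy => rw [ofMul_mul, map_add, hx, hy, add_zero]
      | inv x _ hx => rw [ofMul_inv, map_neg, hx, neg_zero]
    exact hmem _ (hspan _)
  have hev : Function.Bijective ev := by
    refine ⟨fun f f' e => sub_eq_zero.1 (hev0 (f - f') ?_), fun z => ?_⟩
    · show Additive.toMul ((f - f' : S).1 (Additive.ofMul v)) = 1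
      show Additive.toMul (f.1 (Additive.ofMul v) - f'.1 (Additive.ofMul v)) = 1
      rw [toMul_sub]
      exact div_eq_one.2 e
    · have hz := hspan z
      induction hz using Subgroup.closure_induction with
      | mem w hw =>
        obtain ⟨c, hc', rfl⟩ := hw
        exact ⟨⟨_, hmemA c hc'⟩, rfl⟩
      | one => exact ⟨0, rfl⟩
      | mul x y _ _ hx hy =>
        obtain ⟨f, rfl⟩ := hx
        obtain ⟨f', rfl⟩ := hy
        exact ⟨f + f', rfl⟩
      | inv x _ hx =>
        obtain ⟨f, rfl⟩ := hx
        exact ⟨-f, rfl⟩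
  haveI : Finite S := Finite.of_injective ev hev.1
  haveI : Nontrivial S := ⟨⟨1, 0, fun e => hv (congrArg ev e)⟩⟩
  haveI : NoZeroDivisors S := by
    refine ⟨fun {f f'} e => ?_⟩
    by_contra hne
    push Not at hne
    have hw : ev f ≠ 1 := fun h => hne.1 (hev0 f h)
    have hmem : ∀ w : Z, w ∈ span A (ev f) → f'.1 (Additive.ofMul w) = 0 := by
      intro w hw'
      induction hw' using Subgroup.closure_induction with
      | mem w hw' =>
        obtain ⟨c, hc', rfl⟩ := hw'
        have h1 : f'.1 * (toEnd c * f.1) = 0 := by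
          have := congrArg Subtype.val (show f' * ((⟨_, hmemA c hc'⟩ : S) * f) = 0 by
            rw [mul_left_comm, mul_comm f', e, mul_zero])
          exact this
        exact DFunLike.congr_fun h1 (Additive.ofMul v)
      | one => exact map_zero _
      | mul x y _ _ hx hy => rw [ofMul_mul, map_add, hx, hy, add_zero]
      | inv x _ hx => rw [ofMul_inv, map_neg, hx, neg_zero]
    exact hne.2 (hev0 f' (congrArg Additive.toMul (hmem v (hspan' _ hw v))))
  haveI : IsDomain S := NoZeroDivisors.to_isDomain S
  haveI := Fintype.ofFinite S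
  letI : Field S := Fintype.fieldOfDomain S
  -- Artin for the groups between `⟨g⟩` and the stabiliser of `v`
  have key : ∀ Γ : Subgroup L, g ∈ Γ → (∀ γ ∈ Γ, γ • v = v) → Nat.card Z = 2 ^ Nat.card Γ := by
    intro Γ hgΓ hΓv
    have hclos : ∀ (γ : L) (f : AddMonoid.End (Additive Z)), f ∈ S →
        toEnd γ * f * toEnd γ⁻¹ ∈ S := by
      intro γ f hf
      induction hf using Subring.closure_induction with
      | mem f hf =>
        obtain ⟨c, hc', rfl⟩ := hf
        rw [← toEnd_mul, ← toEnd_mul]
        exact hmemA _ (hAn.conj_mem c hc' γ)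
      | zero => rw [mul_zero, zero_mul]; exact zero_mem _
      | one => rw [mul_one, ← toEnd_mul, mul_inv_cancel, toEnd_one]; exact one_mem _
      | add f f' _ _ hf hf' => rw [mul_add, add_mul]; exact add_mem hf hf'
      | neg f _ hf =>
        have e : toEnd γ * -f * toEnd γ⁻¹ = -(toEnd γ * f * toEnd γ⁻¹) :=
          AddMonoidHom.ext fun z => map_neg (toEnd (Z := Z) γ) _
        rw [e]; exact neg_mem hf
      | mul f f' _ _ hf hf' =>
        have e : toEnd γ * (f * f') * toEnd γ⁻¹ =
            (toEnd γ * f * toEnd γ⁻¹) * (toEnd γ * f' * toEnd γ⁻¹) := by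
          simp only [mul_assoc]
          rw [← mul_assoc (toEnd γ⁻¹) (toEnd γ), ← toEnd_mul, inv_mul_cancel, toEnd_one, one_mul]
        rw [e]; exact mul_mem hf hf'
    have hone : ∀ γ : L, toEnd (Z := Z) γ⁻¹ * toEnd γ = 1 := fun γ => by
      rw [← toEnd_mul, inv_mul_cancel, toEnd_one]
    letI : MulSemiringAction Γ S :=
      { smul := fun γ f => ⟨toEnd (γ : L) * f.1 * toEnd (γ : L)⁻¹, hclos _ _ f.2⟩
        one_smul := fun f => Subtype.ext (by
          show toEnd ((1 : Γ) : L) * f.1 * toEnd ((1 : Γ) : L)⁻¹ = f.1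
          rw [Subgroup.coe_one, inv_one, toEnd_one, one_mul, mul_one])
        mul_smul := fun γ δ f => Subtype.ext (by
          show toEnd ((γ * δ : Γ) : L) * f.1 * toEnd ((γ * δ : Γ) : L)⁻¹ =
            toEnd (γ : L) * (toEnd (δ : L) * f.1 * toEnd (δ : L)⁻¹) * toEnd (γ : L)⁻¹
          rw [Subgroup.coe_mul, mul_inv_rev, toEnd_mul, toEnd_mul]
          simp only [mul_assoc])
        smul_zero := fun γ => Subtype.ext (by
          show toEnd (γ : L) * 0 * toEnd (γ : L)⁻¹ = 0
          rw [mul_zero, zero_mul])
        smul_add := fun γ f f' => Subtype.ext (by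
          show toEnd (γ : L) * (f.1 + f'.1) * toEnd (γ : L)⁻¹ =
            toEnd (γ : L) * f.1 * toEnd (γ : L)⁻¹ + toEnd (γ : L) * f'.1 * toEnd (γ : L)⁻¹
          rw [mul_add, add_mul])
        smul_one := fun γ => Subtype.ext (by
          show toEnd (γ : L) * 1 * toEnd (γ : L)⁻¹ = 1
          rw [mul_one, ← toEnd_mul, mul_inv_cancel, toEnd_one])
        smul_mul := fun γ f f' => Subtype.ext (by
          show toEnd (γ : L) * (f.1 * f'.1) * toEnd (γ : L)⁻¹ =
            (toEnd (γ : L) * f.1 * toEnd (γ : L)⁻¹) * (toEnd (γ : L) * f'.1 * toEnd (γ : L)⁻¹)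
          simp only [mul_assoc]
          rw [← mul_assoc (toEnd (γ : L)⁻¹) (toEnd (γ : L)), hone, one_mul]) }
    have hevsmul : ∀ (γ : Γ) (f : S), ev (γ • f) = (γ : L) • ev f := by
      intro γ f
      show Additive.toMul ((toEnd (γ : L) * f.1 * toEnd (γ : L)⁻¹ : AddMonoid.End (Additive Z))
        (Additive.ofMul v)) = _
      rw [AddMonoid.End.coe_mul, Function.comp_apply, toEnd_apply,
        inv_smul_eq_iff.2 (hΓv γ γ.2).symm, AddMonoid.End.coe_mul, Function.comp_apply]
      rfl
    haveI : FaithfulSMul Γ S := by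
      refine ⟨fun {γ δ} h => Subtype.ext (eq_of_smul_eq_smul fun z : Z => ?_)⟩
      obtain ⟨f, rfl⟩ := hev.2 z
      rw [← hevsmul, ← hevsmul, h f]
    haveI := Fintype.ofFinite Γ
    have hfix : Nat.card (FixedPoints.subfield Γ S) = 2 := by
      rw [Nat.card_eq_two_iff]
      refine ⟨0, 1, zero_ne_one, ?_⟩
      ext f
      simp only [Set.mem_insert_iff, Set.mem_singleton_iff, Set.mem_univ, iff_true]
      by_cases h1 : ev (f : S) = 1
      · exact Or.inl (Subtype.ext (hev0 _ h1))
      · refine Or.inr (Subtype.ext (hev.1 ?_))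
        have h2 := honly _ h1 (by
          have := hevsmul ⟨g, hgΓ⟩ f
          rw [f.2 ⟨g, hgΓ⟩] at this
          exact this.symm)
        rw [h2]
        rfl
    rw [← Nat.card_congr (Equiv.ofBijective ev hev), Module.natCard_eq_pow_finrank
      (K := FixedPoints.subfield Γ S) (V := S), hfix, FixedPoints.finrank_eq_card,
      Nat.card_eq_fintype_card]
  have h1 := key (MulAction.stabilizer L v) hgv fun γ hγ => hγ
  have h2 := key (Subgroup.zpowers g) (Subgroup.mem_zpowers g) fun γ hγ =>
    Subgroup.zpowers_le.2 (MulAction.mem_stabilizer_iff.2 hgv) hγ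
  have hle : Subgroup.zpowers g ≤ MulAction.stabilizer L v := Subgroup.zpowers_le.2 hgv
  rw [Subgroup.eq_of_le_of_card_ge hle ((Nat.pow_right_injective le_rfl (h1.symm.trans h2)).le)]
  exact hxv

end LinearSplit

end Cfsg.Agent.Bender
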