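/-
Bender's theorem, second half, step 2a/2b (owner: helper43): in a core-free strongly embedded
subgroup whose involutions commute modulo its odd core, they centralise that core.

Main results (namespace `Cfsg.Agent.Bender`):
* `commute_oddCore` : an involution of `H` centralises `O(H)`
* `commute_involutions` : so the involutions of `H` commute
* `eq_one_of_inverted_mem` : none of them inverts a non-trivial element of odd order of `H`
* `centralizes_of_normalizes_mem` : so it centralises every odd subgroup of `H` it normalises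
-/
import Cfsg.Agent.Lib.Bender.CoreTwo
import Cfsg.Agent.Lib.Bender.Step
import Cfsg.Agent.Lib.Solvable.Fitting
import Cfsg.Agent.Lib.Coprime.Factorization
import Cfsg.Agent.S1131

set_option autoImplicit false
set_option linter.style.haveILetI false
set_option linter.unusedSectionVars false

namespace Cfsg.Agent.Bender

open Cfsg Involution Aschbacher
open scoped Pointwise

universe u

variable {G : Type u} [Group G] [Finite G] {H : Subgroup G}
  (hH : IsStronglyEmbedded H) (hcore : H.normalCore = ⊥)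
  (h2 : ∃ x y : G, x ≠ 1 ∧ y ≠ 1 ∧ x ≠ y ∧ x * x = 1 ∧ y * y = 1 ∧ x * y = y * x)
  (hS : CoreTwo H)

include hH h2 hS in
/-- `H` is transitive on the cosets other than itself. -/
theorem exists_smul_other {z z' : G ⧸ H} (hz : ((1 : G) : G ⧸ H) ≠ z) (hz' : ((1 : G) : G ⧸ H) ≠ z') :
    ∃ h ∈ H, h • z = z' := by
  induction z using QuotientGroup.induction_on with | _ g₁ =>
  induction z' using QuotientGroup.induction_on with | _ g₂ =>
  have hm : ∀ g : G, g ∈ H → ((1 : G) : G ⧸ H) = (g : G ⧸ H) := fun g hg =>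
    QuotientGroup.eq.2 (by rwa [inv_one, one_mul])
  obtain ⟨h, hh, e⟩ := transitive_of_coreTwo hH h2 hS g₁ g₂ (fun e => hz (hm _ e)) fun e => hz' (hm _ e)
  exact ⟨h, hh, by rw [MulAction.Quotient.smul_mk, smul_eq_mul]; exact (QuotientGroup.eq.2 e).symm⟩

include hH h2 hS in
theorem card_twoPt_eq {z x y : G ⧸ H} (hz : ((1 : G) : G ⧸ H) ≠ z) (hxy : x ≠ y) :
    Nat.card (twoPt G x y) = Nat.card (twoPt G ((1 : G) : G ⧸ H) z) := by
  induction x using QuotientGroup.induction_on with | _ g =>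
  have hg : g⁻¹ • (g : G ⧸ H) = ((1 : G) : G ⧸ H) := by
    rw [MulAction.Quotient.smul_mk, smul_eq_mul, inv_mul_cancel]
  obtain ⟨h, hh, e⟩ := exists_smul_other hH h2 hS (z := g⁻¹ • y) (z' := z)
    (fun e => hxy (MulAction.injective g⁻¹ (hg.trans e))) hz
  refine Nat.card_congr (Equiv.subtypeEquiv (MulAut.conj (h * g⁻¹)).toEquiv fun k => ?_)
  show k ∈ twoPt G _ _ ↔ h * g⁻¹ * k * (h * g⁻¹)⁻¹ ∈ twoPt G _ _
  have ho : h⁻¹ • ((1 : G) : G ⧸ H) = ((1 : G) : G ⧸ H) := smul_one_eq.2 (inv_mem hh)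
  have ez : h⁻¹ • z = g⁻¹ • y := by rw [← e, inv_smul_smul]
  simp only [Subgroup.mem_inf, MulAction.mem_stabilizer_iff, mul_inv_rev, inv_inv, mul_smul, ho, ez,
    smul_inv_smul]
  rw [show g • ((1 : G) : G ⧸ H) = (g : G ⧸ H) by rw [MulAction.Quotient.smul_mk, smul_eq_mul, mul_one]]
  constructor
  · rintro ⟨h1, h3⟩
    exact ⟨by rw [h1, hg, smul_one_eq.2 hh], by rw [h3, e]⟩
  · rintro ⟨h1, h3⟩
    constructor
    · have := MulAction.injective h (h1.trans (smul_one_eq.2 hh).symm)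
      exact MulAction.injective g⁻¹ (this.trans hg.symm)
    · exact MulAction.injective g⁻¹ (MulAction.injective h (h3.trans e.symm))

include hH hcore h2 hS in
/-- A subgroup of `H` normalised by `H` that fixes another coset is trivial. -/
theorem eq_bot_of_fixes {A : Subgroup G} (hAH : A ≤ H) (hn : ∀ h ∈ H, ∀ a ∈ A, h * a * h⁻¹ ∈ A)
    {z : G ⧸ H} (hz : ((1 : G) : G ⧸ H) ≠ z) (hfix : A ≤ MulAction.stabilizer G z) : A = ⊥ := by
  refine le_bot_iff.1 (hcore ▸ fun a ha g => ?_)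
  have hfa : a • ((g⁻¹ : G) : G ⧸ H) = ((g⁻¹ : G) : G ⧸ H) := by
    by_cases e : ((1 : G) : G ⧸ H) = ((g⁻¹ : G) : G ⧸ H)
    · rw [← e]; exact smul_one_eq.2 (hAH ha)
    obtain ⟨h, hh, he⟩ := exists_smul_other hH h2 hS hz e
    have h1 := MulAction.mem_stabilizer_iff.1 (hfix (hn h⁻¹ (inv_mem hh) a ha))
    rw [inv_inv, mul_smul, mul_smul, inv_smul_eq_iff, he] at h1
    exact h1
  rw [MulAction.Quotient.smul_mk, smul_eq_mul, QuotientGroup.eq] at hfa
  have := inv_mem hfa
  rwa [mul_inv_rev, inv_inv, inv_inv, ← mul_assoc] at this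

include hS in
/-- The commutator of an involution of `H` with an element of a subgroup of odd order that it
normalises lies in `O(H)`. -/
theorem commutator_mem_core {v r : G} (hv : orderOf v = 2) (hvH : v ∈ H) (hr : r ∈ H)
    (hodd : Odd (orderOf (v * r * v⁻¹ * r⁻¹))) :
    v * r * v⁻¹ * r⁻¹ ∈ (oddCore ↥H).map H.subtype := by
  set φ := QuotientGroup.mk' (oddCore ↥H) with hφ
  set vv : H := ⟨v, hvH⟩
  set rr : H := ⟨r, hr⟩
  set c : H := vv * rr * vv⁻¹ * rr⁻¹ with hc
  refine ⟨c, (QuotientGroup.eq_one_iff c).1 ?_, rfl⟩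
  have hu : orderOf ((rr * vv * rr⁻¹ : H) : G) = 2 := (Involution.orderOf_conj r v).trans hv
  have h1 := hS vv (rr * vv * rr⁻¹) hv hu
  have hvi : vv⁻¹ = vv := Subtype.ext (inv_eq hv)
  have hsq : φ c * φ c = 1 := by
    rw [← map_mul, hφ, QuotientGroup.mk'_apply, QuotientGroup.eq_one_iff]
    convert h1 using 1
    simp only [hc, mul_inv_rev, inv_inv, hvi]
    group
  have h3 : orderOf (φ c) ∣ 2 := orderOf_dvd_of_pow_eq_one (by rw [pow_two, hsq])
  have h4 : orderOf (φ c) ∣ orderOf (v * r * v⁻¹ * r⁻¹) :=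
    (orderOf_map_dvd φ c).trans (Subgroup.orderOf_coe c).symm.dvd
  exact orderOf_eq_one_iff.1 (Nat.eq_one_of_dvd_coprimes (Nat.coprime_two_left.2 hodd) h3 h4)

/-- Conjugates of `v` by `W`. -/
def orbConj (v : G) (W : Subgroup G) : Set G := (fun r => r * v * r⁻¹) '' (W : Set G)

theorem card_orbConj (v : G) (W : Subgroup G) :
    Nat.card W = Nat.card (orbConj v W) * Nat.card ↥(W ⊓ Subgroup.centralizer ({v} : Set G)) := by
  refine card_eq_mul_centralizer W (orbConj v W) ?_ ⟨1, one_mem _, by group⟩ ?_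
  · rintro k hk _ ⟨r, hr, rfl⟩
    exact ⟨k * r, mul_mem hk hr, by group⟩
  · rintro _ ⟨r, hr, rfl⟩
    exact ⟨r, hr, rfl⟩

include hH hcore h2 hS in
/-- An involution of `H` centralises a `p`-subgroup of `O(H)` normalised by `H`. -/
theorem commute_of_normal_pSubgroup {p : ℕ} [Fact p.Prime] {A : Subgroup G} (hA : IsPGroup p A)
    (hAO : A ≤ (oddCore ↥H).map H.subtype) (hn : ∀ h ∈ H, ∀ a ∈ A, h * a * h⁻¹ ∈ A)
    {w : G} (hw : orderOf w = 2) (hwH : w ∈ H) : ∀ a ∈ A, Commute w a := by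
  have PC := pointClass_of_stronglyEmbedded hH
  set K := (oddCore ↥H).map H.subtype with hK
  have hKH : K ≤ H := Subgroup.map_subtype_le _
  have hKodd : Odd (Nat.card K) := by
    haveI : Fact (Nat.Prime 2) := ⟨Nat.prime_two⟩
    rw [hK, Subgroup.card_map_of_injective H.subtype_injective]
    exact Nat.coprime_two_right.1 (Cores.coprime_card_pPrimeCore (G := ↥H) 2)
  by_cases hA1 : A = ⊥
  · intro a ha
    rw [hA1, Subgroup.mem_bot] at ha
    rw [ha]; exact Commute.one_right w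
  have hp2 : p ≠ 2 := by
    rintro rfl
    obtain ⟨k, hk⟩ := hA.exists_card_eq
    have hd := Subgroup.card_dvd_of_le hAO
    rw [hk] at hd
    rcases k with _ | k
    · exact hA1 (Subgroup.card_eq_one.1 hk)
    · exact Nat.two_dvd_ne_zero.2 (Nat.odd_iff.1 hKodd) ((dvd_pow_self 2 k.succ_ne_zero).trans hd)
  set o : G ⧸ H := ((1 : G) : G ⧸ H) with ho
  have hodd : ∀ x y : G ⧸ H, x ≠ y → Odd (Nat.card (twoPt G x y)) := fun x y h => odd_two_point hH h
  obtain ⟨e₀, -, he₀⟩ := exists_not_mem hH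
  have hoz : o ≠ (e₀ : G ⧸ H) := fun e => he₀ (by
    have := QuotientGroup.eq.1 e
    rwa [inv_one, one_mul] at this)
  set z : G ⧸ H := (e₀ : G ⧸ H) with hzdef
  obtain ⟨X, -, hXK, hXp, hXcard⟩ := exists_sylow_twoPt (G := G) (p := p) o z (X := ⊥)
    IsPGroup.of_bot bot_le
  have hmax : ∀ Q : Subgroup G, IsPGroup p Q → ∀ x y : G ⧸ H, x ≠ y →
      Q ≤ MulAction.stabilizer G x → Q ≤ MulAction.stabilizer G y → Nat.card Q ≤ Nat.card X := by
    intro Q hQ x y hxy hx hy
    rw [hXcard, ← card_twoPt_eq hH h2 hS hoz hxy]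
    exact Coprime.card_le_of_isPGroup hQ (le_inf hx hy)
  have hAo : A ≤ MulAction.stabilizer G o := fun a ha => smul_one_eq.2 (hKH (hAO ha))
  by_cases hfree : Free {d : G | orderOf d = 2} (fixPt H) X
  · -- then `A` fixes a second point
    have S := setup_of_free PC hodd hp2 hXp hoz hXK hfree hmax
    obtain ⟨g, hg, hgA⟩ := S.exists_conj_le hA hAo
    refine absurd (eq_bot_of_fixes hH hcore h2 hS (hAO.trans hKH) hn hoz fun a ha => ?_) hA1
    refine (hXK (hgA (Coprime.mem_conj.2 ?_))).2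
    have := hn g⁻¹ (inv_mem (smul_one_eq.1 hg)) a ha
    rwa [inv_inv] at this
  obtain ⟨v, hv, hvX, hvo⟩ := exists_at_normalizing PC hodd hXp hmax hfree hoz
    (hXK.trans inf_le_left) (hXK.trans inf_le_right)
  have hvH : v ∈ H := by
    have h := PC.smul_pt hv
    rw [hvo] at h
    exact smul_one_eq.1 h
  have hv2 : orderOf v = 2 := hv
  have hXH : X ≤ H := fun x hx => smul_one_eq.1 (MulAction.mem_stabilizer_iff.1 (hXK hx).1)
  have hnA : ∀ h ∈ H, h ∈ Subgroup.normalizer (A : Set G) := fun h hh =>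
    Coprime.mem_normalizer_of_forall fun a ha => hn h hh a ha
  set R := A ⊔ X with hR
  have hRH : R ≤ H := sup_le (hAO.trans hKH) hXH
  have hRp : IsPGroup p R := by
    rw [hR, sup_comm]
    exact hXp.to_sup_of_normal_right' hA fun x hx => hnA x (hXH hx)
  have hRodd : Odd (Nat.card R) := by
    obtain ⟨k, hk⟩ := hRp.exists_card_eq
    rw [hk]
    exact (((Fact.out : p.Prime).eq_two_or_odd').resolve_left hp2).pow
  have hvR : ∀ r ∈ R, v * r * v⁻¹ ∈ R := by
    intro r hr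
    have hle : R ≤ R.comap (MulAut.conj v).toMonoidHom :=
      sup_le (fun a ha => Subgroup.mem_sup_left (hn v hvH a ha))
        fun x hx => Subgroup.mem_sup_right ((Subgroup.mem_normalizer_iff.1 hvX x).1 hx)
    exact hle hr
  have hKn : ∀ h ∈ H, ∀ k ∈ K, h * k * h⁻¹ ∈ K := by
    rintro h hh _ ⟨k, hk, rfl⟩
    haveI : (oddCore ↥H).Normal := Cores.pPrimeCore_normal 2 _
    exact ⟨⟨h, hh⟩ * k * ⟨h, hh⟩⁻¹, Subgroup.Normal.conj_mem inferInstance k hk _, rfl⟩
  -- the `R`-orbit of `v` is that of `R ⊓ K`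
  have horb : orbConj v R ⊆ orbConj v (R ⊓ K) := by
    rintro _ ⟨r, hr, rfl⟩
    set c := v * r * v⁻¹ * r⁻¹ with hc
    have hcR : c ∈ R := mul_mem (hvR r hr) (inv_mem hr)
    have hcodd : Odd (orderOf c) := hRodd.of_dvd_nat (Subgroup.orderOf_dvd_natCard _ hcR)
    have hcK : c ∈ K := commutator_mem_core hS hv2 hvH (hRH hr) hcodd
    obtain ⟨l, hl⟩ := hcodd
    refine ⟨c ^ l, ⟨pow_mem hcR l, pow_mem hcK l⟩, ?_⟩
    have hvi : v⁻¹ = v := inv_eq hv2
    have hinv : v * c * v⁻¹ = c⁻¹ := by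
      rw [hc]
      simp only [mul_inv_rev, inv_inv, hvi]
      rw [show v * (v * r * v * r⁻¹) * v = (v * v) * r * v * r⁻¹ * v by group, mul_self hv2, one_mul]
      group
    have hcl : c ^ l * v = v * (c⁻¹) ^ l := by
      have h1 := (SemiconjBy.pow_right (a := v) (x := c⁻¹) (y := c) (by
        show v * c⁻¹ = c * v
        calc v * c⁻¹ = (v * c * v⁻¹)⁻¹ * v := by group
          _ = c * v := by rw [hinv, inv_inv]) l).eq
      exact h1.symm
    show c ^ l * v * (c ^ l)⁻¹ = r * v * r⁻¹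
    have hcc : (c⁻¹) ^ l * (c ^ l)⁻¹ = c := by
      rw [inv_pow, ← mul_inv_rev, ← pow_add, inv_eq_iff_mul_eq_one, ← pow_succ, ← two_mul, ← hl,
        pow_orderOf_eq_one]
    rw [hcl, mul_assoc, hcc, hc, hvi]
    rw [show v * (v * r * v * r⁻¹) = (v * v) * r * v * r⁻¹ by group, mul_self hv2, one_mul]
  -- a `v`-invariant Sylow subgroup of `K` over `R ⊓ K`
  have hvK : v ∈ Subgroup.normalizer (K : Set G) :=
    Coprime.mem_normalizer_of_forall fun k hk => hKn v hvH k hk
  have hvRK : v ∈ Subgroup.normalizer (↑(R ⊓ K) : Set G) :=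
    Coprime.mem_normalizer_of_forall fun k hk => ⟨hvR k hk.1, hKn v hvH k hk.2⟩
  obtain ⟨Q, hRQ, hQK, hvQ, hQp, hQcard⟩ :=
    exists_sylow_invariant hv2 hvK hKodd (inf_le_right : R ⊓ K ≤ K) (hRp.to_le inf_le_left) hvRK
  set C := Subgroup.centralizer ({v} : Set G) with hC
  have hQC : Nat.card ↥(Q ⊓ C) = p ^ (Nat.card ↥(K ⊓ C)).factorization p :=
    Coprime.card_inf_centralizer_eq (A := Subgroup.zpowers v) (Subgroup.zpowers_le.2 hvK)
      (by rw [Nat.card_zpowers, hv2]; exact Nat.coprime_two_left.2 hKodd) hQK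
      (Subgroup.zpowers_le.2 hvQ) hQcard (Subgroup.mem_zpowers v)
  -- counting
  set I : Set G := {t | orderOf t = 2 ∧ t ∈ H} with hI
  have hIne : Nat.card I ≠ 0 :=
    (Nat.card_pos_iff.2 ⟨⟨⟨v, hv2, hvH⟩⟩, inferInstance⟩).ne'
  have hDH : twoPt G o z ≤ H := fun g hg => smul_one_eq.1 (MulAction.mem_stabilizer_iff.1 hg.1)
  have hIclosed : ∀ k ∈ H, ∀ t ∈ I, k * t * k⁻¹ ∈ I := fun k hk t ht =>
    ⟨(Involution.orderOf_conj k t).trans ht.1, mul_mem (mul_mem hk ht.2) (inv_mem hk)⟩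
  have hItrans : ∀ t ∈ I, ∃ k ∈ twoPt G o z, k * v * k⁻¹ = t := fun t ht =>
    exists_conj_two_point hH hoz hv2 (smul_one_eq.2 hvH) ht.1 (smul_one_eq.2 ht.2)
  have nD := card_eq_mul_centralizer (twoPt G o z) I (fun k hk => hIclosed k (hDH hk)) ⟨hv2, hvH⟩ hItrans
  have nH := card_eq_mul_centralizer H I hIclosed ⟨hv2, hvH⟩ fun t ht => by
    obtain ⟨k, hk, e⟩ := hItrans t ht
    exact ⟨k, hDH hk, e⟩
  have hKdvd : Nat.card K ∣ Nat.card I * Nat.card ↥(K ⊓ C) := by
    haveI : (oddCore ↥H).Normal := Cores.pPrimeCore_normal 2 _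
    set N := oddCore ↥H
    set C' := C.subgroupOf H
    have h1 : C'.relIndex N * Nat.card ↥(C' ⊓ N) = Nat.card N := by
      have := Subgroup.card_mul_index (C'.subgroupOf N)
      rw [← Subgroup.relIndex, mul_comm, Nat.card_congr (β := ↥(C' ⊓ N))
        { toFun := fun x => ⟨x.1.1, x.2, x.1.2⟩
          invFun := fun x => ⟨⟨x.1, x.2.2⟩, x.2.1⟩
          left_inv := fun x => rfl
          right_inv := fun x => rfl }] at this
      exact this
    have h3 : C'.relIndex N = C'.relIndex (C' ⊔ N) := by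
      have e1 := Subgroup.relIndex_mul_relIndex (C' ⊓ N) N (C' ⊔ N) inf_le_right le_sup_right
      have e2 := Subgroup.relIndex_mul_relIndex (C' ⊓ N) C' (C' ⊔ N) inf_le_left le_sup_left
      rw [Subgroup.inf_relIndex_right, Subgroup.relIndex_sup_right] at e1
      rw [Subgroup.inf_relIndex_left, mul_comm] at e2
      exact mul_right_cancel₀ Nat.card_pos.ne' (e1.trans e2.symm)
    have h4 : C'.relIndex N ∣ C'.index := by
      rw [h3]
      exact Subgroup.relIndex_dvd_index_of_le le_sup_left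
    have h5 : C'.index = Nat.card I := by
      have := Subgroup.card_mul_index C'
      rw [show Nat.card C' = Nat.card ↥(H ⊓ C) from Nat.card_congr
        { toFun := fun x => ⟨x.1.1, x.1.2, x.2⟩
          invFun := fun x => ⟨⟨x.1, x.2.1⟩, x.2.2⟩
          left_inv := fun x => rfl
          right_inv := fun x => rfl }, nH, mul_comm] at this
      exact mul_right_cancel₀ Nat.card_pos.ne' this
    have hcN : Nat.card K = Nat.card N := Subgroup.card_map_of_injective H.subtype_injective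
    have hcC : Nat.card ↥(C' ⊓ N) = Nat.card ↥(K ⊓ C) := Nat.card_congr
      { toFun := fun x => ⟨x.1.1, ⟨x.1, x.2.2, rfl⟩, x.2.1⟩
        invFun := fun x => ⟨⟨x.1, hKH x.2.1⟩, x.2.2, by
          obtain ⟨k, hk, e⟩ := x.2.1
          rwa [show (⟨x.1, hKH x.2.1⟩ : H) = k from Subtype.ext e.symm]⟩
        left_inv := fun x => rfl
        right_inv := fun x => rfl }
    rw [hcN, ← h1, hcC]
    exact mul_dvd_mul_right (h5 ▸ h4) _
  -- the three orbit lengths
  have hpow : ∀ n, 0 < pPart p n := fun n => pow_pos (Fact.out : p.Prime).pos _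
  have hXle : pPart p (Nat.card I) ≤ Nat.card (orbConj v X) := by
    have h1 := card_orbConj v X
    have h2' : Nat.card ↥(X ⊓ C) ≤ pPart p (Nat.card ↥(twoPt G o z ⊓ C)) :=
      Coprime.card_le_of_isPGroup (hXp.to_le inf_le_left) (inf_le_inf_right _ hXK)
    rw [hXcard, nD, pPart_mul hIne Nat.card_pos.ne'] at h1
    have h3 := Nat.mul_le_mul_left (Nat.card (orbConj v X)) h2'
    rw [← h1] at h3
    exact Nat.le_of_mul_le_mul_right h3 (hpow _)
  have hQle : Nat.card (orbConj v Q) ≤ pPart p (Nat.card I) := by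
    have h1 := card_orbConj v Q
    rw [hQcard, hQC] at h1
    have h3 : pPart p (Nat.card K) ≤ pPart p (Nat.card I * Nat.card ↥(K ⊓ C)) :=
      Nat.pow_le_pow_right (Fact.out : p.Prime).pos
        (((Fact.out : p.Prime).pow_dvd_iff_le_factorization (mul_ne_zero hIne Nat.card_pos.ne')).1
          ((Nat.ordProj_dvd _ p).trans hKdvd))
    rw [pPart_mul hIne Nat.card_pos.ne'] at h3
    exact Nat.le_of_mul_le_mul_right (h1.symm.trans_le h3) (hpow _)
  have heq : orbConj v X = orbConj v R := by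
    refine Set.eq_of_subset_of_ncard_le (Set.image_mono (le_sup_right : X ≤ R)) ?_
    rw [← Nat.card_coe_set_eq, ← Nat.card_coe_set_eq]
    refine le_trans (le_trans ?_ hQle) hXle
    rw [Nat.card_coe_set_eq, Nat.card_coe_set_eq]
    exact Set.ncard_le_ncard (horb.trans (Set.image_mono (show R ⊓ K ≤ Q from hRQ))) (Set.toFinite _)
  have hcomm : ∀ a ∈ A, v * a * v⁻¹ * a⁻¹ ∈ X := by
    intro a ha
    obtain ⟨x, hx, e⟩ : a * v * a⁻¹ ∈ orbConj v X := heq ▸ ⟨a, Subgroup.mem_sup_left ha, rfl⟩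
    have e' : x * v * x⁻¹ = a * v * a⁻¹ := e
    have hvi : v⁻¹ = v := inv_eq hv2
    rw [show v * a * v⁻¹ * a⁻¹ = v * (a * v⁻¹ * a⁻¹) by group, hvi, ← e',
      show v * (x * v * x⁻¹) = (v * x * v) * x⁻¹ by group]
    exact X.mul_mem (by have := (Subgroup.mem_normalizer_iff.1 hvX x).1 hx; rwa [hvi] at this) (inv_mem hx)
  -- so `[A, I(H)]` fixes `z`
  set L := Subgroup.closure {g : G | ∃ t ∈ I, ∃ a ∈ A, g = t * a * t⁻¹ * a⁻¹} with hL
  have hLle : L ≤ twoPt G o z := by
    refine (Subgroup.closure_le _).2 ?_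
    rintro _ ⟨t, ht, a, ha, rfl⟩
    obtain ⟨d, hd, rfl⟩ := hItrans t ht
    have h1 : d⁻¹ * a * d ∈ A := by simpa using hn d⁻¹ (inv_mem (hDH hd)) a ha
    rw [SetLike.mem_coe, show d * v * d⁻¹ * a * (d * v * d⁻¹)⁻¹ * a⁻¹ =
      d * (v * (d⁻¹ * a * d) * v⁻¹ * (d⁻¹ * a * d)⁻¹) * d⁻¹ by group]
    exact mul_mem (mul_mem hd (hXK (hcomm _ h1))) (inv_mem hd)
  have hLbot : L = ⊥ := by
    refine eq_bot_of_fixes hH hcore h2 hS (hLle.trans hDH) (fun h hh a ha => ?_) hoz (hLle.trans inf_le_right)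
    have hle : L ≤ L.comap (MulAut.conj h).toMonoidHom := by
      refine (Subgroup.closure_le _).2 ?_
      rintro _ ⟨t, ht, b, hb, rfl⟩
      refine Subgroup.subset_closure ⟨h * t * h⁻¹, hIclosed h hh t ht, h * b * h⁻¹, hn h hh b hb, ?_⟩
      show h * (t * b * t⁻¹ * b⁻¹) * h⁻¹ = _
      group
    exact hle ha
  intro a ha
  have h1 : w * a * w⁻¹ * a⁻¹ ∈ L := Subgroup.subset_closure ⟨w, ⟨hw, hwH⟩, a, ha, rfl⟩
  rw [hLbot, Subgroup.mem_bot] at h1
  show w * a = a * w
  calc w * a = w * a * w⁻¹ * a⁻¹ * (a * w) := by group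
    _ = a * w := by rw [h1, one_mul]

include hH hcore h2 hS in
/-- **2a.** An involution of `H` centralises `O(H)`. -/
theorem commute_oddCore {v : G} (hv : orderOf v = 2) (hvH : v ∈ H) {k : H} (hk : k ∈ oddCore ↥H) :
    Commute v (k : G) := by
  haveI : Fact (Nat.Prime 2) := ⟨Nat.prime_two⟩
  haveI : (oddCore ↥H).Normal := Cores.pPrimeCore_normal 2 _
  set N := oddCore ↥H with hN
  have hNodd : Odd (Nat.card N) := Nat.coprime_two_right.1 (Cores.coprime_card_pPrimeCore (G := ↥H) 2)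
  haveI : Group.IsSolvable N := S1131.oddSolvable N hNodd
  set vv : H := ⟨v, hvH⟩
  have hF : ∀ f ∈ fittingSubgroup N, Commute v ((f : H) : G) := by
    have hle : fittingSubgroup N ≤
        (Subgroup.centralizer ({v} : Set G)).comap (H.subtype.comp N.subtype) := by
      rw [Cores.fittingSubgroup_eq_iSup_pCore]
      refine iSup_le fun p => ?_
      haveI : Fact (p : ℕ).Prime := ⟨p.2⟩
      intro f hf
      set A := ((pCore (p : ℕ) N).map N.subtype).map H.subtype with hA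
      have hn : ∀ h ∈ H, ∀ a ∈ A, h * a * h⁻¹ ∈ A := by
        rintro h hh _ ⟨a, ha, rfl⟩
        exact ⟨⟨h, hh⟩ * a * ⟨h, hh⟩⁻¹, Subgroup.Normal.conj_mem inferInstance a ha _, rfl⟩
      exact mem_centralizer.2 (commute_of_normal_pSubgroup hH hcore h2 hS (p := p) (A := A)
        (((Cores.isPGroup_pCore (p : ℕ) N).map _).map _)
        (Subgroup.map_mono (Subgroup.map_subtype_le _)) hn hv hvH _ ⟨_, ⟨f, hf, rfl⟩, rfl⟩).symm
    exact fun f hf => (mem_centralizer.1 (hle hf)).symm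
  obtain ⟨kk, rfl⟩ : ∃ kk : N, (kk : H) = k := ⟨⟨k, hk⟩, rfl⟩
  have hvi : vv⁻¹ = vv := Subtype.ext (inv_eq hv)
  have hvv : vv * vv = 1 := Subtype.ext (mul_self hv)
  set c : H := vv * kk * vv⁻¹ * (kk : H)⁻¹ with hc
  have hcN : c ∈ N := mul_mem (Subgroup.Normal.conj_mem inferInstance _ kk.2 vv) (inv_mem kk.2)
  have hcC : (⟨c, hcN⟩ : N) ∈ Subgroup.centralizer (fittingSubgroup N : Set N) := by
    refine Subgroup.mem_centralizer_iff.2 fun f hf => Subtype.ext ?_
    show (f : H) * c = c * f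
    have h1 : Commute vv (f : H) := Subtype.ext (hF f hf)
    haveI : (fittingSubgroup N).Normal := Cores.fittingSubgroup_normal _
    have h2' : Commute vv ((kk : H)⁻¹ * f * kk) := by
      have h3 : kk⁻¹ * f * kk⁻¹⁻¹ ∈ fittingSubgroup N := Subgroup.Normal.conj_mem inferInstance f hf _
      rw [inv_inv] at h3
      exact Subtype.ext (hF _ h3)
    have e1 : (f : H) * (kk * vv * (kk : H)⁻¹) = (kk * vv * (kk : H)⁻¹) * f := by
      calc (f : H) * (kk * vv * (kk : H)⁻¹) = kk * (((kk : H)⁻¹ * f * kk) * vv) * (kk : H)⁻¹ := by group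
        _ = kk * (vv * ((kk : H)⁻¹ * f * kk)) * (kk : H)⁻¹ := by rw [h2'.eq]
        _ = _ := by group
    rw [hc, hvi, show vv * kk * vv * (kk : H)⁻¹ = vv * (kk * vv * (kk : H)⁻¹) by group, ← mul_assoc,
      ← h1.eq, mul_assoc, e1, ← mul_assoc]
  have hcF := Solvable.centralizer_fitting_le N hcC
  have h1 : Commute vv c := Subtype.ext (hF _ hcF)
  have hinv : vv * c * vv = c⁻¹ := by
    rw [hc]
    simp only [mul_inv_rev, inv_inv, hvi]
    rw [show vv * (vv * kk * vv * (kk : H)⁻¹) * vv = (vv * vv) * kk * vv * (kk : H)⁻¹ * vv by group, hvv,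
      one_mul]
    group
  have hsq : c * c = 1 := by
    rw [h1.eq, mul_assoc, hvv, mul_one] at hinv
    nth_rw 2 [hinv]
    exact mul_inv_cancel c
  have hc1 : c = 1 := by
    by_contra hne
    have h2o : orderOf c = 2 := orderOf_eq_prime (by rw [pow_two, hsq]) hne
    exact Nat.two_dvd_ne_zero.2 (Nat.odd_iff.1 hNodd) (h2o ▸ Subgroup.orderOf_dvd_natCard N hcN)
  rw [hc, mul_inv_eq_one, mul_inv_eq_iff_eq_mul] at hc1
  exact congrArg Subtype.val hc1

include hH hcore h2 hS in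
/-- **2a.** The involutions of `H` commute. -/
theorem commute_involutions {s t : G} (hs : orderOf s = 2) (hsH : s ∈ H) (ht : orderOf t = 2)
    (htH : t ∈ H) : Commute s t := by
  haveI : Fact (Nat.Prime 2) := ⟨Nat.prime_two⟩
  have hmem := hS ⟨s, hsH⟩ ⟨t, htH⟩ hs ht
  have hc : Commute s (s * t * s⁻¹ * t⁻¹) := commute_oddCore hH hcore h2 hS hs hsH hmem
  have hord : orderOf (s * t * s⁻¹ * t⁻¹) ∣ Nat.card (oddCore ↥H) := by
    have := Subgroup.orderOf_dvd_natCard _ hmem
    rwa [← Subgroup.orderOf_coe] at this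
  set c := s * t * s⁻¹ * t⁻¹ with hcdef
  have h1 : c * c = 1 := by
    have e : s * c * s = c⁻¹ := by
      rw [hcdef, inv_eq hs, inv_eq ht]
      simp only [mul_inv_rev, inv_eq hs, inv_eq ht]
      rw [show s * (s * t * s * t) * s = (s * s) * t * s * t * s by group, mul_self hs, one_mul]
      group
    rw [hc.eq, mul_assoc, mul_self hs, mul_one] at e
    nth_rw 2 [e]
    exact mul_inv_cancel c
  have hc1 : c = 1 := by
    by_contra hne
    exact Nat.two_dvd_ne_zero.2 (Nat.odd_iff.1 (Nat.coprime_two_right.1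
      (Cores.coprime_card_pPrimeCore (G := ↥H) 2))) (by rwa [orderOf_of_sq h1 hne] at hord)
  rw [hcdef, mul_inv_eq_one, mul_inv_eq_iff_eq_mul] at hc1
  exact hc1

include hH hcore h2 hS in
/-- **2b.** No involution of `H` inverts a non-trivial element of odd order of `H`. -/
theorem eq_one_of_inverted_mem {v x : G} (hv : orderOf v = 2) (hvH : v ∈ H) (hx : x ∈ H)
    (hodd : Odd (orderOf x)) (hinv : v * x * v⁻¹ = x⁻¹) : x = 1 := by
  have hc := commute_involutions hH hcore h2 hS hv hvH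
    ((Involution.orderOf_conj x v).trans hv) (mul_mem (mul_mem hx hvH) (inv_mem hx))
  have e : v * (x * v * x⁻¹) = x⁻¹ * x⁻¹ := by
    calc v * (x * v * x⁻¹) = (v * x * v⁻¹) * (v * v) * x⁻¹ := by group
      _ = x⁻¹ * x⁻¹ := by rw [mul_self hv, mul_one, hinv]
  have e' : (v * (x * v * x⁻¹)) * (v * (x * v * x⁻¹)) = 1 := by
    calc (v * (x * v * x⁻¹)) * (v * (x * v * x⁻¹))
        = v * ((x * v * x⁻¹) * v) * (x * v * x⁻¹) := by group
      _ = (v * v) * (x * (v * v) * x⁻¹) := by rw [← hc.eq]; group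
      _ = 1 := by rw [mul_self hv]; group
  rw [e] at e'
  have h4 : x ^ 4 = 1 := by
    rw [← inv_inj, inv_one, ← inv_pow, show (4 : ℕ) = 1 + 1 + 1 + 1 from rfl]
    simp only [pow_add, pow_one]
    rw [mul_assoc (x⁻¹ * x⁻¹)]; exact e'
  exact orderOf_eq_one_iff.1 (Nat.eq_one_of_dvd_coprimes
    ((Nat.coprime_two_right.2 hodd).pow_right 2) dvd_rfl (orderOf_dvd_of_pow_eq_one h4))

include hH hcore h2 hS in
/-- **2b.** An involution of `H` centralises every subgroup of odd order of `H` that it normalises. -/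
theorem centralizes_of_normalizes_mem {v : G} (hv : orderOf v = 2) (hvH : v ∈ H) {Y : Subgroup G}
    (hYH : Y ≤ H) (hodd : Odd (Nat.card Y)) (hvY : v ∈ Subgroup.normalizer (Y : Set G)) :
    ∀ y ∈ Y, Commute v y := by
  intro y hy
  set c := v * y * v⁻¹ * y⁻¹ with hc
  have hcY : c ∈ Y := Y.mul_mem ((Subgroup.mem_normalizer_iff.1 hvY y).1 hy) (inv_mem hy)
  have h1 : c = 1 := eq_one_of_inverted_mem hH hcore h2 hS hv hvH (hYH hcY)
    (hodd.of_dvd_nat (Subgroup.orderOf_dvd_natCard _ hcY)) (by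
      rw [hc]
      simp only [mul_inv_rev, inv_inv, inv_eq hv]
      rw [show v * (v * y * v * y⁻¹) * v = (v * v) * y * v * y⁻¹ * v by group, mul_self hv, one_mul]
      group)
  rw [hc, mul_inv_eq_one, mul_inv_eq_iff_eq_mul] at h1
  exact h1

end Cfsg.Agent.Bender
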