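/-
Involutions of a strongly embedded configuration with one element of prime order centralising a single
involution at a point (stage 2d of Bender's theorem, `STAGE2.md`; owner: helper84).

Main results (namespace `Cfsg.Agent.Bender.OddStep`):
* `false_of_real` : a non-trivial element of odd order inverted by an involution centralises none
* `eq_fixed` : an element centralising only `v` at `a` centralises only one involution at any point it fixes
* `exists_swap_commute`, `act_trivial`, `exists_fixed_at` : orbits of `C(v) ∩ G_b` on the involutions at `b`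
* `exists_real_prime` : `v * t` of prime order for some involution `t` centralised by `g`
-/
import Cfsg.Agent.Lib.Bender.Sharp
import Mathlib.GroupTheory.Perm.Cycle.Type

set_option autoImplicit false
set_option linter.style.haveILetI false
set_option linter.unusedSectionVars false

namespace Cfsg.Agent.Bender.OddStep

open Cfsg Involution Aschbacher

universe u w

/-- The standing hypotheses of stage 2d. -/
structure OddHyp (G : Type u) (Ω : Type w) [Group G] [MulAction G Ω] (pt : G → Ω) : Prop where
  cls : PointClass G Ω {d : G | orderOf d = 2} pt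
  two : ∀ x y : Ω, x ≠ y → Odd (Nat.card (twoPt G x y))
  trans : ∀ x y z : Ω, x ≠ y → x ≠ z → ∃ k ∈ MulAction.stabilizer G x, k • y = z
  comm : ∀ s t : G, orderOf s = 2 → orderOf t = 2 → pt s = pt t → Commute s t
  nc : ∀ s k : G, orderOf s = 2 → k • pt s = pt s → Odd (orderOf k) → s * k * s⁻¹ = k⁻¹ → k = 1
  eq : ∀ (V : Subgroup G) (z : G) (y : Ω), orderOf z = 2 → pt z ≠ y → V ≤ MulAction.stabilizer G y →
    V ≤ Subgroup.centralizer ({z} : Set G) →
    ∃ t : G, orderOf t = 2 ∧ t • pt z = y ∧ V ≤ Subgroup.centralizer ({t} : Set G)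

variable {G : Type u} {Ω : Type w} [Group G] [MulAction G Ω] [Finite G] [Finite Ω] {pt : G → Ω}
variable (O : OddHyp G Ω pt)

theorem conj_eq_iff {h y : G} : h * y * h⁻¹ = y ↔ Commute h y :=
  ⟨fun e => by show h * y = y * h; exact mul_inv_eq_iff_eq_mul.1 e,
    fun e => by rw [e.eq, mul_inv_cancel_right]⟩

include O

theorem conj_inv {g d : G} (hd : orderOf d = 2) : orderOf (g * d * g⁻¹) = 2 :=
  (Involution.orderOf_conj g d).trans hd

theorem pt_conj {g d : G} (hd : orderOf d = 2) : pt (g * d * g⁻¹) = g • pt d :=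
  O.cls.pt_conj g hd

theorem fix_of_commute {g d : G} (hd : orderOf d = 2) (h : Commute g d) : g • pt d = pt d :=
  O.cls.commute_fix hd h

/-- The unique involution conjugating `z` to `y` is centralised by the centraliser of both. -/
theorem commute_mid {z y t h : G} (hz : orderOf z = 2) (hy : orderOf y = 2) (hne : pt z ≠ pt y)
    (ht : orderOf t = 2) (htz : t * z * t⁻¹ = y) (hhz : Commute h z) (hhy : Commute h y) :
    Commute h t := by
  refine conj_eq_iff.1 (mid_unique O.cls O.two hz hy hne (conj_inv O ht) ?_ ht htz)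
  calc h * t * h⁻¹ * z * (h * t * h⁻¹)⁻¹ = h * (t * (h⁻¹ * z * h) * t⁻¹) * h⁻¹ := by group
    _ = h * (t * z * t⁻¹) * h⁻¹ := by rw [mul_assoc h⁻¹ z h, ← hhz.eq, inv_mul_cancel_left]
    _ = y := by rw [htz, conj_eq_iff.2 hhy]

omit O in
theorem commute_conj_of {z t h : G} (hhz : Commute h z) (hht : Commute h t) :
    Commute h (t * z * t⁻¹) :=
  (hht.mul_right hhz).mul_right hht.inv_right

/-- A non-trivial element of odd order inverted by an involution centralises no involution. -/
theorem false_of_real {s x z : G} (hs : orderOf s = 2) (hx : Odd (orderOf x)) (hx1 : x ≠ 1)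
    (hsx : s * x * s⁻¹ = x⁻¹) (hz : orderOf z = 2) (hzx : Commute x z) : False := by
  have hfix : x • pt z = pt z := fix_of_commute O hz hzx
  by_cases e : pt z = pt s
  · exact hx1 (O.nc s x hs (e ▸ hfix) hx hsx)
  · exact pt_ne_of_inverted O.cls O.two (s := s) (z := z) hs hz hx1 hsx hzx hfix e rfl

/-- If `g` centralises only `v` at `pt v`, it centralises one involution only at every point
it fixes. -/
theorem eq_fixed {g v y y' : G} (hv : orderOf v = 2) (honly : ∀ z : G, orderOf z = 2 → pt z = pt v →
      Commute g z → z = v)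
    (hgv : Commute g v) (hy : orderOf y = 2) (hy' : orderOf y' = 2) (hpt : pt y = pt y')
    (hne : pt v ≠ pt y) (hgy : Commute g y) (hgy' : Commute g y') : y = y' := by
  obtain ⟨t, ht, htv, htp⟩ := O.cls.exists_mid hv hy hne
  have ht2 : orderOf t = 2 := ht
  have hgt : Commute g t := commute_mid O hv hy hne ht2 htv hgv hgy
  have hz : pt (t * y' * t⁻¹) = pt v := by
    rw [pt_conj O hy', ← hpt, ← htp, O.cls.smul_smul_self ht]
  have h := honly _ (conj_inv O hy') hz (commute_conj_of hgy' hgt)
  have e : y' = t * v * t⁻¹ := by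
    calc y' = t⁻¹ * (t * y' * t⁻¹) * t := by group
      _ = t * v * t⁻¹ := by rw [h, inv_eq ht2]
  rw [e, htv]

/-- An element fixing `y` and centralising an involution at another point is centralised by a swapper. -/
theorem exists_swap_commute {z h : G} {y : Ω} (hz : orderOf z = 2) (hne : pt z ≠ y) (hy : h • y = y)
    (hhz : Commute h z) : ∃ t : G, orderOf t = 2 ∧ t • pt z = y ∧ Commute h t := by
  obtain ⟨t, ht, htp, hc⟩ := O.eq (Subgroup.zpowers h) z y hz hne
    (Subgroup.zpowers_le.2 (MulAction.mem_stabilizer_iff.2 hy))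
    (Subgroup.zpowers_le.2 (mem_centralizer.2 hhz))
  exact ⟨t, ht, htp, mem_centralizer.1 (hc (Subgroup.mem_zpowers h))⟩

/-- An element centralising all involutions at `pt v` and fixing `b` centralises all at `b`. -/
theorem act_trivial {v y h : G} (hv : orderOf v = 2) (hy : orderOf y = 2) (hne : pt v ≠ pt y)
    (hb : h • pt y = pt y) (hall : ∀ z : G, orderOf z = 2 → pt z = pt v → Commute h z) :
    Commute h y := by
  obtain ⟨t, ht, htp, hht⟩ := exists_swap_commute O hv hne hb (hall v hv rfl)
  have hz : pt (t * y * t⁻¹) = pt v := by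
    rw [pt_conj O hy, ← htp, O.cls.smul_smul_self ht]
  have h1 := commute_conj_of (hall _ (conj_inv O hy) hz) hht
  rwa [show t * (t * y * t⁻¹) * t⁻¹ = y by
    rw [inv_eq ht]
    calc t * (t * y * t) * t = (t * t) * y * (t * t) := by group
      _ = y := by rw [mul_self ht, one_mul, mul_one]] at h1

/-- An element of prime order `r`, with `r` prime to the number of involutions at a point, centralises
one at each point it fixes. -/
theorem exists_fixed_at {g : G} {r : ℕ} (hr : r.Prime) (hg : orderOf g = r) {c : Ω} (hc : g • c = c)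
    (hnd : ¬ r ∣ Nat.card {d : G // orderOf d = 2 ∧ pt d = c}) :
    ∃ y : G, orderOf y = 2 ∧ pt y = c ∧ Commute g y := by
  haveI : Fact r.Prime := ⟨hr⟩
  letI : MulAction (Subgroup.zpowers g) {d : G // orderOf d = 2 ∧ pt d = c} :=
    { smul := fun k d => ⟨(k : G) * d.1 * (k : G)⁻¹, conj_inv O d.2.1, by
        rw [pt_conj O d.2.1, d.2.2]
        obtain ⟨i, hi⟩ := Subgroup.mem_zpowers_iff.1 k.2
        rw [← hi]
        exact MulAction.mem_stabilizer_iff.1 (zpow_mem (MulAction.mem_stabilizer_iff.2 hc) i)⟩
      one_smul := fun d => Subtype.ext (by show (1 : G) * d.1 * (1 : G)⁻¹ = d.1; group)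
      mul_smul := fun k l d => Subtype.ext (by
        show ((k : G) * l) * d.1 * ((k : G) * l)⁻¹ = k * (l * d.1 * (l : G)⁻¹) * (k : G)⁻¹
        group) }
  have hP : IsPGroup r (Subgroup.zpowers g) :=
    IsPGroup.of_card (n := 1) (by rw [Nat.card_zpowers, hg, pow_one])
  obtain ⟨⟨d, hd, hdc⟩, hfix⟩ := hP.nonempty_fixed_point_of_prime_not_dvd_card _ hnd
  exact ⟨d, hd, hdc, conj_eq_iff.1
    (congrArg Subtype.val (hfix ⟨g, Subgroup.mem_zpowers g⟩))⟩

/-- The number of involutions at a point does not depend on it. -/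
theorem card_at (x y : Ω) : Nat.card {d : G // orderOf d = 2 ∧ pt d = x} =
    Nat.card {d : G // orderOf d = 2 ∧ pt d = y} :=
  card_point_eq O.cls x y

/-- A power of prime order of `v * t₀` is the product of `v` and an involution at another point. -/
theorem exists_real_prime {v t₀ g : G} (hv : orderOf v = 2) (ht₀ : orderOf t₀ = 2)
    (hne : pt v ≠ pt t₀) (hgv : Commute g v) (hgt : Commute g t₀) :
    ∃ t : G, orderOf t = 2 ∧ pt v ≠ pt t ∧ Commute g t ∧ (orderOf (v * t)).Prime ∧
      Odd (orderOf (v * t)) ∧ v * (v * t) * v⁻¹ = (v * t)⁻¹ := by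
  set x := v * t₀ with hx
  have hxodd : Odd (orderOf x) := O.cls.odd_order hv ht₀ hne
  have hx1 : orderOf x ≠ 1 := fun e => hne (by
    rw [orderOf_eq_one_iff, hx, mul_eq_one_iff_eq_inv, inv_eq ht₀] at e
    rw [e])
  obtain ⟨l, hl, hld⟩ := Nat.exists_prime_and_dvd hx1
  set y := x ^ (orderOf x / l) with hy
  have hyl : orderOf y = l := by
    rw [hy, orderOf_pow' x (Nat.div_pos (Nat.le_of_dvd (orderOf_pos x) hld) hl.pos).ne',
      Nat.gcd_eq_right (Nat.div_dvd_of_dvd hld), Nat.div_div_self hld (orderOf_pos x).ne']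
  have hyodd : Odd (orderOf y) := hyl ▸ hxodd.of_dvd_nat hld
  have hxi : v * x * v⁻¹ = x⁻¹ := by
    rw [hx, mul_inv_rev, inv_eq hv, inv_eq ht₀, ← mul_assoc, mul_self hv, one_mul]
  have hyi : v * y * v⁻¹ = y⁻¹ := by
    rw [hy, ← conj_pow, hxi, inv_pow]
  have hy1 : y ≠ 1 := fun e => hl.ne_one (by rw [← hyl, e, orderOf_one])
  have hgy : Commute g y := (hgv.mul_right hgt).pow_right _
  have ht1 : v * y ≠ 1 := fun e => by
    rw [mul_eq_one_iff_inv_eq, inv_eq hv] at e
    rw [← e, hv] at hyodd
    exact absurd hyodd (by decide)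
  refine ⟨v * y, orderOf_mul_inverted hv hyi ht1, fun e => hy1 ?_, hgv.mul_right hgy, ?_⟩
  · have hc := O.comm v (v * y) hv (orderOf_mul_inverted hv hyi ht1) e
    have hcy : Commute v y := by
      have := ((Commute.refl v).mul_right hc : Commute v (v * (v * y)))
      rwa [← mul_assoc, mul_self hv, one_mul] at this
    exact eq_one_of_inverts_commute hyodd hyi hcy.symm
  · rw [← mul_assoc v v y, mul_self hv, one_mul, hyl]
    exact ⟨hl, hyl ▸ hyodd, hyi⟩

end Cfsg.Agent.Bender.OddStep
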