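/-
Characters against one class of involutions (stage 2d of Bender's theorem, `STAGE2.md`; owner: helper84).

Main results (namespace `Cfsg.Agent.Bender.OddStep`):
* `sum_conj_fn`, `card_eq_cent_mul`, `sum_irr_shift` : sums over the class
* `apply_eq_zero_of_odd_centralizer` : a character with unit central value at the involutions vanishes at
  an element of prime order centralising no involution
* `exists_avg`, `avg_mono` : averages over subgroups
* `indicator_bound` : the average of a character at squares has real part at most one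
-/
import Cfsg.Agent.Lib.SecondMain.Support
import Cfsg.Agent.Lib.Blocks.Osima
import Cfsg.Agent.Lib.CharApp.Unitary
import Cfsg.Agent.Lib.CentralChar.Congr
import Cfsg.Agent.S0158
import Cfsg.Agent.Lib.Bender.HalfOddBase

set_option autoImplicit false
set_option linter.unusedSectionVars false
set_option linter.style.haveILetI false

namespace Cfsg.Agent.Bender.OddStep

open Cfsg Blocks
open scoped ComplexConjugate Classical

universe u

variable {G : Type u} [Group G] [Fintype G]

/-- The involutions. -/
noncomputable def invol (G : Type u) [Group G] [Fintype G] : Finset G :=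
  Finset.univ.filter fun t => orderOf t = 2

theorem mem_invol {t : G} : t ∈ invol G ↔ orderOf t = 2 := by simp [invol]

/-- A sum over all conjugates is a multiple of the sum over the class. -/
theorem sum_conj_fn {v : G} (hv : orderOf v = 2) (hall : ∀ t : G, orderOf t = 2 → IsConj v t)
    {A : Type*} [AddCommMonoid A] (f : G → A) :
    ∑ b : G, f (b * v * b⁻¹) =
      Nat.card (Subgroup.centralizer ({v} : Set G)) • ∑ t ∈ invol G, f t := by
  rw [← Finset.sum_fiberwise_of_maps_to (g := fun b => b * v * b⁻¹) (t := invol G)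
    (fun b _ => mem_invol.2 ((Involution.orderOf_conj b v).trans hv)), ← Finset.sum_nsmul]
  refine Finset.sum_congr rfl fun t ht => ?_
  obtain ⟨c, rfl⟩ := isConj_iff.1 (hall t (mem_invol.1 ht))
  rw [Finset.sum_congr rfl (g := fun _ => f (c * v * c⁻¹)) fun b hb =>
    congrArg f (Finset.mem_filter.1 hb).2, Finset.sum_const]
  congr 1
  rw [← Fintype.card_subtype, ← Nat.card_eq_fintype_card]
  refine Nat.card_congr (Equiv.subtypeEquiv (Equiv.mulLeft c⁻¹) fun b => ?_)
  rw [Equiv.coe_mulLeft, Subgroup.mem_centralizer_singleton_iff]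
  constructor
  · intro h
    calc c⁻¹ * b * v = c⁻¹ * (b * v * b⁻¹) * b := by group
      _ = v * (c⁻¹ * b) := by rw [h]; group
  · intro h
    calc b * v * b⁻¹ = c * (c⁻¹ * b * v) * b⁻¹ := by group
      _ = c * v * c⁻¹ := by rw [h]; group

/-- The order of the group through the class. -/
theorem card_eq_cent_mul {v : G} (hv : orderOf v = 2) (hall : ∀ t : G, orderOf t = 2 → IsConj v t) :
    Nat.card G = Nat.card (Subgroup.centralizer ({v} : Set G)) * (invol G).card := by
  have h := sum_conj_fn hv hall (fun _ => (1 : ℕ))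
  rwa [Finset.sum_const, Finset.sum_const, smul_eq_mul, smul_eq_mul, smul_eq_mul, mul_one, mul_one,
    Finset.card_univ, ← Nat.card_eq_fintype_card] at h

theorem index_centralizer {v : G} (hv : orderOf v = 2) (hall : ∀ t : G, orderOf t = 2 → IsConj v t) :
    (Subgroup.centralizer ({v} : Set G)).index = (invol G).card := by
  have h := card_eq_cent_mul hv hall
  rw [← Subgroup.card_mul_index (Subgroup.centralizer ({v} : Set G))] at h
  exact Nat.eq_of_mul_eq_mul_left Nat.card_pos h

/-- The class acts as a scalar on an irreducible character. -/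
theorem sum_irr_shift {v : G} (hv : orderOf v = 2) (hall : ∀ t : G, orderOf t = 2 → IsConj v t)
    (χ : IrrCharacter G) (y : G) :
    ∑ t ∈ invol G, (χ : G → ℂ) (t * y) = centralChar (χ : G → ℂ) v * (χ : G → ℂ) y := by
  obtain ⟨n, ρ, hi, hρ⟩ := χ.2
  haveI := hi
  have h := CharApp.sum_char_conj_mul ρ v y
  rw [sum_conj_fn hv hall (fun t => ρ.character (t * y)), hρ, nsmul_eq_mul, card_eq_cent_mul hv hall,
    Nat.cast_mul] at h
  have hC : (Nat.card (Subgroup.centralizer ({v} : Set G)) : ℂ) ≠ 0 :=
    Nat.cast_ne_zero.2 Nat.card_pos.ne'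
  have hdeg : (χ : G → ℂ) 1 = (Module.finrank ℂ (Fin n → ℂ) : ℂ) := by
    rw [← hρ]; exact Representation.char_one ρ
  rw [← hdeg] at h
  refine mul_left_cancel₀ hC (h.trans ?_)
  rw [centralChar, index_centralizer hv hall]
  ring

/-- A character whose central value at the involutions is prime to `l` vanishes at an element of
order `l` centralising none of them. -/
theorem apply_eq_zero_of_odd_centralizer {v τ : G} (hall : ∀ t : G, orderOf t = 2 → IsConj v t)
    (hv : orderOf v = 2) (χ : IrrCharacter G) {l k : ℕ} (hl : l.Prime) (hτ : orderOf τ = l)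
    (hk : ¬ l ∣ k) (hω : centralChar (χ : G → ℂ) v = k)
    (hC : ∀ t : G, orderOf t = 2 → ¬ Commute τ t) : (χ : G → ℂ) τ = 0 := by
  haveI : Fact l.Prime := ⟨hl⟩
  obtain ⟨M, hM⟩ := exists_isPModular hl
  set B := blockOf M (χ : G → ℂ) with hBdef
  have hB : IsPBlock M B := ⟨χ, rfl⟩
  have hχ : χ ∈ B := mem_blockOf_self hM χ
  have h := SecondMain.apply_eq_zero_of_notMem_defect hM hB (y := τ) (t := 1)
    ⟨1, by rw [hτ, pow_one]⟩ (by rw [orderOf_one]; exact hl.not_dvd_one) (Commute.one_right τ)
    (fun E hE hτE => ?_) hχ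
  · rwa [mul_one] at h
  · obtain ⟨g, hg, hsyl⟩ := isDefectGroup_iff.1 hE
    obtain ⟨D, hD⟩ := sylowIn_exists l (Subgroup.centralizer ({v} : Set G))
    obtain ⟨x, hx⟩ := minmax hM hB hχ (k := v) (by rw [hω]; exact not_memI_natCast hM hk) hg.2.1
      (sylowIn_isPGroup hsyl) (sylowIn_le hsyl) hD
    have h1 := conjSub_mono x (sylowIn_le hD) (hx hτE)
    rw [conjSub_centralizer] at h1
    exact hC _ ((Involution.orderOf_conj x v).trans hv) (mem_centralizer_singleton.1 h1)

/-- The average of a character over a subgroup is a natural number. -/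
theorem exists_avg (χ : IrrCharacter G) (K : Subgroup G) :
    ∃ f : ℕ, ∑ k : K, (χ : G → ℂ) k = (Nat.card K : ℂ) * f := by
  obtain ⟨n, ρ, hi, hρ⟩ := χ.2
  refine ⟨_, (Finset.sum_congr rfl fun k _ => ?_).trans (CharApp.sum_char_eq_card_mul (ρ.comp K.subtype))⟩
  rw [← hρ]
  rfl

/-- The average over a larger subgroup is smaller. -/
theorem avg_mono (χ : IrrCharacter G) {K L : Subgroup G} (hle : K ≤ L) {f f' : ℕ}
    (hf : ∑ k : K, (χ : G → ℂ) k = (Nat.card K : ℂ) * f)
    (hf' : ∑ k : L, (χ : G → ℂ) k = (Nat.card L : ℂ) * f') : f' ≤ f := by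
  obtain ⟨n, ρ, hi, hρ⟩ := χ.2
  have key : ∀ (J : Subgroup G) (j : ℕ), ∑ k : J, (χ : G → ℂ) k = (Nat.card J : ℂ) * j →
      Module.finrank ℂ (Representation.invariants (ρ.comp J.subtype)) = j := by
    intro J j hj
    have e : ∑ k : J, Representation.character (ρ.comp J.subtype) k = (Nat.card J : ℂ) * j := by
      rw [← hj]
      refine Finset.sum_congr rfl fun k _ => ?_
      rw [← hρ]
      rfl
    rw [CharApp.sum_char_eq_card_mul] at e
    exact_mod_cast mul_left_cancel₀ (Nat.cast_ne_zero.2 Nat.card_pos.ne') e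
  rw [← key K f hf, ← key L f' hf']
  refine Submodule.finrank_mono fun x hx k => ?_
  exact hx ⟨k, hle k.2⟩

/-- The average of an irreducible character at squares has real part at most one. -/
theorem indicator_bound (χ : IrrCharacter G) :
    ((Nat.card G : ℂ)⁻¹ * ∑ s : G, (χ : G → ℂ) (s * s)).re ≤ 1 := by
  obtain ⟨n, ρ, hi, hρ⟩ := χ.2
  haveI := hi
  obtain ⟨h, -⟩ := Cfsg.Agent.S0158.result ρ
  rw [hρ] at h
  rcases h with e | e | e <;> rw [e] <;> norm_num

end Cfsg.Agent.Bender.OddStep
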