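/-
Counting fixed involutions and fixed points (stage 2d of Bender's theorem, `STAGE2.md`; owner: helper84).

Main results (namespace `Cfsg.Agent.Bender.OddStep`):
* `sum_pi_shift`, `sum_theta_shift` : the class of involutions acts on `theta - pi` as a scalar
* `sum_pi_sq`, `sum_theta_sq` : averages at squares
-/
import Cfsg.Agent.Lib.Bender.HalfOddChar
import Cfsg.Agent.Lib.Bender.HalfOddBase

set_option autoImplicit false
set_option linter.style.haveILetI false
set_option linter.unusedSectionVars false

namespace Cfsg.Agent.Bender.OddStep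

open Cfsg Involution Aschbacher
open scoped Classical

universe u w

variable {G : Type u} {Ω : Type w} [Group G] [MulAction G Ω] [Fintype G] [Fintype Ω] {pt : G → Ω}

/-- The involutions at a point. -/
noncomputable def atPt (pt : G → Ω) (c : Ω) : Finset G := (invol G).filter fun t => pt t = c

/-- The number of fixed involutions. -/
noncomputable def theta (g : G) : ℕ := ((invol G).filter fun s => g * s * g⁻¹ = s).card

/-- The number of fixed points. -/
noncomputable def numFix (Ω : Type w) [MulAction G Ω] [Fintype Ω] (g : G) : ℕ :=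
  (Finset.univ.filter fun c : Ω => g • c = c).card

/-- Elements whose conjugation exchanges two elements. -/
noncomputable def flips (v w : G) : Finset G :=
  Finset.univ.filter fun g => g * v * g⁻¹ = w ∧ g * w * g⁻¹ = v

theorem mem_atPt {t : G} {c : Ω} : t ∈ atPt pt c ↔ orderOf t = 2 ∧ pt t = c := by
  simp [atPt, mem_invol]

theorem card_atPt (c : Ω) : (atPt pt c).card = Nat.card {t : G // orderOf t = 2 ∧ pt t = c} := by
  rw [Nat.card_eq_fintype_card, Fintype.card_subtype]
  congr 1
  ext t
  simp [mem_atPt]

variable (O : OddHyp G Ω pt)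
include O

theorem card_atPt_eq (c c' : Ω) : (atPt pt c).card = (atPt pt c').card := by
  rw [card_atPt, card_atPt]
  exact card_at O c c'

theorem isConj_all {a b : Ω} (hab : a ≠ b) {s t : G} (hs : orderOf s = 2) (ht : orderOf t = 2) :
    IsConj s t := by
  have key : ∀ s t : G, orderOf s = 2 → orderOf t = 2 → pt s ≠ pt t → IsConj s t := by
    intro s t hs ht hne
    obtain ⟨x, -, hx, -⟩ := O.cls.exists_mid hs ht hne
    exact isConj_iff.2 ⟨x, hx⟩
  by_cases hne : pt s = pt t
  · obtain ⟨c, hc⟩ : ∃ c, c ≠ pt s := by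
      by_cases e : a = pt s
      · exact ⟨b, fun e' => hab (e.trans e'.symm)⟩
      · exact ⟨a, e⟩
    obtain ⟨d, hd, hdc⟩ := O.cls.exists_at c
    exact (key s d hs hd (by rw [hdc]; exact hc.symm)).trans
      (key d t hd ht (by rw [hdc, ← hne]; exact hc))
  · exact key s t hs ht hne

/-- The centraliser of an involution is transitive off its point. -/
theorem cent_trans {v : G} (hv : orderOf v = 2) {c c' : Ω} (hc : pt v ≠ c) (hc' : pt v ≠ c') :
    ∃ k : G, Commute k v ∧ k • c = c' := by
  obtain ⟨h, hh, hhc⟩ := O.trans (pt v) c c' hc hc'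
  obtain ⟨k, hk, hkv⟩ := O.cls.exists_conj_point hc' (e := h * v * h⁻¹) (e' := v) (conj_inv O hv)
    (by rw [pt_conj O hv]; exact MulAction.mem_stabilizer_iff.1 hh) hv rfl
  refine ⟨k * h, conj_eq_iff.1 ?_, by rw [mul_smul, hhc]; exact MulAction.mem_stabilizer_iff.1 hk.2⟩
  calc k * h * v * (k * h)⁻¹ = k * (h * v * h⁻¹) * k⁻¹ := by group
    _ = v := hkv

/-- The involutions moving one point onto another are as many as those at a point. -/
theorem card_moving (a : Ω) {c c' : Ω} (hne : c ≠ c') :
    ((invol G).filter fun t => t • c = c').card = (atPt pt a).card := by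
  have h := O.cls.card_swap hne
  rw [← card_atPt_eq O c' a, card_atPt]
  have h' : Nat.card {t : G // orderOf t = 2 ∧ t • c = c'} =
      Nat.card {t : G // orderOf t = 2 ∧ pt t = c'} := h
  rw [← h', Nat.card_eq_fintype_card, Fintype.card_subtype]
  congr 1
  ext t
  simp [mem_invol]

theorem card_invol (a : Ω) : (invol G).card = Fintype.card Ω * (atPt pt a).card := by
  rw [Finset.card_eq_sum_card_fiberwise (f := pt) (t := Finset.univ) (fun _ _ => Finset.mem_univ _)]
  show ∑ c, (atPt pt c).card = _
  rw [Finset.sum_congr rfl (g := fun _ => (atPt pt a).card) fun c _ => card_atPt_eq O c a,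
    Finset.sum_const, smul_eq_mul, Finset.card_univ]

theorem sum_pi_shift (a : Ω) (g : G) :
    ∑ t ∈ invol G, numFix Ω (t * g) = Fintype.card Ω * (atPt pt a).card := by
  simp only [numFix, Finset.card_eq_sum_ones, Finset.sum_filter]
  rw [Finset.sum_comm, ← Finset.card_eq_sum_ones, ← smul_eq_mul, ← Finset.card_univ, ← Finset.sum_const]
  refine Finset.sum_congr rfl fun c _ => ?_
  rw [← Finset.sum_filter, ← Finset.card_eq_sum_ones]
  by_cases e : g • c = c
  · rw [← card_atPt_eq O c a]
    congr 1
    ext t
    simp only [Finset.mem_filter, mem_invol, mem_atPt, mul_smul, e]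
    refine and_congr_right fun ht => ?_
    rw [O.cls.fixed_iff t ht, eq_comm]
  · rw [← card_moving O a e]
    congr 1
    ext t
    simp [mem_invol, mul_smul]

theorem sum_theta_shift (a : Ω) (g : G) :
    ∑ t ∈ invol G, theta (t * g) + (atPt pt a).card * numFix Ω g =
      (atPt pt a).card * theta g + Fintype.card Ω * (atPt pt a).card := by
  have hcount : ∀ s ∈ invol G, ((invol G).filter fun t => t * g * s * (t * g)⁻¹ = s).card =
      (if g * s * g⁻¹ = s then (atPt pt a).card else 0) +
        if g • pt s = pt s then 0 else 1 := by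
    intro s hs
    rw [mem_invol] at hs
    have hs' : orderOf (g * s * g⁻¹) = 2 := conj_inv O hs
    have hrw : ∀ t : G, t * g * s * (t * g)⁻¹ = t * (g * s * g⁻¹) * t⁻¹ := fun t => by group
    simp only [hrw]
    by_cases e : g * s * g⁻¹ = s
    · have hfix : g • pt s = pt s := fix_of_commute O hs (conj_eq_iff.1 e)
      rw [if_pos e, if_pos hfix, add_zero, ← card_atPt_eq O (pt s) a]
      congr 1
      ext t
      simp only [Finset.mem_filter, mem_invol, mem_atPt, e]
      refine and_congr_right fun ht => ?_
      rw [conj_eq_iff]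
      refine ⟨fun hc => ?_, fun hp => O.comm t s ht hs hp⟩
      exact ((O.cls.fixed_iff t ht _).1 (fix_of_commute O hs hc)).symm
    · by_cases hfix : g • pt s = pt s
      · rw [if_neg e, if_pos hfix, add_zero, Finset.card_eq_zero, Finset.filter_eq_empty_iff]
        intro t ht htc
        rw [mem_invol] at ht
        have hp : pt t = pt (g * s * g⁻¹) := by
          have := congrArg pt htc
          rw [pt_conj O hs'] at this
          rw [pt_conj O hs, hfix] at this ⊢
          exact ((O.cls.fixed_iff t ht _).1 this).symm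
        rw [conj_eq_iff.2 (O.comm t _ ht hs' hp)] at htc
        exact e htc
      · rw [if_neg e, if_neg hfix, zero_add, Finset.card_eq_one]
        obtain ⟨t, ht, htc, -⟩ := O.cls.exists_mid hs' hs (by rw [pt_conj O hs]; exact hfix)
        refine ⟨t, Finset.eq_singleton_iff_unique_mem.2
          ⟨Finset.mem_filter.2 ⟨mem_invol.2 ht, htc⟩, fun t' ht' => ?_⟩⟩
        rw [Finset.mem_filter, mem_invol] at ht'
        exact mid_unique O.cls O.two hs' hs (by rw [pt_conj O hs]; exact hfix) ht'.1 ht'.2 ht htc
  have e1 : ∑ t ∈ invol G, theta (t * g) = (atPt pt a).card * theta g +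
      ((invol G).filter fun s => g • pt s ≠ pt s).card := by
    rw [show ((invol G).filter fun s => g • pt s ≠ pt s).card =
      ∑ s ∈ invol G, (if g • pt s = pt s then 0 else 1) by
        rw [Finset.card_eq_sum_ones, Finset.sum_filter]
        exact Finset.sum_congr rfl fun s _ => by by_cases e : g • pt s = pt s <;> simp [e],
      show (atPt pt a).card * theta g =
        ∑ s ∈ invol G, (if g * s * g⁻¹ = s then (atPt pt a).card else 0) by
          rw [← Finset.sum_filter, Finset.sum_const, smul_eq_mul, mul_comm]; rfl,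
      ← Finset.sum_add_distrib, ← Finset.sum_congr rfl hcount]
    simp only [theta, Finset.card_eq_sum_ones, Finset.sum_filter]
    exact Finset.sum_comm
  have e2 : ((invol G).filter fun s => g • pt s ≠ pt s).card + (atPt pt a).card * numFix Ω g =
      Fintype.card Ω * (atPt pt a).card := by
    have h1 : ((invol G).filter fun s => g • pt s = pt s).card = (atPt pt a).card * numFix Ω g := by
      rw [Finset.card_eq_sum_card_fiberwise (f := pt) (t := Finset.univ.filter fun c : Ω => g • c = c)
        (fun s hs => by simpa using (Finset.mem_filter.1 hs).2)]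
      rw [Finset.sum_congr rfl (g := fun _ => (atPt pt a).card) ?_, Finset.sum_const, smul_eq_mul,
        mul_comm]
      · rfl
      intro c hc
      rw [← card_atPt_eq O c a]
      congr 1
      ext s
      simp only [Finset.mem_filter, mem_invol, mem_atPt] at hc ⊢
      constructor
      · rintro ⟨⟨h, -⟩, rfl⟩; exact ⟨h, rfl⟩
      · rintro ⟨h, rfl⟩; exact ⟨⟨h, hc.2⟩, rfl⟩
    rw [← h1, ← card_invol O a, add_comm]
    exact Finset.card_filter_add_card_filter_not _
  rw [e1, add_assoc, e2]

/-- The fixed points of squares. -/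
theorem sum_pi_sq {a b : Ω} (hab : a ≠ b) :
    ∑ g : G, numFix Ω (g * g) = 2 * Fintype.card G := by
  have horb : ∀ c : Ω, MulAction.orbit G c = Set.univ := fun c => by
    refine Set.eq_univ_of_forall fun c' => ?_
    by_cases e : c = c'
    · exact e ▸ MulAction.mem_orbit_self c
    obtain ⟨d, hd, hdc⟩ := O.cls.exists_at c
    obtain ⟨d', hd', hdc'⟩ := O.cls.exists_at c'
    obtain ⟨t, -, -, htp⟩ := O.cls.exists_mid hd hd' (by rw [hdc, hdc']; exact e)
    exact ⟨t, by rw [← hdc, ← hdc']; exact htp⟩
  simp only [numFix, Finset.card_eq_sum_ones, Finset.sum_filter]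
  rw [Finset.sum_comm]
  have hc : ∀ c : Ω, (∑ g : G, if (g * g) • c = c then 1 else 0) =
      2 * Nat.card (MulAction.stabilizer G c) := by
    intro c
    rw [← Finset.sum_filter, ← Finset.card_eq_sum_ones,
      Finset.card_eq_sum_card_fiberwise (f := fun g => g • c) (t := Finset.univ)
        (fun _ _ => Finset.mem_univ _), ← Finset.add_sum_erase _ _ (Finset.mem_univ c), two_mul]
    congr 1
    · rw [Nat.card_eq_fintype_card, Fintype.card_subtype]
      congr 1
      ext g
      simp only [Finset.mem_filter, Finset.mem_univ, true_and, MulAction.mem_stabilizer_iff, mul_smul]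
      exact ⟨fun h => h.2, fun h => ⟨by rw [h, h], h⟩⟩
    · have hfib : ∀ d ∈ Finset.univ.erase c, ((Finset.univ.filter fun g : G => (g * g) • c = c).filter
          fun g => g • c = d).card = Nat.card (twoPt G c d) := by
        intro d hd
        have hcd : c ≠ d := (Finset.mem_erase.1 hd).1.symm
        obtain ⟨e, he, hec⟩ := O.cls.exists_at c
        obtain ⟨f, hf, hfd⟩ := O.cls.exists_at d
        obtain ⟨t, ht, -, htp⟩ := O.cls.exists_mid he hf (by rw [hec, hfd]; exact hcd)
        rw [hec, hfd] at htp
        have htd : t • d = c := by rw [← htp, O.cls.smul_smul_self ht]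
        rw [Finset.filter_filter, ← Fintype.card_subtype, ← Nat.card_eq_fintype_card]
        refine Nat.card_congr (Equiv.subtypeEquiv (Equiv.mulLeft t) fun g => ?_)
        simp only [Equiv.coe_mulLeft, Subgroup.mem_inf, MulAction.mem_stabilizer_iff, mul_smul]
        constructor
        · rintro ⟨h1, h2⟩
          rw [h2] at h1
          exact ⟨by rw [h2, htd], by rw [h1, htp]⟩
        · rintro ⟨h1, h2⟩
          have e1 : g • c = d := by
            rw [← htp, ← MulAction.injective t (h1.trans (O.cls.smul_smul_self ht c).symm)]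
          have e2 : g • d = c := MulAction.injective t (h2.trans htp.symm)
          exact ⟨by rw [e1, e2], e1⟩
      rw [Finset.sum_congr rfl hfib]
      obtain ⟨d₀, hd₀⟩ : ∃ d, c ≠ d := by
        by_cases e : a = c
        · exact ⟨b, fun e' => hab (e.trans e')⟩
        · exact ⟨a, fun e' => e e'.symm⟩
      have hconst : ∀ d ∈ Finset.univ.erase c, Nat.card (twoPt G c d) = Nat.card (twoPt G c d₀) := by
        intro d hd
        have hcd : c ≠ d := (Finset.mem_erase.1 hd).1.symm
        obtain ⟨k, hk, hkd⟩ := O.trans c d₀ d hd₀ hcd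
        refine (Nat.card_congr (Equiv.subtypeEquiv (MulAut.conj k).toEquiv fun g => ?_)).symm
        rw [MulEquiv.toEquiv_eq_coe, EquivLike.coe_coe, MulAut.conj_apply]
        have hk' := MulAction.mem_stabilizer_iff.1 hk
        simp only [Subgroup.mem_inf, MulAction.mem_stabilizer_iff, mul_smul]
        rw [← hkd, inv_smul_eq_iff.2 hk'.symm, inv_smul_smul, smul_eq_iff_eq_inv_smul k,
          inv_smul_eq_iff.2 hk'.symm, smul_left_cancel_iff]
      rw [Finset.sum_congr rfl hconst, Finset.sum_const, smul_eq_mul]
      have hH : (Finset.univ.erase c).card = Nat.card ↥(MulAction.orbit (MulAction.stabilizer G c) d₀) := by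
        rw [Nat.card_eq_card_toFinset]
        congr 1
        ext d
        simp only [Finset.mem_erase, Finset.mem_univ, and_true, Set.mem_toFinset]
        constructor
        · intro hd
          obtain ⟨k, hk, hkd⟩ := O.trans c d₀ d hd₀ hd.symm
          exact ⟨⟨k, hk⟩, hkd⟩
        · rintro ⟨k, rfl⟩ e
          exact hd₀ (MulAction.injective (k : G) ((MulAction.mem_stabilizer_iff.1 k.2).trans e.symm))
      have h2 : Nat.card (twoPt G c d₀) =
          Nat.card (MulAction.stabilizer (MulAction.stabilizer G c) d₀) := by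
        refine Nat.card_congr
          { toFun := fun g => ⟨⟨g, g.2.1⟩, g.2.2⟩
            invFun := fun g => ⟨g.1.1, g.1.2, g.2⟩
            left_inv := fun g => rfl
            right_inv := fun g => rfl }
      rw [hH, h2, ← Nat.card_prod]
      exact Nat.card_congr (MulAction.orbitProdStabilizerEquivGroup _ d₀)
  rw [Finset.sum_congr rfl fun c _ => hc c, ← Finset.mul_sum]
  congr 1
  have hs : ∀ c : Ω, Fintype.card Ω * Nat.card (MulAction.stabilizer G c) = Fintype.card G := fun c => by
    rw [← Nat.card_eq_fintype_card, ← Nat.card_eq_fintype_card,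
      ← Nat.card_congr (MulAction.orbitProdStabilizerEquivGroup G c), Nat.card_prod, horb c,
      Nat.card_coe_set_eq, Set.ncard_univ]
  refine Nat.eq_of_mul_eq_mul_left (Fintype.card_pos_iff.2 ⟨a⟩) ?_
  rw [Finset.mul_sum, Finset.sum_congr rfl fun c _ => hs c, Finset.sum_const, smul_eq_mul,
    Finset.card_univ]

/-- The fixed involutions of squares, through the flips of one involution. -/
theorem sum_theta_sq {v : G} {a b : Ω} (hab : a ≠ b) (hv : orderOf v = 2) :
    ∑ g : G, theta (g * g) = (invol G).card * ∑ w ∈ invol G, (flips v w).card := by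
  simp only [theta, Finset.card_eq_sum_ones ((invol G).filter _), Finset.sum_filter]
  rw [Finset.sum_comm, ← smul_eq_mul, ← Finset.sum_const]
  refine Finset.sum_congr rfl fun s hs => ?_
  obtain ⟨c, rfl⟩ := isConj_iff.1 (isConj_all O hab hv (mem_invol.1 hs))
  rw [← Finset.sum_filter, ← Finset.card_eq_sum_ones,
    Finset.card_eq_sum_card_fiberwise (f := fun g => (c⁻¹ * g * c) * v * (c⁻¹ * g * c)⁻¹)
      (t := invol G) (fun g _ => mem_invol.2 (conj_inv O hv))]
  refine Finset.sum_congr rfl fun w _ => ?_
  refine Finset.card_equiv (MulAut.conj c⁻¹).toEquiv fun g => ?_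
  simp only [flips, Finset.mem_filter, Finset.mem_univ, true_and, MulEquiv.toEquiv_eq_coe,
    EquivLike.coe_coe, MulAut.conj_apply, inv_inv]
  constructor
  · rintro ⟨h1, h2⟩
    refine ⟨h2, ?_⟩
    rw [← h2]
    calc c⁻¹ * g * c * (c⁻¹ * g * c * v * (c⁻¹ * g * c)⁻¹) * (c⁻¹ * g * c)⁻¹
        = c⁻¹ * (g * g * (c * v * c⁻¹) * (g * g)⁻¹) * c := by group
      _ = v := by rw [h1]; group
  · rintro ⟨h2, h3⟩
    refine ⟨?_, h2⟩
    rw [← h2] at h3
    calc g * g * (c * v * c⁻¹) * (g * g)⁻¹
        = c * (c⁻¹ * g * c * (c⁻¹ * g * c * v * (c⁻¹ * g * c)⁻¹) * (c⁻¹ * g * c)⁻¹) * c⁻¹ := by group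
      _ = c * v * c⁻¹ := by rw [h3]

end Cfsg.Agent.Bender.OddStep
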