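/-
Fixed points of `p`-subgroups centralised by no involution, `p` dividing the number of involutions at a
point (stage 2d of Bender's theorem, `STAGE2.md`; owner: helper84; proof after `Setup.no_three`).

Main results (namespace `Cfsg.Agent.Bender.OddStep`):
* `centralizes_of_normalizes` : an involution normalising an odd subgroup fixing its point centralises it
* `no_three` : such a subgroup fixes at most two points
* `fix_two` : and such a one fixing two points exists, so the number of points is two mod `p`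
-/
import Cfsg.Agent.Lib.Bender.HalfOddBase
import Cfsg.Agent.Lib.Bender.Full

set_option autoImplicit false
set_option linter.style.haveILetI false
set_option linter.unusedSectionVars false

namespace Cfsg.Agent.Bender.OddStep

open Cfsg Involution Aschbacher
open scoped Pointwise

universe u w

variable {G : Type u} {Ω : Type w} [Group G] [MulAction G Ω] [Finite G] [Finite Ω] {pt : G → Ω}
variable (O : OddHyp G Ω pt)
include O

theorem centralizes_of_normalizes {t : G} (ht : orderOf t = 2) {X : Subgroup G}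
    (hX : Odd (Nat.card X)) (htX : t ∈ Subgroup.normalizer (X : Set G))
    (hfix : X ≤ MulAction.stabilizer G (pt t)) : X ≤ Subgroup.centralizer ({t} : Set G) := by
  intro x hx
  set k := x⁻¹ * (t * x * t⁻¹) with hk
  have hkX : k ∈ X := X.mul_mem (X.inv_mem hx) ((Subgroup.mem_normalizer_iff.1 htX x).1 hx)
  have hki : t * k * t⁻¹ = k⁻¹ := by
    rw [hk, inv_eq ht]
    calc t * (x⁻¹ * (t * x * t)) * t = t * x⁻¹ * t * x * (t * t) := by group
      _ = (x⁻¹ * (t * x * t))⁻¹ := by
        rw [mul_self ht, mul_one, mul_inv_rev, mul_inv_rev, mul_inv_rev, inv_inv, inv_eq ht]; group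
  have h1 := O.nc t k ht (MulAction.mem_stabilizer_iff.1 (hfix hkX))
    (hX.of_dvd_nat (Subgroup.orderOf_dvd_natCard _ hkX)) hki
  rw [hk, inv_mul_eq_one] at h1
  exact mem_centralizer.2 (conj_eq_iff.1 h1.symm).symm

theorem transitive_points (x y : Ω) : ∃ g : G, g • x = y := by
  by_cases e : x = y
  · exact ⟨1, by rw [one_smul, e]⟩
  obtain ⟨d, hd, hdx⟩ := O.cls.exists_at x
  obtain ⟨f, hf, hfy⟩ := O.cls.exists_at y
  obtain ⟨t, -, -, htp⟩ := O.cls.exists_mid hd hf (by rw [hdx, hfy]; exact e)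
  exact ⟨t, by rw [← hdx, ← hfy]; exact htp⟩

theorem card_twoPt_const {x y q r : Ω} (hxy : x ≠ y) (hqr : q ≠ r) :
    Nat.card (twoPt G x y) = Nat.card (twoPt G q r) := by
  obtain ⟨g, hg⟩ := transitive_points O x q
  obtain ⟨k, hk, hkr⟩ := O.trans q (g • y) r (fun e => hxy (MulAction.injective g (hg.trans e))) hqr
  have hmap : ∀ z : Ω, ∀ h : G, (k * g * h * (k * g)⁻¹) • (k * g) • z = (k * g) • h • z := fun z h => by
    simp only [← mul_smul]; group
  refine Nat.card_congr (Equiv.subtypeEquiv (MulAut.conj (k * g)).toEquiv fun h => ?_)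
  show h ∈ twoPt G x y ↔ k * g * h * (k * g)⁻¹ ∈ twoPt G q r
  have hq : (k * g) • x = q := by rw [mul_smul, hg, MulAction.mem_stabilizer_iff.1 hk]
  have hr : (k * g) • y = r := by rw [mul_smul, hkr]
  simp only [Subgroup.mem_inf, MulAction.mem_stabilizer_iff, ← hq, ← hr, hmap, smul_left_cancel_iff]

variable {p : ℕ} [Fact p.Prime]

/-- A `p`-subgroup centralised by no involution fixes at most two points. -/
theorem no_three {R : Subgroup G} (hR : IsPGroup p R)
    (hfree : ∀ d : G, orderOf d = 2 → ¬ R ≤ Subgroup.centralizer ({d} : Set G)) {x y z : Ω}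
    (hx : R ≤ MulAction.stabilizer G x) (hy : R ≤ MulAction.stabilizer G y)
    (hz : R ≤ MulAction.stabilizer G z) (hzx : z ≠ x) (hzy : z ≠ y) (hxy : x ≠ y) : False := by
  induction hn : pPart p (Nat.card (twoPt G x y)) - Nat.card R using Nat.strong_induction_on
    generalizing R x y z with
  | _ n ih =>
    have P := O.cls
    have hle : ∀ {q r : Ω} {T : Subgroup G}, q ≠ r → IsPGroup p T → T ≤ MulAction.stabilizer G q →
        T ≤ MulAction.stabilizer G r → Nat.card T ≤ pPart p (Nat.card (twoPt G x y)) := by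
      intro q r T hqr hT hq hr
      rw [card_twoPt_const O hxy hqr]
      exact Coprime.card_le_of_isPGroup hT (le_inf hq hr)
    have hRodd : Odd (Nat.card R) :=
      Odd.of_dvd_nat (O.two x y hxy) (Subgroup.card_dvd_of_le (le_inf hx hy))
    set L := Subgroup.normalizer (R : Set G) with hL
    have hmoves : ∀ u : G, orderOf u = 2 → u ∈ L → ¬ R ≤ MulAction.stabilizer G (pt u) :=
      fun u hu huL h => hfree u hu (centralizes_of_normalizes O hu hRodd huL h)
    have finish : (∀ q r : Ω, q ≠ r → R ≤ MulAction.stabilizer G q → R ≤ MulAction.stabilizer G r →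
        ∃ w : G, orderOf w = 2 ∧ w ∈ L ∧ w • q = r) → False := by
      intro hsw
      obtain ⟨u, hu, huL, huz⟩ := hsw z x hzx hz hx
      obtain ⟨v, hv, hvL, hvz⟩ := hsw z y hzy hz hy
      obtain ⟨w, hw, hwL, hwx⟩ := hsw x y hxy hx hy
      exact not_three P hRodd ⟨u, hu, huL, hmoves u hu huL⟩ hx (u := u) hu huL huz hv hvL hvz hw hwL
        hwx
    by_cases hfull : Nat.card R = pPart p (Nat.card (twoPt G x y))
    · exact finish fun q r hqr hq hr => exists_swap_normalizing P hqr (O.two q r hqr) (le_inf hq hr)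
        (by rw [hfull, card_twoPt_const O hxy hqr])
    have hRlt : Nat.card R < pPart p (Nat.card (twoPt G x y)) :=
      lt_of_le_of_ne (hle hxy hR hx hy) hfull
    have hviol : ∀ T : Subgroup G, IsPGroup p T → R < T → T ≤ MulAction.stabilizer G z →
        ∀ q r : Ω, T ≤ MulAction.stabilizer G q → T ≤ MulAction.stabilizer G r → z ≠ q → z ≠ r →
          q ≠ r → False := by
      intro T hT hRT hTz q r hq hr hzq hzr hqr
      have h1 := card_lt_of_lt hRT
      have h2 := hle hqr hT hq hr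
      refine ih (pPart p (Nat.card (twoPt G x y)) - Nat.card T) (by omega) hT
        (fun d hd hc => hfree d hd (hRT.le.trans hc)) hq hr hTz hzq hzr hqr ?_
      rw [card_twoPt_const O hqr hxy]
    have hpair : ∀ q r : Ω, q ≠ r → R ≤ MulAction.stabilizer G q → R ≤ MulAction.stabilizer G r →
        ∃ T : Subgroup G, IsPGroup p T ∧ R < T ∧ T ≤ L ∧ T ≤ MulAction.stabilizer G q ∧
          T ≤ MulAction.stabilizer G r := by
      intro q r hqr hq hr
      obtain ⟨Q, hRQ, hQK, hQp, hQcard⟩ := exists_sylow_twoPt q r hR (le_inf hq hr)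
      rw [card_twoPt_const O hqr hxy] at hQcard
      have hne : R ≠ Q := fun e => hRlt.ne (by rw [e, hQcard])
      obtain ⟨T, h1, h2, h3⟩ := exists_normalizing hQp (hRQ.lt_of_ne hne)
      exact ⟨T, hQp.to_le h2, h1, h3, (h2.trans hQK).trans inf_le_left,
        (h2.trans hQK).trans inf_le_right⟩
    -- the stabiliser of `z` in `L` is transitive on the other fixed points
    have htrans : ∀ q r : Ω, z ≠ q → z ≠ r → R ≤ MulAction.stabilizer G q →
        R ≤ MulAction.stabilizer G r → ∃ h ∈ L ⊓ MulAction.stabilizer G z, h • q = r := by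
      intro q r hzq hzr hq hr
      by_contra! hcon
      set s : Set Ω := {w | ∃ h ∈ L ⊓ MulAction.stabilizer G z, h • q = w} with hs
      have hsR : ∀ w ∈ s, R ≤ MulAction.stabilizer G w ∧ z ≠ w := by
        rintro w ⟨h, hh, rfl⟩
        refine ⟨le_stab_smul hh.1 hq, fun e => hzq ?_⟩
        exact MulAction.injective h ((MulAction.mem_stabilizer_iff.1 hh.2).trans e)
      have hstable : ∀ T : Subgroup G, T ≤ L → T ≤ MulAction.stabilizer G z →
          ∀ t ∈ T, ∀ w ∈ s, t • w ∈ s := by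
        rintro T hTL hTz t ht w ⟨h, hh, rfl⟩
        exact ⟨t * h, mul_mem ⟨hTL ht, hTz ht⟩ hh, mul_smul _ _ _⟩
      obtain ⟨T, hTp, hRT, hTL, hTz, hTq⟩ := hpair z q hzq hz hq
      obtain ⟨T', hT'p, hRT', hT'L, hT'z, hT'r⟩ := hpair z r hzr hz hr
      have e1 := card_modEq_fixed hTp s (hstable T hTL hTz)
      have e2 := card_modEq_fixed hT'p s (hstable T' hT'L hT'z)
      have c1 : Nat.card {w : Ω // w ∈ s ∧ T ≤ MulAction.stabilizer G w} = 1 := by
        rw [Nat.card_eq_one_iff_unique]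
        refine ⟨⟨fun u v => Subtype.ext ?_⟩, ⟨⟨q, ⟨1, one_mem _, one_smul _ _⟩, hTq⟩⟩⟩
        have key : ∀ w : Ω, w ∈ s → T ≤ MulAction.stabilizer G w → w = q := fun w hw hTw => by
          by_contra hne
          exact hviol T hTp hRT hTz w q hTw hTq (hsR w hw).2 hzq hne
        rw [key u.1 u.2.1 u.2.2, key v.1 v.2.1 v.2.2]
      have c2 : Nat.card {w : Ω // w ∈ s ∧ T' ≤ MulAction.stabilizer G w} = 0 := by
        rw [Nat.card_eq_zero]
        refine Or.inl ⟨fun w => ?_⟩
        have hne : w.1 ≠ r := fun e => by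
          obtain ⟨h, hh, hhq⟩ := w.2.1
          exact hcon h hh (hhq.trans e)
        exact hviol T' hT'p hRT' hT'z w.1 r w.2.2 hT'r (hsR w.1 w.2.1).2 hzr hne
      rw [c1] at e1
      rw [c2] at e2
      have h : p ∣ 1 := Nat.modEq_zero_iff_dvd.1 (e1.symm.trans e2)
      exact (Fact.out : p.Prime).ne_one (Nat.dvd_one.1 h)
    obtain ⟨l, hl, hlz⟩ : ∃ l ∈ L, l • z ≠ z := by
      by_contra! hcon
      obtain ⟨T, hTp, hRT, hTL, hTx, hTy⟩ := hpair x y hxy hx hy
      exact hviol T hTp hRT (fun t ht => MulAction.mem_stabilizer_iff.2 (hcon t (hTL ht))) x y hTx hTy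
        hzx hzy hxy
    have hswapz : ∀ q : Ω, z ≠ q → R ≤ MulAction.stabilizer G q →
        ∃ g ∈ L, g • z = q ∧ g • q = z := by
      intro q hzq hq
      obtain ⟨h, hh, hhl⟩ := htrans (l • z) q hlz.symm hzq (le_stab_smul hl hz) hq
      set g₁ := h * l with hg₁
      have hg₁L : g₁ ∈ L := mul_mem hh.1 hl
      have hg₁z : g₁ • z = q := by rw [hg₁, mul_smul, hhl]
      have hne : z ≠ g₁⁻¹ • z := fun e => hzq (by
        rw [← hg₁z]; nth_rw 1 [← smul_inv_smul g₁ z]; rw [← e])
      obtain ⟨h', hh', hh'q⟩ := htrans q (g₁⁻¹ • z) hzq hne hq (le_stab_smul (inv_mem hg₁L) hz)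
      refine ⟨g₁ * h', mul_mem hg₁L hh'.1, ?_, ?_⟩
      · rw [mul_smul, MulAction.mem_stabilizer_iff.1 hh'.2, hg₁z]
      · rw [mul_smul, hh'q, smul_inv_smul]
    have hswap : ∀ q r : Ω, q ≠ r → R ≤ MulAction.stabilizer G q → R ≤ MulAction.stabilizer G r →
        ∃ g ∈ L, g • q = r ∧ g • r = q := by
      intro q r hqr hq hr
      by_cases h1 : z = q
      · subst h1
        exact hswapz r hqr hr
      by_cases h2 : z = r
      · subst h2
        obtain ⟨g, hg, g1, g2⟩ := hswapz q h1 hq
        exact ⟨g, hg, g2, g1⟩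
      obtain ⟨g₁, hg₁, hg₁z, -⟩ := hswapz q h1 hq
      have hne : z ≠ g₁⁻¹ • r := fun e => hqr (by rw [← hg₁z, e, smul_inv_smul])
      obtain ⟨g, hg, g1, g2⟩ := hswapz (g₁⁻¹ • r) hne (le_stab_smul (inv_mem hg₁) hr)
      refine ⟨g₁ * g * g₁⁻¹, mul_mem (mul_mem hg₁ hg) (inv_mem hg₁), ?_, ?_⟩
      · rw [mul_smul, mul_smul, ← hg₁z, inv_smul_smul, g1, smul_inv_smul]
      · rw [mul_smul, mul_smul, g2, hg₁z]
    exact finish fun q r hqr hq hr => by
      obtain ⟨g, hg, g1, g2⟩ := hswap q r hqr hq hr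
      exact exists_swap_of_swap P hqr (O.two q r hqr) hg g1 g2

/-- If `p` divides the number of involutions at a point, there are two points mod `p`. -/
theorem fix_two {a b : Ω} (hab : a ≠ b) (hdvd : p ∣ Nat.card {d : G // orderOf d = 2 ∧ pt d = a}) :
    Nat.card Ω ≡ 2 [MOD p] := by
  obtain ⟨X, hXp, hXab, hXcard⟩ := exists_pPart (p := p) (twoPt G a b)
  have hXa := hXab.trans inf_le_left
  have hXb := hXab.trans inf_le_right
  have hfree : ∀ d : G, orderOf d = 2 → ¬ X ≤ Subgroup.centralizer ({d} : Set G) := by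
    intro d hd hc
    obtain ⟨f, hf, hfa, hfc⟩ : ∃ f : G, orderOf f = 2 ∧ pt f = a ∧
        X ≤ Subgroup.centralizer ({f} : Set G) := by
      by_cases e : pt d = a
      · exact ⟨d, hd, e, hc⟩
      obtain ⟨t, ht, htp, htc⟩ := O.eq X d a hd e hXa hc
      refine ⟨t * d * t⁻¹, conj_inv O hd, by rw [pt_conj O hd, htp], fun h hh => ?_⟩
      exact mem_centralizer.2 (commute_conj_of (mem_centralizer.1 (hc hh)) (mem_centralizer.1 (htc hh)))
    have h1 := card_twoPt O.cls hab (f := f) hf hfa
    have h2 : Nat.card X ≤ pPart p (Nat.card ↥(twoPt G a b ⊓ Subgroup.centralizer ({f} : Set G))) :=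
      Coprime.card_le_of_isPGroup hXp (le_inf hXab hfc)
    rw [hXcard, h1, pPart_mul (by intro h; rw [h] at h1; exact Nat.card_pos.ne' (h1.trans (zero_mul _)))
      Nat.card_pos.ne'] at h2
    have hne : Nat.card {g : G // g ∈ {d : G | orderOf d = 2} ∧ pt g = a} ≠ 0 := fun h => by
      rw [h] at h1; exact Nat.card_pos.ne' (h1.trans (zero_mul _))
    have h3 : p ≤ pPart p (Nat.card {g : G // g ∈ {d : G | orderOf d = 2} ∧ pt g = a}) :=
      Nat.le_self_pow ((Fact.out : p.Prime).factorization_pos_of_dvd hne hdvd).ne' p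
    have h4 : 0 < pPart p (Nat.card ↥(twoPt G a b ⊓ Subgroup.centralizer ({f} : Set G))) :=
      pow_pos (Fact.out : p.Prime).pos _
    nlinarith [(Fact.out : p.Prime).two_le]
  have h0 : Nat.card {x : Ω // (⊥ : Subgroup G) ≤ MulAction.stabilizer G x} = Nat.card Ω :=
    Nat.card_congr (Equiv.subtypeUnivEquiv fun x => bot_le)
  have h2 : Nat.card {x : Ω // X ≤ MulAction.stabilizer G x} = 2 := by
    rw [Nat.card_eq_two_iff]
    refine ⟨⟨a, hXa⟩, ⟨b, hXb⟩, fun e => hab (congrArg Subtype.val e), ?_⟩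
    ext ⟨x, hx⟩
    simp only [Set.mem_insert_iff, Set.mem_singleton_iff, Set.mem_univ, iff_true, Subtype.mk.injEq]
    by_contra h
    push Not at h
    exact no_three O hXp hfree hXa hXb hx h.1 h.2 hab
  rw [← h0, ← h2]
  exact fix_modEq hXp bot_le

end Cfsg.Agent.Bender.OddStep
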