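/-
The congruence of Theorem ODD (stage 2d of Bender's theorem, `STAGE2.md`; owner: helper84).

Main results (namespace `Cfsg.Agent.Bender.OddStep`):
* `exists_mult` : `theta - numFix` has natural multiplicities
* `exists_value` : a constituent takes at an involution a natural value divisible by `r`
-/
import Cfsg.Agent.Lib.Bender.HalfOddCount
import Cfsg.Agent.Lib.Bender.HalfOddFix
import Cfsg.Agent.Lib.Blocks.OrbitSum

set_option autoImplicit false
set_option linter.style.haveILetI false
set_option linter.unusedSectionVars false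

namespace Cfsg.Agent.Bender.OddStep

open Cfsg Involution Aschbacher Blocks
open scoped ComplexConjugate Classical

universe u w

variable {G : Type u} {Ω : Type w} [Group G] [MulAction G Ω] [Fintype G] [Fintype Ω] {pt : G → Ω}

/-- The class function `theta - numFix`. -/
noncomputable def diffFun (Ω : Type w) [MulAction G Ω] [Fintype Ω] (g : G) : ℂ :=
  (theta g : ℂ) - (numFix Ω g : ℂ)

theorem isClassFunction_diffFun : IsClassFunction G (diffFun (G := G) Ω) := by
  intro g h
  have e1 : theta (h * g * h⁻¹) = theta g := by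
    refine Finset.card_equiv (MulAut.conj h⁻¹).toEquiv fun s => ?_
    simp only [Finset.mem_filter, mem_invol, MulEquiv.toEquiv_eq_coe, EquivLike.coe_coe,
      MulAut.conj_apply, Involution.orderOf_conj]
    refine and_congr_right fun _ => ?_
    constructor
    · intro e
      calc g * (h⁻¹ * s * h⁻¹⁻¹) * g⁻¹ = h⁻¹ * (h * g * h⁻¹ * s * (h * g * h⁻¹)⁻¹) * h := by group
        _ = h⁻¹ * s * h⁻¹⁻¹ := by rw [e, inv_inv]
    · intro e
      calc h * g * h⁻¹ * s * (h * g * h⁻¹)⁻¹ = h * (g * (h⁻¹ * s * h⁻¹⁻¹) * g⁻¹) * h⁻¹ := by group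
        _ = s := by rw [e]; group
  have e2 : numFix Ω (h * g * h⁻¹) = numFix Ω g := by
    refine Finset.card_equiv (MulAction.toPerm h⁻¹) fun c => ?_
    simp only [Finset.mem_filter, Finset.mem_univ, true_and, MulAction.toPerm_apply, mul_smul,
      eq_inv_smul_iff]
  simp [diffFun, e1, e2]

variable (O : OddHyp G Ω pt)
include O

/-- The multiplicity of an irreducible character is a natural number. -/
theorem exists_mult {v : G} (hv : orderOf v = 2) {b : Ω} (hab : pt v ≠ b) (χ : IrrCharacter G) :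
    ∃ k : ℕ, classInner (diffFun (G := G) Ω) (χ : G → ℂ) = k := by
  have hall : ∀ t : G, orderOf t = 2 → IsConj v t := fun t ht => isConj_all O hab hv ht
  have hclass := Char.IsIrrCharacter.isClassFunction χ.2
  set C := Subgroup.centralizer ({v} : Set G) with hC
  set H := MulAction.stabilizer G (pt v) with hH
  obtain ⟨f1, hf1⟩ := exists_avg χ C
  obtain ⟨f2, hf2⟩ := exists_avg χ H
  have hle : f2 ≤ f1 := avg_mono χ (fun k hk => MulAction.mem_stabilizer_iff.2
    (fix_of_commute O hv (mem_centralizer.1 hk))) hf1 hf2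
  refine ⟨f1 - f2, ?_⟩
  have hsub : ∀ (K : Subgroup G) (f : ℕ), (∑ k : K, (χ : G → ℂ) k = (Nat.card K : ℂ) * f) →
      ∑ g : G, (if g ∈ K then conj ((χ : G → ℂ) g) else 0) = (Nat.card K : ℂ) * f := by
    intro K f hf
    have h := congrArg conj hf
    rw [map_sum, map_mul, map_natCast, map_natCast] at h
    rw [← h, ← Finset.sum_filter]
    exact Finset.sum_subtype _ (fun g => by simp) fun g => conj ((χ : G → ℂ) g)
  have h1 : ∑ g : G, (theta g : ℂ) * conj ((χ : G → ℂ) g) = (Nat.card G : ℂ) * f1 := by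
    have e : ∀ s ∈ invol G, (∑ g : G, if g * s * g⁻¹ = s then conj ((χ : G → ℂ) g) else 0) =
        (Nat.card C : ℂ) * f1 := by
      intro s hs
      obtain ⟨c, rfl⟩ := isConj_iff.1 (hall s (mem_invol.1 hs))
      rw [← hsub C f1 hf1]
      refine Fintype.sum_equiv (MulAut.conj c⁻¹).toEquiv _ _ fun g => ?_
      simp only [MulEquiv.toEquiv_eq_coe, EquivLike.coe_coe, MulAut.conj_apply]
      rw [hclass]
      refine if_congr ?_ rfl rfl
      rw [hC, mem_centralizer, inv_inv, ← conj_eq_iff]
      constructor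
      · intro h
        calc c⁻¹ * g * c * v * (c⁻¹ * g * c)⁻¹ = c⁻¹ * (g * (c * v * c⁻¹) * g⁻¹) * c := by group
          _ = v := by rw [h]; group
      · intro h
        calc g * (c * v * c⁻¹) * g⁻¹ = c * (c⁻¹ * g * c * v * (c⁻¹ * g * c)⁻¹) * c⁻¹ := by group
          _ = c * v * c⁻¹ := by rw [h]
    simp only [theta, Finset.card_eq_sum_ones, Finset.sum_filter, Nat.cast_sum, Nat.cast_ite,
      Nat.cast_one, Nat.cast_zero, Finset.sum_mul, ite_mul, one_mul, zero_mul]
    rw [Finset.sum_comm, Finset.sum_congr rfl e, Finset.sum_const, nsmul_eq_mul,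
      card_eq_cent_mul hv hall, Nat.cast_mul]
    ring
  have h2 : ∑ g : G, (numFix Ω g : ℂ) * conj ((χ : G → ℂ) g) = (Nat.card G : ℂ) * f2 := by
    have e : ∀ c : Ω, (∑ g : G, if g • c = c then conj ((χ : G → ℂ) g) else 0) =
        (Nat.card H : ℂ) * f2 := by
      intro c
      obtain ⟨k, rfl⟩ := transitive_points O (pt v) c
      rw [← hsub H f2 (by convert hf2)]
      refine Fintype.sum_equiv (MulAut.conj k⁻¹).toEquiv _ _ fun g => ?_
      simp only [MulEquiv.toEquiv_eq_coe, EquivLike.coe_coe, MulAut.conj_apply]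
      rw [hclass]
      refine if_congr ?_ rfl rfl
      rw [hH, MulAction.mem_stabilizer_iff, inv_inv, mul_smul, mul_smul, inv_smul_eq_iff]
    have hn : Fintype.card Ω * Nat.card H = Nat.card G := by
      rw [← Nat.card_congr (MulAction.orbitProdStabilizerEquivGroup G (pt v)), Nat.card_prod,
        show MulAction.orbit G (pt v) = Set.univ from Set.eq_univ_of_forall fun c =>
          transitive_points O (pt v) c,
        Nat.card_coe_set_eq, Set.ncard_univ, Nat.card_eq_fintype_card (α := Ω)]
    simp only [numFix, Finset.card_eq_sum_ones, Finset.sum_filter, Nat.cast_sum, Nat.cast_ite,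
      Nat.cast_one, Nat.cast_zero, Finset.sum_mul, ite_mul, one_mul, zero_mul]
    rw [Finset.sum_comm, Finset.sum_congr rfl fun c _ => e c, Finset.sum_const, nsmul_eq_mul,
      Finset.card_univ, ← hn, Nat.cast_mul]
    ring
  rw [classInner]
  simp only [diffFun, sub_mul, Finset.sum_sub_distrib]
  rw [h1, h2, ← mul_sub, ← mul_assoc, inv_mul_cancel₀ (Nat.cast_ne_zero.2 Nat.card_pos.ne'), one_mul,
    Nat.cast_sub hle]

/-- A constituent has central value `m` at the involutions. -/
theorem centralChar_eq {v : G} (hv : orderOf v = 2) {b : Ω} (hab : pt v ≠ b) (χ : IrrCharacter G)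
    (hk : classInner (diffFun (G := G) Ω) (χ : G → ℂ) ≠ 0) :
    centralChar (χ : G → ℂ) v = ((atPt pt (pt v)).card : ℂ) := by
  have hall : ∀ t : G, orderOf t = 2 → IsConj v t := fun t ht => isConj_all O hab hv ht
  have hshift : ∀ g : G, ∑ t ∈ invol G, diffFun (G := G) Ω (t * g) =
      ((atPt pt (pt v)).card : ℂ) * diffFun (G := G) Ω g := by
    intro g
    simp only [diffFun, Finset.sum_sub_distrib, ← Nat.cast_sum]
    rw [sum_pi_shift O (pt v) g]
    have h := congrArg (Nat.cast : ℕ → ℂ) (sum_theta_shift O (pt v) g)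
    push_cast at h ⊢
    linear_combination h
  have key : conj (centralChar (χ : G → ℂ) v) * ∑ g, diffFun (G := G) Ω g * conj ((χ : G → ℂ) g) =
      ((atPt pt (pt v)).card : ℂ) * ∑ g, diffFun (G := G) Ω g * conj ((χ : G → ℂ) g) := by
    rw [Finset.mul_sum, Finset.mul_sum]
    calc ∑ g, conj (centralChar (χ : G → ℂ) v) * (diffFun (G := G) Ω g * conj ((χ : G → ℂ) g))
        = ∑ g, ∑ t ∈ invol G, diffFun (G := G) Ω g * conj ((χ : G → ℂ) (t * g)) := by
          refine Finset.sum_congr rfl fun g _ => ?_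
          rw [← Finset.mul_sum, ← map_sum, sum_irr_shift hv hall, map_mul]
          ring
      _ = ∑ t ∈ invol G, ∑ g, diffFun (G := G) Ω g * conj ((χ : G → ℂ) (t * g)) := Finset.sum_comm
      _ = ∑ t ∈ invol G, ∑ g, diffFun (G := G) Ω (t * g) * conj ((χ : G → ℂ) g) := by
          refine Finset.sum_congr rfl fun t ht => Fintype.sum_equiv (Equiv.mulLeft t) _ _ fun g => ?_
          rw [Equiv.coe_mulLeft, ← mul_assoc t t g, mul_self (mem_invol.1 ht), one_mul]
      _ = _ := by
          rw [Finset.sum_comm]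
          refine Finset.sum_congr rfl fun g _ => ?_
          rw [← Finset.sum_mul, hshift]
          ring
  have hne : ∑ g, diffFun (G := G) Ω g * conj ((χ : G → ℂ) g) ≠ 0 := fun e => hk (by
    rw [classInner, e, mul_zero])
  have h := congrArg conj (mul_right_cancel₀ hne key)
  rwa [Complex.conj_conj, map_natCast] at h

/-- **The congruence.** -/
theorem exists_value {v g : G} {r : ℕ} (hr : r.Prime) (hr2 : r ≠ 2) (hg : orderOf g = r)
    (hv : orderOf v = 2) {b : Ω} (hab : pt v ≠ b) (hgv : Commute g v) (hgb : g • b = b)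
    (honly : ∀ z : G, orderOf z = 2 → pt z = pt v → Commute g z → z = v)
    (hnd : ¬ r ∣ (atPt pt (pt v)).card) (χ : IrrCharacter G)
    (hk : classInner (diffFun (G := G) Ω) (χ : G → ℂ) ≠ 0) :
    ∃ x : ℕ, (χ : G → ℂ) v = x ∧ r ≤ x := by
  have hall : ∀ t : G, orderOf t = 2 → IsConj v t := fun t ht => isConj_all O hab hv ht
  have hclass := Char.IsIrrCharacter.isClassFunction χ.2
  set m := (atPt pt (pt v)).card with hm
  set n := Fintype.card Ω with hn
  have hm0 : 0 < m := Finset.card_pos.2 ⟨v, mem_atPt.2 ⟨hv, rfl⟩⟩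
  have hn2 : 1 < n := Fintype.one_lt_card_iff.2 ⟨_, _, hab⟩
  have hω := centralChar_eq O hv hab χ hk
  obtain ⟨L, hL0, hL⟩ := Char.IsIrrCharacter.exists_degree χ.2
  -- the value at an involution
  have hx : (χ : G → ℂ) v = (L : ℂ) / (n : ℂ) := by
    rw [centralChar, index_centralizer hv hall, card_invol O (pt v), hL, ← hm, ← hn] at hω
    push_cast at hω
    have hmC : (m : ℂ) ≠ 0 := Nat.cast_ne_zero.2 hm0.ne'
    have hLC : (L : ℂ) ≠ 0 := Nat.cast_ne_zero.2 hL0.ne'
    have hnC : (n : ℂ) ≠ 0 := Nat.cast_ne_zero.2 (by omega)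
    field_simp at hω ⊢
    linear_combination hω
  obtain ⟨x, hxL⟩ := Char.nat_dvd_of_isIntegral_div (by omega : n ≠ 0) (hx ▸ Char.IsCharacter.isIntegral
    (Char.IsIrrCharacter.isCharacter χ.2) v)
  have hxv : (χ : G → ℂ) v = x := by
    rw [hx, hxL, Nat.cast_mul, mul_div_cancel_left₀ _ (Nat.cast_ne_zero.2 (by omega : n ≠ 0))]
  have hx0 : 0 < x := Nat.pos_of_ne_zero fun e => hL0.ne' (by rw [hxL, e, mul_zero])
  refine ⟨x, hxv, Nat.le_of_dvd hx0 ?_⟩
  -- a real element of prime order
  have hnd' : ∀ c : Ω, ¬ r ∣ Nat.card {d : G // orderOf d = 2 ∧ pt d = c} := fun c => by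
    rw [← card_at O (pt v) c, ← card_atPt]; exact hnd
  obtain ⟨t₀, ht₀, ht₀b, hgt₀⟩ := exists_fixed_at O hr hg hgb (hnd' b)
  obtain ⟨t, ht, hvt, hgt, hl, hlodd, hinv⟩ := exists_real_prime O hv ht₀
    (by rw [ht₀b]; exact hab) hgv hgt₀
  set τ := v * t with hτ
  set l := orderOf τ with hldef
  have hτ1 : τ ≠ 1 := fun e => hl.ne_one (by rw [hldef, e, orderOf_one])
  have hC : ∀ z : G, orderOf z = 2 → ¬ Commute τ z := fun z hz hc =>
    false_of_real O hv hlodd hτ1 hinv hz hc
  -- the sum over the point of `t`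
  set c₁ := pt t with hc₁
  have hsum : ∑ s ∈ atPt pt c₁, (χ : G → ℂ) (s * v) = -(x : ℂ) := by
    have htot := sum_irr_shift hv hall χ v
    rw [hω, hxv, ← hm, ← Finset.sum_fiberwise (invol G) pt] at htot
    have hin : ∑ s ∈ atPt pt (pt v), (χ : G → ℂ) (s * v) = (L : ℂ) + ((m - 1 : ℕ) : ℂ) * x := by
      rw [← Finset.add_sum_erase _ _ (mem_atPt.2 ⟨hv, rfl⟩ : v ∈ atPt pt (pt v)), mul_self hv, hL,
        Finset.sum_congr rfl (g := fun _ => (x : ℂ)), Finset.sum_const,
        Finset.card_erase_of_mem (mem_atPt.2 ⟨hv, rfl⟩), nsmul_eq_mul]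
      intro s hs
      obtain ⟨hne, hs⟩ := Finset.mem_erase.1 hs
      obtain ⟨hs2, hsp⟩ := mem_atPt.1 hs
      have hc := O.comm s v hs2 hv hsp
      have h2 : orderOf (s * v) = 2 := orderOf_of_sq (by
        rw [← mul_assoc, mul_assoc s v s, ← hc.eq, ← mul_assoc, mul_self hs2, one_mul, mul_self hv])
        fun e => hne (by rw [mul_eq_one_iff_eq_inv, inv_eq hv] at e; exact e)
      obtain ⟨d, hd⟩ := isConj_iff.1 (hall _ h2)
      rw [← hd, hclass, hxv]
    have hout : ∀ c ∈ Finset.univ.erase (pt v), ∑ s ∈ atPt pt c, (χ : G → ℂ) (s * v) =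
        ∑ s ∈ atPt pt c₁, (χ : G → ℂ) (s * v) := by
      intro c hc
      obtain ⟨k, hkv, hkc⟩ := cent_trans O hv (c := c₁) (c' := c) hvt (Finset.mem_erase.1 hc).1.symm
      refine (Finset.sum_equiv (MulAut.conj k).toEquiv (fun s => ?_) fun s _ => ?_).symm
      · simp only [mem_atPt, MulEquiv.toEquiv_eq_coe, EquivLike.coe_coe, MulAut.conj_apply,
          Involution.orderOf_conj]
        refine and_congr_right fun hs => ?_
        rw [pt_conj O hs, ← hkc, smul_left_cancel_iff]
      · simp only [MulEquiv.toEquiv_eq_coe, EquivLike.coe_coe, MulAut.conj_apply]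
        rw [show k * s * k⁻¹ * v = k * (s * v) * k⁻¹ by
          rw [mul_assoc (k * s) k⁻¹ v, hkv.inv_left.eq]; group, hclass]
    change ∑ c : Ω, ∑ s ∈ atPt pt c, (χ : G → ℂ) (s * v) = _ at htot
    rw [← Finset.add_sum_erase _ _ (Finset.mem_univ (pt v)), hin, Finset.sum_congr rfl hout,
      Finset.sum_const, Finset.card_erase_of_mem (Finset.mem_univ _), Finset.card_univ, ← hn,
      nsmul_eq_mul, hxL, Nat.cast_mul, Nat.cast_sub (by omega), Nat.cast_sub (by omega)] at htot
    have hn1 : ((n : ℂ) - 1) ≠ 0 := by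
      rw [sub_ne_zero]; exact_mod_cast (by omega : n ≠ 1)
    refine mul_left_cancel₀ hn1 ?_
    push_cast at htot
    linear_combination htot
  obtain ⟨M, hM⟩ := exists_isPModular hr
  haveI : Fact r.Prime := ⟨hr⟩
  have hP : IsPGroup r (Subgroup.zpowers g) :=
    IsPGroup.of_card (n := 1) (by rw [Nat.card_zpowers, hg, pow_one])
  have hcent : ∀ s : G, s ∈ Subgroup.centralizer (Subgroup.zpowers g : Set G) ↔ Commute g s :=
    fun s => SecondMain.mem_centralizer_zpowers_iff
  set f : G → ℂ := fun s => if s ∈ atPt pt c₁ then (χ : G → ℂ) (s * v) else 0 with hf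
  have hgc₁ : g • c₁ = c₁ := fix_of_commute O ht hgt
  have hrest := conj_sum_not_centralizer_mem hP f (fun k hk s => ?_)
    { carrier := {z | MemLocalIdeal M z}
      add_mem' := fun ha hb => memI_add hM ha hb
      zero_mem' := memI_zero hM } (fun s => ?_)
  rotate_left
  · have hkv : Commute k v := by
      obtain ⟨i, rfl⟩ := Subgroup.mem_zpowers_iff.1 hk
      exact hgv.zpow_left i
    have hkc : k • c₁ = c₁ := by
      obtain ⟨i, rfl⟩ := Subgroup.mem_zpowers_iff.1 hk
      exact MulAction.mem_stabilizer_iff.1 (zpow_mem (MulAction.mem_stabilizer_iff.2 hgc₁) i)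
    simp only [hf]
    refine if_congr ?_ ?_ rfl
    · simp only [mem_atPt, Involution.orderOf_conj]
      refine and_congr_right fun hs => ?_
      rw [pt_conj O hs, smul_eq_iff_eq_inv_smul, inv_smul_eq_iff.2 hkc.symm]
    · rw [show k * s * k⁻¹ * v = k * (s * v) * k⁻¹ by
        rw [mul_assoc (k * s) k⁻¹ v, hkv.inv_left.eq]; group, hclass]
  · show MemLocalIdeal M (r • f s)
    rw [nsmul_eq_mul]
    refine memI_mul_right hM (memI_p hM) ?_
    simp only [hf]
    split_ifs
    · exact memR_of_isIntegral hM (Char.IsCharacter.isIntegral (Char.IsIrrCharacter.isCharacter χ.2) _)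
    · exact memR_zero hM
  have hsplit := conj_sum_eq_sum_centralizer_add (P := Subgroup.zpowers g) f
  have hfix : ∑ s ∈ Finset.univ.filter (fun s => s ∈ Subgroup.centralizer (Subgroup.zpowers g : Set G)),
      f s = (χ : G → ℂ) τ := by
    rw [Finset.sum_eq_single t]
    · rw [hf]
      simp only [mem_atPt, ht, hc₁, and_self, if_true]
      rw [hτ, show v * t = v * (t * v) * v⁻¹ by group, hclass]
    · intro s hs hne
      simp only [hf]
      refine if_neg fun hsA => hne ?_
      obtain ⟨hs2, hsp⟩ := mem_atPt.1 hsA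
      exact eq_fixed O hv honly hgv hs2 ht hsp (by rw [hsp]; exact hvt)
        ((hcent s).1 (Finset.mem_filter.1 hs).2) hgt
    · intro h
      exact absurd (Finset.mem_filter.2 ⟨Finset.mem_univ _, (hcent t).2 hgt⟩) h
  have hS : ∑ s, f s = -(x : ℂ) := by
    rw [hf, ← Finset.sum_filter]
    refine (Finset.sum_congr ?_ fun _ _ => rfl).trans hsum
    ext s
    simp
  rw [hS, hfix] at hsplit
  have hcong : MemLocalIdeal M ((χ : G → ℂ) τ + (x : ℂ)) := by
    rw [show (χ : G → ℂ) τ + (x : ℂ) = -(∑ s ∈ Finset.univ.filter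
      (fun s => s ∉ Subgroup.centralizer (Subgroup.zpowers g : Set G)), f s) by
        linear_combination -hsplit]
    exact memI_neg hrest
  have hτval : MemLocalIdeal M ((χ : G → ℂ) τ) := by
    by_cases hlr : l = r
    · -- an element of order `r` fixes no point, so `r` divides the number of points
      have hnofix : ∀ c : Ω, τ • c ≠ c := fun c hc => by
        obtain ⟨y, hy, -, hyτ⟩ := exists_fixed_at O hr (hldef ▸ hlr) hc (hnd' c)
        exact hC y hy hyτ
      have hrn : r ∣ n := by
        have hP' : IsPGroup r (Subgroup.zpowers τ) :=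
          IsPGroup.of_card (n := 1) (by rw [Nat.card_zpowers, ← hldef, hlr, pow_one])
        rw [hn, ← Nat.card_eq_fintype_card]
        refine Nat.modEq_zero_iff_dvd.1 ((hP'.card_modEq_card_fixedPoints Ω).trans ?_)
        rw [Nat.card_eq_zero.2 (Or.inl ⟨fun c =>
          hnofix c.1 (c.2 ⟨τ, Subgroup.mem_zpowers τ⟩)⟩)]
      have h1 := CentralChar.memI_sub_apply_one hM (Char.IsIrrCharacter.isCharacter χ.2) (g := τ)
        (k := 1) (by rw [pow_one, ← hlr, hldef, pow_orderOf_eq_one])
      rw [hL] at h1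
      have h2 : MemLocalIdeal M (L : ℂ) := (memI_natCast hM).2 (hrn.trans ⟨x, hxL⟩)
      simpa using memI_add hM h1 h2
    · have hlm : ¬ l ∣ m := by
        intro hdvd
        haveI : Fact l.Prime := ⟨hl⟩
        have hl2 : l ≠ 2 := fun e => by
          rw [e] at hlodd; exact absurd hlodd (by decide)
        rw [hm, card_atPt] at hdvd
        have h2 := fix_two O hab hdvd
        have hP' : IsPGroup l (Subgroup.zpowers τ) :=
          IsPGroup.of_card (n := 1) (by rw [Nat.card_zpowers, pow_one])
        obtain ⟨⟨c, hcfix⟩⟩ : Nonempty (MulAction.fixedPoints (Subgroup.zpowers τ) Ω) := by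
          by_contra hemp
          rw [not_nonempty_iff] at hemp
          have h0 := (hP'.card_modEq_card_fixedPoints Ω).symm.trans h2
          rw [Nat.card_eq_zero.2 (Or.inl hemp)] at h0
          have h3 : l ∣ 2 := Nat.modEq_zero_iff_dvd.1 h0.symm
          exact hl2 ((Nat.prime_dvd_prime_iff_eq hl Nat.prime_two).1 h3)
        have hcτ : τ • c = c := hcfix ⟨τ, Subgroup.mem_zpowers τ⟩
        have hτpt : τ • pt v ≠ pt v := fun e => hτ1 (O.nc v τ hv e hlodd hinv)
        have hca : c ≠ pt v := fun e => hτpt (e ▸ hcτ)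
        have hvc : τ • v • c = v • c := by
          calc τ • v • c = v • (v⁻¹ * τ * v) • c := by simp only [← mul_smul]; group
            _ = v • c := by
              rw [show v⁻¹ * τ * v = v * τ * v⁻¹ by rw [inv_eq hv], hinv,
                inv_smul_eq_iff.2 hcτ.symm]
        have hcv : c ≠ v • c := fun e => hca ((O.cls.fixed_iff v hv c).1 e.symm)
        have hle : ∀ e : Ω, τ • e = e → Subgroup.zpowers τ ≤ MulAction.stabilizer G e :=
          fun e he => Subgroup.zpowers_le.2 (MulAction.mem_stabilizer_iff.2 he)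
        have htwo : ∀ e : Ω, τ • e = e → e = c ∨ e = v • c := by
          intro e he
          by_contra hh
          push Not at hh
          exact no_three O hP' (fun d hd h => hC d hd (mem_centralizer.1 (h (Subgroup.mem_zpowers τ))))
            (hle c hcτ) (hle _ hvc) (hle e he) hh.1 hh.2 hcv
        have hgτ : Commute g τ := hgv.mul_right hgt
        have hgc : g • c = c := by
          have h1 : τ • g • c = g • c := by rw [← mul_smul, ← hgτ.eq, mul_smul, hcτ]
          rcases htwo _ h1 with e | e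
          · exact e
          exfalso
          have e2 : g • v • c = c := by
            rw [← mul_smul, hgv.eq, mul_smul, e, O.cls.smul_smul_self hv]
          have h2' : (g * g) • c = c := by rw [mul_smul, e, e2]
          obtain ⟨k, hk⟩ := hr.eq_two_or_odd'.resolve_left hr2
          have h3 : g ^ (2 * k + 1) • c = c := by rw [← hk, ← hg, pow_orderOf_eq_one, one_smul]
          have h4 : g ^ (2 * k) • c = c := by
            rw [pow_mul, sq]
            exact MulAction.mem_stabilizer_iff.1 (pow_mem (MulAction.mem_stabilizer_iff.2 h2') k)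
          rw [pow_succ', mul_smul, h4] at h3
          exact hcv (h3.symm.trans e)
        obtain ⟨y, hy, hyc, hgy⟩ := exists_fixed_at O hr hg hgc (hnd' c)
        have heq := eq_fixed O hv honly hgv hy (conj_inv O hy)
          (by rw [pt_conj O hy, hyc, hcτ]) (by rw [hyc]; exact hca.symm) hgy (commute_conj_of hgy hgτ)
        exact hC y hy (conj_eq_iff.1 heq.symm)
      rw [apply_eq_zero_of_odd_centralizer hall hv χ hl hldef.symm hlm hω hC]
      exact memI_zero hM
  refine (memI_natCast hM).1 ?_
  simpa using memI_sub hM hcong hτval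

end Cfsg.Agent.Bender.OddStep
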