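/-
Theorem ODD (stage 2d of Bender's theorem, `STAGE2.md`; owner: helper84).

Main results (namespace `Cfsg.Agent.Bender.OddStep`):
* `not_exchanged` : if `g` of prime order centralises one involution `v` at a point only and the
  centraliser of `v` in a two-point stabiliser acts as powers of `g`, then no element exchanges `v`
  with another involution at its point
-/
import Cfsg.Agent.Lib.Bender.HalfOddCong

set_option autoImplicit false
set_option linter.style.haveILetI false
set_option linter.unusedSectionVars false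

namespace Cfsg.Agent.Bender.OddStep

open Cfsg Involution Aschbacher Blocks
open scoped ComplexConjugate Classical

universe u w

variable {G : Type u} {Ω : Type w} [Group G] [MulAction G Ω] [Fintype G] [Fintype Ω] {pt : G → Ω}
theorem mem_flips {v w x : G} : x ∈ flips v w ↔ x * v * x⁻¹ = w ∧ x * w * x⁻¹ = v := by
  simp [flips]

variable (O : OddHyp G Ω pt)
include O

/-- The flips of `v` and an involution at another point. -/
theorem card_flips {v y : G} (hv : orderOf v = 2) (hy : orderOf y = 2) (hne : pt v ≠ pt y) :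
    (flips v y).card = Nat.card ↥(twoPt G (pt v) (pt y) ⊓ Subgroup.centralizer ({v} : Set G) ⊓
      Subgroup.centralizer ({y} : Set G)) := by
  obtain ⟨t, ht, htv, -⟩ := O.cls.exists_mid hv hy hne
  have ht2 : orderOf t = 2 := ht
  have hty : t * y * t⁻¹ = v := by
    rw [← htv, inv_eq ht2]
    calc t * (t * v * t) * t = t * t * v * (t * t) := by group
      _ = v := by rw [mul_self ht2, one_mul, mul_one]
  rw [Nat.card_eq_fintype_card, Fintype.card_subtype]
  refine Finset.card_equiv (Equiv.mulLeft t) fun g => ?_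
  simp only [flips, Finset.mem_filter, Finset.mem_univ, true_and, Equiv.coe_mulLeft, Subgroup.mem_inf,
    mem_centralizer, MulAction.mem_stabilizer_iff]
  constructor
  · rintro ⟨h1, h2⟩
    have c1 : Commute (t * g) v := conj_eq_iff.1 (by
      calc t * g * v * (t * g)⁻¹ = t * (g * v * g⁻¹) * t⁻¹ := by group
        _ = v := by rw [h1, hty])
    have c2 : Commute (t * g) y := conj_eq_iff.1 (by
      calc t * g * y * (t * g)⁻¹ = t * (g * y * g⁻¹) * t⁻¹ := by group
        _ = y := by rw [h2, htv])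
    exact ⟨⟨⟨fix_of_commute O hv c1, fix_of_commute O hy c2⟩, c1⟩, c2⟩
  · rintro ⟨⟨-, c1⟩, c2⟩
    constructor
    · calc g * v * g⁻¹ = t⁻¹ * (t * g * v * (t * g)⁻¹) * t := by group
        _ = y := by rw [conj_eq_iff.2 c1, inv_eq ht2]; rw [inv_eq ht2] at htv; exact htv
    · calc g * y * g⁻¹ = t⁻¹ * (t * g * y * (t * g)⁻¹) * t := by group
        _ = v := by rw [conj_eq_iff.2 c2, inv_eq ht2]; rw [inv_eq ht2] at hty; exact hty

/-- **Theorem ODD.** -/
theorem not_exchanged {v g : G} {r : ℕ} (hr : r.Prime) (hr2 : r ≠ 2) (hg : orderOf g = r)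
    (hv : orderOf v = 2) {b : Ω} (hab : pt v ≠ b) (hgv : Commute g v) (hgb : g • b = b)
    (honly : ∀ z : G, orderOf z = 2 → pt z = pt v → Commute g z → z = v)
    (hpow : ∀ h : G, Commute h v → h • b = b → ∃ i : ℕ, ∀ z : G, orderOf z = 2 → pt z = pt v →
      h * z * h⁻¹ = g ^ i * z * (g ^ i)⁻¹)
    {w : G} (hw : orderOf w = 2) (hwv : pt w = pt v) (hne : w ≠ v) :
    ¬ ∃ k : G, k * v * k⁻¹ = w ∧ k * w * k⁻¹ = v := by
  have hall : ∀ t : G, orderOf t = 2 → IsConj v t := fun t ht => isConj_all O hab hv ht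
  haveI : Fact r.Prime := ⟨hr⟩
  set A := atPt pt (pt v) with hA
  set m := A.card with hm
  have hvA : v ∈ A := mem_atPt.2 ⟨hv, rfl⟩
  have hgfix : g • pt v = pt v := fix_of_commute O hv hgv
  -- `m` is one mod `r`
  have hnd : ¬ r ∣ m := by
    letI : MulAction (Subgroup.zpowers g) {d : G // orderOf d = 2 ∧ pt d = pt v} :=
      { smul := fun k d => ⟨(k : G) * d.1 * (k : G)⁻¹, conj_inv O d.2.1, by
          rw [pt_conj O d.2.1, d.2.2]
          exact MulAction.mem_stabilizer_iff.1
            (Subgroup.zpowers_le.2 (MulAction.mem_stabilizer_iff.2 hgfix) k.2)⟩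
        one_smul := fun d => Subtype.ext (by show (1 : G) * d.1 * (1 : G)⁻¹ = d.1; group)
        mul_smul := fun k l d => Subtype.ext (by
          show ((k : G) * l) * d.1 * ((k : G) * l)⁻¹ = k * (l * d.1 * (l : G)⁻¹) * (k : G)⁻¹
          group) }
    have hP : IsPGroup r (Subgroup.zpowers g) :=
      IsPGroup.of_card (n := 1) (by rw [Nat.card_zpowers, hg, pow_one])
    have h := hP.card_modEq_card_fixedPoints {d : G // orderOf d = 2 ∧ pt d = pt v}
    have h1 : Nat.card (MulAction.fixedPoints (Subgroup.zpowers g)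
        {d : G // orderOf d = 2 ∧ pt d = pt v}) = 1 := by
      rw [Nat.card_eq_one_iff_unique]
      have key : ∀ d : MulAction.fixedPoints (Subgroup.zpowers g)
          {d : G // orderOf d = 2 ∧ pt d = pt v}, d.1.1 = v := fun d =>
        honly d.1.1 d.1.2.1 d.1.2.2 (conj_eq_iff.1
          (congrArg Subtype.val (d.2 ⟨g, Subgroup.mem_zpowers g⟩)))
      refine ⟨⟨fun d d' => Subtype.ext (Subtype.ext ((key d).trans (key d').symm))⟩,
        ⟨⟨⟨v, hv, rfl⟩, fun k => Subtype.ext ?_⟩⟩⟩
      show (k : G) * v * (k : G)⁻¹ = v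
      obtain ⟨i, hi⟩ := Subgroup.mem_zpowers_iff.1 k.2
      rw [← hi]
      exact conj_eq_iff.2 (hgv.zpow_left i)
    rw [h1, ← card_atPt, ← hA, ← hm] at h
    intro hd
    exact hr.ne_one (Nat.dvd_one.1 (Nat.modEq_zero_iff_dvd.1 (h.symm.trans (Nat.modEq_zero_iff_dvd.2 hd))))
  -- the average at squares is small
  haveI := Fintype.ofFinite (IrrCharacter G)
  choose k hk using fun χ : IrrCharacter G => exists_mult O hv hab χ
  have hdec : ∀ s : G, diffFun (G := G) Ω s = ∑ χ : IrrCharacter G, (k χ : ℂ) * (χ : G → ℂ) s := by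
    intro s
    have h := congrFun (Char.classFunction_eq_sum (isClassFunction_diffFun (G := G) (Ω := Ω))) s
    rw [h, Finset.sum_apply]
    refine Finset.sum_congr rfl fun χ _ => ?_
    rw [Pi.smul_apply, smul_eq_mul, hk]
  have hvval : diffFun (G := G) Ω v = ((m - 1 : ℕ) : ℂ) := by
    have e1 : theta v = m := by
      rw [hm, hA, theta, atPt]
      congr 1
      ext s
      simp only [Finset.mem_filter, mem_invol]
      refine and_congr_right fun hs => ?_
      rw [conj_eq_iff]
      exact ⟨fun hc => ((O.cls.fixed_iff v hv _).1 (fix_of_commute O hs hc)),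
        fun hp => (O.comm s v hs hv hp).symm⟩
    have e2 : numFix Ω v = 1 := Finset.card_eq_one.2 ⟨pt v, by
      ext c
      simp only [Finset.mem_filter, Finset.mem_univ, true_and, Finset.mem_singleton]
      exact O.cls.fixed_iff v hv c⟩
    rw [diffFun, e1, e2, Nat.cast_sub (Finset.card_pos.2 ⟨v, hvA⟩), Nat.cast_one]
  have hksum : r * ∑ χ : IrrCharacter G, k χ ≤ m - 1 := by
    have hterm : ∀ χ : IrrCharacter G, ∃ x : ℕ, (k χ : ℂ) * (χ : G → ℂ) v = x ∧ r * k χ ≤ x := by
      intro χ
      rcases Nat.eq_zero_or_pos (k χ) with e | e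
      · exact ⟨0, by simp [e], by simp [e]⟩
      obtain ⟨x, hx, hrx⟩ := exists_value O hr hr2 hg hv hab hgv hgb honly hnd χ
        (by rw [hk]; exact Nat.cast_ne_zero.2 e.ne')
      exact ⟨k χ * x, by rw [hx, Nat.cast_mul], by rw [mul_comm r]; exact Nat.mul_le_mul_left _ hrx⟩
    choose x hx hxle using hterm
    have : ((m - 1 : ℕ) : ℂ) = ((∑ χ : IrrCharacter G, x χ : ℕ) : ℂ) := by
      rw [← hvval, hdec, Nat.cast_sum]
      exact Finset.sum_congr rfl fun χ _ => hx χ
    rw [Nat.cast_inj] at this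
    rw [this, Finset.mul_sum]
    exact Finset.sum_le_sum fun χ _ => hxle χ
  have havg : ((Nat.card G : ℂ)⁻¹ * ∑ s : G, diffFun (G := G) Ω (s * s)).re ≤
      ((∑ χ : IrrCharacter G, k χ : ℕ) : ℝ) := by
    have e : (Nat.card G : ℂ)⁻¹ * ∑ s : G, diffFun (G := G) Ω (s * s) = ∑ χ : IrrCharacter G,
        (k χ : ℂ) * ((Nat.card G : ℂ)⁻¹ * ∑ s : G, (χ : G → ℂ) (s * s)) := by
      simp only [hdec, Finset.mul_sum]
      rw [Finset.sum_comm]
      exact Finset.sum_congr rfl fun χ _ => Finset.sum_congr rfl fun s _ => by ring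
    rw [e, Complex.re_sum, Nat.cast_sum]
    refine Finset.sum_le_sum fun χ _ => ?_
    rw [← Complex.ofReal_natCast, Complex.re_ofReal_mul]
    exact mul_le_of_le_one_right (Nat.cast_nonneg _) (indicator_bound χ)
  -- the flips
  set N := ∑ s ∈ invol G, (flips v s).card with hN
  set C := Subgroup.centralizer ({v} : Set G) with hC
  set E := twoPt G (pt v) b ⊓ C with hE
  have hEC : (Fintype.card Ω - 1) * Nat.card E = Nat.card C := by
    have h1 : Nat.card ↥(MulAction.orbit C b) = Fintype.card Ω - 1 := by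
      rw [Nat.card_eq_card_toFinset, ← Finset.card_univ, ← Finset.card_erase_of_mem
        (Finset.mem_univ (pt v))]
      congr 1
      ext d
      simp only [Finset.mem_erase, Finset.mem_univ, and_true, Set.mem_toFinset]
      constructor
      · rintro ⟨c, rfl⟩ e
        exact hab (MulAction.injective (c : G)
          ((fix_of_commute O hv (mem_centralizer.1 c.2)).trans e.symm))
      · intro hd
        obtain ⟨c, hc, hcd⟩ := cent_trans O hv hab hd.symm
        exact ⟨⟨c, mem_centralizer.2 hc⟩, hcd⟩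
    have h2 : Nat.card E = Nat.card (MulAction.stabilizer C b) := by
      refine Nat.card_congr
        { toFun := fun g => ⟨⟨g, g.2.2⟩, g.2.1.2⟩
          invFun := fun g => ⟨g.1.1, ⟨MulAction.mem_stabilizer_iff.2
            (fix_of_commute O hv (mem_centralizer.1 g.1.2)), g.2⟩, g.1.2⟩
          left_inv := fun g => rfl
          right_inv := fun g => rfl }
    rw [← h1, h2, ← Nat.card_prod]
    exact Nat.card_congr (MulAction.orbitProdStabilizerEquivGroup C b)
  have hSb : (r + (m - 1)) * Nat.card E ≤ r * ∑ y ∈ atPt pt b, (flips v y).card := by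
    obtain ⟨t₀, ht₀, ht₀b, hgt₀⟩ := exists_fixed_at O hr hg hgb
      (by rw [← card_at O (pt v) b, ← card_atPt]; exact hnd)
    -- the orbits of `E` on the involutions at `b`
    have hact : ∀ h ∈ E, ∃ i : ℕ, ∀ y ∈ atPt pt b, h * y * h⁻¹ = g ^ i * y * (g ^ i)⁻¹ := by
      rintro h ⟨⟨-, hb⟩, hhv⟩
      obtain ⟨i, hi⟩ := hpow h (mem_centralizer.1 hhv) (MulAction.mem_stabilizer_iff.1 hb)
      refine ⟨i, fun y hy => ?_⟩
      obtain ⟨hy2, hyb⟩ := mem_atPt.1 hy
      have hgib : g ^ i • b = b :=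
        MulAction.mem_stabilizer_iff.1 (pow_mem (MulAction.mem_stabilizer_iff.2 hgb) i)
      have hfix : ((g ^ i)⁻¹ * h) • pt y = pt y := by
        rw [hyb, mul_smul, MulAction.mem_stabilizer_iff.1 hb, inv_smul_eq_iff, hgib]
      have hc := act_trivial O hv hy2 (by rw [hyb]; exact hab) hfix fun z hz hzv => by
        refine conj_eq_iff.1 ?_
        calc (g ^ i)⁻¹ * h * z * ((g ^ i)⁻¹ * h)⁻¹ = (g ^ i)⁻¹ * (h * z * h⁻¹) * g ^ i := by group
          _ = z := by rw [hi z hz hzv]; group
      calc h * y * h⁻¹ = g ^ i * ((g ^ i)⁻¹ * h * y * ((g ^ i)⁻¹ * h)⁻¹) * (g ^ i)⁻¹ := by group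
        _ = _ := by rw [conj_eq_iff.2 hc]
    have hone : ∀ y ∈ atPt pt b, (flips v y).card =
        Nat.card ↥(E ⊓ Subgroup.centralizer ({y} : Set G)) := by
      intro y hy
      obtain ⟨hy2, hyb⟩ := mem_atPt.1 hy
      rw [card_flips O hv hy2 (by rw [hyb]; exact hab), hyb]
    have ht₀A : t₀ ∈ atPt pt b := mem_atPt.2 ⟨ht₀, ht₀b⟩
    have hEt₀ : E ⊓ Subgroup.centralizer ({t₀} : Set G) = E := inf_eq_left.2 fun h hh => by
      obtain ⟨i, hi⟩ := hact h hh
      refine mem_centralizer.2 (conj_eq_iff.1 ?_)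
      rw [hi t₀ ht₀A, conj_eq_iff]
      exact hgt₀.pow_left i
    have hr' : ∀ y ∈ atPt pt b, Nat.card E ≤ r * (flips v y).card := by
      intro y hy
      have hy' := hone y hy
      let S : Set G := {z | ∃ h ∈ E, h * y * h⁻¹ = z}
      have hS : Nat.card E = Nat.card S * Nat.card ↥(E ⊓ Subgroup.centralizer ({y} : Set G)) := by
        refine card_eq_mul_centralizer E S ?_ ⟨1, one_mem E, by group⟩ fun z hz => hz
        rintro e he _ ⟨h, hh, rfl⟩
        exact ⟨e * h, E.mul_mem he hh, by group⟩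
      have hSr : Nat.card S ≤ r := by
        refine (Nat.card_le_card_of_surjective (fun i : Fin r =>
          (⟨g ^ (i : ℕ) * y * (g ^ (i : ℕ))⁻¹, ⟨g ^ (i : ℕ), ?_, rfl⟩⟩ : S)) ?_).trans_eq
          (Nat.card_fin r)
        · exact ⟨⟨MulAction.mem_stabilizer_iff.2 (MulAction.mem_stabilizer_iff.1
            (pow_mem (MulAction.mem_stabilizer_iff.2 hgfix) _)),
            pow_mem (MulAction.mem_stabilizer_iff.2 hgb) _⟩, mem_centralizer.2 (hgv.pow_left _)⟩
        · rintro ⟨_, h, hh, rfl⟩
          obtain ⟨i, hi⟩ := hact h hh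
          refine ⟨⟨i % r, Nat.mod_lt _ hr.pos⟩, Subtype.ext ?_⟩
          show g ^ (i % r) * y * (g ^ (i % r))⁻¹ = h * y * h⁻¹
          rw [hi y hy, ← hg, pow_mod_orderOf]
      rw [hS, hy']
      exact Nat.mul_le_mul_right _ hSr
    rw [← Finset.add_sum_erase _ _ ht₀A, mul_add, add_mul, hone t₀ ht₀A, hEt₀]
    refine Nat.add_le_add_left ?_ _
    rw [Finset.mul_sum, ← smul_eq_mul, show m - 1 = ((atPt pt b).erase t₀).card by
      rw [Finset.card_erase_of_mem ht₀A, card_atPt_eq O b (pt v), ← hA, ← hm]]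
    exact Finset.card_nsmul_le_sum _ _ _ fun y hy => hr' y (Finset.mem_of_mem_erase hy)
  have hNlow : Nat.card C * (2 * r + (m - 1)) + r * (flips v w).card ≤ r * N := by
    have hsplit : N = ∑ c : Ω, ∑ y ∈ atPt pt c, (flips v y).card := by
      rw [hN, ← Finset.sum_fiberwise (invol G) pt]; rfl
    rw [hsplit, ← Finset.add_sum_erase _ _ (Finset.mem_univ (pt v)), mul_add]
    have h1 : Nat.card C + (flips v w).card ≤ ∑ y ∈ atPt pt (pt v), (flips v y).card := by
      have hv' : (flips v v).card = Nat.card C := by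
        rw [Nat.card_eq_fintype_card, Fintype.card_subtype]
        congr 1
        ext s
        simp [flips, hC, mem_centralizer, conj_eq_iff]
      rw [← Finset.add_sum_erase _ _ hvA, hv']
      refine Nat.add_le_add_left ?_ _
      exact Finset.single_le_sum (f := fun y => (flips v y).card) (fun _ _ => Nat.zero_le _)
        (Finset.mem_erase.2 ⟨hne, mem_atPt.2 ⟨hw, hwv⟩⟩)
    have h2 : ∀ c ∈ Finset.univ.erase (pt v),
        ∑ y ∈ atPt pt c, (flips v y).card = ∑ y ∈ atPt pt b, (flips v y).card := by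
      intro c hc
      obtain ⟨q, hqv, hqc⟩ := cent_trans O hv hab (Finset.mem_erase.1 hc).1.symm
      refine (Finset.sum_equiv (MulAut.conj q).toEquiv (fun s => ?_) fun s _ => ?_).symm
      · simp only [mem_atPt, MulEquiv.toEquiv_eq_coe, EquivLike.coe_coe, MulAut.conj_apply,
          Involution.orderOf_conj]
        refine and_congr_right fun hs => ?_
        rw [pt_conj O hs, ← hqc, smul_left_cancel_iff]
      · refine Finset.card_equiv (MulAut.conj q).toEquiv fun x => ?_
        simp only [mem_flips, MulEquiv.toEquiv_eq_coe, EquivLike.coe_coe, MulAut.conj_apply]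
        have hqv' : q * v * q⁻¹ = v := conj_eq_iff.2 hqv
        constructor
        · rintro ⟨e1, e2⟩
          constructor
          · calc q * x * q⁻¹ * v * (q * x * q⁻¹)⁻¹ = q * (x * (q⁻¹ * v * q) * x⁻¹) * q⁻¹ := by group
              _ = q * s * q⁻¹ := by rw [mul_assoc q⁻¹ v q, ← hqv.eq, inv_mul_cancel_left, e1]
          · calc q * x * q⁻¹ * (q * s * q⁻¹) * (q * x * q⁻¹)⁻¹ = q * (x * s * x⁻¹) * q⁻¹ := by group
              _ = v := by rw [e2, hqv']
        · rintro ⟨e1, e2⟩
          constructor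
          · have e1' : q * (x * v * x⁻¹) * q⁻¹ = q * s * q⁻¹ := by
              rw [← e1]
              calc q * (x * v * x⁻¹) * q⁻¹ = q * x * (v * q⁻¹) * (q * x * q⁻¹)⁻¹ := by group
                _ = _ := by rw [← hqv.inv_left.eq]; group
            exact mul_left_cancel (mul_right_cancel e1')
          · have e2' : q * (x * s * x⁻¹) * q⁻¹ = q * v * q⁻¹ := by
              rw [hqv']
              calc q * (x * s * x⁻¹) * q⁻¹
                  = q * x * q⁻¹ * (q * s * q⁻¹) * (q * x * q⁻¹)⁻¹ := by group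
                _ = v := e2
            exact mul_left_cancel (mul_right_cancel e2')
    rw [Finset.sum_congr rfl h2, Finset.sum_const, smul_eq_mul,
      Finset.card_erase_of_mem (Finset.mem_univ _), Finset.card_univ]
    have h3 := Nat.mul_le_mul_left (Fintype.card Ω - 1) hSb
    rw [mul_left_comm, hEC] at h3
    have h4 := Nat.mul_le_mul_left r h1
    nlinarith
  -- conclusion
  rintro ⟨q, hq1, hq2⟩
  have hfl : 0 < (flips v w).card := Finset.card_pos.2 ⟨q, by simp [flips, hq1, hq2]⟩
  have hG : Nat.card G = Nat.card C * (invol G).card := card_eq_cent_mul hv hall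
  have hsq : ∑ s : G, diffFun (G := G) Ω (s * s) =
      ((invol G).card : ℂ) * N - 2 * (Nat.card G : ℂ) := by
    simp only [diffFun, Finset.sum_sub_distrib, ← Nat.cast_sum]
    rw [sum_theta_sq O hab hv, sum_pi_sq O hab, ← hN, Nat.card_eq_fintype_card]
    push_cast
    ring
  rw [hsq] at havg
  have hre : (((Nat.card G : ℂ))⁻¹ * (((invol G).card : ℂ) * N - 2 * (Nat.card G : ℂ))).re =
      (Nat.card G : ℝ)⁻¹ * (((invol G).card : ℝ) * N - 2 * (Nat.card G : ℝ)) := by
    rw [show (((Nat.card G : ℂ))⁻¹ * (((invol G).card : ℂ) * N - 2 * (Nat.card G : ℂ))) =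
      (((Nat.card G : ℝ)⁻¹ * (((invol G).card : ℝ) * N - 2 * (Nat.card G : ℝ)) : ℝ) : ℂ) by
        push_cast; ring, Complex.ofReal_re]
  rw [hre, inv_mul_le_iff₀ (Nat.cast_pos.2 Nat.card_pos)] at havg
  have hI : (0 : ℝ) < (invol G).card := by
    exact_mod_cast Finset.card_pos.2 ⟨v, mem_invol.2 hv⟩
  have hGR : (Nat.card G : ℝ) = (Nat.card C : ℝ) * (invol G).card := by exact_mod_cast hG
  rw [hGR] at havg
  have h5 : (N : ℝ) ≤ (Nat.card C : ℝ) * (2 + ((∑ χ : IrrCharacter G, k χ : ℕ) : ℝ)) := by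
    refine le_of_mul_le_mul_left ?_ hI
    nlinarith
  have h6 : N ≤ Nat.card C * (2 + ∑ χ : IrrCharacter G, k χ) := by exact_mod_cast h5
  have h7 := Nat.mul_le_mul_left r h6
  have h8 := Nat.mul_le_mul_left (Nat.card C) hksum
  have h9 : 0 < r * (flips v w).card := Nat.mul_pos hr.pos hfl
  nlinarith

end Cfsg.Agent.Bender.OddStep
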