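/-
The standing hypotheses of stage 2 for a core-free strongly embedded subgroup (Bender; owner: helper84).

Main results (namespace `Cfsg.Agent.Bender`):
* `oddHyp_of_stronglyEmbedded` : `OddStep.OddHyp` holds on the cosets of `H`
* `exists_not_exchanged` : Theorem ODD for an element of `H`
-/
import Cfsg.Agent.Lib.Bender.HalfCore
import Cfsg.Agent.Lib.Bender.HalfOdd
import Cfsg.Agent.Lib.Bender.SwapCentral

set_option autoImplicit false
set_option linter.style.haveILetI false
set_option linter.unusedSectionVars false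

namespace Cfsg.Agent.Bender

open Cfsg Involution Aschbacher

universe u

variable {G : Type u} [Group G] [Finite G] {H : Subgroup G}
  (hH : IsStronglyEmbedded H) (hcore : H.normalCore = ⊥)
  (h2 : ∃ x y : G, x ≠ 1 ∧ y ≠ 1 ∧ x ≠ y ∧ x * x = 1 ∧ y * y = 1 ∧ x * y = y * x)
  (hS : CoreTwo H)
include hH hcore h2 hS

theorem oddHyp_of_stronglyEmbedded : OddStep.OddHyp G (G ⧸ H) (fixPt H) := by
  have P := pointClass_of_stronglyEmbedded hH
  set o : G ⧸ H := ((1 : G) : G ⧸ H) with ho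
  have htwo : ∀ x y : G ⧸ H, x ≠ y → Odd (Nat.card (twoPt G x y)) := fun x y h => odd_two_point hH h
  have hto : ∀ c : G ⧸ H, ∃ g : G, g • c = o := by
    intro c
    induction c using QuotientGroup.induction_on with
    | _ g => exact ⟨g⁻¹, by rw [MulAction.Quotient.smul_mk, smul_eq_mul, inv_mul_cancel]⟩
  have hconj : ∀ (g : G) {s : G}, orderOf s = 2 → fixPt H (g * s * g⁻¹) = g • fixPt H s :=
    fun g {s} hs => P.pt_conj g hs
  have hmem : ∀ (g : G) {s : G}, orderOf s = 2 → g • fixPt H s = o → g * s * g⁻¹ ∈ H := by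
    intro g s hs e
    refine smul_one_eq.1 ?_
    rw [← ho, ← e, ← hconj g hs]
    exact P.smul_pt (show g * s * g⁻¹ ∈ {d : G | orderOf d = 2} from (Involution.orderOf_conj g s).trans hs)
  have hnc : ∀ s k : G, orderOf s = 2 → k • fixPt H s = fixPt H s → Odd (orderOf k) →
      s * k * s⁻¹ = k⁻¹ → k = 1 := by
    intro s k hs hk hodd hinv
    obtain ⟨g, hg⟩ := hto (fixPt H s)
    have hkH : g * k * g⁻¹ ∈ H := smul_one_eq.1 (by
      rw [← ho, ← hg, mul_smul, mul_smul, inv_smul_smul, hk])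
    have h := eq_one_of_inverted_mem hH hcore h2 hS (v := g * s * g⁻¹)
      ((Involution.orderOf_conj g s).trans hs) (hmem g hs hg) hkH
      (by rwa [Involution.orderOf_conj]) (by
        calc g * s * g⁻¹ * (g * k * g⁻¹) * (g * s * g⁻¹)⁻¹ = g * (s * k * s⁻¹) * g⁻¹ := by group
          _ = (g * k * g⁻¹)⁻¹ := by rw [hinv]; group)
    exact conj_eq_one_iff.1 h
  refine ⟨P, htwo, fun x y z hy hz => ?_, fun s t hs ht e => ?_, hnc, fun V z y hz hne hVy hVz => ?_⟩
  · obtain ⟨g, hg⟩ := hto x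
    obtain ⟨h, hh, he⟩ := exists_smul_other hH h2 hS (z := g • y) (z' := g • z)
      (fun e => hy (MulAction.injective g (hg.trans e))) (fun e => hz (MulAction.injective g (hg.trans e)))
    refine ⟨g⁻¹ * h * g, MulAction.mem_stabilizer_iff.2 ?_, ?_⟩
    · rw [mul_smul, mul_smul, hg, smul_one_eq.2 hh, inv_smul_eq_iff, hg]
    · rw [mul_smul, mul_smul, he, inv_smul_smul]
  · obtain ⟨g, hg⟩ := hto (fixPt H s)
    have h := commute_involutions hH hcore h2 hS ((Involution.orderOf_conj g s).trans hs) (hmem g hs hg)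
      ((Involution.orderOf_conj g t).trans ht) (hmem g ht (e ▸ hg))
    have e2 : g * (s * t) * g⁻¹ = g * (t * s) * g⁻¹ := by
      calc g * (s * t) * g⁻¹ = g * s * g⁻¹ * (g * t * g⁻¹) := by group
        _ = g * t * g⁻¹ * (g * s * g⁻¹) := h.eq
        _ = g * (t * s) * g⁻¹ := by group
    exact mul_left_cancel (mul_right_cancel e2)
  · have hVz' : V ≤ MulAction.stabilizer G (fixPt H z) := fun h hh =>
      MulAction.mem_stabilizer_iff.2 (P.commute_fix hz (mem_centralizer.1 (hVz hh)))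
    refine exists_swapper_centralizing P htwo (fun g h => h) (fun r _ hr t ht X hX htX hfix => ?_) V
      ((htwo _ y hne).of_dvd_nat (Subgroup.card_dvd_of_le (le_inf hVz' hVy))) _ y hne
      (le_inf hVz' hVy) hz rfl hVz
    have hr2 : r ≠ 2 := by
      rintro rfl
      exact Nat.two_dvd_ne_zero.2 (Nat.odd_iff.1 (P.odd_card o)) (hr o)
    have hXodd : Odd (Nat.card X) := by
      obtain ⟨k, hk⟩ := hX.exists_card_eq
      rw [hk]
      exact (((Fact.out : r.Prime).eq_two_or_odd').resolve_left hr2).pow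
    intro x hx
    have ht2 : orderOf t = 2 := ht
    set k := x⁻¹ * (t * x * t⁻¹) with hk
    have hkX : k ∈ X := X.mul_mem (X.inv_mem hx) ((Subgroup.mem_normalizer_iff.1 htX x).1 hx)
    have hki : t * k * t⁻¹ = k⁻¹ := by
      rw [hk, mul_inv_rev, mul_inv_rev, mul_inv_rev, inv_inv, inv_inv, inv_eq ht2]
      calc t * (x⁻¹ * (t * x * t)) * t = t * x⁻¹ * t * x * (t * t) := by group
        _ = _ := by rw [mul_self ht2]; group
    have h1 := hnc t k ht2 (MulAction.mem_stabilizer_iff.1 (hfix hkX))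
      (hXodd.of_dvd_nat (Subgroup.orderOf_dvd_natCard _ hkX)) hki
    rw [hk, inv_mul_eq_one] at h1
    exact mem_centralizer.2 (show Commute t x from mul_inv_eq_iff_eq_mul.1 h1.symm).symm

/-- **Theorem ODD** for an element of `H`. -/
theorem exists_not_exchanged {v g : G} {r : ℕ} (hr : r.Prime) (hr2 : r ≠ 2) (hg : orderOf g = r)
    (hv : orderOf v = 2) (hvH : v ∈ H) {b : G ⧸ H} (hb : ((1 : G) : G ⧸ H) ≠ b)
    (hgv : Commute g v) (hgb : g • b = b)
    (honly : ∀ z : G, orderOf z = 2 → z ∈ H → Commute g z → z = v)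
    (hpow : ∀ h : G, Commute h v → h • b = b → ∃ i : ℕ, ∀ z : G, orderOf z = 2 → z ∈ H →
      h * z * h⁻¹ = g ^ i * z * (g ^ i)⁻¹)
    {w : G} (hw : orderOf w = 2) (hwH : w ∈ H) (hne : w ≠ v) :
    ¬ ∃ k : G, k * v * k⁻¹ = w ∧ k * w * k⁻¹ = v := by
  haveI := Fintype.ofFinite G
  haveI := Fintype.ofFinite (G ⧸ H)
  have O := oddHyp_of_stronglyEmbedded hH hcore h2 hS
  have hpt : ∀ {z : G}, orderOf z = 2 → z ∈ H → fixPt H z = ((1 : G) : G ⧸ H) := fun {z} hz hzH =>
    ((O.cls.fixed_iff z hz _).1 (smul_one_eq.2 hzH)).symm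
  have hin : ∀ {z : G}, orderOf z = 2 → fixPt H z = fixPt H v → z ∈ H := fun {z} hz e => by
    refine smul_one_eq.1 ?_
    rw [← hpt hv hvH, ← e]
    exact O.cls.smul_pt (show z ∈ {d : G | orderOf d = 2} from hz)
  refine OddStep.not_exchanged O hr hr2 hg hv (b := b) (by rw [hpt hv hvH]; exact hb) hgv hgb
    (fun z hz e hc => honly z hz (hin hz e) hc) (fun h hhv hhb => ?_) hw
    (by rw [hpt hw hwH, hpt hv hvH]) hne
  obtain ⟨i, hi⟩ := hpow h hhv hhb
  exact ⟨i, fun z hz e => hi z hz (hin hz e)⟩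

end Cfsg.Agent.Bender
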