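/-
Bender's theorem, stage 2: a core-free strongly embedded subgroup with two commuting involutions
gives a rank one set-up (assembly; owner: helper8).

If some element `g₀` of prime order fixing two points centralises only one involution `v` at the
first, then by theorem ODD and the field structure the centraliser `C` of all involutions of `H`
contains the elements of `2`-power order of `H` and is transitive on the other points; below `C`
no such element exists, so the transfer descends to the normal regular subgroup.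

* `rankOneHalf : RankOneHalf`
-/
import Cfsg.Agent.Lib.Bender.HalfPower
import Cfsg.Agent.Lib.Bender.HalfSetup
import Cfsg.Agent.Lib.Bender.HalfDescent
import Cfsg.Agent.Lib.Bender.FreeCase
import Cfsg.Agent.Lib.SuzukiRankOne.Kernel.Main

set_option autoImplicit false
set_option linter.style.haveILetI false
set_option linter.unusedSectionVars false

namespace Cfsg.Agent.Bender

open Cfsg Involution Aschbacher Cfsg.Agent.SuzukiRankOne

universe u

variable {G : Type u} [Group G] [Finite G] {H : Subgroup G}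

local notation "o" => ((1 : G) : G ⧸ H)

/-- The involutions of `H` and the identity. -/
def invGroup (hcomm : ∀ s ∈ H, ∀ t ∈ H, orderOf s = 2 → orderOf t = 2 → Commute s t) : Subgroup G where
  carrier := {x | x ∈ H ∧ x * x = 1}
  one_mem' := ⟨one_mem H, one_mul 1⟩
  mul_mem' := by
    rintro x y ⟨hx, hx2⟩ ⟨hy, hy2⟩
    refine ⟨mul_mem hx hy, ?_⟩
    by_cases hx1 : x = 1
    · rw [hx1, one_mul, hy2]
    by_cases hy1 : y = 1
    · rw [hy1, mul_one, hx2]
    have h := hcomm y hy x hx (orderOf_of_sq hy2 hy1) (orderOf_of_sq hx2 hx1)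
    calc x * y * (x * y) = x * (y * x) * y := by group
      _ = (x * x) * (y * y) := by rw [h.eq]; group
      _ = 1 := by rw [hx2, hy2, mul_one]
  inv_mem' := by
    rintro x ⟨hx, hx2⟩
    exact ⟨inv_mem hx, by rw [← mul_inv_rev, hx2, inv_one]⟩

/-- An element of a subgroup of odd order is a power of its square. -/
theorem eq_of_sq_fix {z x : G} (hx : Odd (orderOf x)) (h : x * (x * z * x⁻¹) * x⁻¹ = z) :
    x * z * x⁻¹ = z := by
  obtain ⟨k, hk⟩ := hx
  have hc : Commute (x ^ 2) z := mul_inv_eq_iff_eq_mul.1 (by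
    rw [pow_two]
    calc x * x * z * (x * x)⁻¹ = x * (x * z * x⁻¹) * x⁻¹ := by group
      _ = z := h)
  have hxz : Commute x z := by
    have e : x = (x ^ 2) ^ (k + 1) := by
      rw [← pow_mul, show 2 * (k + 1) = 2 * k + 1 + 1 by ring, pow_succ, ← hk, pow_orderOf_eq_one, one_mul]
    rw [e]; exact hc.pow_left _
  rw [hxz.eq, mul_inv_cancel_right]

namespace HalfHyp

variable (hh : HalfHyp H)
include hh

/-- In a subgroup `W ≤ H` transitive and odd on the involutions of `H`, the elements fixing `v` act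
as powers of an element of prime order fixing only `v`. -/
theorem exists_pow_action {W : Subgroup G} (hW : W ≤ H)
    (hflip : ∀ x ∈ W, ∀ z ∈ H, orderOf z = 2 → x * (x * z * x⁻¹) * x⁻¹ = z → x * z * x⁻¹ = z)
    (htr : ∀ s ∈ H, ∀ t ∈ H, orderOf s = 2 → orderOf t = 2 → ∃ k ∈ W, k * s * k⁻¹ = t)
    {v g : G} (hv : orderOf v = 2) (hvH : v ∈ H) (hgW : g ∈ W) (hg : (orderOf g).Prime)
    (hgv : Commute g v) (honly : ∀ z : G, orderOf z = 2 → z ∈ H → Commute g z → z = v)
    (hne : ∃ z : G, orderOf z = 2 ∧ z ∈ H ∧ z ≠ v) {h : G} (hhW : h ∈ W) (hhv : Commute h v) :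
    ∃ i : ℕ, ∀ z : G, orderOf z = 2 → z ∈ H → h * z * h⁻¹ = g ^ i * z * (g ^ i)⁻¹ := by
  set Z := invGroup hh.comm with hZdef
  have hinv : ∀ t : G, orderOf t = 2 → t ∈ H → t ∈ Z := fun t ht htH => ⟨htH, Involution.mul_self ht⟩
  have hord : ∀ z : Z, z ≠ 1 → orderOf (z : G) = 2 := fun z hz =>
    orderOf_of_sq z.2.2 fun e => hz (Subtype.ext e)
  letI : CommGroup Z :=
    { (inferInstance : Group Z) with
      mul_comm := fun x y => by
        by_cases hx : x = 1
        · rw [hx, one_mul, mul_one]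
        by_cases hy : y = 1
        · rw [hy, one_mul, mul_one]
        exact Subtype.ext (hh.comm _ x.2.1 _ y.2.1 (hord x hx) (hord y hy)).eq }
  letI : MulDistribMulAction W Z :=
    { smul := fun k z => ⟨(k : G) * z * (k : G)⁻¹,
        mul_mem (mul_mem (hW k.2) z.2.1) (inv_mem (hW k.2)), by
        calc (k : G) * z * (k : G)⁻¹ * ((k : G) * z * (k : G)⁻¹)
            = (k : G) * ((z : G) * z) * (k : G)⁻¹ := by group
          _ = 1 := by rw [z.2.2, mul_one, mul_inv_cancel]⟩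
      one_smul := fun z => Subtype.ext (by
        show (1 : G) * z * (1 : G)⁻¹ = z
        group)
      mul_smul := fun a b z => Subtype.ext (by
        show ((a : G) * b) * z * ((a : G) * b)⁻¹ = a * (b * z * (b : G)⁻¹) * (a : G)⁻¹
        group)
      smul_mul := fun a x y => Subtype.ext (by
        show (a : G) * (x * y) * (a : G)⁻¹ = (a * x * (a : G)⁻¹) * (a * y * (a : G)⁻¹)
        group)
      smul_one := fun a => Subtype.ext (by
        show (a : G) * 1 * (a : G)⁻¹ = 1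
        group) }
  set φ := MulDistribMulAction.toMulAut W Z with hφ
  have hsq : ∀ z : Z, z * z = 1 := fun z => Subtype.ext z.2.2
  have hval : ∀ (k : W) (z : Z), ((φ k z : Z) : G) = (k : G) * z * (k : G)⁻¹ := fun k z => rfl
  have htrans : ∀ x y : Z, x ≠ 1 → y ≠ 1 → ∃ l : φ.range, l • x = y := by
    intro x y hx hy
    obtain ⟨k, hk, e⟩ := htr x x.2.1 y y.2.1 (hord x hx) (hord y hy)
    exact ⟨⟨φ ⟨k, hk⟩, ⟨_, rfl⟩⟩, Subtype.ext e⟩
  have hodd : Odd (Nat.card φ.range) := by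
    by_contra hnot
    haveI : Fact (Nat.Prime 2) := ⟨Nat.prime_two⟩
    obtain ⟨⟨l, k, rfl⟩, hl⟩ :=
      exists_prime_orderOf_dvd_card' (G := φ.range) 2 (even_iff_two_dvd.1 (Nat.not_odd_iff_even.1 hnot))
    refine Involution.ne_one hl (Subtype.ext (MulEquiv.ext fun z => ?_))
    show φ k z = z
    by_cases hz : z = 1
    · rw [hz, map_one]
    refine Subtype.ext ?_
    rw [hval]
    refine hflip k k.2 z z.2.1 (hord z hz) ?_
    have h2 := congrArg (fun f : φ.range => ((f.1 z : Z) : G)) (Involution.mul_self hl)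
    exact h2
  let vv : Z := ⟨v, hinv v hv hvH⟩
  have hvv : vv ≠ 1 := fun e => Involution.ne_one hv (congrArg Subtype.val e)
  let gl : φ.range := ⟨φ ⟨g, hgW⟩, ⟨_, rfl⟩⟩
  have hgl1 : gl ≠ 1 := by
    intro e
    obtain ⟨z, hz, hzH, hzv⟩ := hne
    have h1 : g * z * g⁻¹ = z :=
      congrArg (fun f : φ.range => ((f.1 (⟨z, hinv z hz hzH⟩ : Z) : Z) : G)) e
    exact hzv (honly z hz hzH (mul_inv_eq_iff_eq_mul.1 h1))
  have hglord : (orderOf gl).Prime := by
    have h1 : orderOf gl ∣ orderOf g := by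
      refine orderOf_dvd_of_pow_eq_one (Subtype.ext ?_)
      show φ ⟨g, hgW⟩ ^ orderOf g = 1
      rw [← map_pow, show (⟨g, hgW⟩ : W) ^ orderOf g = 1 from
        Subtype.ext (by rw [Subgroup.coe_pow, pow_orderOf_eq_one]; rfl), map_one]
    rw [((Nat.dvd_prime hg).1 h1).resolve_left fun e => hgl1 (orderOf_eq_one_iff.1 e)]
    exact hg
  have hmem := LinearSplit.mem_zpowers_of_fixes hsq htrans hodd (g := gl) (v := vv) hvv hglord
    (Subtype.ext (mul_inv_eq_iff_eq_mul.2 hgv.eq))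
    (fun z hz e => Subtype.ext (honly z (hord z hz) z.2.1
      (mul_inv_eq_iff_eq_mul.1 (congrArg Subtype.val e))))
    (x := (⟨φ ⟨h, hhW⟩, ⟨_, rfl⟩⟩ : φ.range)) (Subtype.ext (mul_inv_eq_iff_eq_mul.2 hhv.eq))
  obtain ⟨i, hi⟩ := mem_powers_iff_mem_zpowers.2 hmem
  refine ⟨i, fun z hz hzH => ?_⟩
  have h1 := congrArg (fun f : φ.range => ((f.1 (⟨z, hinv z hz hzH⟩ : Z) : Z) : G)) hi
  have h2 : φ ⟨g, hgW⟩ ^ i = φ ⟨g ^ i, W.pow_mem hgW i⟩ := by
    rw [← map_pow]; exact congrArg φ (Subtype.ext rfl)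
  simp only [gl, SubmonoidClass.coe_pow, h2] at h1
  exact h1.symm

/-- A lone element forces the centraliser of the involutions of `H` to be a candidate. -/
theorem cand_centralizer (h2 : TwoInvolutions G) {g v : G} {b : G ⧸ H} (hb : b ≠ o) (hgH : g ∈ H)
    (hgb : g • b = b) (hg : (orderOf g).Prime) (hv : orderOf v = 2) (hvH : v ∈ H)
    (hgv : Commute g v) (honly : ∀ z : G, orderOf z = 2 → z ∈ H → Commute g z → z = v) :
    Cand H (H ⊓ Subgroup.centralizer {z : G | orderOf z = 2 ∧ z ∈ H}) := by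
  have hW : twoPt G o b ≤ H := fun x hx => smul_one_eq.1 (MulAction.mem_stabilizer_iff.1 hx.1)
  have hgW : g ∈ twoPt G o b :=
    ⟨MulAction.mem_stabilizer_iff.2 (smul_one_eq.2 hgH), MulAction.mem_stabilizer_iff.2 hgb⟩
  have hodd := hh.odd_twoPt (Ne.symm hb)
  have hne : ∃ z : G, orderOf z = 2 ∧ z ∈ H ∧ z ≠ v := by
    obtain ⟨d, e, hdH, heH, hd, he, hde, -⟩ := exists_four_mem hh.se h2
    by_cases h1 : d = v
    · exact ⟨e, he, heH, fun h => hde (h1.trans h.symm)⟩
    · exact ⟨d, hd, hdH, h1⟩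
  have hg2 : orderOf g ≠ 2 := fun e => not_mem_of_odd hodd e hgW
  have hpt : ∀ s ∈ H, orderOf s = 2 → fixPt H s = o := fun s hs hs2 =>
    ((hh.pc.fixed_iff s hs2 o).1 (smul_one_eq.2 hs)).symm
  have htrW : ∀ s ∈ H, ∀ t ∈ H, orderOf s = 2 → orderOf t = 2 →
      ∃ k ∈ twoPt G o b, k * s * k⁻¹ = t := fun s hs t ht hs2 ht2 =>
    hh.pc.exists_conj_point (Ne.symm hb) (show s ∈ {d : G | orderOf d = 2} from hs2) (hpt s hs hs2)
      (show t ∈ {d : G | orderOf d = 2} from ht2) (hpt t ht ht2)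
  have hpowW : ∀ h : G, Commute h v → h • b = b → ∃ i : ℕ, ∀ z : G, orderOf z = 2 → z ∈ H →
      h * z * h⁻¹ = g ^ i * z * (g ^ i)⁻¹ := fun h hhv hhb =>
    hh.exists_pow_action hW (fun x hx z _ _ e =>
        eq_of_sq_fix (hodd.of_dvd_nat (Subgroup.orderOf_dvd_natCard _ hx)) e)
      htrW hv hvH hgW hg hgv honly hne (h := h)
      ⟨MulAction.mem_stabilizer_iff.2 (smul_one_eq.2
        (centralizer_le hh.se hv hvH (mem_centralizer.2 hhv))), MulAction.mem_stabilizer_iff.2 hhb⟩ hhv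
  -- theorem ODD: nothing exchanges two involutions of `H`
  have hflip : ∀ x ∈ H, ∀ z ∈ H, orderOf z = 2 → x * (x * z * x⁻¹) * x⁻¹ = z → x * z * x⁻¹ = z := by
    intro x hx z hz hz2 hxx
    by_contra hne'
    obtain ⟨k, hk, hkz⟩ := htrW z hz v hvH hz2 hv
    have hkH := hW hk
    set t := x * z * x⁻¹ with ht
    set w := k * t * k⁻¹ with hw
    have hwH : w ∈ H := H.mul_mem (H.mul_mem hkH (H.mul_mem (H.mul_mem hx hz) (H.inv_mem hx))) (H.inv_mem hkH)
    have hw2 : orderOf w = 2 := by rw [hw, Involution.orderOf_conj, ht, Involution.orderOf_conj, hz2]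
    have hwv : w ≠ v := fun e => hne' (mul_left_cancel (mul_right_cancel (e.trans hkz.symm)))
    refine exists_not_exchanged hh.se hh.core h2 (Bender.coreTwo hh.se) hg hg2 rfl hv hvH (Ne.symm hb) hgv hgb
      honly hpowW hw2 hwH hwv ⟨k * x * k⁻¹, ?_, ?_⟩
    · rw [← hkz, hw, ht]; group
    · calc k * x * k⁻¹ * w * (k * x * k⁻¹)⁻¹ = k * (x * t * x⁻¹) * k⁻¹ := by rw [hw]; group
        _ = v := by rw [hxx, hkz]
  have htrH : ∀ s ∈ H, ∀ t ∈ H, orderOf s = 2 → orderOf t = 2 → ∃ k ∈ H, k * s * k⁻¹ = t :=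
    fun s hs t ht hs2 ht2 => by
      obtain ⟨k, hk, e⟩ := htrW s hs t ht hs2 ht2
      exact ⟨k, hW hk, e⟩
  have hmem : ∀ x : G, x ∈ H ⊓ Subgroup.centralizer {z : G | orderOf z = 2 ∧ z ∈ H} ↔
      x ∈ H ∧ ∀ z ∈ H, orderOf z = 2 → x * z * x⁻¹ = z := fun x =>
    ⟨fun h => ⟨h.1, fun z hz hz2 => by rw [← h.2 z ⟨hz2, hz⟩, mul_inv_cancel_right]⟩,
      fun h => ⟨h.1, fun z hz => (mul_inv_eq_iff_eq_mul.1 (h.2 z hz.2 hz.1)).symm⟩⟩
  refine ⟨inf_le_left, fun h hhH x hx => ?_, ?_, fun b' z hb' hz => ?_⟩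
  · rw [hmem] at hx ⊢
    refine ⟨H.mul_mem (H.mul_mem hhH hx.1) (H.inv_mem hhH), fun z hz hz2 => ?_⟩
    have h1 := hx.2 (h⁻¹ * z * h) (H.mul_mem (H.mul_mem (H.inv_mem hhH) hz) hhH)
      (by have := Involution.orderOf_conj h⁻¹ z; rw [inv_inv] at this; rw [this, hz2])
    calc h * x * h⁻¹ * z * (h * x * h⁻¹)⁻¹ = h * (x * (h⁻¹ * z * h) * x⁻¹) * h⁻¹ := by group
      _ = z := by rw [h1]; group
  · rintro x hxH ⟨k, hk⟩
    rw [hmem]
    refine ⟨hxH, ?_⟩
    induction k generalizing x with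
    | zero =>
      intro z _ _
      rw [pow_zero, pow_one] at hk
      rw [hk, one_mul, inv_one, mul_one]
    | succ k ih =>
      intro z hz hz2
      refine hflip x hxH z hz hz2 ?_
      have h1 := ih (x * x) (H.mul_mem hxH hxH) (by rw [← sq, ← pow_mul, ← pow_succ']; exact hk) z hz hz2
      calc x * (x * z * x⁻¹) * x⁻¹ = x * x * z * (x * x)⁻¹ := by group
        _ = z := h1
  · haveI := Fintype.ofFinite G
    haveI := Fintype.ofFinite (G ⧸ H)
    have O := oddHyp_of_stronglyEmbedded hh.se hh.core h2 (Bender.coreTwo hh.se)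
    have hmove : ∀ z' : G ⧸ H, z' ≠ o → ∃ c ∈ H ⊓ Subgroup.centralizer {z : G | orderOf z = 2 ∧ z ∈ H},
        c • b = z' := by
      intro z' hz'
      obtain ⟨c, hcv, hcb⟩ := OddStep.cent_trans O hv (c := b) (c' := z')
        (by rw [hpt v hvH hv]; exact Ne.symm hb) (by rw [hpt v hvH hv]; exact Ne.symm hz')
      have hcH : c ∈ H := centralizer_le hh.se hv hvH (mem_centralizer.2 hcv)
      obtain ⟨i, hi⟩ := hh.exists_pow_action le_rfl hflip htrH hv hvH hgH hg hgv honly hne hcH hcv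
      refine ⟨c * (g ^ i)⁻¹, (hmem _).2 ⟨H.mul_mem hcH (H.inv_mem (H.pow_mem hgH i)), fun w hw hw2 => ?_⟩, ?_⟩
      · have h1 := hi ((g ^ i)⁻¹ * w * g ^ i)
          (by have := Involution.orderOf_conj (g ^ i)⁻¹ w; rw [inv_inv] at this; rw [this, hw2])
          (H.mul_mem (H.mul_mem (H.inv_mem (H.pow_mem hgH i)) hw) (H.pow_mem hgH i))
        calc c * (g ^ i)⁻¹ * w * (c * (g ^ i)⁻¹)⁻¹
            = c * ((g ^ i)⁻¹ * w * g ^ i) * c⁻¹ := by group
          _ = w := by rw [h1]; group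
      · rw [mul_smul, inv_smul_eq_iff.2
          (MulAction.mem_stabilizer_iff.1 (pow_mem (MulAction.mem_stabilizer_iff.2 hgb) i)).symm, hcb]
    obtain ⟨c₁, hc₁, rfl⟩ := hmove b' hb'
    obtain ⟨c₂, hc₂, rfl⟩ := hmove z hz
    exact ⟨c₂ * c₁⁻¹, mul_mem hc₂ (inv_mem hc₁), by rw [mul_smul, inv_smul_smul]⟩

end HalfHyp

/-- The conclusion of stage 2 given it for smaller groups. -/
theorem rankOne_step (hH : IsStronglyEmbedded H) (hcore : H.normalCore = ⊥) (h2 : TwoInvolutions G)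
    (hIH : RankOneBelow G) :
    ∃ (t : G) (Q : Subgroup G), IsRankOneSetup G (G ⧸ H) o t Q := by
  have hh : HalfHyp H := ⟨hH, hcore,
    fun s hs t ht hs2 ht2 => commute_involutions hH hcore h2 (coreTwo hH) hs2 hs ht2 ht,
    fun v k hv hvH hk hodd hi => eq_one_of_inverted_mem hH hcore h2 (coreTwo hH) hv hvH hk hodd hi,
    fun M L hL => coreTwo hL⟩
  have hK : KernelShape.{u, u} := kernelShape
  rcases hh.rankOne_or_stuck hK hIH h2 with h | ⟨X, b, hS⟩
  · exact h
  obtain ⟨s, k, g, hs, hg, hgs, -, v, ⟨hv, hvH, hvg⟩, huniq⟩ := hS.exists_lone hH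
  haveI : Fact s.Prime := ⟨hs⟩
  have hord : (orderOf (g ^ s ^ k)).Prime := by
    rw [orderOf_pow, hgs, Nat.gcd_eq_right (pow_dvd_pow s k.le_succ),
      Nat.pow_div k.le_succ hs.pos, Nat.succ_sub le_rfl, Nat.sub_self, pow_one]
    exact hs
  have hC := hh.cand_centralizer h2 hS.ne (H.pow_mem (hS.cand.le hg.1) _)
    (MulAction.mem_stabilizer_iff.1 (pow_mem hg.2 _)) hord hv hvH hvg.symm
    (fun z hz hzH hzc => huniq z ⟨hz, hzH, hzc.symm⟩)
  rcases hh.rankOne_or_stuck_le hC hK hIH h2 with h | ⟨X', b', hS', hle⟩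
  · exact h
  exfalso
  obtain ⟨s', k', g', -, hg', -, -, v', -, huniq'⟩ := hS'.exists_lone hH
  obtain ⟨d, e, hdH, heH, hd, he, hde, -⟩ := exists_four_mem hH h2
  have hcm : ∀ z : G, orderOf z = 2 → z ∈ H → Commute z (g' ^ s' ^ k') := fun z hz hzH =>
    (show Commute z g' from (hle hg'.1).2 z ⟨hz, hzH⟩).pow_right _
  exact hde ((huniq' d ⟨hd, hdH, hcm d hd hdH⟩).trans (huniq' e ⟨he, heH, hcm e he heH⟩).symm)

/-- **Bender, stage 2.** -/
theorem rankOneHalf : RankOneHalf.{u} := by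
  intro G _ _ H hH hcore h2
  induction hn : Nat.card G using Nat.strong_induction_on generalizing G with
  | _ n ih =>
    exact rankOne_step hH hcore h2 fun G' _ _ hlt H' h1 h3 h4 => ih _ (hn ▸ hlt) G' H' h1 h3 h4 rfl

end Cfsg.Agent.Bender
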