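import Cfsg.Agent.Lib.Bender.Final
import Cfsg.Agent.Lib.OddOrderTheorem.Basic
import Cfsg.Agent.Lib.SuzukiRankOne.Kernel.Main
/-!
# More consequences of Bender's theorem (owner: helper38)

Everything is deduced from `RankOneHalf` (`Final.lean`).

* `setup_mod_core` : the rank one set-up on `G / O(G)`
* `sylow_normal` : in a rank one set-up the kernel is a Sylow 2-subgroup of `G`
* `solvable_of_stronglyEmbedded` : `H` is soluble (S2903)
* `borel_of_simple` : the simple case with a maximal strongly embedded subgroup (S1792)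
-/

set_option autoImplicit false
set_option linter.style.haveILetI false

namespace Cfsg.Agent.Bender

open MulAction Cfsg.Agent.SuzukiRankOne Cfsg.Agent.Involution

universe u v

theorem twoInvolutions_of_rank {G : Type*} [Group G] [Finite G] (h : Cfsg.PRankAtLeast 2 2 G) :
    TwoInvolutions G := by
  classical
  obtain ⟨A, hA, hsq, hcard⟩ := h
  haveI := Fintype.ofFinite {x : A // x ≠ 1}
  have hc : 1 < Fintype.card {x : A // x ≠ 1} := by
    haveI := Fintype.ofFinite A
    rw [Fintype.card_subtype_compl, Fintype.card_subtype_eq]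
    rw [Nat.card_eq_fintype_card] at hcard
    norm_num at hcard
    omega
  obtain ⟨a, b, hab⟩ := Fintype.exists_pair_of_one_lt_card hc
  exact ⟨a.1, b.1, fun e => a.2 (Subtype.ext e), fun e => b.2 (Subtype.ext e),
    fun e => hab (Subtype.ext (Subtype.ext e)), by rw [← sq]; exact hsq _ a.1.2,
    by rw [← sq]; exact hsq _ b.1.2, congrArg Subtype.val (hA.is_comm.comm a.1 b.1)⟩

variable {G : Type u} [Group G] [Finite G]

/-- The rank one set-up modulo the odd core. -/
theorem setup_mod_core (hR : RankOneHalf.{u}) {H : Subgroup G} (hH : Cfsg.IsStronglyEmbedded H)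
    (h2 : TwoInvolutions G) :
    ∃ (N : Subgroup G) (_ : N.Normal), N ≤ H ∧ N = Cfsg.pPrimeCore 2 G ∧ Odd (Nat.card N) ∧
      (H.map (QuotientGroup.mk' N)).normalCore = ⊥ ∧
      ∃ (t : G ⧸ N) (Q : Subgroup (G ⧸ N)),
        Cfsg.IsRankOneSetup (G ⧸ N) ((G ⧸ N) ⧸ H.map (QuotientGroup.mk' N))
          ((1 : G ⧸ N) : (G ⧸ N) ⧸ H.map (QuotientGroup.mk' N)) t Q ∧ TwoInvolutions (G ⧸ N) := by
  haveI : Fact (Nat.Prime 2) := ⟨Nat.prime_two⟩
  haveI : (Cfsg.pPrimeCore 2 G).Normal := Cores.pPrimeCore_normal 2 G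
  refine ⟨Cfsg.pPrimeCore 2 G, inferInstance, ?_, rfl, ?_, ?_⟩
  · exact (core_eq_of_two_involutions hH h2).ge.trans H.normalCore_le
  · exact Nat.coprime_two_right.1 (Cores.coprime_card_pPrimeCore (G := G) 2)
  set N := Cfsg.pPrimeCore 2 G with hN
  have hcore := core_eq_of_two_involutions hH h2
  have hNH : N ≤ H := hcore.ge.trans H.normalCore_le
  set f := QuotientGroup.mk' N
  have hc' : (H.map f).normalCore = ⊥ := by
    refine eq_bot_iff.2 fun x hx => ?_
    obtain ⟨g, rfl⟩ := QuotientGroup.mk'_surjective N x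
    haveI := (H.map f).normalCore_normal
    have h1 : (H.map f).normalCore.comap f ≤ H.normalCore := Subgroup.normal_le_normalCore.2 (by
      refine (Subgroup.comap_mono (H.map f).normalCore_le).trans ?_
      rw [Subgroup.comap_map_eq, QuotientGroup.ker_mk', sup_eq_left.2 hNH])
    rw [Subgroup.mem_bot, QuotientGroup.mk'_apply, QuotientGroup.eq_one_iff]
    exact hcore.le (h1 hx)
  have hinv : ∀ x : G, x ≠ 1 → x * x = 1 → f x ≠ 1 := fun x h1 hxx e =>
    h1 (odd_eq_one (Nat.coprime_two_right.1 (Cores.coprime_card_pPrimeCore (G := G) 2))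
      ((QuotientGroup.eq_one_iff x).1 e) hxx)
  have h2' : TwoInvolutions (G ⧸ N) := by
    obtain ⟨x, y, hx, hy, hne, hxx, hyy, hxy⟩ := h2
    refine ⟨f x, f y, hinv x hx hxx, hinv y hy hyy, fun e => hinv (x * y) (fun h1 => hne ?_) ?_ ?_,
      by rw [← map_mul, hxx, map_one], by rw [← map_mul, hyy, map_one], by rw [← map_mul, hxy, map_mul]⟩
    · rw [eq_inv_of_mul_eq_one_left h1, inv_eq_of_mul_eq_one_right hyy]
    · rw [mul_assoc, ← mul_assoc y, ← hxy, mul_assoc x y y, hyy, mul_one, hxx]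
    · rw [map_mul, e, ← map_mul, hyy, map_one]
  obtain ⟨t, Q, h⟩ := hR _ _ (isStronglyEmbedded_map hH hNH) hc' h2'
  exact ⟨hc', t, Q, h, h2'⟩

/-- In a rank one set-up `Q` is a Sylow 2-subgroup, of odd index in the point stabiliser. -/
theorem sylow_normal {Ω : Type v} [MulAction G Ω] [FaithfulSMul G Ω] {a : Ω} {t : G} {Q : Subgroup G}
    (h : Cfsg.IsRankOneSetup G Ω a t Q) (h2 : TwoInvolutions G) :
    IsPGroup 2 Q ∧ (∃ S : Sylow 2 G, (S : Subgroup G) = Q) ∧
      Odd (Q.relIndex (stabilizer G a)) := by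
  haveI : Fact (Nat.Prime 2) := ⟨Nat.prime_two⟩
  obtain ⟨hQ2, -⟩ := kernelShape G Ω a t Q h h2
  have hrel : Odd (Q.relIndex (stabilizer G a)) := by
    have h1 := RankOne.Setup.card_stabilizer h
    have h3 := Subgroup.card_mul_index (Q.subgroupOf (stabilizer G a))
    rw [Nat.card_congr (Subgroup.subgroupOfEquivOfLe h.le).toEquiv, h1] at h3
    rw [Subgroup.relIndex, Nat.eq_of_mul_eq_mul_left Nat.card_pos h3]
    exact h.odd_card
  have hΩ := RankOne.Setup.card_omega h
  have hidx : ¬ 2 ∣ Q.index := by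
    rw [← Subgroup.relIndex_mul_index h.le, Nat.Prime.dvd_mul Nat.prime_two]
    haveI := h.two_transitive
    haveI : MulAction.IsPretransitive G Ω := MulAction.isPretransitive_of_is_two_pretransitive
    rw [MulAction.index_stabilizer_of_transitive, hΩ]
    have := even_iff_two_dvd.1 h.even_card
    rw [Nat.odd_iff] at hrel
    omega
  exact ⟨hQ2, ⟨hQ2.toSylow hidx, rfl⟩, hrel⟩

/-- A strongly embedded subgroup of a group of 2-rank at least two is soluble. -/
theorem solvable_of_stronglyEmbedded (hR : RankOneHalf.{u}) {H : Subgroup G}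
    (hH : Cfsg.IsStronglyEmbedded H) (h2 : TwoInvolutions G) : Group.IsSolvable H := by
  haveI : Fact (Nat.Prime 2) := ⟨Nat.prime_two⟩
  obtain ⟨N, hN, hNH, -, hNodd, hc, t, Q, h, h2'⟩ := setup_mod_core hR hH h2
  haveI := faithful_of_normalCore hc
  obtain ⟨hQ2, -, hrel⟩ := sylow_normal h h2'
  set f := QuotientGroup.mk' N
  have hst : stabilizer (G ⧸ N) ((1 : G ⧸ N) : (G ⧸ N) ⧸ H.map f) = H.map f := stabilizer_quotient _
  have hQH : Q ≤ H.map f := hst ▸ h.le
  haveI : (Q.subgroupOf (H.map f)).Normal := ⟨fun x hx g => h.conj_mem g (hst.ge g.2) x hx⟩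
  rw [hst] at hrel
  haveI : Group.IsNilpotent (Q.subgroupOf (H.map f)) :=
    (hQ2.of_equiv (Subgroup.subgroupOfEquivOfLe hQH).symm).isNilpotent
  haveI hs1 : Group.IsSolvable (Q.subgroupOf (H.map f)) := inferInstance
  haveI hs2 : Group.IsSolvable ((H.map f) ⧸ Q.subgroupOf (H.map f)) :=
    OddOrderTheorem.solvable (by
      rw [← Subgroup.index_eq_card]
      exact hrel)
  haveI hs3 : Group.IsSolvable (H.map f) :=
    Group.isSolvable_of_ker_le_range (Q.subgroupOf (H.map f)).subtype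
      (QuotientGroup.mk' (Q.subgroupOf (H.map f)))
      (by rw [QuotientGroup.ker_mk', Subgroup.range_subtype])
  haveI hs4 : Group.IsSolvable N := OddOrderTheorem.solvable hNodd
  exact Group.isSolvable_of_ker_le_range (Subgroup.inclusion hNH) (f.subgroupMap H) fun x hx => by
    have hx' : (x : G) ∈ N := (QuotientGroup.eq_one_iff (x : G)).1 (congrArg Subtype.val hx)
    exact ⟨⟨x, hx'⟩, Subtype.ext rfl⟩

/-- A maximal strongly embedded subgroup of a simple group is the normaliser of a Sylow 2-subgroup,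
and the group is of one of the three families. -/
theorem borel_of_simple [IsSimpleGroup G] (hR : RankOneHalf.{u}) {M : Subgroup G}
    (hM : Cfsg.IsStronglyEmbedded M) (hmax : IsCoatom M) :
    ((∃ (F : Type) (_ : Field F) (_ : Fintype F) (n : ℕ), 2 ≤ n ∧ Fintype.card F = 2 ^ n ∧
        Nonempty (G ≃* Matrix.ProjectiveSpecialLinearGroup (Fin 2) F)) ∨
      Cfsg.Lie.IsoSuzuki G ∨
      (∃ (F : Type) (_ : Field F) (_ : Fintype F) (n : ℕ), 2 ≤ n ∧ Fintype.card F = (2 ^ n) ^ 2 ∧
        Nonempty (G ≃* Cfsg.PSU 3 F (2 ^ n)))) ∧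
    ∃ S : Sylow 2 G, M = Subgroup.normalizer ((S : Subgroup G) : Set G) := by
  have hcore := normalCore_of_simple hM
  have h2 := two_involutions_of_simple hM
  obtain ⟨t, Q, h⟩ := hR G M hM hcore h2
  haveI := faithful_of_normalCore hcore
  have hK : KernelShape.{u, u} := kernelShape
  refine ⟨?_, ?_⟩
  · obtain ⟨L, hL, hodd, hc⟩ := classify hK Suzuki.suzukiShape h h2
    obtain rfl : L = ⊤ := hL.eq_bot_or_eq_top.resolve_left fun e => by
      rw [e, Subgroup.index_bot] at hodd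
      exact Nat.not_even_iff_odd.2 hodd (even_iff_two_dvd.2
        ((Involution.orderOf_of_sq h.mul_self h.ne_one) ▸ orderOf_dvd_natCard t))
    rcases hc with ⟨F, _, _, ⟨n, hn, hF⟩, ⟨e⟩⟩ | ⟨F, _, _, m, hm, hF, ⟨e⟩⟩ | ⟨F, _, _, n, hn, hF, ⟨e⟩⟩
    · exact Or.inl ⟨F, _, _, n, hn, hF, ⟨Subgroup.topEquiv.symm.trans e⟩⟩
    · exact Or.inr (Or.inl ⟨F, _, _, m, hm, hF, ⟨Subgroup.topEquiv.symm.trans e⟩⟩)
    · exact Or.inr (Or.inr ⟨F, _, _, n, hn, hF, ⟨Subgroup.topEquiv.symm.trans e⟩⟩)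
  · obtain ⟨-, ⟨S, hS⟩, -⟩ := sylow_normal h h2
    have hst : stabilizer G ((1 : G) : G ⧸ M) = M := stabilizer_quotient M
    have hle : M ≤ Subgroup.normalizer (Q : Set G) := fun g hg => by
      refine mem_normalizer_of_forall fun x hx => h.conj_mem g (hst.ge hg) x hx
    refine ⟨S, ?_⟩
    rw [hS]
    rcases hmax.le_iff.1 hle with e | e
    · exfalso
      obtain ⟨x, hx, hx1⟩ := RankOne.Setup.exists_ne_one h
      rcases ((Subgroup.normalizer_eq_top_iff.1 e).eq_bot_or_eq_top) with e' | e'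
      · exact hx1 (Subgroup.mem_bot.1 (e' ▸ hx))
      · exact hM.1 (top_le_iff.1 (e' ▸ hst ▸ h.le))
    · exact e.symm

end Cfsg.Agent.Bender
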