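import Cfsg.Agent.Lib.Bender.Consumers
/-!
# The odd core of a strongly embedded subgroup lies in the odd core of the group (owner: helper43)

* `oddCore_le` : S1221, from `RankOneHalf`.
-/

set_option autoImplicit false
set_option linter.style.haveILetI false

namespace Cfsg.Agent.Bender

open MulAction Cfsg.Agent.SuzukiRankOne Cfsg.Agent.Involution

universe u v

variable {G : Type u} [Group G] [Finite G]

/-- In a rank one set-up no non-trivial odd element of the point stabiliser centralises `Q`. -/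
theorem eq_one_of_centralizes {Ω : Type v} [MulAction G Ω] [FaithfulSMul G Ω] {a : Ω} {t : G}
    {Q : Subgroup G} (h : Cfsg.IsRankOneSetup G Ω a t Q) (hQ : IsPGroup 2 Q) {x : G}
    (hxa : x • a = a) (hodd : Odd (orderOf x)) (hc : ∀ q ∈ Q, Commute x q) : x = 1 := by
  refine eq_of_smul_eq_smul fun b : Ω => ?_
  rw [one_smul]
  by_cases hb : b = a
  · rw [hb, hxa]
  have hxb : x • b ≠ a := fun e => hb (smul_left_cancel x (e.trans hxa.symm))
  obtain ⟨⟨q, hq⟩, hqb, -⟩ := RankOne.Setup.regular h hb hxb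
  have hqb' : q • b = x • b := hqb
  have hk : ∀ k : ℕ, x ^ k • b = q ^ k • b := by
    intro k
    induction k with
    | zero => simp
    | succ k ih =>
      rw [pow_succ', mul_smul, ih, ← mul_smul, ((hc q hq).pow_right k).eq, mul_smul, ← hqb',
        ← mul_smul, ← pow_succ]
  have h1 := hk (orderOf x)
  rw [pow_orderOf_eq_one, one_smul] at h1
  have h2 : q ^ orderOf x = 1 := RankOne.Setup.eq_one_of_fix h (pow_mem hq _) hb h1.symm
  obtain ⟨j, hj⟩ := IsPGroup.iff_orderOf.1 hQ ⟨q, hq⟩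
  rw [Subgroup.orderOf_mk] at hj
  have h3 : q = 1 := orderOf_eq_one_iff.1 (Nat.eq_one_of_dvd_coprimes
    ((Nat.coprime_two_left.2 hodd).pow_left j) (dvd_of_eq hj) (orderOf_dvd_of_pow_eq_one h2))
  rw [← hqb', h3, one_smul]

/-- `O(H) ≤ O(G)` for a strongly embedded subgroup `H`. -/
theorem oddCore_le (hR : RankOneHalf.{u}) {H : Subgroup G} (hH : Cfsg.IsStronglyEmbedded H) :
    (Cfsg.oddCore ↥H).map H.subtype ≤ Cfsg.oddCore G := by
  haveI : Fact (Nat.Prime 2) := ⟨Nat.prime_two⟩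
  haveI : (Cfsg.oddCore ↥H).Normal := Cores.pPrimeCore_normal 2 _
  haveI : (Cfsg.oddCore G).Normal := Cores.pPrimeCore_normal 2 _
  set K := (Cfsg.oddCore ↥H).map H.subtype with hK
  have hKodd : Odd (Nat.card K) := by
    rw [hK, Subgroup.card_map_of_injective H.subtype_injective]
    exact Nat.coprime_two_right.1 (Cores.coprime_card_pPrimeCore (G := ↥H) 2)
  have hKH : K ≤ H := Subgroup.map_subtype_le _
  have hKn : ∀ h ∈ H, ∀ k ∈ K, h * k * h⁻¹ ∈ K := by
    rintro h hh _ ⟨k, hk, rfl⟩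
    exact ⟨⟨h, hh⟩ * k * ⟨h, hh⟩⁻¹, Subgroup.Normal.conj_mem inferInstance k hk _, rfl⟩
  by_cases h2 : TwoInvolutions G
  · -- modulo the odd core the kernel of the rank one set-up centralises the image of `O(H)`
    obtain ⟨N, hN, hNH, hNeq, -, hc, t, Q, h, h2'⟩ := setup_mod_core hR hH h2
    haveI := faithful_of_normalCore hc
    obtain ⟨hQ2, -, -⟩ := sylow_normal h h2'
    have hst : stabilizer (G ⧸ N) ((1 : G ⧸ N) : (G ⧸ N) ⧸ H.map (QuotientGroup.mk' N)) =
        H.map (QuotientGroup.mk' N) := stabilizer_quotient _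
    have hQH : Q ≤ H.map (QuotientGroup.mk' N) := hst ▸ h.le
    set f := QuotientGroup.mk' N
    have hfodd : Odd (Nat.card (K.map f)) := hKodd.of_dvd_nat (K.card_map_dvd f)
    intro x hx
    have hfx : f x ∈ K.map f := Subgroup.mem_map_of_mem f hx
    refine hNeq.le ((QuotientGroup.eq_one_iff x).1 (eq_one_of_centralizes h hQ2 (x := f x)
      (mem_stabilizer_iff.1 (hst.ge (Subgroup.mem_map_of_mem f (hKH hx))))
      (hfodd.of_dvd_nat (Subgroup.orderOf_dvd_natCard _ hfx)) fun q hq => ?_))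
    obtain ⟨y, hy, rfl⟩ := hQH hq
    have hcQ : f x * f y * (f x)⁻¹ * (f y)⁻¹ ∈ Q :=
      mul_mem (h.conj_mem _ (hst.ge (Subgroup.mem_map_of_mem f (hKH hx))) _ hq) (inv_mem hq)
    have hcK : f x * f y * (f x)⁻¹ * (f y)⁻¹ ∈ K.map f := by
      refine ⟨x * (y * x⁻¹ * y⁻¹), mul_mem hx (hKn y hy _ (inv_mem hx)), ?_⟩
      simp only [map_mul, map_inv, mul_assoc]
    obtain ⟨j, hj⟩ := IsPGroup.iff_orderOf.1 hQ2 ⟨_, hcQ⟩
    rw [Subgroup.orderOf_mk] at hj
    have h1 : f x * f y * (f x)⁻¹ * (f y)⁻¹ = 1 := orderOf_eq_one_iff.1 (Nat.eq_one_of_dvd_coprimes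
      ((Nat.coprime_two_left.2 hfodd).pow_left j) (dvd_of_eq hj) (Subgroup.orderOf_dvd_natCard _ hcK))
    rw [mul_inv_eq_one, mul_inv_eq_iff_eq_mul] at h1
    exact h1
  · -- isolated case: `G = O(G) H`
    obtain ⟨t, htH, ht⟩ : ∃ t, t ∈ H ∧ orderOf t = 2 := by
      obtain ⟨t, ht⟩ := exists_prime_orderOf_dvd_card' (G := H) 2 hH.2.1.two_dvd
      exact ⟨t, t.2, by rw [Subgroup.orderOf_coe, ht]⟩
    have htop : Cfsg.oddCore G ⊔ H = ⊤ :=
      top_le_iff.1 ((isolated_case h2 t ht).1 ▸ sup_le_sup_left (centralizer_le hH ht htH) _)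
    set f := QuotientGroup.mk' (Cfsg.oddCore G)
    have hsurj : H.map f = ⊤ := by
      rw [← Subgroup.map_top_of_surjective f (QuotientGroup.mk'_surjective _), ← htop, Subgroup.map_sup,
        (Subgroup.map_eq_bot_iff _).2 (QuotientGroup.ker_mk' (Cfsg.oddCore G)).ge, bot_sup_eq]
    haveI : (K.map f).Normal := ⟨by
      rintro _ ⟨k, hk, rfl⟩ g
      obtain ⟨h, hh, rfl⟩ : g ∈ H.map f := hsurj ▸ Subgroup.mem_top g
      exact ⟨h * k * h⁻¹, hKn h hh k hk, by simp⟩⟩
    have hle : (K.map f).comap f ≤ Cfsg.oddCore G := by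
      refine Cores.le_pPrimeCore inferInstance (Nat.coprime_two_right.2 ?_)
      have hrel := Subgroup.card_mul_index ((Cfsg.oddCore G).subgroupOf ((K.map f).comap f))
      rw [Nat.card_congr (Subgroup.subgroupOfEquivOfLe
        ((QuotientGroup.ker_mk' (Cfsg.oddCore G)).ge.trans (Subgroup.ker_le_comap f _))).toEquiv] at hrel
      have hidx : ((Cfsg.oddCore G).subgroupOf ((K.map f).comap f)).index = Nat.card (K.map f) := by
        have h1 := Subgroup.relIndex_comap (⊥ : Subgroup (G ⧸ Cfsg.oddCore G)) f ((K.map f).comap f)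
        have hker : (⊥ : Subgroup (G ⧸ Cfsg.oddCore G)).comap f = Cfsg.oddCore G :=
          QuotientGroup.ker_mk' _
        rw [hker, Subgroup.map_comap_eq_self_of_surjective (QuotientGroup.mk'_surjective _),
          Subgroup.relIndex_bot_left] at h1
        exact h1
      rw [hidx] at hrel
      rw [← hrel]
      exact Nat.odd_mul.2 ⟨Nat.coprime_two_right.1 (Cores.coprime_card_pPrimeCore (G := G) 2),
        hKodd.of_dvd_nat (K.card_map_dvd f)⟩
    exact (Subgroup.le_comap_map f K).trans hle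

end Cfsg.Agent.Bender
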