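import Cfsg.Agent.Lib.Bender.ModuleRank
import Cfsg.Agent.Lib.PGroup.UniqueOrderP
import Cfsg.Agent.Lib.Coprime.Invariant
/-!
# Faithful modules in characteristic two: a 2-group moving an odd normal subgroup (owner: helper38)

* `two_pow_lt_finrank` : an element of order `2 ^ (j + 1)` needs dimension `2 ^ j + 1`
* `two_mul_le_finrank` : a 2-group `S` of order `2 ^ k` with one involution `t`, not centralising an
  odd order subgroup normalised by `S`, needs dimension `2 k`
-/

set_option autoImplicit false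
set_option linter.style.haveILetI false
set_option linter.unusedSectionVars false

namespace Cfsg.Agent.Bender

open Module

variable {V : Type*} [AddCommGroup V] [Module (ZMod 2) V] [Module.Finite (ZMod 2) V]
variable {G : Type*} [Group G] [Finite G] (ρ : G →* Module.End (ZMod 2) V)

theorem two_pow_lt_finrank (hρ : Function.Injective ρ) {x : G} {j : ℕ}
    (hx : orderOf x = 2 ^ (j + 1)) : 2 ^ j < finrank (ZMod 2) V := by
  set f := ρ x
  have hf : f ^ 2 ^ (j + 1) = 1 := by rw [← map_pow, ← hx, pow_orderOf_eq_one, map_one]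
  have hf1 : f ^ 2 ^ j ≠ 1 := by
    rw [← map_pow, ← map_one ρ, hρ.ne_iff]
    intro h
    have h' := Nat.le_of_dvd (Nat.two_pow_pos j) (orderOf_dvd_of_pow_eq_one h)
    rw [hx, pow_succ] at h'
    have := Nat.two_pow_pos j
    omega
  haveI : Nontrivial V := by
    by_contra hV
    rw [not_nontrivial_iff_subsingleton] at hV
    exact hf1 (LinearMap.ext fun v => Subsingleton.elim _ _)
  haveI : CharP (Module.End (ZMod 2) V) 2 :=
    charP_of_injective_algebraMap (algebraMap (ZMod 2) (Module.End (ZMod 2) V)).injective 2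
  haveI : Fact (Nat.Prime 2) := ⟨Nat.prime_two⟩
  have hnil : IsNilpotent (f - 1) := ⟨2 ^ (j + 1), by
    rw [sub_pow_char_pow_of_commute _ _ (Commute.one_right f), hf, one_pow, sub_self]⟩
  have hz : (f - 1) ^ finrank (ZMod 2) V = 0 := by
    have h := LinearMap.aeval_self_charpoly (f - 1)
    rwa [IsNilpotent.charpoly_eq_X_pow_finrank hnil, Polynomial.aeval_X_pow] at h
  by_contra hle
  push Not at hle
  refine hf1 ?_
  have h0 := pow_eq_zero_of_le hle hz
  rwa [sub_pow_char_pow_of_commute _ _ (Commute.one_right f), one_pow, sub_eq_zero] at h0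

/-- A group of odd order in `End V`, `dim V ≤ 9`, has order dividing the displayed numbers. -/
theorem card_dvd_small (hρ : Function.Injective ρ) (R : Subgroup G) (hR : Odd (Nat.card R)) :
    (finrank (ZMod 2) V ≤ 5 → Nat.card R ∣ 9765) ∧
    (finrank (ZMod 2) V ≤ 7 → Nat.card R ∣ 78129765) ∧
    (finrank (ZMod 2) V ≤ 9 → Nat.card R ∣ 10180699028325) := by
  classical
  let b := Module.finBasis (ZMod 2) V
  let f : R →* GL (Fin (finrank (ZMod 2) V)) (ZMod 2) :=
    ((Units.mapEquiv (LinearMap.toMatrixAlgEquiv b).toMulEquiv).toMonoidHom.comp ρ.toHomUnits).comp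
      R.subtype
  have hf : Function.Injective f := by
    intro x y h
    refine R.subtype_injective (hρ ?_)
    exact congrArg Units.val ((Units.mapEquiv (LinearMap.toMatrixAlgEquiv b).toMulEquiv).injective h)
  have h := Subgroup.card_dvd_of_injective f hf
  rw [Matrix.card_GL_field, ZMod.card] at h
  generalize finrank (ZMod 2) V = D at h
  have hco : ∀ m : ℕ, Nat.Coprime (Nat.card R) (2 ^ m) := fun m =>
    (Nat.coprime_two_right.2 hR).pow_right m
  refine ⟨fun hD => ?_, fun hD => ?_, fun hD => ?_⟩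
  · refine (hco 40).dvd_of_dvd_mul_left (h.trans ?_)
    interval_cases D <;> decide +kernel
  · refine (hco 40).dvd_of_dvd_mul_left (h.trans ?_)
    interval_cases D <;> decide +kernel
  · refine (hco 40).dvd_of_dvd_mul_left (h.trans ?_)
    interval_cases D <;> decide +kernel

theorem small_arith {r a c k N : ℕ} (hr : r.Prime) (ha : 3 ≤ a) (hc : 1 ≤ c) (hca : c < a)
    (hdiv : 2 ^ k ∣ r ^ (a - c) - 1) (hk : 2 ≤ k) (hk5 : k ≤ 5) (hN : r ^ a ∣ N)
    (h : (k ≤ 3 ∧ N = 9765) ∨ (k = 4 ∧ N = 78129765) ∨ (k = 5 ∧ N = 10180699028325)) : False := by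
  have h3 : r ^ 3 ∣ N := (pow_dvd_pow r ha).trans hN
  have hrd : r ∣ N := (dvd_pow_self r (by norm_num)).trans h3
  have key : ∀ l : List ℕ, (∀ s ∈ l, s.Prime) → l.prod = N → r ∈ l := fun l hl hp =>
    (Prime.dvd_prod_iff hr.prime).1 (hp ▸ hrd) |>.elim fun s hs =>
      ((Nat.prime_dvd_prime_iff_eq hr (hl s hs.1)).1 hs.2) ▸ hs.1
  have hrange : ∀ b : ℕ, ¬ r ^ b ∣ N → a < b := fun b hb => by
    by_contra hab
    exact hb ((pow_dvd_pow r (not_lt.1 hab)).trans hN)
  rcases h with ⟨hk3, rfl⟩ | ⟨rfl, rfl⟩ | ⟨rfl, rfl⟩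
  · have := key [3, 3, 5, 7, 31] (by norm_num) (by norm_num)
    simp only [List.mem_cons, List.not_mem_nil, or_false] at this
    rcases this with rfl | rfl | rfl | rfl | rfl <;> norm_num at h3
  · have := key [3, 3, 3, 3, 5, 7, 7, 31, 127] (by norm_num) (by norm_num)
    simp only [List.mem_cons, List.not_mem_nil, or_false] at this
    rcases this with rfl | rfl | rfl | rfl | rfl | rfl | rfl | rfl | rfl <;> norm_num at h3
    all_goals
      have := hrange 5 (by norm_num)
      have hd : a - c ≤ 3 := by omega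
      have hd1 : 1 ≤ a - c := by omega
      generalize a - c = d at hdiv hd hd1
      interval_cases d <;> norm_num at hdiv
  · have := key [3, 3, 3, 3, 3, 5, 5, 7, 7, 7, 17, 31, 73, 127] (by norm_num) (by norm_num)
    simp only [List.mem_cons, List.not_mem_nil, or_false] at this
    rcases this with rfl | rfl | rfl | rfl | rfl | rfl | rfl | rfl | rfl | rfl | rfl | rfl | rfl | rfl <;>
      norm_num at h3
    all_goals
      have := hrange 6 (by norm_num)
      have hd : a - c ≤ 4 := by omega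
      have hd1 : 1 ≤ a - c := by omega
      have hd2 : a - c < a := by omega
      generalize a - c = d at hdiv hd hd1 hd2
      interval_cases d <;> norm_num at hdiv
    all_goals (interval_cases a <;> norm_num at hN)

theorem inverts_comm {R : Subgroup G} {t : G} (htR : t ∈ Subgroup.normalizer (R : Set G))
    (ht2 : t * t = 1) (h : ∀ x ∈ R, t * x * t⁻¹ = x → x = 1) :
    ∀ a ∈ R, ∀ b ∈ R, a * b = b * a := by
  have hmem : ∀ x ∈ R, t * x * t⁻¹ ∈ R := fun x hx => (Subgroup.mem_normalizer_iff.1 htR x).1 hx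
  let φ : R →* R := MonoidHom.mk' (fun x => ⟨t * x * t⁻¹, hmem x x.2⟩)
    (fun x y => Subtype.ext (by simp [mul_assoc]))
  have hfix : MonoidHom.FixedPointFree φ := fun x hx => Subtype.ext (h x x.2 (congrArg Subtype.val hx))
  have hinv : Function.Involutive φ := fun x => Subtype.ext (by
    show t * (t * x * t⁻¹) * t⁻¹ = x
    rw [show t⁻¹ = t from inv_eq_of_mul_eq_one_right ht2, mul_assoc, mul_assoc, mul_assoc,
      ← mul_assoc t t, ht2, one_mul, mul_one])
  exact fun a ha b hb => congrArg Subtype.val (hfix.commute_all_of_involutive hinv ⟨a, ha⟩ ⟨b, hb⟩).eq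

/-- `2 k` dimensions for a 2-group of order `2 ^ k` with one involution moving an odd order
subgroup. -/
theorem two_mul_le_finrank (hρ : Function.Injective ρ) {S N : Subgroup G} {t : G} {k : ℕ}
    (hS : Nat.card S = 2 ^ k) (hodd : Odd (Nat.card N))
    (hSN : S ≤ Subgroup.normalizer (N : Set G)) (htS : t ∈ S) (ht : orderOf t = 2)
    (huniq : ∀ u ∈ S, orderOf u = 2 → u = t) (hnc : ∃ a ∈ N, t * a * t⁻¹ ≠ a) :
    2 * k ≤ finrank (ZMod 2) V := by
  classical
  haveI : Fact (Nat.Prime 2) := ⟨Nat.prime_two⟩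
  have hk0 : k ≠ 0 := by
    rintro rfl
    rw [pow_zero, Subgroup.card_eq_one] at hS
    rw [hS, Subgroup.mem_bot] at htS
    rw [htS, orderOf_one] at ht
    omega
  have hcyc : ∀ s ∈ S, s ≠ 1 → t ∈ Subgroup.zpowers s := by
    intro s hs hs1
    obtain ⟨j, -, hj⟩ := (Nat.dvd_prime_pow Nat.prime_two).1 (hS ▸ Subgroup.orderOf_dvd_natCard S hs)
    have hj0 : j ≠ 0 := by
      rintro rfl
      exact hs1 (orderOf_eq_one_iff.1 (by rw [hj, pow_zero]))
    have h1 : orderOf (s ^ 2 ^ (j - 1)) = 2 := by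
      rw [orderOf_pow_of_dvd (pow_ne_zero _ two_ne_zero) (by rw [hj]; exact pow_dvd_pow 2 (by omega)),
        hj, Nat.pow_div (by omega) two_pos, show j - (j - 1) = 1 by omega, pow_one]
    rw [← huniq _ (pow_mem hs _) h1]
    exact pow_mem (Subgroup.mem_zpowers s) _
  -- the dimension from an element of large order
  obtain ⟨C, hC⟩ : ∃ x ∈ S, ∃ j, orderOf x = 2 ^ (j + 1) ∧ k ≤ j + 2 := by
    have hp : IsPGroup 2 S := IsPGroup.of_card hS
    have hu' : ∀ x y : S, orderOf x = 2 → y ^ 2 = 1 → y ∈ Subgroup.zpowers x := by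
      intro x y hx hy
      rcases eq_or_ne y 1 with rfl | hy1
      · exact one_mem _
      · have hy2 : orderOf (y : G) = 2 := by
          rw [Subgroup.orderOf_coe]; exact orderOf_eq_prime hy hy1
        have hx2 : orderOf (x : G) = 2 := by rw [Subgroup.orderOf_coe, hx]
        have : y = x := Subtype.ext ((huniq _ y.2 hy2).trans (huniq _ x.2 hx2).symm)
        exact this ▸ Subgroup.mem_zpowers x
    rcases PGroup.unique_order_p_cases hp hu' with hc | ⟨-, n, ⟨e⟩⟩
    · obtain ⟨g, hg⟩ := IsCyclic.exists_ofOrder_eq_natCard (α := S)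
      refine ⟨g, g.2, k - 1, ?_, by omega⟩
      rw [Subgroup.orderOf_coe, hg, hS, Nat.sub_add_cancel (by omega)]
    · refine ⟨(e.symm (QuaternionGroup.a 1) : S), SetLike.coe_mem _, n, ?_, ?_⟩
      · rw [Subgroup.orderOf_coe, MulEquiv.orderOf_eq, QuaternionGroup.orderOf_a_one, pow_succ']
      · haveI : NeZero (2 ^ n : ℕ) := ⟨pow_ne_zero _ two_ne_zero⟩
        have h4 := Nat.card_congr e.toEquiv
        rw [hS, Nat.card_eq_fintype_card, QuaternionGroup.card] at h4
        have := Nat.pow_right_injective le_rfl (show 2 ^ k = 2 ^ (n + 2) by rw [h4, pow_add]; ring)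
        omega
  obtain ⟨-, j, hj, hkj⟩ := hC
  have hbig := two_pow_lt_finrank ρ hρ hj
  -- an invariant Sylow subgroup of `N` moved by `t`
  have hcop : (Nat.card S).Coprime (Nat.card N) := by
    rw [hS]; exact (Nat.coprime_two_left.2 hodd).pow_left k
  haveI : Group.IsSolvable S := by
    haveI := (IsPGroup.of_card hS : IsPGroup 2 S).isNilpotent
    infer_instance
  obtain ⟨r, R, hr, hRN, hrR, hSR, hRnc⟩ : ∃ (r : ℕ) (R : Subgroup G), r.Prime ∧ R ≤ N ∧
      IsPGroup r R ∧ S ≤ Subgroup.normalizer (R : Set G) ∧ ∃ a ∈ R, t * a * t⁻¹ ≠ a := by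
    by_contra hcon
    push Not at hcon
    obtain ⟨a, ha, hne⟩ := hnc
    set C := (Subgroup.centralizer ({t} : Set G)).subgroupOf N
    have hdvd : Nat.card N ∣ Nat.card C := by
      refine Nat.dvd_iff_prime_pow_dvd_dvd _ _ |>.2 fun r i hr hi => ?_
      haveI := Fact.mk hr
      obtain ⟨P, hP⟩ := Coprime.exists_invariant_sylow (A := S) (K := N) hSN hcop (Or.inl inferInstance) r
      refine (P.pow_dvd_card_of_pow_dvd_card hi).trans (Subgroup.card_dvd_of_le ?_)
      intro x hx
      have h1 := hcon r ((P : Subgroup N).map N.subtype) hr (Subgroup.map_subtype_le _)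
        (P.isPGroup'.map _) hP x (Subgroup.mem_map_of_mem _ hx)
      refine Subgroup.mem_subgroupOf.2 (Subgroup.mem_centralizer_singleton_iff.2 ?_)
      calc (x : G) * t = t * x * t⁻¹ * t := by rw [h1]
        _ = t * x := by group
    have htop : C = ⊤ := Subgroup.eq_top_of_card_eq _
      (Nat.dvd_antisymm (Subgroup.card_subgroup_dvd_card C) hdvd)
    have hm : (⟨a, ha⟩ : N) ∈ C := htop ▸ Subgroup.mem_top _
    refine hne ?_
    have h1 := Subgroup.mem_centralizer_singleton_iff.1 (Subgroup.mem_subgroupOf.1 hm)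
    calc t * a * t⁻¹ = a * t * t⁻¹ := by rw [h1]
      _ = a := by group
  have hSR' : ∀ s ∈ S, ∀ x ∈ R, s * x * s⁻¹ ∈ R := fun s hs x hx =>
    (Subgroup.mem_normalizer_iff.1 (hSR hs) x).1 hx
  have hRodd : Odd (Nat.card R) := hodd.of_dvd_nat (Subgroup.card_dvd_of_le hRN)
  have hlt : k < 2 ^ k := Nat.lt_two_pow_self
  by_cases hab : ∀ a ∈ R, ∀ b ∈ R, a * b = b * a
  · refine le_trans ?_ (card_le_finrank_of_abelian ρ hρ hab hRodd hSR' hcyc hRnc)
    rw [hS]
    obtain ⟨i, rfl⟩ := Nat.exists_eq_succ_of_ne_zero hk0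
    have : i < 2 ^ i := Nat.lt_two_pow_self
    rw [Nat.succ_eq_add_one, pow_succ]
    omega
  by_contra hsmall
  push Not at hsmall
  have hk5 : k ≤ 5 := by
    by_contra h6
    have h8 : ∀ m, 4 ≤ m → 2 * (m + 2) ≤ 2 ^ m := fun m hm => by
      induction m, hm using Nat.le_induction with
      | base => norm_num
      | succ m hm ih => rw [pow_succ]; omega
    have := h8 j (by omega)
    omega
  haveI := Fact.mk hr
  obtain ⟨a, ha⟩ := IsPGroup.iff_card.1 hrR
  set Ct := R ⊓ Subgroup.centralizer ({t} : Set G) with hCt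
  obtain ⟨c, hca, hc⟩ := (Nat.dvd_prime_pow hr).1
    (ha ▸ Subgroup.card_dvd_of_le (inf_le_left : Ct ≤ R))
  have ht2 : t * t = 1 := by rw [← sq, ← ht, pow_orderOf_eq_one]
  have hmemC : ∀ x, x ∈ Ct ↔ x ∈ R ∧ t * x * t⁻¹ = x := fun x => by
    rw [hCt, Subgroup.mem_inf, Subgroup.mem_centralizer_singleton_iff]
    refine and_congr_right fun _ => ⟨fun e => ?_, fun e => ?_⟩
    · calc t * x * t⁻¹ = x * t * t⁻¹ := by rw [e]
        _ = x := by group
    · calc x * t = t * x * t⁻¹ * t := by rw [e]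
        _ = t * x := by group
  have hc1 : 1 ≤ c := by
    by_contra h0
    refine hab (inverts_comm (hSR htS) ht2 fun x hx e => ?_)
    have : Ct = ⊥ := Subgroup.card_eq_one.1 (by rw [hc, show c = 0 by omega, pow_zero])
    exact Subgroup.mem_bot.1 (this ▸ (hmemC x).2 ⟨hx, e⟩)
  have hlt' : c < a := by
    refine lt_of_le_of_ne hca fun e => ?_
    obtain ⟨x, hx, hne⟩ := hRnc
    have : Ct = R := Subgroup.eq_of_le_of_card_ge inf_le_left (by rw [hc, ha, e])
    exact hne ((hmemC x).1 (this.symm ▸ hx)).2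
  have ha3 : 3 ≤ a := by
    by_contra h3
    refine hab fun x hx y hy => ?_
    have hcomm : IsMulCommutative R := by
      obtain rfl : a = 2 := by
        rcases (show a ≤ 1 ∨ a = 2 by omega) with h | h
        · omega
        · exact h
      exact IsPGroup.isMulCommutative_of_card_eq_prime_sq ha
    exact congrArg Subtype.val (hcomm.is_comm.comm ⟨x, hx⟩ ⟨y, hy⟩)
  -- the free action on `R \ C(t)`
  let Y := {x : G // x ∈ R ∧ x ∉ Ct}
  have hmove : ∀ (s : S) (x : G), x ∈ R → x ∉ Ct → (s : G) * x * (s : G)⁻¹ ∉ Ct := by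
    intro s x hx hxC h
    refine hxC ((hmemC x).2 ⟨hx, ?_⟩)
    have htc : t * s = s * t := by
      rcases eq_or_ne (s : G) 1 with e | e
      · rw [e, mul_one, one_mul]
      · obtain ⟨z, hz⟩ := Subgroup.mem_zpowers_iff.1 (hcyc s s.2 e)
        rw [← hz]; exact ((Commute.refl (s : G)).zpow_left z).eq
    have e := ((hmemC _).1 h).2
    calc t * x * t⁻¹ = (s : G)⁻¹ * ((s * t) * x * (s * t)⁻¹) * s := by group
      _ = (s : G)⁻¹ * (t * (s * x * (s : G)⁻¹) * t⁻¹) * s := by rw [← htc]; group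
      _ = x := by rw [e]; group
  letI act : MulAction S Y :=
    { smul := fun s y => ⟨s * y.1 * (s : G)⁻¹, hSR' s s.2 _ y.2.1, hmove s _ y.2.1 y.2.2⟩
      one_smul := fun y => Subtype.ext (by show ((1 : S) : G) * y.1 * ((1 : S) : G)⁻¹ = y.1; simp)
      mul_smul := fun s s' y => Subtype.ext (by
        show ((s * s' : S) : G) * y.1 * ((s * s' : S) : G)⁻¹ = _ * (_ * y.1 * _) * _
        rw [Subgroup.coe_mul]; group) }
  have hfree : ∀ y : Y, MulAction.stabilizer S y = ⊥ := by
    intro y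
    refine eq_bot_iff.2 fun s hs => Subgroup.mem_bot.2 ?_
    by_contra hs1
    have e : (s : G) * y.1 * (s : G)⁻¹ = y.1 := congrArg Subtype.val (MulAction.mem_stabilizer_iff.1 hs)
    refine y.2.2 ((hmemC _).2 ⟨y.2.1, ?_⟩)
    have hc' : Commute (s : G) y.1 := mul_inv_eq_iff_eq_mul.1 e
    obtain ⟨z, hz⟩ := Subgroup.mem_zpowers_iff.1 (hcyc s s.2 fun h => hs1 (Subtype.ext h))
    rw [← hz, (hc'.zpow_left z).eq, mul_inv_cancel_right]
  have hY : Nat.card Y = r ^ a - r ^ c := by
    rw [← ha, ← hc]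
    change Set.ncard ((R : Set G) \ (Ct : Set G)) = _
    rw [Set.ncard_sdiff (show (Ct : Set G) ⊆ R from fun x hx => hx.1)]
    rfl
  have hcount := Nat.card_congr (MulAction.selfEquivOrbitsQuotientProd hfree)
  rw [Nat.card_prod, hS, hY] at hcount
  obtain ⟨d, rfl⟩ := Nat.exists_eq_add_of_le hca
  rw [pow_add, ← Nat.mul_sub_one] at hcount
  have hrodd : Odd r := by
    have h := hRodd
    rw [ha] at h
    exact (Nat.odd_pow_iff (by omega)).1 h
  have hdiv : 2 ^ k ∣ r ^ (c + d - c) - 1 := by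
    rw [Nat.add_sub_cancel_left]
    exact ((Nat.coprime_two_left.2 hrodd.pow).pow_left k).dvd_of_dvd_mul_left
      (Dvd.intro_left _ hcount.symm)
  have hk2 : 2 ≤ k := by
    by_contra h1
    obtain rfl : k = 1 := by omega
    have hD : 2 ^ j < 2 := by omega
    have : j = 0 := by
      by_contra h0
      exact absurd (Nat.pow_le_pow_right two_pos (Nat.pos_of_ne_zero h0)) (by omega)
    subst this
    have hd5 := (card_dvd_small ρ hρ R hRodd).1 (by omega)
    have h3 : r ^ 3 ∣ 9765 := (pow_dvd_pow r ha3).trans (ha ▸ hd5)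
    have hrd : r ∣ [3, 3, 5, 7, 31].prod := (dvd_pow_self r three_ne_zero).trans h3
    obtain ⟨s, hs, hrs⟩ := (Prime.dvd_prod_iff hr.prime).1 hrd
    simp only [List.mem_cons, List.not_mem_nil, or_false] at hs
    rcases hs with rfl | rfl | rfl | rfl | rfl <;>
      (rw [(Nat.prime_dvd_prime_iff_eq hr (by norm_num)).1 hrs] at h3; norm_num at h3)
  obtain ⟨h5, h7, h9⟩ := card_dvd_small ρ hρ R hRodd
  rw [ha] at h5 h7 h9
  rcases (show k ≤ 3 ∨ k = 4 ∨ k = 5 by omega) with h | h | h
  · exact small_arith hr ha3 hc1 hlt' hdiv hk2 hk5 (h5 (by omega)) (Or.inl ⟨h, rfl⟩)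
  · exact small_arith hr ha3 hc1 hlt' hdiv hk2 hk5 (h7 (by omega)) (Or.inr (Or.inl ⟨h, rfl⟩))
  · exact small_arith hr ha3 hc1 hlt' hdiv hk2 hk5 (h9 (by omega)) (Or.inr (Or.inr ⟨h, rfl⟩))

end Cfsg.Agent.Bender
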