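import Cfsg.Agent.Lib.SuzukiRankOne.StronglyEmbedded
import Cfsg.Agent.Lib.Bender.Signalizer
import Cfsg.Agent.Lib.Bender.Setup
import Cfsg.Agent.Lib.StrongPEmb.Basic
import Cfsg.Agent.Lib.Coprime.Generation
import Cfsg.Agent.Lib.Suzuki.Simple
import Cfsg.Agent.Lib.Unitary.Simple
import Cfsg.Agent.Lib.RankOne.Setup
/-!
# Consequences of Bender's theorem (owner: helper34)

Everything is deduced from `KernelShape` (Suzuki's rank one theorem) and `RankOneHalf` (a core-free
strongly embedded subgroup with two commuting involutions gives a rank one set-up on its cosets).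

* `isStronglyEmbedded_of_pEmbedded`
* `core_eq_of_two_involutions` : `O(G)` is the core of a strongly embedded subgroup;
* `isolated_case` : otherwise `G = O(G) C(t)`, with `t` the only involution of `C(t)`;
* `simple_three_families` : the simple case (S0222);
* `structure_mod_oddCore` : the structural form (S2798);
* `suzukiType_of_simple` : double transitivity of Suzuki type (S2027).
-/

set_option autoImplicit false
set_option linter.style.haveILetI false

namespace Cfsg.Agent.Bender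

open MulAction Cfsg.Agent.SuzukiRankOne Cfsg.Agent.Involution

universe u

/-- An element of square one in a subgroup of odd order is trivial. -/
theorem odd_eq_one {G : Type*} [Group G] [Finite G] {N : Subgroup G} (hN : Odd (Nat.card N)) {c : G}
    (hc : c ∈ N) (h : c * c = 1) : c = 1 := by
  by_contra hne
  exact not_mem_of_odd hN (Involution.orderOf_of_sq h hne) hc

/-- A core-free strongly embedded subgroup with two commuting involutions gives a rank one set-up. -/
def RankOneHalf : Prop :=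
  ∀ (G : Type u) [Group G] [Finite G] (H : Subgroup G), Cfsg.IsStronglyEmbedded H → H.normalCore = ⊥ →
    TwoInvolutions G →
    ∃ (t : G) (Q : Subgroup G), Cfsg.IsRankOneSetup G (G ⧸ H) ((1 : G) : G ⧸ H) t Q

variable {G : Type u} [Group G] [Finite G] {H : Subgroup G}

theorem isStronglyEmbedded_of_pEmbedded (hH : Cfsg.IsStronglyPEmbedded 2 H) :
    Cfsg.IsStronglyEmbedded H := by
  haveI : Fact (Nat.Prime 2) := ⟨Nat.prime_two⟩
  obtain ⟨P, hP⟩ := StrongPEmb.exists_sylow_le hH
  refine isStronglyEmbedded_iff_forall.2 ⟨hH.2.1, even_iff_two_dvd.2 ?_, fun g t ht htH hg =>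
    StrongPEmb.mem_of_conj_mem hH ht htH hg⟩
  exact (P.dvd_card_of_dvd_card hH.1).trans (Subgroup.card_dvd_of_le hP)

theorem faithful_of_normalCore (hc : H.normalCore = ⊥) : FaithfulSMul G (G ⧸ H) := by
  refine ⟨fun {g g'} e => ?_⟩
  rw [Subgroup.normalCore_eq_ker] at hc
  exact (MonoidHom.ker_eq_bot_iff _).1 hc (Equiv.ext e)

theorem normalCore_of_simple [IsSimpleGroup G] (hH : Cfsg.IsStronglyEmbedded H) :
    H.normalCore = ⊥ :=
  (Subgroup.normalCore_normal H).eq_bot_or_eq_top.resolve_right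
    fun e => hH.1 (top_le_iff.1 (e ▸ H.normalCore_le))

theorem exists_four_mem (hH : Cfsg.IsStronglyEmbedded H) (h2 : TwoInvolutions G) :
    ∃ d e : G, d ∈ H ∧ e ∈ H ∧ orderOf d = 2 ∧ orderOf e = 2 ∧ d ≠ e ∧ Commute d e := by
  obtain ⟨x, y, hx1, hy1, hne, hxx, hyy, hxy⟩ := h2
  obtain ⟨g, hg⟩ := exists_conj_mem hH (Involution.orderOf_of_sq hxx hx1)
  have hord : ∀ z : G, z * z = 1 → z ≠ 1 → orderOf (g⁻¹ * z * g) = 2 := fun z h1 h1' => by
    have := Involution.orderOf_conj g⁻¹ z
    rw [inv_inv] at this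
    rw [this, Involution.orderOf_of_sq h1 h1']
  have hc : Commute (g⁻¹ * x * g) (g⁻¹ * y * g) := by
    have := (show Commute x y from hxy).map (MulAut.conj g⁻¹).toMonoidHom
    simpa using this
  refine ⟨_, _, hg, centralizer_le hH (hord x hxx hx1) hg
    (Involution.mem_centralizer_iff_commute.2 hc.symm), hord x hxx hx1, hord y hyy hy1,
    fun e => hne ?_, hc⟩
  exact mul_left_cancel (mul_right_cancel e)

/-- With a four group in `H`, the odd core lies in `H` and is its core. -/
theorem core_eq_of_two_involutions (hH : Cfsg.IsStronglyEmbedded H) (h2 : TwoInvolutions G) :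
    H.normalCore = Cfsg.pPrimeCore 2 G := by
  haveI : Fact (Nat.Prime 2) := ⟨Nat.prime_two⟩
  obtain ⟨d, e, hdH, heH, hd, he, hde, hc⟩ := exists_four_mem hH h2
  haveI := Cores.pPrimeCore_normal 2 G
  have hle : Cfsg.pPrimeCore 2 G ≤ H := by
    haveI := isMulCommutative_fourOf (mul_self hd) (mul_self he) hc
    refine Coprime.le_of_noncyclic
      (not_isCyclic_fourOf (mul_self hd) (mul_self he) hc (ne_one hd) (ne_one he) hde)
      ((Subgroup.normalizer_eq_top_iff (H := Cfsg.pPrimeCore 2 G)).2 inferInstance ▸ le_top) ?_ fun a ha ha1 => ?_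
    · obtain ⟨k, hk⟩ := IsPGroup.iff_card.1 (card_fourOf_dvd (mul_self hd) (mul_self he) hc)
      rw [hk]
      exact (Cores.coprime_card_pPrimeCore (G := G) 2).symm.pow_left k
    · rcases ha with rfl | rfl | rfl | rfl
      · exact absurd rfl ha1
      · exact inf_le_right.trans (centralizer_le hH hd hdH)
      · exact inf_le_right.trans (centralizer_le hH he heH)
      · refine inf_le_right.trans (centralizer_le hH (Involution.orderOf_of_sq ?_ ha1) (mul_mem hdH heH))
        rw [mul_assoc, ← mul_assoc e, ← hc.eq, mul_assoc d e e, mul_self he, mul_one, mul_self hd]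
  haveI := H.normalCore_normal
  exact le_antisymm
    (Cores.le_pPrimeCore inferInstance (Nat.coprime_two_right.2 (odd_of_normal_le hH H.normalCore_le)))
    (Subgroup.normal_le_normalCore.2 hle)

/-- Without two commuting involutions, `G = O(G) C(t)` and `t` is the only involution of `C(t)`. -/
theorem isolated_case (h2 : ¬ TwoInvolutions G) (t : G) (ht : orderOf t = 2) :
    Cfsg.pPrimeCore 2 G ⊔ Subgroup.centralizer ({t} : Set G) = ⊤ ∧
      ∀ u ∈ Subgroup.centralizer ({t} : Set G), orderOf u = 2 → u = t := by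
  have hu : ∀ u : G, orderOf u = 2 → Commute u t → u = t := fun u hu hc => by
    by_contra hne
    exact h2 ⟨u, t, ne_one hu, ne_one ht, hne, mul_self hu, mul_self ht, hc.eq⟩
  refine ⟨eq_top_iff.2 fun g _ => ?_,
    fun u hu' hord => hu u hord (Involution.mem_centralizer_iff_commute.1 hu')⟩
  have hiso : Cfsg.IsIsolatedInvolution t := ⟨ht, fun x hx =>
    hu _ ((Involution.orderOf_conj x t).trans ht) hx.symm⟩
  haveI := Cores.pPrimeCore_normal 2 G
  have hc : (g * t * g⁻¹) * t ∈ Cfsg.pPrimeCore 2 G := by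
    have := (Cfsg.pPrimeCore 2 G).inv_mem (ZStar.zStar_of_brauerSuzuki ZStar.uniqueInvolution hiso g)
    rw [show (t * g * t⁻¹ * g⁻¹)⁻¹ = g * t * g⁻¹ * t⁻¹ by group] at this
    rwa [inv_eq ht] at this
  have hs : orderOf (g * t * g⁻¹) = 2 := (Involution.orderOf_conj g t).trans ht
  have hodd : Odd (orderOf ((g * t * g⁻¹) * t)) :=
    (Nat.coprime_two_right.1 (Cores.coprime_card_pPrimeCore (G := G) 2)).of_dvd_nat
      (Subgroup.orderOf_dvd_natCard _ hc)
  obtain ⟨k, hk, hke⟩ := Involution.exists_conj_of_odd hs ht hodd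
  have htC : t ∈ Cfsg.pPrimeCore 2 G ⊔ Subgroup.centralizer ({t} : Set G) :=
    Subgroup.mem_sup_right (Involution.mem_centralizer_singleton.2 rfl)
  have hkO : k ∈ Cfsg.pPrimeCore 2 G ⊔ Subgroup.centralizer ({t} : Set G) := by
    refine (Subgroup.closure_le _).2 ?_ hk
    rintro _ (rfl | rfl)
    · have := mul_mem (Subgroup.mem_sup_left hc) htC
      rwa [mul_assoc, mul_self ht, mul_one] at this
    · exact htC
  have hmem : k * g ∈ Subgroup.centralizer ({t} : Set G) := Involution.mem_centralizer_singleton.2 (by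
    calc k * g * t = k * (g * t * g⁻¹) * k⁻¹ * (k * g) := by group
      _ = t * (k * g) := by rw [hke])
  have := mul_mem (inv_mem hkO) (Subgroup.mem_sup_right hmem :
    k * g ∈ Cfsg.pPrimeCore 2 G ⊔ Subgroup.centralizer ({t} : Set G))
  rwa [inv_mul_cancel_left] at this

/-- Bender's theorem for simple groups. -/
theorem simple_three_families [IsSimpleGroup G] (hK : KernelShape.{u, u}) (hR : RankOneHalf.{u})
    (hH : Cfsg.IsStronglyEmbedded H) :
    (∃ (F : Type) (_ : Field F) (_ : Fintype F), CharP F 2 ∧ 4 ≤ Fintype.card F ∧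
        Nonempty (G ≃* Matrix.ProjectiveSpecialLinearGroup (Fin 2) F)) ∨
      Cfsg.IsSuzuki G ∨
      (∃ (F : Type) (_ : Field F) (_ : Fintype F) (q : ℕ), Fintype.card F = q ^ 2 ∧ Even q ∧ 4 ≤ q ∧
        Nonempty (G ≃* Cfsg.PSU 3 F q)) := by
  obtain ⟨t, Q, h⟩ := hR G H hH (normalCore_of_simple hH) (two_involutions_of_simple hH)
  haveI := faithful_of_normalCore (normalCore_of_simple hH)
  exact classify_simple hK h (two_involutions_of_simple hH)

/-- A normal simple subgroup of odd index is generated by the 2-elements. -/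
theorem pElementClosure_eq {L : Subgroup G} [L.Normal] [IsSimpleGroup L] (hodd : Odd L.index)
    (h : ∃ x : G, orderOf x = 2) : Cfsg.pElementClosure 2 (⊤ : Subgroup G) = L := by
  set K := Cfsg.pElementClosure 2 (⊤ : Subgroup G) with hK
  have hle : K ≤ L := by
    refine (Subgroup.closure_le _).2 ?_
    rintro x ⟨-, k, hx⟩
    refine (QuotientGroup.eq_one_iff x).1 (orderOf_eq_one_iff.1 ?_)
    have h1 : orderOf (x : G ⧸ L) ∣ 2 ^ k := hx ▸ orderOf_map_dvd (QuotientGroup.mk' L) x
    have h2 : orderOf (x : G ⧸ L) ∣ L.index := orderOf_dvd_natCard _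
    exact Nat.eq_one_of_dvd_coprimes ((Nat.coprime_two_left.2 hodd).pow_left k) h1 h2
  haveI : K.Normal := ⟨fun y hy g => by
    induction hy using Subgroup.closure_induction with
    | mem y hy =>
      obtain ⟨-, k, hk⟩ := hy
      refine Subgroup.subset_closure ⟨trivial, k, ?_⟩
      rw [Involution.orderOf_conj, hk]
    | one => simp
    | mul y z _ _ hy hz =>
      rw [show g * (y * z) * g⁻¹ = g * y * g⁻¹ * (g * z * g⁻¹) by group]
      exact mul_mem hy hz
    | inv y _ hy =>
      rw [show g * y⁻¹ * g⁻¹ = (g * y * g⁻¹)⁻¹ by group]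
      exact inv_mem hy⟩
  refine le_antisymm hle ?_
  rcases (inferInstance : (K.subgroupOf L).Normal).eq_bot_or_eq_top with e | e
  · obtain ⟨x, hx⟩ := h
    have hxK : x ∈ K := Subgroup.subset_closure ⟨trivial, 1, by rw [hx, pow_one]⟩
    have : (⟨x, hle hxK⟩ : L) ∈ K.subgroupOf L := hxK
    rw [e, Subgroup.mem_bot] at this
    exact absurd (congrArg Subtype.val this) (ne_one hx)
  · exact Subgroup.subgroupOf_eq_top.1 e

/-- `SL₂ = PSL₂` in characteristic 2. -/
theorem psl_equiv_sl {F : Type} [Field F] [CharP F 2] :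
    Nonempty (Matrix.ProjectiveSpecialLinearGroup (Fin 2) F ≃* Matrix.SpecialLinearGroup (Fin 2) F) := by
  have hcen : Subgroup.center (Matrix.SpecialLinearGroup (Fin 2) F) = ⊥ := by
    rw [Subgroup.eq_bot_iff_forall]
    intro w hw
    obtain ⟨r, hr, he⟩ := Matrix.SpecialLinearGroup.mem_center_iff.1 hw
    have hr1 : r = 1 := by
      have h0 : (r - 1) * (r - 1) = 0 := by
        linear_combination (by simpa using hr : r ^ 2 = 1) + (1 - r) * CharTwo.two_eq_zero (R := F)
      exact sub_eq_zero.1 (mul_self_eq_zero.1 h0)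
    exact Subtype.ext (by rw [← he, hr1]; simp)
  exact ⟨(QuotientGroup.quotientMulEquivOfEq hcen).trans QuotientGroup.quotientBot⟩

/-- Bender's theorem in structural form. -/
theorem structure_mod_oddCore (hK : KernelShape.{u, u}) (hR : RankOneHalf.{u})
    (hH : Cfsg.IsStronglyEmbedded H) :
    (∀ t : G, orderOf t = 2 → Cfsg.pPrimeCore 2 G ⊔ Subgroup.centralizer ({t} : Set G) = ⊤ ∧
        ∀ u ∈ Subgroup.centralizer ({t} : Set G), orderOf u = 2 → u = t) ∨
      (∃ (F : Type) (_ : Field F) (_ : Fintype F), CharP F 2 ∧ 4 ≤ Fintype.card F ∧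
        Nonempty (↥(Cfsg.pElementClosure 2 (⊤ : Subgroup (G ⧸ Cfsg.pPrimeCore 2 G))) ≃*
          Matrix.SpecialLinearGroup (Fin 2) F)) ∨
      (∃ (F : Type) (_ : Field F) (_ : Fintype F) (q : ℕ), Even q ∧ 4 ≤ q ∧ Fintype.card F = q ^ 2 ∧
        Nonempty (↥(Cfsg.pElementClosure 2 (⊤ : Subgroup (G ⧸ Cfsg.pPrimeCore 2 G))) ≃*
          Cfsg.PSU 3 F q)) ∨
      Cfsg.Lie.IsoSuzuki ↥(Cfsg.pElementClosure 2 (⊤ : Subgroup (G ⧸ Cfsg.pPrimeCore 2 G))) := by
  haveI : Fact (Nat.Prime 2) := ⟨Nat.prime_two⟩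
  by_cases h2 : TwoInvolutions G
  swap
  · exact Or.inl fun t ht => isolated_case h2 t ht
  set N := Cfsg.pPrimeCore 2 G with hN
  haveI : N.Normal := Cores.pPrimeCore_normal 2 G
  have hcore := core_eq_of_two_involutions hH h2
  have hNH : N ≤ H := hcore.ge.trans H.normalCore_le
  set f := QuotientGroup.mk' N
  have hH' := isStronglyEmbedded_map hH hNH
  have hc' : (H.map f).normalCore = ⊥ := by
    refine eq_bot_iff.2 fun x hx => ?_
    obtain ⟨g, rfl⟩ := QuotientGroup.mk'_surjective N x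
    haveI := (H.map f).normalCore_normal
    have h1 : (H.map f).normalCore.comap f ≤ H.normalCore := Subgroup.normal_le_normalCore.2 (by
      refine (Subgroup.comap_mono (H.map f).normalCore_le).trans ?_
      rw [Subgroup.comap_map_eq, QuotientGroup.ker_mk', sup_eq_left.2 hNH])
    rw [Subgroup.mem_bot, QuotientGroup.mk'_apply, QuotientGroup.eq_one_iff]
    exact hcore.le (h1 hx)
  have hinv : ∀ x : G, x ≠ 1 → x * x = 1 → f x ≠ 1 := fun x h1 hxx e =>
    h1 (odd_eq_one (Nat.coprime_two_right.1 (Cores.coprime_card_pPrimeCore (G := G) 2))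
      ((QuotientGroup.eq_one_iff x).1 e) hxx)
  have h2' : TwoInvolutions (G ⧸ N) := by
    obtain ⟨x, y, hx, hy, hne, hxx, hyy, hxy⟩ := h2
    refine ⟨f x, f y, hinv x hx hxx, hinv y hy hyy, fun e => hinv (x * y) (fun h1 => hne ?_) ?_ ?_,
      by rw [← map_mul, hxx, map_one], by rw [← map_mul, hyy, map_one], by rw [← map_mul, hxy, map_mul]⟩
    · rw [eq_inv_of_mul_eq_one_left h1, inv_eq_of_mul_eq_one_right hyy]
    · rw [mul_assoc, ← mul_assoc y, ← hxy, mul_assoc x y y, hyy, mul_one, hxx]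
    · rw [map_mul, e, ← map_mul, hyy, map_one]
  obtain ⟨t, Q, h⟩ := hR _ _ hH' hc' h2'
  haveI := faithful_of_normalCore hc'
  obtain ⟨L, hL, hodd, hc⟩ := classify hK Suzuki.suzukiShape h h2'
  haveI := hL
  have hx2 : ∃ x : G ⧸ N, orderOf x = 2 := ⟨t, Involution.orderOf_of_sq h.mul_self h.ne_one⟩
  have hpow : ∀ n : ℕ, 2 ≤ n → 4 ≤ 2 ^ n := fun n hn => Nat.pow_le_pow_right (by norm_num : 1 ≤ 2) hn
  right
  rcases hc with ⟨F, _, _, ⟨n, hn, hF⟩, ⟨e⟩⟩ | ⟨F, _, _, m, hm, hF, ⟨e⟩⟩ | ⟨F, _, _, n, hn, hF, ⟨e⟩⟩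
  · haveI : CharP F 2 := charP_of_card_eq_prime_pow hF
    haveI : Nontrivial L := by
      haveI := PSL2.isSimpleGroup_psl (L := F) (by rw [Nat.card_eq_fintype_card, hF]; exact hpow n hn)
      exact e.toEquiv.nontrivial
    haveI : IsSimpleGroup L := by
      haveI := PSL2.isSimpleGroup_psl (L := F) (by rw [Nat.card_eq_fintype_card, hF]; exact hpow n hn)
      exact IsSimpleGroup.isSimpleGroup_of_surjective e.symm.toMonoidHom e.symm.surjective
    obtain ⟨e'⟩ := psl_equiv_sl (F := F)
    exact Or.inl ⟨F, inferInstance, inferInstance, inferInstance, hF ▸ hpow n hn,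
      ⟨(MulEquiv.subgroupCongr (pElementClosure_eq hodd hx2)).trans (e.trans e')⟩⟩
  · haveI := Suzuki.isSimpleGroup_sz (F := F) hm hF
    set e1 := e.trans (Suzuki.lieEquiv (F := F) hm hF).symm
    haveI : Nontrivial L := e1.toEquiv.nontrivial
    haveI : IsSimpleGroup L :=
      IsSimpleGroup.isSimpleGroup_of_surjective e1.symm.toMonoidHom e1.symm.surjective
    exact Or.inr (Or.inr ⟨F, inferInstance, inferInstance, m, hm, hF,
      ⟨(MulEquiv.subgroupCongr (pElementClosure_eq hodd hx2)).trans e⟩⟩)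
  · haveI := Unitary.isSimpleGroup_PSU (n := 3) hF (Or.inr ⟨rfl, le_trans (by norm_num) (hpow n hn)⟩)
    haveI : Nontrivial L := e.toEquiv.nontrivial
    haveI : IsSimpleGroup L :=
      IsSimpleGroup.isSimpleGroup_of_surjective e.symm.toMonoidHom e.symm.surjective
    exact Or.inr (Or.inl ⟨F, inferInstance, inferInstance, 2 ^ n, Nat.even_pow.2 ⟨even_two, by omega⟩,
      hpow n hn, hF, ⟨(MulEquiv.subgroupCongr (pElementClosure_eq hodd hx2)).trans e⟩⟩)

/-- A maximal strongly embedded subgroup of a simple group is doubly transitive of Suzuki type. -/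
theorem suzukiType_of_simple [IsSimpleGroup G] (hK : KernelShape.{u, u}) (hR : RankOneHalf.{u})
    (hH : Cfsg.IsStronglyEmbedded H) (hmax : IsCoatom H) : Cfsg.IsDoublyTransitiveSuzukiType H := by
  have hcore := normalCore_of_simple hH
  have h2 := two_involutions_of_simple hH
  obtain ⟨t, Q, h⟩ := hR G H hH hcore h2
  haveI := faithful_of_normalCore hcore
  obtain ⟨o, ho⟩ : ∃ o : G ⧸ H, o = ((1 : G) : G ⧸ H) := ⟨_, rfl⟩
  rw [← ho] at h
  obtain ⟨hQ2, -⟩ := hK G (G ⧸ H) o t Q h h2
  have hst : stabilizer G o = H := ho ▸ stabilizer_quotient H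
  have hne : H ≠ ⊥ := fun e => by
    obtain ⟨x, hx, hx2⟩ := exists_involution_mem hH.2.1
    exact ne_one hx2 (Subgroup.mem_bot.1 (e ▸ hx))
  have hself : Subgroup.normalizer (H : Set G) = H :=
    (hmax.le_iff.1 Subgroup.le_normalizer).resolve_left fun e =>
      ((Subgroup.normalizer_eq_top_iff.1 e).eq_bot_or_eq_top).elim hne hH.1
  set c : G → Subgroup G := fun g => H.map (MulAut.conj g).toMonoidHom with hc
  have hco : ∀ g : G, c g = stabilizer G (g • o) := fun g => by
    rw [stabilizer_smul_eq_stabilizer_map_conj, hst]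
  have hiff : ∀ g : G, c g ≠ H ↔ g • o ≠ o := fun g => by
    refine not_congr ⟨fun e => ?_, fun e => by rw [hco, e, hst]⟩
    rw [← mem_stabilizer_iff, hst, ← hself]
    refine mem_normalizer_of_forall fun x hx => ?_
    rw [← e]
    exact Subgroup.mem_map_of_mem _ hx
  have hmul : ∀ g m : G, (c g).map (MulAut.conj m).toMonoidHom = c (m * g) := fun g m => by
    rw [hc, Subgroup.map_map]
    congr 1
    ext x
    simp [mul_assoc]
  have hcinj : ∀ g g' : G, c g = c g' → g • o = g' • o := fun g g' e => by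
    have : c (g'⁻¹ * g) = H := by
      rw [← hmul, e, hmul, inv_mul_cancel, hco, one_smul, hst]
    by_contra h'
    refine ((hiff _).2 ?_) this
    rwa [Ne, mul_smul, inv_smul_eq_iff]
  have hreg : ∀ g₁ g₂ : G, c g₁ ≠ H → c g₂ ≠ H →
      ∃! x : ↥Q, (c g₁).map (MulAut.conj (x : G)).toMonoidHom = c g₂ := by
    intro g₁ g₂ h₁ h₂
    obtain ⟨x, hx, huniq⟩ := RankOne.Setup.regular h ((hiff g₁).1 h₁) ((hiff g₂).1 h₂)
    refine ⟨x, ?_, fun y hy => huniq y ?_⟩
    · show (c g₁).map _ = _
      rw [hmul, hco, hco, mul_smul, hx]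
    · replace hy : (c g₁).map (MulAut.conj (y : G)).toMonoidHom = c g₂ := hy
      rw [hmul] at hy
      show (y : G) • g₁ • o = g₂ • o
      rw [← mul_smul]
      exact hcinj _ _ hy
  obtain ⟨P, hP⟩ := RankOne.Setup.exists_sylow_two_le h
  have hle : Q ≤ H := hst ▸ h.le
  refine ⟨hself, ⟨t, (hiff t).2 h.not_mem⟩, fun g₁ g₂ h₁ h₂ => ?_, t, (hiff t).2 h.not_mem,
    Q, hle, ⟨fun x hx g => ?_⟩, ?_, ?_, hQ2.isNilpotent, ⟨P, hP⟩, hreg⟩
  · obtain ⟨x, hx, -⟩ := hreg g₁ g₂ h₁ h₂
    exact ⟨x, hle x.2, hx⟩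
  · exact h.conj_mem g (hst.ge g.2) x hx
  all_goals rw [← Subgroup.map_equiv_normalizer_eq, hself,
    show H.map (MulAut.conj t).toMonoidHom = stabilizer G (t • o) from hco t]
  · exact le_bot_iff.1 (h.inf_eq_bot.le.trans' (inf_le_inf_left _ inf_le_right))
  · simpa only [hst] using h.sup_eq

end Cfsg.Agent.Bender
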