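import Cfsg.Agent.Lib.Bender.ModuleRank
import Cfsg.Agent.Lib.Bender.Final
import Cfsg.Agent.Lib.Zsigmondy.Basic
import Cfsg.Agent.Lib.Suzuki.Solubilizer
import Cfsg.Agent.Lib.PSL2.Overgroups
import Cfsg.Agent.Lib.PSL2.Torus
import Cfsg.Agent.Lib.Unitary.Center
/-!
# Elements of good odd prime power order in the rank one simple groups (owner: helper38)

* `exists_good` : primitive prime powers
* `HasGood L N`, `HasReal L N` : an element (inverted by an involution) of order `P` with `Good P N`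
* `psl_data`, `sz_data`, `psu_data`
-/

set_option autoImplicit false
set_option linter.style.haveILetI false
set_option linter.unusedSectionVars false

namespace Cfsg.Agent.Bender

open scoped Matrix

theorem good_of_primitive {p N : ℕ} (hN : 0 < N) (h : p ∣ 2 ^ N - 1)
    (hk : ∀ k : ℕ, 0 < k → k < N → ¬ p ∣ 2 ^ k - 1) : Good p N := by
  intro a ha
  have hd : p ∣ 2 ^ Nat.gcd a N - 1 := by
    rw [← Nat.pow_sub_one_gcd_pow_sub_one]
    exact Nat.dvd_gcd ha h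
  rcases lt_or_eq_of_le (Nat.le_of_dvd hN (Nat.gcd_dvd_right a N)) with hlt | he
  · exact absurd hd (hk _ (Nat.gcd_pos_of_pos_right a hN) hlt)
  · exact he ▸ Nat.gcd_dvd_left a N

theorem good_nine : Good 9 6 := by
  intro a ha
  have e : 2 ^ a = (2 ^ 6) ^ (a / 6) * 2 ^ (a % 6) := by rw [← pow_mul, ← pow_add, Nat.div_add_mod]
  have h1 : 2 ^ a % 9 = 1 := by
    have := Nat.one_le_two_pow (n := a)
    omega
  rw [e, Nat.mul_mod, Nat.pow_mod] at h1
  have : a % 6 < 6 := Nat.mod_lt _ (by norm_num)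
  interval_cases h : a % 6 <;> simp at h1
  omega

/-- A primitive prime of `2 ^ (2 n) - 1` divides `2 ^ n + 1`. -/
theorem exists_primitive_plus {n : ℕ} (hn : 2 ≤ n) (h3 : n ≠ 3) :
    ∃ p : ℕ, p.Prime ∧ p ≠ 2 ∧ p ≠ 3 ∧ p ∣ 2 ^ n + 1 ∧ Good p (2 * n) := by
  obtain ⟨p, hp, hdvd, hk⟩ := Zsigmondy.exists_primitive (a := 2) (n := 2 * n) one_lt_two (by omega)
    (by omega) (by omega)
  refine ⟨p, hp, ?_, ?_, ?_, good_of_primitive (by omega) hdvd hk⟩
  · rintro rfl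
    have := Nat.one_le_two_pow (n := 2 * n)
    have : 2 ∣ 2 ^ (2 * n) := dvd_pow_self 2 (by omega)
    omega
  · rintro rfl
    exact hk 2 two_pos (by omega) (by norm_num)
  · have e : 2 ^ (2 * n) - 1 = (2 ^ n + 1) * (2 ^ n - 1) := by
      rw [← Nat.sq_sub_sq, one_pow, ← pow_mul, mul_comm n 2]
    rw [e] at hdvd
    exact (hp.dvd_mul.1 hdvd).resolve_right (hk n (by omega) (by omega))

theorem exists_good {n : ℕ} (hn : 2 ≤ n) :
    ∃ p k : ℕ, p.Prime ∧ p ≠ 2 ∧ p ^ (k + 1) ∣ 2 ^ n + 1 ∧ Good (p ^ (k + 1)) (2 * n) := by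
  rcases eq_or_ne n 3 with rfl | h3
  · exact ⟨3, 1, Nat.prime_three, by norm_num, by norm_num, good_nine⟩
  · obtain ⟨p, hp, h2, -, hd, hg⟩ := exists_primitive_plus hn h3
    exact ⟨p, 0, hp, h2, by rwa [zero_add, pow_one], by rwa [zero_add, pow_one]⟩

/-- An element of order `P` with `Good P N`. -/
def HasGood (L : Type*) [Group L] (N : ℕ) : Prop :=
  ∃ (x : L) (p k : ℕ), p.Prime ∧ p ≠ 2 ∧ orderOf x = p ^ (k + 1) ∧ Good (p ^ (k + 1)) N

/-- An element of order `P` with `Good P N` inverted by an involution. -/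
def HasReal (L : Type*) [Group L] (N : ℕ) : Prop :=
  ∃ (x u : L) (p k : ℕ), p.Prime ∧ p ≠ 2 ∧ orderOf x = p ^ (k + 1) ∧ Good (p ^ (k + 1)) N ∧
    u * u = 1 ∧ u * x * u⁻¹ = x⁻¹

theorem HasReal.hasGood {L : Type*} [Group L] {N : ℕ} (h : HasReal L N) : HasGood L N := by
  obtain ⟨x, -, p, k, hp, h2, ho, hg, -⟩ := h
  exact ⟨x, p, k, hp, h2, ho, hg⟩

theorem HasGood.map {L M : Type*} [Group L] [Group M] {N : ℕ} (h : HasGood L N) (f : L →* M)
    (hf : Function.Injective f) : HasGood M N := by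
  obtain ⟨x, p, k, hp, h2, ho, hg⟩ := h
  exact ⟨f x, p, k, hp, h2, by rw [orderOf_injective f hf, ho], hg⟩

theorem HasReal.map {L M : Type*} [Group L] [Group M] {N : ℕ} (h : HasReal L N) (f : L →* M)
    (hf : Function.Injective f) : HasReal M N := by
  obtain ⟨x, u, p, k, hp, h2, ho, hg, hu, hx⟩ := h
  exact ⟨f x, f u, p, k, hp, h2, by rw [orderOf_injective f hf, ho], hg,
    by rw [← map_mul, hu, map_one], by rw [← map_inv, ← map_mul, ← map_mul, hx, map_inv]⟩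

theorem psl_real {F : Type} [Field F] [Finite F] {n : ℕ} (hn : 2 ≤ n) (hF : Nat.card F = 2 ^ n) :
    HasReal (Matrix.ProjectiveSpecialLinearGroup (Fin 2) F) (2 * n) := by
  haveI : Fact (Nat.Prime 2) := ⟨Nat.prime_two⟩
  letI := Fintype.ofFinite F
  haveI : CharP F 2 := charP_of_card_eq_prime_pow (f := n) (by rw [← hF, Nat.card_eq_fintype_card])
  obtain ⟨p, k, hp, hp2, hdvd, hgood⟩ := exists_good hn
  obtain ⟨-, yp, -, hyp, -⟩ := PSL2.exists_torus_conj (F := F) 2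
  have hg : Nat.gcd 2 (Nat.card F - 1) = 1 := by
    refine Nat.coprime_two_left.2 ?_
    rw [hF, Nat.odd_iff]
    have h0 : 2 ∣ 2 ^ n := dvd_pow_self 2 (by omega)
    have := Nat.one_le_two_pow (n := n)
    omega
  rw [hg, Nat.div_one, hF] at hyp
  obtain ⟨j, hj⟩ := hdvd
  have hj0 : j ≠ 0 := fun h => by rw [h, mul_zero] at hj; omega
  have hord : orderOf (yp ^ j) = p ^ (k + 1) := by
    rw [orderOf_pow_of_dvd hj0 (by rw [hyp, hj]; exact dvd_mul_left _ _), hyp, hj,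
      Nat.mul_div_cancel _ (Nat.pos_of_ne_zero hj0)]
  have hnd : ¬ orderOf (yp ^ j) ∣ 2 := by
    rw [hord]
    intro h
    have h' := (Nat.prime_dvd_prime_iff_eq hp Nat.prime_two).1
      ((dvd_pow_self p (Nat.succ_ne_zero k)).trans h)
    exact hp2 h'
  obtain ⟨w, hw, hwx⟩ := PSL2.exists_inverting 2 hnd
  exact ⟨yp ^ j, w, p, k, hp, hp2, hord, hgood, hw, hwx⟩

theorem two_part {q x y e : ℕ} (hx : ¬ 2 ∣ x) (hy : ¬ 2 ∣ y) (h : 2 ^ q * x = 2 ^ e * y) : q = e := by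
  have hpx : 0 < 2 ^ q := Nat.two_pow_pos q
  have h1 := congrArg (fun m : ℕ => m.factorization 2) h
  simp only [Nat.factorization_mul hpx.ne' (fun h0 : x = 0 => hx (h0 ▸ dvd_zero 2)),
    Nat.factorization_mul (Nat.two_pow_pos e).ne' (fun h0 : y = 0 => hy (h0 ▸ dvd_zero 2)),
    Finsupp.coe_add, Pi.add_apply, Nat.prime_two.factorization_pow, Finsupp.single_eq_same,
    Nat.factorization_eq_zero_of_not_dvd hx, Nat.factorization_eq_zero_of_not_dvd hy, add_zero] at h1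
  exact h1

theorem psl_data {F : Type} [Field F] [Fintype F] {n : ℕ} (hn : 2 ≤ n)
    (hF : Fintype.card F = 2 ^ n) :
    ∃ x, ¬ 2 ∣ x ∧ Nat.card (Matrix.ProjectiveSpecialLinearGroup (Fin 2) F) = 2 ^ n * x ∧
      HasReal (Matrix.ProjectiveSpecialLinearGroup (Fin 2) F) (2 * n) := by
  haveI : Fact (Nat.Prime 2) := ⟨Nat.prime_two⟩
  haveI : CharP F 2 := charP_of_card_eq_prime_pow hF
  obtain ⟨x, hx, -, hc, -⟩ := PSL2.card_psl_split (F := F) 2
  rw [Nat.card_eq_fintype_card (α := F), hF] at hc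
  exact ⟨x, hx, hc, psl_real hn (by rw [Nat.card_eq_fintype_card, hF])⟩

theorem sz_data {F : Type} [Field F] [Fintype F] {m : ℕ} (hm : 1 ≤ m)
    (hF : Fintype.card F = 2 ^ (2 * m + 1)) :
    ∃ x, ¬ 2 ∣ x ∧ Nat.card (Cfsg.Sz F m) = 2 ^ (2 * (2 * m + 1)) * x ∧
      HasReal (Cfsg.Sz F m) (4 * (2 * m + 1)) := by
  refine ⟨((2 ^ (2 * m + 1)) ^ 2 + 1) * (2 ^ (2 * m + 1) - 1), ?_, ?_, ?_⟩
  · have h2 : 2 ∣ 2 ^ (2 * m + 1) := dvd_pow_self 2 (by omega)
    have h1 := Nat.one_le_two_pow (n := 2 * m + 1)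
    rw [Nat.prime_two.dvd_mul]
    rintro (h | h)
    · have : 2 ∣ (2 ^ (2 * m + 1)) ^ 2 := dvd_pow h2 two_ne_zero
      omega
    · omega
  · rw [Suzuki.card_sz hm hF, ← pow_mul, mul_comm (2 * m + 1) 2]; ring
  · obtain ⟨p, hp, hp2, -, hdvd, hgood⟩ := exists_primitive_plus (n := 2 * (2 * m + 1)) (by omega)
      (by omega)
    rw [← mul_assoc, show 2 * 2 = 4 from rfl] at hgood
    haveI : Fact p.Prime := ⟨hp⟩
    rw [show 2 * (2 * m + 1) = (2 * m + 1) * 2 from mul_comm _ _, pow_mul,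
      ← Suzuki.torusA_mul_torusB, hp.dvd_mul] at hdvd
    obtain ⟨⟨ga, hga, ha⟩, ⟨gb, hgb, hb⟩⟩ := Suzuki.exists_torus hm hF
    obtain ⟨g, hg, hgd⟩ : ∃ g : Cfsg.Sz F m, Suzuki.FPF g ∧ p ∣ Nat.card (Suzuki.torus g) := by
      rcases hdvd with h | h
      · exact ⟨ga, hga, ha ▸ h⟩
      · exact ⟨gb, hgb, hb ▸ h⟩
    obtain ⟨⟨x, hx⟩, ho⟩ := exists_prime_orderOf_dvd_card' (G := Suzuki.torus g) p hgd
    rw [Subgroup.orderOf_mk] at ho
    have hT := Suzuki.torusDatum_torus hm hF hg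
    obtain ⟨z, hz, hz2⟩ := Suzuki.TorusDatum.exists_invol hT
    exact ⟨x, z, p, 0, hp, hp2, by rw [zero_add, pow_one, ho], by rwa [zero_add, pow_one],
      by rw [← sq, ← hz2, pow_orderOf_eq_one], Suzuki.TorusDatum.invol_inverts hT hz hz2 hx⟩

section PSU

variable {F : Type} [Field F] [Fintype F] {n : ℕ}

/-- The embedded `SL₂` as a matrix. -/
def blockM {K : Type} [Field K] (ι : K →+* F) (g : Matrix.SpecialLinearGroup (Fin 2) K) :
    Matrix (Fin 3) (Fin 3) F :=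
  !![ι (g.1 0 0), ι (g.1 0 1), 0; ι (g.1 1 0), ι (g.1 1 1), 0; 0, 0, 1]

theorem blockM_mul {K : Type} [Field K] (ι : K →+* F)
    (g g' : Matrix.SpecialLinearGroup (Fin 2) K) : blockM ι (g * g') = blockM ι g * blockM ι g' := by
  ext i j
  fin_cases i <;> fin_cases j <;>
    simp [blockM, Matrix.mul_apply, Fin.sum_univ_succ, map_add, map_mul]

/-- The base change to a hyperbolic basis. -/
def hypP (l : F) : Matrix (Fin 3) (Fin 3) F := !![1, l, 0; 1, l + 1, 0; 0, 0, 1]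

/-- Its inverse. -/
def hypQ (l : F) : Matrix (Fin 3) (Fin 3) F := !![l + 1, l, 0; 1, 1, 0; 0, 0, 1]

theorem hyp_inv (h2 : (2 : F) = 0) (l : F) : hypQ l * hypP l = 1 := by
  ext i j
  fin_cases i <;> fin_cases j <;> simp [hypP, hypQ, Matrix.mul_apply, Fin.sum_univ_succ]
  · linear_combination l * h2
  · linear_combination (l * l + l) * h2
  · linear_combination h2
  · linear_combination l * h2

theorem psu_hom (hn : 2 ≤ n) (hF : Fintype.card F = (2 ^ n) ^ 2) :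
    ∃ f : Matrix.SpecialLinearGroup (Fin 2) (Unitary.fixedField hF) →* Cfsg.PSU 3 F (2 ^ n),
      Function.Injective f := by
  haveI : CharP F 2 := charP_of_card_eq_prime_pow (f := n * 2) (by rw [hF, pow_mul])
  have h2 : (2 : F) = 0 := CharTwo.two_eq_zero
  obtain ⟨l, hl⟩ := Unitary.exists_trace_eq hF (c := (1 : F)) (one_pow _)
  set ι := (Unitary.fixedField hF).subtype with hι
  have hfix : ∀ x : Unitary.fixedField hF, (x : F) ^ 2 ^ n = x := fun x =>
    (Unitary.mem_fixedField hF).1 x.2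
  have hQP := hyp_inv h2 l
  have hPQ : hypP l * hypQ l = 1 := mul_eq_one_comm.1 hQP
  have hU : ∀ g, Unitary.IsUnitary (2 ^ n) (hypP l * blockM ι g * hypQ l) := by
    have hherm : ∀ x y : Fin 3 → F, Cfsg.hermForm 3 F (2 ^ n) (hypP l *ᵥ x) (hypP l *ᵥ y) =
        x 0 * y 1 ^ 2 ^ n + x 1 * y 0 ^ 2 ^ n + x 2 * y 2 ^ 2 ^ n := fun x y => by
      simp [Cfsg.hermForm, Fin.sum_univ_three, hypP, Matrix.mulVec, dotProduct,
        Unitary.add_pow_q hF, mul_pow, Unitary.zero_pow_q hF]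
      linear_combination (x 1 * y 1 ^ 2 ^ n) * hl +
        (x 0 * y 0 ^ 2 ^ n + l ^ 2 ^ n * (x 0 * y 1 ^ 2 ^ n) + l * (x 1 * y 0 ^ 2 ^ n) +
          (l * l ^ 2 ^ n + 1) * (x 1 * y 1 ^ 2 ^ n)) * h2
    intro g u v
    have hd : ι (g.1 0 0) * ι (g.1 1 1) + ι (g.1 0 1) * ι (g.1 1 0) = 1 := by
      have hdet := congrArg ι ((Matrix.det_fin_two g.1).symm.trans g.2)
      rw [map_sub, map_mul, map_mul, map_one] at hdet
      linear_combination hdet + ι (g.1 0 1) * ι (g.1 1 0) * h2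
    rw [← Matrix.mulVec_mulVec, ← Matrix.mulVec_mulVec, ← Matrix.mulVec_mulVec,
      ← Matrix.mulVec_mulVec, hherm]
    conv_rhs => rw [← Matrix.one_mulVec u, ← Matrix.one_mulVec v, ← hPQ, ← Matrix.mulVec_mulVec,
      ← Matrix.mulVec_mulVec, hherm]
    generalize hypQ l *ᵥ u = x
    generalize hypQ l *ᵥ v = y
    have hι' : ∀ z, ι z ^ 2 ^ n = ι z := hfix
    simp [blockM, Matrix.mulVec, dotProduct, Fin.sum_univ_three, Unitary.add_pow_q hF, mul_pow,
      hι', Unitary.zero_pow_q hF]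
    linear_combination (x 0 * y 1 ^ 2 ^ n + x 1 * y 0 ^ 2 ^ n) * hd +
      (ι (g.1 0 0) * ι (g.1 1 0) * x 0 * y 0 ^ 2 ^ n +
        ι (g.1 0 1) * ι (g.1 1 1) * x 1 * y 1 ^ 2 ^ n) * h2
  have hdet : ∀ g, (hypP l * blockM ι g * hypQ l).det = 1 := fun g => by
    rw [Matrix.det_mul, Matrix.det_mul, mul_right_comm, ← Matrix.det_mul, hPQ, Matrix.det_one,
      one_mul]
    have hdet := congrArg ι ((Matrix.det_fin_two g.1).symm.trans g.2)
    rw [map_sub, map_mul, map_mul, map_one] at hdet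
    rw [Matrix.det_fin_three]
    simp [blockM]
    linear_combination hdet
  let φ : Matrix.SpecialLinearGroup (Fin 2) (Unitary.fixedField hF) →* Cfsg.SU 3 F (2 ^ n) :=
    MonoidHom.mk' (fun g => Unitary.suOfUnitary _ (hU g) (hdet g)) fun g g' => by
      refine Subtype.ext (Subtype.ext ?_)
      show hypP l * blockM ι (g * g') * hypQ l =
        (hypP l * blockM ι g * hypQ l) * (hypP l * blockM ι g' * hypQ l)
      rw [blockM_mul]
      simp only [Matrix.mul_assoc]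
      rw [show hypQ l * (hypP l * (blockM ι g' * hypQ l)) = blockM ι g' * hypQ l by
        rw [← Matrix.mul_assoc, hQP, Matrix.one_mul]]
  refine ⟨(QuotientGroup.mk' (Subgroup.center (Cfsg.SU 3 F (2 ^ n)))).comp φ, ?_⟩
  rw [injective_iff_map_eq_one]
  intro g hg
  rw [MonoidHom.comp_apply, QuotientGroup.mk'_apply, QuotientGroup.eq_one_iff,
    Unitary.mem_center_SU_iff hF (by norm_num)] at hg
  obtain ⟨z, hz⟩ := hg
  have hz' : hypP l * blockM ι g * hypQ l = Matrix.scalar (Fin 3) z := hz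
  have hb : blockM ι g = Matrix.scalar (Fin 3) z := by
    have := congrArg (fun M => hypQ l * M * hypP l) hz'
    simp only [Matrix.mul_assoc] at this
    rw [← Matrix.mul_assoc (hypQ l) (hypP l), hQP, Matrix.one_mul, Matrix.mul_one] at this
    rw [this, ← (Matrix.scalar_commute z (mul_comm z) (hypP l)).eq.symm, ← Matrix.mul_assoc, hQP,
      Matrix.one_mul]
  have hz1 : z = 1 := by simpa [blockM] using (congrFun (congrFun hb 2) 2).symm
  subst hz1
  refine Subtype.ext (Matrix.ext fun i j => ι.injective ?_)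
  have h00 := congrFun (congrFun hb 0) 0
  have h01 := congrFun (congrFun hb 0) 1
  have h10 := congrFun (congrFun hb 1) 0
  have h11 := congrFun (congrFun hb 1) 1
  simp [blockM] at h00 h01 h10 h11
  fin_cases i <;> fin_cases j <;> simp [h00, h01, h10, h11]

theorem psu_data (hn : 2 ≤ n) (hF : Fintype.card F = (2 ^ n) ^ 2) :
    ∃ x, ¬ 2 ∣ x ∧ Nat.card (Cfsg.PSU 3 F (2 ^ n)) = 2 ^ (3 * n) * x ∧
      HasGood (Cfsg.PSU 3 F (2 ^ n)) (6 * n) ∧ HasReal (Cfsg.PSU 3 F (2 ^ n)) (2 * n) := by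
  haveI : CharP F 2 := charP_of_card_eq_prime_pow (f := n * 2) (by rw [hF, pow_mul])
  obtain ⟨f, hf⟩ := psu_hom hn hF
  haveI : CharP (Unitary.fixedField hF) 2 :=
    (Unitary.fixedField hF).subtype.charP (RingHom.injective _) 2
  obtain ⟨e⟩ := psl_equiv_sl (F := Unitary.fixedField hF)
  have hR := (psl_real hn (Unitary.card_fixedField hF)).map (f.comp e.toMonoidHom)
    (hf.comp e.injective)
  have hc := Unitary.card_PSU hF (n := 3) (by norm_num)
  simp only [Finset.prod_range_succ, Finset.prod_range_zero, one_mul] at hc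
  norm_num at hc
  have h0 : (2 : ℕ) ∣ 2 ^ n := dvd_pow_self 2 (by omega)
  have h1 := Nat.one_le_two_pow (n := n)
  have hc' : Nat.gcd 3 (2 ^ n + 1) * Nat.card (Cfsg.PSU 3 F (2 ^ n)) =
      2 ^ (3 * n) * (((2 ^ n) ^ 2 - 1) * ((2 ^ n) ^ 3 + 1)) := by
    refine Nat.eq_of_mul_eq_mul_left (by omega : 0 < 2 ^ n + 1) ?_
    rw [mul_comm 3 n, pow_mul]
    linear_combination hc
  have hgodd : ¬ 2 ∣ Nat.gcd 3 (2 ^ n + 1) := fun h => by
    have := h.trans (Nat.gcd_dvd_left _ _)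
    norm_num at this
  obtain ⟨c, hc2⟩ : 2 ^ (3 * n) ∣ Nat.card (Cfsg.PSU 3 F (2 ^ n)) :=
    (((Nat.prime_two.coprime_iff_not_dvd.2 hgodd).pow_left _)).dvd_of_dvd_mul_left ⟨_, hc'⟩
  have hx : Nat.gcd 3 (2 ^ n + 1) * c = ((2 ^ n) ^ 2 - 1) * ((2 ^ n) ^ 3 + 1) := by
    rw [hc2] at hc'
    exact Nat.eq_of_mul_eq_mul_left (Nat.two_pow_pos (3 * n)) (by linear_combination hc')
  refine ⟨c, fun h => ?_, hc2, ?_, hR⟩
  · have h' : 2 ∣ ((2 ^ n) ^ 2 - 1) * ((2 ^ n) ^ 3 + 1) := hx ▸ dvd_mul_of_dvd_right h _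
    have a2 : 2 ∣ (2 ^ n) ^ 2 := dvd_pow h0 two_ne_zero
    have a3 : 2 ∣ (2 ^ n) ^ 3 := dvd_pow h0 (by norm_num)
    have b2 : 1 ≤ (2 ^ n) ^ 2 := Nat.one_le_pow _ _ (Nat.two_pow_pos n)
    rcases Nat.prime_two.dvd_mul.1 h' with h' | h' <;> omega
  · obtain ⟨p, hp, hp2, hp3, hdvd, hgood⟩ := exists_primitive_plus (n := 3 * n) (by omega) (by omega)
    rw [← mul_assoc, show 2 * 3 = 6 from rfl] at hgood
    haveI : Fact p.Prime := ⟨hp⟩
    have hpg : ¬ p ∣ Nat.gcd 3 (2 ^ n + 1) := fun h =>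
      hp3 ((Nat.prime_dvd_prime_iff_eq hp Nat.prime_three).1 (h.trans (Nat.gcd_dvd_left _ _)))
    have hd : p ∣ Nat.card (Cfsg.PSU 3 F (2 ^ n)) := by
      refine (hp.dvd_mul.1 ?_).resolve_left hpg
      rw [hc']
      refine dvd_mul_of_dvd_right (dvd_mul_of_dvd_right ?_ _) _
      rwa [← pow_mul, mul_comm n 3]
    obtain ⟨x, hx'⟩ := exists_prime_orderOf_dvd_card' (G := Cfsg.PSU 3 F (2 ^ n)) p hd
    exact ⟨x, p, 0, hp, hp2, by rw [zero_add, pow_one, hx'], by rwa [zero_add, pow_one]⟩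

end PSU

end Cfsg.Agent.Bender
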