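import Cfsg.Agent.Lib.Bender.Consumers
import Cfsg.Agent.Lib.Bender.RealTori
import Cfsg.Agent.Lib.Bender.ModuleOddCore
import Cfsg.Agent.Lib.Involution.KleinFour
/-!
# Faithful modules in characteristic two of groups with a strongly embedded subgroup
(owner: helper38)

* `elements` : elements of good order in a rank one set-up
* `module_bounds` : S3841 modulo `RankOneHalf`
-/

set_option autoImplicit false
set_option linter.style.haveILetI false
set_option linter.unusedSectionVars false

namespace Cfsg.Agent.Bender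

open MulAction Cfsg.Agent.SuzukiRankOne Cfsg.Agent.Involution Module

universe u v

/-- In a rank one set-up: the order of a Sylow 2-subgroup, the elementary subgroups in `Q` and
elements of good order. -/
theorem elements {G : Type u} [Group G] [Finite G] {Ω : Type v} [MulAction G Ω] [FaithfulSMul G Ω]
    {a : Ω} {t : G} {Q : Subgroup G} (h : Cfsg.IsRankOneSetup G Ω a t Q) (h2 : TwoInvolutions G) :
    ∃ n e : ℕ, 2 ≤ n ∧ Nat.card Q = 2 ^ (e * n) ∧
      (∀ Z : Subgroup G, Z ≤ Q → (∀ z ∈ Z, z * z = 1) → Nat.card Z ≤ 2 ^ n) ∧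
      HasGood G (2 * (e * n)) ∧ HasReal G (2 * n) := by
  classical
  have hK : KernelShape.{u, v} := kernelShape
  obtain ⟨hQ2, hel⟩ := hK G Ω a t Q h h2
  obtain ⟨-, ⟨S, hS⟩, -⟩ := sylow_normal h h2
  obtain ⟨b, hb⟩ := IsPGroup.iff_card.1 hQ2
  haveI : Fact (Nat.Prime 2) := ⟨Nat.prime_two⟩
  have hQidx : ¬ 2 ∣ Q.index := hS ▸ S.not_dvd_index
  have key : ∀ (L : Subgroup G) (x c : ℕ), Odd L.index → ¬ 2 ∣ x → Nat.card L = 2 ^ c * x → b = c := by
    intro L x c hL hx hc
    have h1 := Q.card_mul_index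
    rw [← L.card_mul_index, hb, hc, mul_assoc] at h1
    refine two_part hQidx ?_ h1
    rw [Nat.prime_two.dvd_mul]
    rintro (h' | h')
    · exact hx h'
    · exact (Nat.not_even_iff_odd.2 hL) (even_iff_two_dvd.2 h')
  by_cases hc : IsMulCommutative Q
  · obtain ⟨L, -, hodd, F, _, _, ⟨n, hn, hF⟩, ⟨e⟩⟩ := elementary_case h h2 (hel hc)
    obtain ⟨x, hx, hcard, hR⟩ := psl_data hn hF
    obtain rfl := key L x n hodd hx (by rw [Nat.card_congr e.toEquiv, hcard])
    have hR' := hR.map (L.subtype.comp e.symm.toMonoidHom)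
      (L.subtype_injective.comp e.symm.injective)
    exact ⟨b, 1, hn, by rw [one_mul, hb], fun Z hZ _ => hb ▸ Subgroup.card_le_of_le hZ,
      by rw [one_mul]; exact hR'.hasGood, hR'⟩
  obtain ⟨n, hn, hq, ⟨C⟩⟩ := exists_coords h h2
  have hcard : Nat.card (GaloisField 2 n) = param G a := by rw [hq, GaloisField.card 2 n (by omega)]
  have hZ : ∀ Z : Subgroup G, Z ≤ Q → (∀ z ∈ Z, z * z = 1) → Nat.card Z ≤ 2 ^ n := by
    intro Z hZQ hsq
    rw [← hq, SuzukiRankOne.param]
    have : Nat.card {z : Z // z ≠ 1} ≤ Nat.card (Cfsg.involutionsIn (stabilizer G a : Set G)) := by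
      refine Nat.card_le_card_of_injective
        (fun z => ⟨z.1.1, h.le (hZQ z.1.2), fun e => z.2 (Subtype.ext e), hsq _ z.1.2⟩) fun z w e => Subtype.ext (Subtype.ext (Subtype.mk.inj e))
    have h1 : Nat.card {z : Z // z ≠ 1} = Nat.card Z - 1 := by
      haveI := Fintype.ofFinite Z
      rw [Nat.card_eq_fintype_card, Fintype.card_subtype_compl, Fintype.card_subtype_eq,
        Nat.card_eq_fintype_card]
    omega
  rcases C.card_cases h h2 hQ2 hc with e | e <;> rw [hcard] at e
  · obtain ⟨L, -, hodd, F, _, _, m, hm, hF, ⟨eL⟩⟩ := Suzuki.suzukiShape G Ω a t Q h h2 hQ2 hc e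
    obtain ⟨x, hx, hcS, hR⟩ := sz_data hm hF
    let eS := eL.trans (Cfsg.Agent.Suzuki.lieEquiv (F := F) hm hF).symm
    have hbb : b = 2 * (2 * m + 1) := key L x _ hodd hx (by rw [Nat.card_congr eS.toEquiv, hcS])
    have hnm : n = 2 * m + 1 := by
      rw [hq, hb, ← pow_mul] at e
      have := Nat.pow_right_injective le_rfl e
      omega
    subst hnm
    have hR' := hR.map (L.subtype.comp eS.symm.toMonoidHom)
      (L.subtype_injective.comp eS.symm.injective)
    refine ⟨2 * m + 1, 2, hn, by rw [hb, hbb], hZ, ?_, ?_⟩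
    · rw [← mul_assoc]; exact hR'.hasGood
    · obtain ⟨x', u', p, k, hp, hp2, ho, hg, hu, hx'⟩ := hR'
      exact ⟨x', u', p, k, hp, hp2, ho, fun a ha => (Dvd.intro_left 2 (by ring)).trans (hg a ha), hu, hx'⟩
  · obtain ⟨L, -, hodd, F, _, _, n', hn', hF, ⟨eL⟩⟩ := unitary_case h h2 hQ2 hc e
    obtain ⟨x, hx, hcS, hG, hR⟩ := psu_data hn' hF
    have hbb : b = 3 * n' := key L x _ hodd hx (by rw [Nat.card_congr eL.toEquiv, hcS])
    have hnn : n = n' := by
      rw [hq, hb, ← pow_mul] at e
      have := Nat.pow_right_injective le_rfl e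
      omega
    subst hnn
    have hinj := L.subtype_injective.comp eL.symm.injective
    refine ⟨n, 3, hn, by rw [hb, hbb], hZ, ?_, hR.map (L.subtype.comp eL.symm.toMonoidHom) hinj⟩
    rw [← mul_assoc]
    exact hG.map (L.subtype.comp eL.symm.toMonoidHom) hinj

variable {G : Type u} [Group G] [Finite G] {V : Type v} [AddCommGroup V] [Module (ZMod 2) V]
  [Module.Finite (ZMod 2) V] (ρ : G →* Module.End (ZMod 2) V)

/-- An element with image of good order moves many dimensions. -/
theorem rank_of_image_good (hρ : Function.Injective ρ) {N : Subgroup G} [N.Normal] {g : G}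
    {p k M : ℕ} (hp : p.Prime) (hp2 : p ≠ 2)
    (hg : orderOf ((g : G ⧸ N)) = p ^ (k + 1)) (hgood : Good (p ^ (k + 1)) M) :
    M ≤ finrank (ZMod 2) (LinearMap.range (ρ g - 1)) := by
  have hdvd : p ^ (k + 1) ∣ orderOf g := hg ▸ orderOf_map_dvd (QuotientGroup.mk' N) g
  obtain ⟨a, r, hr, he⟩ := Nat.exists_eq_pow_mul_and_not_dvd (orderOf_pos g).ne' p hp.ne_one
  have hka : k + 1 ≤ a := by
    rw [he] at hdvd
    exact (Nat.pow_dvd_pow_iff_le_right hp.one_lt).1
      ((((hp.coprime_iff_not_dvd.2 hr).pow_left _)).dvd_of_dvd_mul_right hdvd)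
  obtain ⟨a, rfl⟩ : ∃ a', a = a' + 1 := ⟨a - 1, by omega⟩
  have hr0 : r ≠ 0 := fun h => hr (h ▸ dvd_zero p)
  have ho : orderOf (g ^ r) = p ^ (a + 1) := by
    rw [orderOf_pow_of_dvd hr0 (he ▸ dvd_mul_left _ _), he, Nat.mul_div_cancel _ (Nat.pos_of_ne_zero hr0)]
  refine le_trans ?_ (Submodule.finrank_mono (range_pow_sub_one_le (ρ g) r))
  refine rank_sub_one_ge hp hp2 rfl (fun b hb => hgood b ((pow_dvd_pow p hka).trans hb)) _ ?_ ?_
  · rw [← map_pow ρ g r, ← map_pow, ← ho, pow_orderOf_eq_one, map_one]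
  · rw [← map_pow ρ g r, ← map_pow, ← map_one ρ, hρ.ne_iff]
    intro h
    have h' := Nat.le_of_dvd (pow_pos hp.pos _) (orderOf_dvd_of_pow_eq_one h)
    rw [ho] at h'
    exact absurd h' (not_le.2 (Nat.pow_lt_pow_right hp.one_lt (Nat.lt_succ_self a)))

/-- An involution of `G ⧸ N`, `|N|` odd, lifts to an involution. -/
theorem exists_lift_involution {N : Subgroup G} [N.Normal] (hN : Odd (Nat.card N)) {u : G ⧸ N}
    (hu : orderOf u = 2) : ∃ v : G, orderOf v = 2 ∧ (v : G ⧸ N) = u := by
  obtain ⟨y, rfl⟩ := QuotientGroup.mk_surjective u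
  obtain ⟨a, r, hr, he⟩ := Nat.exists_eq_pow_mul_and_not_dvd (orderOf_pos y).ne' 2 (by norm_num)
  have hrodd : Odd r := Nat.odd_iff.2 (by omega)
  have huu : (y : G ⧸ N) * y = 1 := by rw [← sq, ← hu, pow_orderOf_eq_one]
  have him : ((y ^ r : G) : G ⧸ N) = y := by
    obtain ⟨j, rfl⟩ := hrodd
    rw [QuotientGroup.mk_pow, pow_succ, pow_mul, sq, huu, one_pow, one_mul]
  refine ⟨y ^ r, ?_, him⟩
  have hsq : (y ^ r) * (y ^ r) ∈ N := by
    rw [← QuotientGroup.eq_one_iff, QuotientGroup.mk_mul, him, huu]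
  have hne : y ^ r ≠ 1 := fun h => by
    rw [← him, h, QuotientGroup.mk_one, orderOf_one] at hu
    omega
  refine Involution.orderOf_of_sq ?_ hne
  by_contra h1
  have hd1 : orderOf (y ^ r * y ^ r) ∣ 2 ^ a := by
    refine orderOf_dvd_of_pow_eq_one ?_
    rw [← pow_add, ← pow_mul, ← two_mul, mul_assoc, mul_comm r, ← he, mul_comm, pow_mul,
      pow_orderOf_eq_one, one_pow]
  exact h1 (orderOf_eq_one_iff.1 (Nat.eq_one_of_dvd_coprimes
    ((Nat.coprime_two_left.2 hN).pow_left a) hd1 (Subgroup.orderOf_dvd_natCard N hsq)))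

/-- The bounds of S3841. -/
theorem module_bounds (hR : RankOneHalf.{u}) {H : Subgroup G} (hH : Cfsg.IsStronglyEmbedded H)
    (S : Sylow 2 G) (hρ : Function.Injective ρ) :
    (∀ k : ℕ, Nat.card ↥(S : Subgroup G) = 2 ^ k → 2 * k ≤ finrank (ZMod 2) V) ∧
    ∀ n : ℕ, (∀ z ∈ (S : Subgroup G) ⊓ Subgroup.centralizer ((S : Subgroup G) : Set G), z ^ 2 = 1) →
      Nat.card ↥((S : Subgroup G) ⊓ Subgroup.centralizer ((S : Subgroup G) : Set G)) = 2 ^ n →
      ∀ s ∈ (S : Subgroup G), s ≠ 1 → n ≤ finrank (ZMod 2) (LinearMap.range (ρ s - 1)) := by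
  classical
  haveI : Fact (Nat.Prime 2) := ⟨Nat.prime_two⟩
  by_cases h2 : TwoInvolutions G
  · obtain ⟨N, hN, -, -, hNodd, hc, t, Q, h, h2'⟩ := setup_mod_core hR hH h2
    haveI := faithful_of_normalCore hc
    obtain ⟨n, e, -, hQ, hZ, ⟨xg, p, l, hp, hp2, hox, hgood⟩, hreal⟩ := elements h h2'
    obtain ⟨-, ⟨P, hP⟩, -⟩ := sylow_normal h h2'
    set f := QuotientGroup.mk' N
    refine ⟨fun k hk => ?_, fun n' hel hn' s hs hs1 => ?_⟩
    · have h1 := (S : Subgroup G).card_mul_index
      rw [Subgroup.card_eq_card_quotient_mul_card_subgroup N, ← (P : Subgroup (G ⧸ N)).card_mul_index,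
        hP, hQ, hk, mul_assoc] at h1
      have hke : k = e * n := by
        refine two_part S.not_dvd_index ?_ h1
        rw [Nat.prime_two.dvd_mul]
        rintro (h' | h')
        · exact (hP ▸ P.not_dvd_index) h'
        · exact (Nat.not_even_iff_odd.2 hNodd) (even_iff_two_dvd.2 h')
      obtain ⟨g, rfl⟩ := QuotientGroup.mk_surjective xg
      rw [hke]
      exact (rank_of_image_good ρ hρ hp hp2 hox hgood).trans (Submodule.finrank_le _)
    · have hn : n' ≤ n := by
        set Z := (S : Subgroup G) ⊓ Subgroup.centralizer ((S : Subgroup G) : Set G)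
        have hinj : Function.Injective (f.comp Z.subtype) := by
          rw [injective_iff_map_eq_one]
          intro z hz
          exact Subtype.ext (odd_eq_one hNodd ((QuotientGroup.eq_one_iff _).1 hz)
            (by rw [← sq]; exact hel _ z.2))
        have hp' : IsPGroup 2 (Z.map f) :=
          (S.isPGroup'.to_le inf_le_left).map f
        obtain ⟨T, hT⟩ := hp'.exists_le_sylow
        obtain ⟨g, hg⟩ := MulAction.exists_smul_eq (G ⧸ N) T P
        have hle : (Z.map f).map (MulAut.conj g).toMonoidHom ≤ Q := by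
          rw [← hP, ← hg]
          rintro _ ⟨y, hy, rfl⟩
          exact Subgroup.smul_mem_pointwise_smul _ (MulAut.conj g) _ (hT hy)
        have hc1 := hZ _ hle (by
          rintro _ ⟨_, ⟨z, hz, rfl⟩, rfl⟩
          rw [← map_mul, ← map_mul, ← sq, hel z hz, map_one, map_one])
        have hcZ : Nat.card ((Z.map f).map (MulAut.conj g).toMonoidHom) = 2 ^ n' := by
          rw [Subgroup.card_map_of_injective (MulAut.conj g).injective, ← hn', ← Subgroup.range_subtype Z,
            MonoidHom.map_range]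
          exact (Nat.card_congr (MonoidHom.ofInjective hinj).toEquiv).symm.trans
            (by rw [Subgroup.range_subtype])
        rw [hcZ] at hc1
        exact (Nat.pow_le_pow_iff_right (by norm_num)).1 hc1
      -- two involutions with a product of good order
      obtain ⟨x, u, p', l', hp', hp2', hox', hgood', hu, hx⟩ := hreal
      have hxx : x⁻¹ ≠ x := fun e => by
        have : orderOf x ∣ 2 := orderOf_dvd_of_pow_eq_one (by rw [sq]; nth_rewrite 1 [← e]; exact inv_mul_cancel x)
        rw [hox'] at this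
        exact hp2' ((Nat.prime_dvd_prime_iff_eq hp' Nat.prime_two).1
          ((dvd_pow_self p' (Nat.succ_ne_zero l')).trans this))
      have hu1 : u ≠ 1 := fun e => hxx (by rw [← hx, e]; group)
      have hw1 : u * x ≠ 1 := fun e => hxx (by
        rw [← hx, eq_inv_of_mul_eq_one_right e]
        group)
      have hww : u * x * (u * x) = 1 := by
        calc u * x * (u * x) = u * x * u⁻¹ * ((u * u) * x) := by group
          _ = 1 := by rw [hx, hu, one_mul, inv_mul_cancel]
      obtain ⟨u₀, hu₀, hu₀i⟩ := exists_lift_involution hNodd (Involution.orderOf_of_sq hu hu1)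
      obtain ⟨w₀, hw₀, hw₀i⟩ := exists_lift_involution hNodd (Involution.orderOf_of_sq hww hw1)
      have him : ((u₀ * w₀ : G) : G ⧸ N) = x := by
        rw [QuotientGroup.mk_mul, hu₀i, hw₀i, ← mul_assoc, hu, one_mul]
      have hrank := rank_of_image_good ρ hρ hp' hp2' (him ▸ hox') hgood'
      rw [map_mul] at hrank
      have hsum := hrank.trans (range_mul_sub_one_le _ _)
      -- all involutions move the same dimension
      have hconj : ∀ i i' : G, orderOf i = 2 → orderOf i' = 2 →
          finrank (ZMod 2) (LinearMap.range (ρ i' - 1)) ≤ finrank (ZMod 2) (LinearMap.range (ρ i - 1)) := by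
        intro i i' hi hi'
        obtain ⟨g, rfl⟩ := isConj_iff.1 (Involution.isConj_involutions hH hi hi')
        have e : ρ (g * i * g⁻¹) - 1 = ρ g * (ρ i - 1) * ρ g⁻¹ := by
          rw [mul_sub, sub_mul, mul_one, ← map_mul, ← map_mul, ← map_mul, mul_inv_cancel, map_one]
        have hle : LinearMap.range (ρ (g * i * g⁻¹) - 1) ≤
            (LinearMap.range (ρ i - 1)).map (ρ g) := by
          rintro _ ⟨w, rfl⟩
          rw [e]
          exact ⟨_, LinearMap.mem_range_self _ (ρ g⁻¹ w), rfl⟩
        exact (Submodule.finrank_mono hle).trans (Submodule.finrank_map_le _ _)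
      -- a power of `s` is an involution
      obtain ⟨j, -, hj⟩ := (Nat.dvd_prime_pow Nat.prime_two).1
        (S.card_eq_multiplicity ▸ Subgroup.orderOf_dvd_natCard (S : Subgroup G) hs)
      have hj0 : j ≠ 0 := by
        rintro rfl
        exact hs1 (orderOf_eq_one_iff.1 (by rw [hj, pow_zero]))
      have hio : orderOf (s ^ 2 ^ (j - 1)) = 2 := by
        rw [orderOf_pow_of_dvd (pow_ne_zero _ two_ne_zero) (by rw [hj]; exact pow_dvd_pow 2 (by omega)),
          hj, Nat.pow_div (by omega) two_pos, show j - (j - 1) = 1 by omega, pow_one]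
      have h3 := hconj _ _ hio hu₀
      have h4 := hconj _ _ hio hw₀
      have h5 : finrank (ZMod 2) (LinearMap.range (ρ (s ^ 2 ^ (j - 1)) - 1)) ≤
          finrank (ZMod 2) (LinearMap.range (ρ s - 1)) := by
        rw [map_pow]
        exact Submodule.finrank_mono (range_pow_sub_one_le _ _)
      omega
  · -- 2-rank one
    obtain ⟨t₀, ht₀H, ht₀⟩ := exists_involution_mem hH.2.1
    obtain ⟨g₀, ht⟩ := Involution.exists_conj_mem_sylow S ht₀
    set t := g₀ * t₀ * g₀⁻¹ with htdef
    have hto : orderOf t = 2 := (Involution.orderOf_conj g₀ t₀).trans ht₀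
    obtain ⟨hsup, huniq⟩ := isolated_case h2 t hto
    -- an involution of `S` commutes with a central one
    haveI : Nontrivial (S : Subgroup G) := ⟨⟨⟨t, ht⟩, 1, fun e => Involution.ne_one hto (congrArg Subtype.val e)⟩⟩
    haveI := S.isPGroup'.center_nontrivial
    obtain ⟨z, hzo⟩ := exists_prime_orderOf_dvd_card' (G := Subgroup.center (S : Subgroup G)) 2
      (by
        obtain ⟨j, hj⟩ := IsPGroup.iff_card.1
          (S.isPGroup'.to_subgroup (Subgroup.center (S : Subgroup G)))
        rw [hj]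
        refine dvd_pow_self 2 fun h0 => ?_
        rw [h0, pow_zero, Subgroup.card_eq_one] at hj
        exact (Subgroup.nontrivial_iff_ne_bot _).1 inferInstance hj)
    have hzG : orderOf ((z : (S : Subgroup G)) : G) = 2 := by
      rw [Subgroup.orderOf_coe, Subgroup.orderOf_coe, hzo]
    have hzc : ∀ u ∈ (S : Subgroup G), (u : G) * (z : (S : Subgroup G)) = (z : (S : Subgroup G)) * u :=
      fun u hu => congrArg Subtype.val (Subgroup.mem_center_iff.1 z.2 ⟨u, hu⟩)
    have hzt : ((z : (S : Subgroup G)) : G) = t :=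
      huniq _ (Involution.mem_centralizer_singleton.2 (hzc t ht).symm) hzG
    have hu : ∀ u ∈ (S : Subgroup G), orderOf u = 2 → u = t := fun u hu' ho =>
      huniq u (Involution.mem_centralizer_singleton.2 (by rw [← hzt]; exact hzc u hu')) ho
    refine ⟨fun k hk => ?_, fun n hel hn s hs hs1 => ?_⟩
    · have hO : Odd (Nat.card (Cfsg.pPrimeCore 2 G)) :=
        Nat.coprime_two_right.1 (Cores.coprime_card_pPrimeCore (G := G) 2)
      haveI : (Cfsg.pPrimeCore 2 G).Normal := Cores.pPrimeCore_normal 2 G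
      refine two_mul_le_finrank ρ hρ hk hO
        (fun s _ => by rw [Subgroup.normalizer_eq_top_iff.2 inferInstance]; trivial) ht hto hu ?_
      by_contra hcon
      push Not at hcon
      have htop : Subgroup.centralizer ({t} : Set G) = ⊤ := by
        rw [eq_top_iff, ← hsup]
        refine sup_le (fun a ha => Involution.mem_centralizer_singleton.2 ?_) le_rfl
        calc a * t = t * a * t⁻¹ * t := by rw [hcon a ha]
          _ = t * a := by group
      have htH : t ∈ H := by
        obtain ⟨g, hg⟩ := Involution.exists_conj_mem hH hto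
        have hcomm := Involution.mem_centralizer_singleton.1
          (htop ▸ Subgroup.mem_top g : g ∈ Subgroup.centralizer ({t} : Set G))
        rwa [mul_assoc, ← hcomm, inv_mul_cancel_left] at hg
      exact hH.1 (top_le_iff.1 (htop ▸ Involution.centralizer_le hH hto htH))
    · have hn1 : n ≤ 1 := by
        set Z := (S : Subgroup G) ⊓ Subgroup.centralizer ((S : Subgroup G) : Set G)
        have hle : Z ≤ Subgroup.zpowers t := fun z hz => by
          rcases eq_or_ne z 1 with rfl | hz1
          · exact one_mem _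
          · rw [hu z hz.1 (orderOf_eq_prime (hel z hz) hz1)]
            exact Subgroup.mem_zpowers t
        have := Subgroup.card_le_of_le hle
        rw [hn, Nat.card_zpowers, hto] at this
        exact (Nat.pow_le_pow_iff_right (a := 2) (by norm_num) (m := 1)).1 (by simpa using this)
      refine hn1.trans ?_
      rw [Nat.one_le_iff_ne_zero]
      intro h0
      rw [Submodule.finrank_eq_zero, LinearMap.range_eq_bot, sub_eq_zero, ← map_one ρ] at h0
      exact hs1 (hρ h0)

end Cfsg.Agent.Bender
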