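/-
A centred maximal `p`-subgroup has no good normal abelian subgroup of rank three (owner: helper2).

Main results (namespace `Cfsg.Agent.Bender`):
* `exists_centred_completion` : the completion `W` is a subgroup of odd order which moves the point
  of `v` and whose normaliser contains every member of the class at that point
* `not_le_stabilizer_of_below` : in a minimal failure no subgroup of odd order moving a point is
  normalised by all involutions at that point
* `false_of_centred_rank_three` : the two combined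
-/
import Cfsg.Agent.Lib.Bender.Good
import Cfsg.Agent.Lib.Bender.Crit
import Cfsg.Agent.Lib.Bender.Signalizer
import Cfsg.Agent.Lib.HallHigman.PSolvable

set_option autoImplicit false
set_option linter.style.haveILetI false

namespace Cfsg.Agent.Bender

open Cfsg Involution Aschbacher
open scoped Pointwise

universe u v

/-- A centraliser of odd order is `p`-constrained with `p'`-core of odd order. -/
theorem good_of_odd_centralizer {G : Type u} [Group G] [Finite G] {p : ℕ} [Fact p.Prime] {a : G}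
    (h : Odd (Nat.card ↥(Subgroup.centralizer ({a} : Set G)))) :
    Odd (Nat.card (pPrimeCore p ↥(Subgroup.centralizer ({a} : Set G)))) ∧
      IsPConstrained p ↥(Subgroup.centralizer ({a} : Set G)) :=
  haveI : Group.IsSolvable ↥(Subgroup.centralizer ({a} : Set G)) := OddOrderTheorem.solvable h
  ⟨h.of_dvd_nat (Subgroup.card_subgroup_dvd_card _), HallHigman.isPConstrained_of_isSolvable⟩

section Completion

variable {G : Type u} {Ω : Type v} [Group G] [MulAction G Ω] [Finite G] [Finite Ω]
variable {D : Set G} {pt : G → Ω} {p : ℕ} [Fact p.Prime] {P A E : Subgroup G}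
  (PC : PointClass G Ω D pt)
  (hodd : ∀ x y : Ω, x ≠ y → Odd (Nat.card (twoPt G x y)))
  (crit : ∀ (N : Subgroup G) (x y : Ω), x ≠ y → N ≠ ⊥ → N ≤ twoPt G x y →
    twoPt G x y ≤ Subgroup.normalizer (N : Set G) →
    ∀ u ∈ D, pt u = x → u ∈ Subgroup.normalizer (N : Set G) →
    ∀ w ∈ D, w • x = y → w ∈ Subgroup.normalizer (N : Set G) → False)
  (hp : p ≠ 2) (hPp : IsPGroup p P) (hP1 : P ≠ ⊥)
  (htwo : ∃ x y : Ω, x ≠ y ∧ P ≤ MulAction.stabilizer G x ∧ P ≤ MulAction.stabilizer G y)
  (hmax : ∀ Q : Subgroup G, IsPGroup p Q → ∀ x y : Ω, x ≠ y → Q ≤ MulAction.stabilizer G x →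
    Q ≤ MulAction.stabilizer G y → Nat.card Q ≤ Nat.card P)
  (hcentred : ¬ Free D pt P)

include PC hodd crit hp hPp hP1 htwo hmax hcentred in
/-- For a centred `P` and a member `v` of the class normalising it, some `p'`-subgroup normalised
by `P` moves the point of `v`. -/
theorem exists_invariant_moved {v : G} (hv : v ∈ D) (hvP : v ∈ Subgroup.normalizer (P : Set G)) :
    ∃ Y : Subgroup G, (Nat.card Y).Coprime p ∧ P ≤ Subgroup.normalizer (Y : Set G) ∧
      ¬ Y ≤ MulAction.stabilizer G (pt v) := by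
  obtain ⟨x, y, hxy, hx, hy, u, hu, huP, hux, a, ha, hmove⟩ :=
    exists_core_moved PC hodd crit hp hPp hP1 htwo hmax hcentred
  set K := core p (twoPt G x y)
  have hK : (Nat.card K).Coprime p :=
    ((Fact.out : p.Prime).coprime_iff_not_dvd.2 not_dvd_card_core).symm
  have hPK : P ≤ Subgroup.normalizer (K : Set G) := (le_inf hx hy).trans (le_normalizer_core p _)
  by_cases hne : pt v = pt u
  · exact ⟨K, hK, hPK, fun h => hmove (hne ▸ MulAction.mem_stabilizer_iff.1 (h ha))⟩
  obtain ⟨k, hk, hkv⟩ := exists_conj_in PC hv hu hvP huP hne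
  refine ⟨MulAut.conj k⁻¹ • K, by rwa [Coprime.card_conj], fun g hg =>
    Coprime.mem_normalizer_of_forall fun z hz => ?_, fun h => hmove ?_⟩
  · have h1 := (Subgroup.mem_normalizer_iff.1 (hPK ((Subgroup.mem_normalizer_iff.1 hk g).1 hg)) _).1
      (Coprime.mem_conj.1 hz)
    rw [Coprime.mem_conj]
    simpa [mul_assoc] using h1
  · have hkc : k • pt v = pt u := by rw [← PC.pt_conj k hv, hkv]
    have h1 : k⁻¹ * a * k ∈ MulAction.stabilizer G (pt v) :=
      h (Coprime.mem_conj.2 (by simpa [mul_assoc] using ha))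
    have h2 := congrArg (k • ·) (MulAction.mem_stabilizer_iff.1 h1)
    simp only [mul_smul, smul_inv_smul, hkc] at h2
    exact h2

include PC hodd crit hp hPp hP1 htwo hmax hcentred in
/-- The completion for an abelian `A` normal in a centred `P`: a subgroup `W` of odd order, the
largest `A`-invariant `p'`-subgroup, normalised by `N(A)` and by the stabilisers of all pairs of
fixed points of `P`, moving the point of `v` and normalised by every member of the class there. -/
theorem exists_centred_completion (hAP : A ≤ P) (hAn : P ≤ Subgroup.normalizer (A : Set G))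
    (hAab : IsMulCommutative A)
    (homega : ∀ x ∈ Subgroup.centralizer (A : Set G), orderOf x = p → x ∈ A)
    (hEA : E ≤ A) (hE : IsElementaryAbelian p E) (hrank : p ^ 3 ≤ Nat.card E)
    (hgood : ∀ a ∈ E, a ≠ 1 →
      Odd (Nat.card (pPrimeCore p ↥(Subgroup.centralizer ({a} : Set G)))) ∧
        IsPConstrained p ↥(Subgroup.centralizer ({a} : Set G)))
    {v : G} (hv : v ∈ D) (hvP : v ∈ Subgroup.normalizer (P : Set G))
    (hvA : v ∈ Subgroup.normalizer (A : Set G)) :
    ∃ W : Subgroup G, Odd (Nat.card W) ∧ (Nat.card W).Coprime p ∧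
      Subgroup.normalizer (A : Set G) ≤ Subgroup.normalizer (W : Set G) ∧
      (∀ Y : Subgroup G, (Nat.card Y).Coprime p → A ≤ Subgroup.normalizer (Y : Set G) → Y ≤ W) ∧
      (∀ x y : Ω, x ≠ y → P ≤ MulAction.stabilizer G x → P ≤ MulAction.stabilizer G y →
        twoPt G x y ≤ Subgroup.normalizer (W : Set G)) ∧
      ¬ W ≤ MulAction.stabilizer G (pt v) ∧
      ∀ s ∈ D, pt s = pt v → s ∈ Subgroup.normalizer (W : Set G) := by
  have hpair : ∀ x y : Ω, x ≠ y → P ≤ MulAction.stabilizer G x → P ≤ MulAction.stabilizer G y →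
      ∃ W : Subgroup G, Odd (Nat.card W) ∧ (Nat.card W).Coprime p ∧
        Subgroup.normalizer (A : Set G) ≤ Subgroup.normalizer (W : Set G) ∧
        twoPt G x y ≤ Subgroup.normalizer (W : Set G) ∧
        ∀ Y : Subgroup G, (Nat.card Y).Coprime p → A ≤ Subgroup.normalizer (Y : Set G) →
          Y ≤ W := by
    intro x y hxy hx hy
    obtain ⟨S, hS⟩ := exists_sylow_subgroupOf (le_inf hx hy) (centred_card_eq hPp hmax hxy hx hy)
    obtain ⟨W, h1, h2, h3, h4, h5, -⟩ := exists_completion hp (hodd x y hxy) hPp (le_inf hx hy)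
      (by rw [Subgroup.relIndex, ← hS]; exact S.not_dvd_index) hAP hAn hAab homega hEA hE hrank hgood
    exact ⟨W, h1, h2, h3, h4, h5⟩
  obtain ⟨x₀, y₀, hxy₀, hx₀, hy₀⟩ := htwo
  obtain ⟨W, hWodd, hWp, hNW, -, hle⟩ := hpair x₀ y₀ hxy₀ hx₀ hy₀
  have hall : ∀ x y : Ω, x ≠ y → P ≤ MulAction.stabilizer G x → P ≤ MulAction.stabilizer G y →
      twoPt G x y ≤ Subgroup.normalizer (W : Set G) := by
    intro x y hxy hx hy
    obtain ⟨W', -, hW'p, hNW', hD', hle'⟩ := hpair x y hxy hx hy
    have e : W = W' := le_antisymm (hle' W hWp (Subgroup.le_normalizer.trans hNW))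
      (hle W' hW'p (Subgroup.le_normalizer.trans hNW'))
    exact e ▸ hD'
  obtain ⟨Y, hY, hPY, hYmove⟩ := exists_invariant_moved PC hodd crit hp hPp hP1
    ⟨x₀, y₀, hxy₀, hx₀, hy₀⟩ hmax hcentred hv hvP
  refine ⟨W, hWodd, hWp, hNW, hle, hall, fun h => hYmove ((hle Y hY (hAP.trans hPY)).trans h), ?_⟩
  intro s hs hsc
  have hc : P ≤ MulAction.stabilizer G (pt v) := not_not.1 fun h => hcentred ⟨v, hv, hvP, h⟩
  obtain ⟨b, hb, hcb⟩ : ∃ b, P ≤ MulAction.stabilizer G b ∧ pt v ≠ b := by
    by_cases h : pt v = x₀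
    · exact ⟨y₀, hy₀, h ▸ hxy₀⟩
    · exact ⟨x₀, hx₀, h⟩
  obtain ⟨w, hw, -, hwc⟩ :=
    exists_swap_normalizing PC hcb (hodd _ _ hcb) (le_inf hc hb) (centred_card_eq hPp hmax hcb hc hb)
  obtain ⟨k, ⟨⟨hk, -⟩, hks⟩, -⟩ :=
    existsUnique_inverted_conj PC hodd (PC.inv w hw) hwc hcb hv rfl hs hsc
  rw [← hks]
  have hkN := hall _ _ hcb hc hb hk
  exact mul_mem (mul_mem hkN (hNW hvA)) (inv_mem hkN)

end Completion

section Below

variable {G : Type u} [Group G] [Finite G] {H : Subgroup G}

/-- In a minimal failure a subgroup of odd order normalised by all involutions at a point fixes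
that point. -/
theorem not_le_stabilizer_of_below (hH : IsStronglyEmbedded H) (hIH : CoreTwoBelow G)
    (hcore : H.normalCore = ⊥) (hfail : ¬ CoreTwo H) {W : Subgroup G} (hW : Odd (Nat.card W))
    {c : G ⧸ H}
    (hcover : ∀ s : G, orderOf s = 2 → s • c = c → s ∈ Subgroup.normalizer (W : Set G)) :
    W ≤ MulAction.stabilizer G c := by
  by_contra hmove
  induction c using QuotientGroup.induction_on with
  | _ g =>
    set o : G ⧸ H := ((1 : G) : G ⧸ H) with ho
    have hgo : g • o = (g : G ⧸ H) := by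
      rw [ho, MulAction.Quotient.smul_mk, smul_eq_mul, mul_one]
    set φ := MulAut.conj g with hφ
    have hstab : H.map φ.toMonoidHom = MulAction.stabilizer G (g : G ⧸ H) := by
      ext k
      rw [MulAction.mem_stabilizer_iff, Subgroup.mem_map_equiv, ← smul_one_eq (H := H), ← ho]
      show (φ.symm k) • o = o ↔ _
      rw [hφ, MulAut.conj_symm_apply, ← hgo, mul_smul, mul_smul, inv_smul_eq_iff]
    set M := Subgroup.normalizer (W : Set G)
    have hMtop : M ≠ ⊤ := by
      intro e
      haveI : W.Normal := Subgroup.normalizer_eq_top_iff.1 e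
      refine hfail (coreTwo_of_isolated fun s hsH t htH hs ht hc => ?_)
      by_contra hne
      set V := fourOf (mul_self hs) (mul_self ht) hc
      haveI := isMulCommutative_fourOf (mul_self hs) (mul_self ht) hc
      have hWH : W ≤ H := by
        refine Coprime.le_of_noncyclic (A := V) (not_isCyclic_fourOf _ _ _ (ne_one hs) (ne_one ht)
          hne) ?_ ?_ ?_
        · exact fun a _ => (e.symm ▸ Subgroup.mem_top a : a ∈ M)
        · obtain ⟨n, hn⟩ := (card_fourOf_dvd (mul_self hs) (mul_self ht) hc).exists_card_eq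
          rw [hn]
          exact Nat.Coprime.pow_left n (Nat.coprime_two_left.2 hW)
        · rintro a (rfl | rfl | rfl | rfl) ha1 x ⟨-, hx⟩
          · exact absurd rfl ha1
          · exact centralizer_le hH hs hsH hx
          · exact centralizer_le hH ht htH hx
          · refine centralizer_le hH (orderOf_of_sq ?_ ha1) (mul_mem hsH htH) hx
            calc s * t * (s * t) = s * (t * s) * t := by group
              _ = (s * s) * (t * t) := by rw [← hc.eq]; group
              _ = 1 := by rw [mul_self hs, mul_self ht, one_mul]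
      refine hmove ?_
      rw [le_bot_iff.1 (hcore ▸ Subgroup.normal_le_normalCore.2 hWH : W ≤ ⊥)]
      exact bot_le
    have hMH : ¬ M.map φ.symm.toMonoidHom ≤ H := fun hle => hmove fun w hw => by
      rw [← hstab]
      exact ⟨φ.symm w, hle ⟨w, Subgroup.le_normalizer hw, rfl⟩, φ.apply_symm_apply w⟩
    have hMt' : M.map φ.symm.toMonoidHom ≠ ⊤ := by
      intro e
      refine hMtop (Subgroup.map_injective φ.symm.injective (e.trans ?_))
      exact (Subgroup.map_top_of_surjective _ φ.symm.surjective).symm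
    have h1 : CoreTwo (H ⊓ M.map φ.symm.toMonoidHom) :=
      coreTwo_of_le_inter hH hIH hMt' hMH le_rfl
    refine hfail (coreTwo_of_involutions_mem h1 fun s hs hs2 => ⟨hs, φ s, ?_, φ.symm_apply_apply s⟩)
    exact hcover _ ((Involution.orderOf_conj g s).trans hs2)
      (MulAction.mem_stabilizer_iff.1 (hstab ▸ ⟨s, hs, rfl⟩))

/-- **A centred maximal subgroup carries no good abelian normal subgroup of rank three.** -/
theorem false_of_centred_rank_three (hH : IsStronglyEmbedded H) (hIH : CoreTwoBelow G)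
    (hcore : H.normalCore = ⊥) (hfail : ¬ CoreTwo H)
    (hodd : ∀ x y : G ⧸ H, x ≠ y → Odd (Nat.card (twoPt G x y)))
    {p : ℕ} [Fact p.Prime] (hp : p ≠ 2) {P A E : Subgroup G} (hPp : IsPGroup p P) (hP1 : P ≠ ⊥)
    (htwo : ∃ x y : G ⧸ H, x ≠ y ∧ P ≤ MulAction.stabilizer G x ∧ P ≤ MulAction.stabilizer G y)
    (hmax : ∀ Q : Subgroup G, IsPGroup p Q → ∀ x y : G ⧸ H, x ≠ y →
      Q ≤ MulAction.stabilizer G x → Q ≤ MulAction.stabilizer G y → Nat.card Q ≤ Nat.card P)
    (hcentred : ¬ Free {d : G | orderOf d = 2} (fixPt H) P)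
    (hAP : A ≤ P) (hAn : P ≤ Subgroup.normalizer (A : Set G)) (hAab : IsMulCommutative A)
    (homega : ∀ x ∈ Subgroup.centralizer (A : Set G), orderOf x = p → x ∈ A)
    (hEA : E ≤ A) (hE : IsElementaryAbelian p E) (hrank : p ^ 3 ≤ Nat.card E)
    (hgood : ∀ a ∈ E, a ≠ 1 →
      Odd (Nat.card (pPrimeCore p ↥(Subgroup.centralizer ({a} : Set G)))) ∧
        IsPConstrained p ↥(Subgroup.centralizer ({a} : Set G)))
    {v : G} (hv : orderOf v = 2) (hvP : v ∈ Subgroup.normalizer (P : Set G))
    (hvA : v ∈ Subgroup.normalizer (A : Set G)) : False := by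
  have PC := pointClass_of_stronglyEmbedded hH
  obtain ⟨W, hW, -, -, -, -, hmove, hcover⟩ := exists_centred_completion PC hodd
    (crit_of_below hH hIH hcore hfail) hp hPp hP1 htwo hmax hcentred hAP hAn hAab homega hEA hE
    hrank hgood (v := v) hv hvP hvA
  exact hmove (not_le_stabilizer_of_below hH hIH hcore hfail hW fun s hs hsc =>
    hcover s hs ((PC.fixed_iff s hs _).1 hsc).symm)

/-- The version in which the elements of `E` are inverted by involutions normalising `P`. -/
theorem false_of_centred_rank_three_of_inverted (hH : IsStronglyEmbedded H)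
    (hIH : CoreTwoBelow G) (hcore : H.normalCore = ⊥) (hfail : ¬ CoreTwo H)
    (hodd : ∀ x y : G ⧸ H, x ≠ y → Odd (Nat.card (twoPt G x y)))
    {p : ℕ} [Fact p.Prime] (hp : p ≠ 2) {P A E : Subgroup G} (hPp : IsPGroup p P) (hP1 : P ≠ ⊥)
    (htwo : ∃ x y : G ⧸ H, x ≠ y ∧ P ≤ MulAction.stabilizer G x ∧ P ≤ MulAction.stabilizer G y)
    (hmax : ∀ Q : Subgroup G, IsPGroup p Q → ∀ x y : G ⧸ H, x ≠ y →
      Q ≤ MulAction.stabilizer G x → Q ≤ MulAction.stabilizer G y → Nat.card Q ≤ Nat.card P)
    (hcentred : ¬ Free {d : G | orderOf d = 2} (fixPt H) P)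
    (hAP : A ≤ P) (hAn : P ≤ Subgroup.normalizer (A : Set G)) (hAab : IsMulCommutative A)
    (homega : ∀ x ∈ Subgroup.centralizer (A : Set G), orderOf x = p → x ∈ A)
    (hEA : E ≤ A) (hE : IsElementaryAbelian p E) (hrank : p ^ 3 ≤ Nat.card E)
    {v : G} (hv : orderOf v = 2) (hvP : v ∈ Subgroup.normalizer (P : Set G))
    (hvA : v ∈ Subgroup.normalizer (A : Set G))
    (hinv : ∀ a ∈ E, v * a * v⁻¹ = a⁻¹) : False :=
  false_of_centred_rank_three hH hIH hcore hfail hodd hp hPp hP1 htwo hmax hcentred hAP hAn hAab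
    homega hEA hE hrank (fun a ha ha1 => good_of_odd_centralizer
      (odd_centralizer_of_centred (pointClass_of_stronglyEmbedded hH) hodd
        (crit_of_below hH hIH hcore hfail) hp hPp hP1 htwo hmax hcentred (fun _ h => h) hv hvP
        (hAP (hEA ha)) ha1 (hinv a ha)))
    hv hvP hvA

end Below

end Cfsg.Agent.Bender
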