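/-
The midpoint chain for a centred subgroup of `p`-rank at most two (owner: helper40).

A *centred* subgroup is a `p`-subgroup of largest order among those fixing two points that is not
free. `crit` is the induction consequence: no nontrivial subgroup of a two-point stabiliser is
normalised by it, by a member of the class at one of the points and by a swapper.

* `Centred.gen_fixes` : `[P, u]` fixes the `O_p'(G_xy)`-orbit of the point of the swapper `u`
* `Centred.chain` : the chain of midpoints gives a contradiction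
-/
import Cfsg.Agent.Lib.Bender.OrbitFix
import Cfsg.Agent.Lib.Bender.CoreRankTwo
import Cfsg.Agent.Lib.Bender.Transitive
import Cfsg.Agent.Lib.Coprime.Invariant

set_option autoImplicit false
set_option linter.style.haveILetI false

namespace Cfsg.Agent.Bender

open Cfsg Involution Aschbacher
open scoped Pointwise commutatorElement

universe u v

variable {G : Type u} {Ω : Type v} [Group G] [MulAction G Ω]

/-- `[P, u]` for an involution `u`. -/
def gen (P : Subgroup G) (u : G) : Subgroup G :=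
  Subgroup.closure {w | ∃ g ∈ P, u * (g * u * g⁻¹) = w}

theorem gen_le {P : Subgroup G} {u : G} (hu : u ∈ Subgroup.normalizer (P : Set G))
    (hu2 : u * u = 1) : gen P u ≤ P := by
  refine (Subgroup.closure_le _).2 ?_
  rintro _ ⟨g, hg, rfl⟩
  have h1 := (Subgroup.mem_normalizer_iff.1 hu g).1 hg
  rw [inv_eq_of_mul_eq_one_right hu2] at h1
  have := P.mul_mem h1 (P.inv_mem hg)
  show u * (g * u * g⁻¹) ∈ P
  convert this using 1
  group

/-- The elements fixing all points of `s`. -/
def fixers (s : Set Ω) : Subgroup G := ⨅ z ∈ s, MulAction.stabilizer G z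

theorem mem_fixers {s : Set Ω} {g : G} : g ∈ fixers s ↔ ∀ z ∈ s, g • z = z := by
  simp [fixers, Subgroup.mem_iInf]

theorem mem_normalizer_commutator_of {A J : Subgroup G} {g : G} [Finite G]
    (hA : g ∈ Subgroup.normalizer (A : Set G)) (hJ : g ∈ Subgroup.normalizer (J : Set G)) :
    g ∈ Subgroup.normalizer ((⁅A, J⁆ : Subgroup G) : Set G) := by
  refine Coprime.mem_normalizer_of_conj_eq ?_
  show (⁅A, J⁆ : Subgroup G).map (MulAut.conj g).toMonoidHom = ⁅A, J⁆
  rw [Subgroup.map_commutator]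
  exact congrArg₂ (fun K L : Subgroup G => ⁅K, L⁆) (Coprime.conj_eq_of_mem_normalizer hA)
    (Coprime.conj_eq_of_mem_normalizer hJ)

/-- A `p`-subgroup of largest order among those fixing two points, not free, of rank at most two. -/
structure Centred (D : Set G) (pt : G → Ω) (p : ℕ) (P : Subgroup G) : Prop where
  pointClass : PointClass G Ω D pt
  odd : ∀ x y : Ω, x ≠ y → Odd (Nat.card (twoPt G x y))
  crit : ∀ (N : Subgroup G) (x y : Ω), x ≠ y → N ≠ ⊥ → N ≤ twoPt G x y →
    twoPt G x y ≤ Subgroup.normalizer (N : Set G) →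
    ∀ u ∈ D, pt u = x → u ∈ Subgroup.normalizer (N : Set G) →
    ∀ w ∈ D, w • x = y → w ∈ Subgroup.normalizer (N : Set G) → False
  odd_prime : p ≠ 2
  pgroup : IsPGroup p P
  two_points : ∃ x y : Ω, x ≠ y ∧ P ≤ MulAction.stabilizer G x ∧ P ≤ MulAction.stabilizer G y
  max : ∀ Q : Subgroup G, IsPGroup p Q → ∀ x y : Ω, x ≠ y → Q ≤ MulAction.stabilizer G x →
    Q ≤ MulAction.stabilizer G y → Nat.card Q ≤ Nat.card P
  centred : ¬ Free D pt P
  rank : Cfsg.PRankLE p 2 P

namespace Centred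

variable [Finite G] [Finite Ω] {D : Set G} {pt : G → Ω} {p : ℕ} [Fact p.Prime] {P : Subgroup G}
  (C : Centred D pt p P)
include C

theorem pt_fixed {u : G} (hu : u ∈ D) (huP : u ∈ Subgroup.normalizer (P : Set G)) :
    P ≤ MulAction.stabilizer G (pt u) := by
  by_contra h
  exact C.centred ⟨u, hu, huP, h⟩

theorem le_twoPt {x y : Ω} (hx : P ≤ MulAction.stabilizer G x) (hy : P ≤ MulAction.stabilizer G y) :
    P ≤ twoPt G x y :=
  le_inf hx hy

theorem card_eq {x y : Ω} (hxy : x ≠ y) (hx : P ≤ MulAction.stabilizer G x)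
    (hy : P ≤ MulAction.stabilizer G y) :
    Nat.card P = p ^ (Nat.card (twoPt G x y)).factorization p := by
  refine le_antisymm (Coprime.card_le_of_isPGroup C.pgroup (le_inf hx hy)) ?_
  obtain ⟨Q, -, hQ, hQp, hQcard⟩ := exists_sylow_twoPt (G := G) (p := p) x y (X := ⊥)
    IsPGroup.of_bot bot_le
  exact hQcard.symm.trans_le (C.max Q hQp x y hxy (hQ.trans inf_le_left) (hQ.trans inf_le_right))

theorem exists_swap {x y : Ω} (hxy : x ≠ y) (hx : P ≤ MulAction.stabilizer G x)
    (hy : P ≤ MulAction.stabilizer G y) :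
    ∃ u ∈ D, u ∈ Subgroup.normalizer (P : Set G) ∧ u • x = y ∧
      P ≤ MulAction.stabilizer G (pt u) ∧ pt u ≠ x := by
  obtain ⟨u, hu, huP, hux⟩ := exists_swap_normalizing C.pointClass hxy (C.odd x y hxy)
    (le_inf hx hy) (C.card_eq hxy hx hy)
  exact ⟨u, hu, huP, hux, C.pt_fixed hu huP, fun h => hxy (by
    rw [← hux, ← h, C.pointClass.smul_pt hu])⟩

theorem rank_twoPt {x y : Ω} (hxy : x ≠ y) (hx : P ≤ MulAction.stabilizer G x)
    (hy : P ≤ MulAction.stabilizer G y) : Cfsg.PRankLE p 2 (twoPt G x y) := by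
  set K := twoPt G x y
  intro A hA hexp
  haveI := hA
  obtain ⟨S, hS⟩ := Coprime.exists_sylow_map_eq (le_inf hx hy : P ≤ K) (C.card_eq hxy hx hy)
  have hAp : IsPGroup p A := fun a => ⟨1, by
    rw [pow_one]; exact Subtype.ext (hexp a a.2)⟩
  obtain ⟨T, hT⟩ := hAp.exists_le_sylow
  obtain ⟨g, hg⟩ := MulAction.exists_smul_eq K T S
  let f : K →* G := K.subtype.comp (MulAut.conj g).toMonoidHom
  have hf : Function.Injective f := K.subtype_injective.comp (MulAut.conj g).injective
  have hAP : A.map f ≤ P := by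
    rintro _ ⟨a, ha, rfl⟩
    rw [← hS]
    refine ⟨MulAut.conj g a, ?_, rfl⟩
    rw [← hg, Sylow.coe_subgroup_smul]
    exact Subgroup.smul_mem_pointwise_smul _ _ _ (hT ha)
  rw [← Subgroup.card_map_of_injective hf, ← Cores.card_subgroupOf hAP]
  refine C.rank _ ?_ fun a ha => ?_
  · refine ⟨⟨fun a b => Subtype.ext (Subtype.ext ?_)⟩⟩
    obtain ⟨a', ha', ea⟩ := a.2
    obtain ⟨b', hb', eb⟩ := b.2
    change ((a : P) : G) * ((b : P) : G) = ((b : P) : G) * ((a : P) : G)
    have hcomm : a' * b' = b' * a' :=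
      congrArg Subtype.val (hA.is_comm.comm ⟨a', ha'⟩ ⟨b', hb'⟩)
    rw [show ((a : P) : G) = f a' from ea.symm, show ((b : P) : G) = f b' from eb.symm, ← map_mul,
      ← map_mul, hcomm]
  · obtain ⟨a', ha', ea⟩ := ha
    refine Subtype.ext ?_
    rw [SubgroupClass.coe_pow, show ((a : P) : G) = f a' from ea.symm, ← map_pow, hexp a' ha',
      map_one]
    rfl

theorem invariant_le_core {x y : Ω} (hxy : x ≠ y) (hx : P ≤ MulAction.stabilizer G x)
    (hy : P ≤ MulAction.stabilizer G y) {X : Subgroup G} (hXK : X ≤ twoPt G x y)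
    (hX : ¬ p ∣ Nat.card X) (hPX : P ≤ Subgroup.normalizer (X : Set G)) :
    X ≤ core p (twoPt G x y) :=
  le_core_of_invariant (C.odd x y hxy) (C.rank_twoPt hxy hx hy) (le_inf hx hy)
    (C.card_eq hxy hx hy) hXK hX hPX

theorem exists_mul {x y : Ω} (hxy : x ≠ y) (hx : P ≤ MulAction.stabilizer G x)
    (hy : P ≤ MulAction.stabilizer G y) {g : G} (hg : g ∈ twoPt G x y) :
    ∃ a ∈ core p (twoPt G x y), ∃ n ∈ twoPt G x y,
      n ∈ Subgroup.normalizer (P : Set G) ∧ a * n = g :=
  exists_core_mul (C.odd x y hxy) (C.rank_twoPt hxy hx hy) (le_inf hx hy) (C.card_eq hxy hx hy) hg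

omit [Finite G] [Finite Ω] [Fact p.Prime] in
theorem normalizes_twoPt [Finite G] {x y : Ω} {u : G} (hu : u ∈ D) (hux : u • x = y) :
    u ∈ Subgroup.normalizer (twoPt G x y : Set G) := by
  have huy : u • y = x := by rw [← hux, C.pointClass.smul_smul_self hu]
  refine Coprime.mem_normalizer_of_forall ?_
  intro g hg
  refine ⟨MulAction.mem_stabilizer_iff.2 ?_, MulAction.mem_stabilizer_iff.2 ?_⟩
  · rw [mul_smul, mul_smul, inv_eq (C.pointClass.inv u hu), hux,
      MulAction.mem_stabilizer_iff.1 hg.2, huy]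
  · rw [mul_smul, mul_smul, inv_eq (C.pointClass.inv u hu), huy,
      MulAction.mem_stabilizer_iff.1 hg.1, hux]

/-- `[P, u]` fixes the orbit of the point of `u` under the core of the pair exchanged by `u`. -/
theorem gen_fixes {x y : Ω} (hxy : x ≠ y) (hx : P ≤ MulAction.stabilizer G x)
    (hy : P ≤ MulAction.stabilizer G y) {u : G} (hu : u ∈ D)
    (huP : u ∈ Subgroup.normalizer (P : Set G)) (hux : u • x = y) :
    gen P u ≤ fixers ((fun a : G => a • pt u) '' (core p (twoPt G x y) : Set G)) := by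
  refine (Subgroup.closure_le _).2 ?_
  rintro _ ⟨g, hg, rfl⟩
  rw [SetLike.mem_coe, mem_fixers]
  rintro _ ⟨a, ha, rfl⟩
  set c := pt u
  set A := core p (twoPt G x y)
  have hgc : g • c = c := MulAction.mem_stabilizer_iff.1 (C.pt_fixed hu huP hg)
  have hgA : g ∈ Subgroup.normalizer (A : Set G) :=
    le_normalizer_core p _ (le_inf hx hy hg : g ∈ twoPt G x y)
  have huA : u ∈ Subgroup.normalizer (A : Set G) :=
    normalizer_le_core p _ (C.normalizes_twoPt hu hux)
  have hu2 : u * u = 1 := mul_self (C.pointClass.inv u hu)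
  have hu' : g * u * g⁻¹ * (g * u * g⁻¹) = 1 := by
    calc g * u * g⁻¹ * (g * u * g⁻¹) = g * (u * u) * g⁻¹ := by group
      _ = 1 := by rw [hu2]; group
  have hwP : u * (g * u * g⁻¹) ∈ P :=
    gen_le huP hu2 (Subgroup.subset_closure ⟨g, hg, rfl⟩)
  obtain ⟨k, hk⟩ := C.pgroup ⟨_, hwP⟩
  refine orbit_fixed (p := p) (odd_card_core (C.odd x y hxy)) not_dvd_card_core hu2 hu'
    (C.pointClass.smul_pt hu) ?_ huA (mem_normalizer_conj hgA huA)
    (fun b _ hb => C.pointClass.commute_fix hu hb.symm) (fun b _ hb => ?_) (k := k)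
    (congrArg Subtype.val hk) a ha
  · rw [mul_smul, mul_smul, inv_smul_eq_iff.2 hgc.symm, C.pointClass.smul_pt hu, hgc]
  · have := C.pointClass.commute_fix (C.pointClass.conj_mem g u hu) hb.symm
    rwa [C.pointClass.pt_conj g hu, hgc] at this

/-- **The chain.** -/
theorem chain {x : Ω} (hPx : P ≤ MulAction.stabilizer G x) (y : ℕ → Ω)
    (hy : ∀ k, y k ≠ x ∧ P ≤ MulAction.stabilizer G (y k)) {t : ℕ} (ht : 0 < t)
    (hper : ∀ k, y (k + t) = y k) {J : Subgroup G} (hJ : J ≠ ⊥) (hJP : J ≤ P)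
    (hPJ : P ≤ Subgroup.normalizer (J : Set G))
    (hN : ∀ k, ∀ n ∈ twoPt G x (y k), n ∈ Subgroup.normalizer (P : Set G) →
      n ∈ Subgroup.normalizer (J : Set G))
    (hu : ∀ k, ∃ u ∈ D, u ∈ Subgroup.normalizer (P : Set G) ∧
      u ∈ Subgroup.normalizer (J : Set G) ∧ u • x = y k ∧ pt u = y (k + 1))
    (hfix : ∀ k, J ≤ fixers ((fun a : G => a • y (k + 1)) '' (core p (twoPt G x (y k)) : Set G))) :
    False := by
  have PC := C.pointClass
  set A : ℕ → Subgroup G := fun k => core p (twoPt G x (y k)) with hA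
  set T : ℕ → Subgroup G := fun k => ⁅A k, J⁆ with hT
  have hPK : ∀ k, P ≤ twoPt G x (y k) := fun k => le_inf hPx (hy k).2
  have hJA : ∀ k, J ≤ Subgroup.normalizer (A k : Set G) := fun k =>
    (hJP.trans (hPK k)).trans (le_normalizer_core p _)
  have hTA : ∀ k, T k ≤ A k := fun k => Subgroup.le_normalizer_iff_commutator_le_left.1 (hJA k)
  have hcop : ∀ k, (Nat.card J).Coprime (Nat.card (A k)) := fun k => by
    obtain ⟨n, hn⟩ := (C.pgroup.to_le hJP).exists_card_eq
    rw [hn]
    exact Nat.Coprime.pow_left n ((Fact.out : p.Prime).coprime_iff_not_dvd.2 not_dvd_card_core)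
  have hsolv : ∀ k, Group.IsSolvable (A k) := fun k =>
    OddOrderTheorem.solvable (odd_card_core (C.odd x (y k) (hy k).1.symm))
  have hstep : ∀ k, T k ≤ T (k + 1) := by
    intro k
    have hle : T k ≤ twoPt G x (y (k + 1)) := by
      refine le_inf ((hTA k).trans ((core_le p _).trans inf_le_left)) ?_
      rw [hT, Subgroup.commutator_le]
      intro a ha j hj
      rw [MulAction.mem_stabilizer_iff, commutatorElement_def, mul_smul, mul_smul, mul_smul,
        inv_smul_eq_iff.2 (MulAction.mem_stabilizer_iff.1 ((hy (k + 1)).2 (hJP hj))).symm,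
        mem_fixers.1 (hfix k hj) _ ⟨a⁻¹, (A k).inv_mem ha, rfl⟩, smul_inv_smul]
    have hcore : T k ≤ A (k + 1) := C.invariant_le_core (hy (k + 1)).1.symm hPx (hy (k + 1)).2 hle
      (fun h => not_dvd_card_core (h.trans (Subgroup.card_dvd_of_le (hTA k))))
      (fun g hg => mem_normalizer_commutator_of (le_normalizer_core p _ (hPK k hg)) (hPJ hg))
    calc T k = ⁅T k, J⁆ :=
          (Coprime.commutator_commutator_eq (hJA k) (hcop k) (Or.inr (hsolv k))).symm
      _ ≤ T (k + 1) := Subgroup.commutator_mono hcore le_rfl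
  have hmono : Monotone T := monotone_nat_of_le_succ hstep
  have hTt : T 0 = T t := congrArg (fun z => (⁅core p (twoPt G x z), J⁆ : Subgroup G))
    (by simpa using (hper 0).symm)
  have h01 : T 0 = T 1 := le_antisymm (hmono zero_le_one) (hTt ▸ hmono ht)
  obtain ⟨u₀, hu₀, hu₀P, hu₀J, hu₀x, hu₀pt⟩ := hu 0
  obtain ⟨u₁, hu₁, hu₁P, hu₁J, hu₁x, -⟩ := hu 1
  have hu₁y : u₁ • y 1 = x := by rw [← hu₁x, PC.smul_smul_self hu₁]
  have hcom : twoPt G (y 1) x = twoPt G x (y 1) := inf_comm _ _
  by_cases hbot : T 1 = ⊥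
  · -- the cores centralise `J`
    have hcent : A 1 ≤ Subgroup.normalizer (J : Set G) :=
      (Subgroup.commutator_eq_bot_iff_le_centralizer.1 hbot).trans
        (Subgroup.centralizer_le_normalizer _)
    refine C.crit J (y 1) x (hy 1).1 hJ (hcom ▸ hJP.trans (hPK 1)) ?_ u₀ hu₀ hu₀pt hu₀J u₁ hu₁
      hu₁y hu₁J
    rw [hcom]
    intro g hg
    obtain ⟨a, ha, n, hn, hnP, rfl⟩ := C.exists_mul (hy 1).1.symm hPx (hy 1).2 hg
    exact mul_mem (hcent ha) (hN 1 n hn hnP)
  · refine C.crit (T 1) (y 1) x (hy 1).1 hbot (hcom ▸ (hTA 1).trans (core_le p _)) ?_ u₀ hu₀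
      hu₀pt (h01 ▸ mem_normalizer_commutator_of
        (normalizer_le_core p _ (C.normalizes_twoPt hu₀ hu₀x)) hu₀J)
      u₁ hu₁ hu₁y (mem_normalizer_commutator_of
        (normalizer_le_core p _ (C.normalizes_twoPt hu₁ hu₁x)) hu₁J)
    rw [hcom]
    intro g hg
    obtain ⟨a, ha, n, hn, hnP, rfl⟩ := C.exists_mul (hy 1).1.symm hPx (hy 1).2 hg
    exact mul_mem (Subgroup.normalizer_commutator_ge_left (A 1) J ha)
      (mem_normalizer_commutator_of (le_normalizer_core p _ hn) (hN 1 n hn hnP))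

end Centred

end Cfsg.Agent.Bender
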