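/-
A normal complement to a Hall point stabiliser from controlled fusion (towards Bender's theorem,
free case C1, C2; owner: helper44).

`coGen d C` : the subgroup generated by the elements of `C` of order prime to `d`.

Main results (namespace `Cfsg.Agent.Bender`):
* `coGen_transitive` : if `C` is transitive on `o` and the orbit length is prime to `d`, so is
  `coGen d C` (`C` arbitrary, no Hall hypothesis)
* `exists_complement_of_controlled` : soluble Hall subgroup with strongly controlled fusion of its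
  elements of prime power order
* `exists_regular_normal` : the permutation form (C2): stabiliser soluble, Hall, and the centraliser
  of every element `y` of prime power order moves `b` to every other fixed point of `y` by `coGen`
* `exists_regular_normal_of_transitive` : the same from transitive centralisers with orbit lengths
  prime to the order of the stabiliser
* `commute_of_complement` : involutions of `H = Q D` commute if `D` is soluble of odd order, `Q` a normal
  complement of coprime order and `D` is transitive on the involutions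
-/
import Cfsg.Agent.Lib.TwoFusion.Transfer
import Cfsg.Agent.Lib.Coprime.Factorization
import Cfsg.Agent.Lib.Cores.Basic
import Cfsg.Agent.Lib.Involution.Isolated
import Mathlib.GroupTheory.Transfer
import Mathlib.GroupTheory.Solvable

set_option autoImplicit false
set_option linter.style.haveILetI false
set_option linter.unusedSectionVars false

namespace Cfsg.Agent.Bender

open Cfsg Involution
open scoped Pointwise

universe u v

variable {G : Type u} [Group G] [Finite G]

/-- The subgroup generated by the elements of `C` of order prime to `d`. -/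
def coGen (d : ℕ) (C : Subgroup G) : Subgroup G :=
  Subgroup.closure {g : G | g ∈ C ∧ (orderOf g).Coprime d}

theorem coGen_le {d : ℕ} {C : Subgroup G} : coGen d C ≤ C :=
  (Subgroup.closure_le _).2 fun _ h => h.1

theorem mem_coGen {d : ℕ} {C : Subgroup G} {g : G} (hg : g ∈ C) (h : (orderOf g).Coprime d) :
    g ∈ coGen d C :=
  Subgroup.subset_closure ⟨hg, h⟩

theorem coGen_mono {d : ℕ} {C C' : Subgroup G} (h : C ≤ C') : coGen d C ≤ coGen d C' :=
  Subgroup.closure_mono fun _ hg => ⟨h hg.1, hg.2⟩

theorem coGen_normal (d : ℕ) : (coGen d (⊤ : Subgroup G)).Normal := by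
  refine ⟨fun n hn g => ?_⟩
  unfold coGen at hn ⊢
  induction hn using Subgroup.closure_induction with
  | mem x hx =>
    refine Subgroup.subset_closure ⟨Subgroup.mem_top _, ?_⟩
    rw [orderOf_conj]
    exact hx.2
  | one => simp
  | mul x y _ _ hx hy => simpa [mul_assoc] using mul_mem hx hy
  | inv x _ hx => simpa [mul_assoc] using inv_mem hx

/-- A `p`-subgroup, `p` not dividing `d`, lies in `coGen d`. -/
theorem pGroup_le_coGen {d p : ℕ} [hp : Fact p.Prime] (hpd : ¬ p ∣ d) {P C : Subgroup G}
    (hP : IsPGroup p P) (hPC : P ≤ C) : P ≤ coGen d C := by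
  intro g hg
  obtain ⟨k, hk⟩ := (IsPGroup.iff_orderOf.1 hP) ⟨g, hg⟩
  refine mem_coGen (hPC hg) ?_
  rw [← Subgroup.orderOf_coe] at hk
  rw [show orderOf g = p ^ k from hk]
  exact Nat.Coprime.pow_left k ((Nat.Prime.coprime_iff_not_dvd hp.out).2 hpd)

/-- A subgroup containing `coGen d ⊤` has index dividing only primes of `d`. -/
theorem eq_one_of_dvd_index {d n : ℕ} {K : Subgroup G} (hK : coGen d (⊤ : Subgroup G) ≤ K)
    (hn : n ∣ K.index) (hnd : n.Coprime d) : n = 1 := by
  by_contra h
  obtain ⟨p, hp, hpn⟩ := Nat.exists_prime_and_dvd h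
  haveI : Fact p.Prime := ⟨hp⟩
  have hpd : ¬ p ∣ d := fun h' => hp.ne_one (Nat.eq_one_of_dvd_coprimes hnd hpn h')
  obtain ⟨P⟩ : Nonempty (Sylow p G) := inferInstance
  have h1 : (P : Subgroup G) ≤ K :=
    (pGroup_le_coGen hpd P.isPGroup' le_top).trans hK
  exact P.not_dvd_index ((hpn.trans hn).trans (Subgroup.index_dvd_of_le h1))

/-- A transitive group with orbit length prime to `d` is generated on the orbit by its elements of
order prime to `d`. -/
theorem coGen_transitive {Ω : Type v} [MulAction G Ω] {d : ℕ} {C : Subgroup G} {x y : Ω}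
    (hcop : (Nat.card (MulAction.orbit C x)).Coprime d) (hy : y ∈ MulAction.orbit C x) :
    ∃ g ∈ coGen d C, g • x = y := by
  set N := coGen d (⊤ : Subgroup C) with hN
  haveI : N.Normal := coGen_normal d
  have hstab : (MulAction.stabilizer C x).index = Nat.card (MulAction.orbit C x) := by
    rw [MulAction.index_stabilizer, Nat.card_coe_set_eq]
  have htop : N ⊔ MulAction.stabilizer C x = ⊤ := by
    rw [← Subgroup.index_eq_one]
    refine eq_one_of_dvd_index (d := d) le_sup_left dvd_rfl ?_
    refine Nat.Coprime.coprime_dvd_left ?_ hcop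
    rw [← hstab]
    exact Subgroup.index_dvd_of_le le_sup_right
  obtain ⟨c, rfl⟩ := hy
  obtain ⟨n, hn, s, hs, hns⟩ :=
    Subgroup.mem_sup_of_normal_left.1 (htop.symm ▸ Subgroup.mem_top c : c ∈ N ⊔ _)
  refine ⟨n, ?_, ?_⟩
  · have hle : N.map C.subtype ≤ coGen d C := by
      rw [hN, coGen, MonoidHom.map_closure, Subgroup.closure_le]
      rintro _ ⟨g, ⟨-, hg⟩, rfl⟩
      exact mem_coGen g.2 (by rwa [Subgroup.coe_subtype, Subgroup.orderOf_coe])
    exact hle ⟨n, hn, rfl⟩
  · show n • x = c • x
    rw [← hns, mul_smul, MulAction.mem_stabilizer_iff.1 hs]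

/-- **C1.** A soluble Hall subgroup in which conjugate elements of prime power order are conjugate by
`coGen` of the centraliser followed by an element of the subgroup has a normal complement. -/
theorem exists_complement_of_controlled {D : Subgroup G} (hsol : Group.IsSolvable D)
    (hHall : (Nat.card D).Coprime D.index)
    (hctl : ∀ y ∈ D, IsPrimePow (orderOf y) → ∀ h : G, h * y * h⁻¹ ∈ D →
      ∃ n ∈ coGen (Nat.card D) (Subgroup.centralizer ({y} : Set G)), h * n ∈ D) :
    ∃ Q : Subgroup G, Q.Normal ∧ Q ⊓ D = ⊥ ∧ Q ⊔ D = ⊤ ∧ Nat.card Q = D.index := by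
  classical
  set d := Nat.card D with hd
  set N := coGen d (⊤ : Subgroup G) with hN
  haveI hNn : N.Normal := coGen_normal d
  have htop : N ⊔ D = ⊤ := Subgroup.index_eq_one.1 (eq_one_of_dvd_index le_sup_left dvd_rfl
    (Nat.Coprime.coprime_dvd_left (Subgroup.index_dvd_of_le le_sup_right) hHall.symm))
  let T := D.subgroupOf N
  have hTcard : Nat.card T ∣ d := by
    rw [← Cores.card_map_subtype N T, Subgroup.subgroupOf_map_subtype]
    exact Subgroup.card_dvd_of_le inf_le_left
  have hrel : D.relIndex N = D.index := by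
    have h1 : N.relIndex D = N.index := by
      rw [← Subgroup.relIndex_sup_right, sup_comm, htop, Subgroup.relIndex_top_right]
    have e1 := Subgroup.card_mul_index (D.subgroupOf N)
    have e2 := Subgroup.card_mul_index (N.subgroupOf D)
    have e3 : Nat.card (D.subgroupOf N) = Nat.card ↥(D ⊓ N) := by
      rw [← Cores.card_map_subtype, Subgroup.subgroupOf_map_subtype]
    have e4 : Nat.card (N.subgroupOf D) = Nat.card ↥(D ⊓ N) := by
      rw [← Cores.card_map_subtype, Subgroup.subgroupOf_map_subtype, inf_comm]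
    rw [e3] at e1
    rw [e4, show (N.subgroupOf D).index = N.index from h1] at e2
    have e5 := (Subgroup.card_mul_index N).trans (Subgroup.card_mul_index D).symm
    rw [← e1, ← e2, show (D.subgroupOf N).index = D.relIndex N from rfl] at e5
    refine Nat.eq_of_mul_eq_mul_left (Nat.mul_pos (Nat.card_pos (α := ↥(D ⊓ N)))
      (Nat.pos_of_ne_zero (Subgroup.index_ne_zero_of_finite (H := N)))) ?_
    calc Nat.card ↥(D ⊓ N) * N.index * D.relIndex N
        = Nat.card ↥(D ⊓ N) * D.relIndex N * N.index := by ring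
      _ = _ := e5
  have hTidx : T.index ∣ D.index := by
    show D.relIndex N ∣ D.index
    rw [hrel]
  let φ : T →* Abelianization T := Abelianization.of
  let V : N →* Abelianization T := MonoidHom.transfer φ
  have hAcard : Nat.card (Abelianization T) ∣ d :=
    (Subgroup.card_quotient_dvd_card _).trans hTcard
  have hV : ∀ g : N, V g = 1 := by
    intro g
    have hmap : ∀ x : G, ∀ hx : x ∈ N, V ⟨x, hx⟩ = 1 := by
      intro x hx
      induction hx using Subgroup.closure_induction with
      | mem x hx =>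
        refine orderOf_eq_one_iff.1 (Nat.eq_one_of_dvd_coprimes hx.2
          ?_ ((orderOf_dvd_natCard _).trans hAcard))
        have h := orderOf_map_dvd V ⟨x, Subgroup.subset_closure hx⟩
        rwa [← Subgroup.orderOf_coe] at h
      | one => exact map_one V
      | mul x y hx hy h1 h2 =>
        have e : (⟨x * y, mul_mem hx hy⟩ : N) = ⟨x, hx⟩ * ⟨y, hy⟩ := rfl
        rw [e, map_mul, h1, h2, one_mul]
      | inv x hx h1 =>
        have e : (⟨x⁻¹, inv_mem hx⟩ : N) = ⟨x, hx⟩⁻¹ := rfl
        rw [e, map_inv, h1, inv_one]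
    exact hmap g.1 g.2
  have hcopI : T.index.Coprime (Nat.card (Abelianization T)) :=
    (hHall.symm.coprime_dvd_left hTidx).coprime_dvd_right hAcard
  -- elements of prime power order of `T` die in the abelianisation
  have hpp : ∀ t : T, IsPrimePow (orderOf t) → φ t = 1 := by
    intro t ht
    have key : ∀ (k : ℕ) (a : N) (hm : a * (t : N) ^ k * a⁻¹ ∈ T),
        φ ⟨a * (t : N) ^ k * a⁻¹, hm⟩ = φ t ^ k := by
      intro k a hm
      rw [← map_pow]
      set y : G := ((t : N) : G) ^ k with hy
      by_cases hy1 : y = 1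
      · have e1 : t ^ k = 1 := Subtype.ext (Subtype.ext hy1)
        have e2 : (⟨a * (t : N) ^ k * a⁻¹, hm⟩ : T) = 1 := Subtype.ext (Subtype.ext (by
          show (a : G) * y * (a : G)⁻¹ = 1
          rw [hy1, mul_one, mul_inv_cancel]))
        rw [e1, e2]
      have hyD : y ∈ D := D.pow_mem t.2 k
      have hypp : IsPrimePow (orderOf y) := by
        obtain ⟨p, i, hp, hi, e⟩ := (isPrimePow_nat_iff _).1 ht
        have hdvd : orderOf y ∣ p ^ i := by
          rw [e, ← Subgroup.orderOf_coe, ← Subgroup.orderOf_coe, hy]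
          exact orderOf_pow_dvd k
        obtain ⟨j, -, hj⟩ := (Nat.dvd_prime_pow hp).1 hdvd
        refine (isPrimePow_nat_iff _).2 ⟨p, j, hp, Nat.pos_of_ne_zero fun h0 => hy1 ?_, hj.symm⟩
        rwa [h0, pow_zero, orderOf_eq_one_iff] at hj
      obtain ⟨n, hn, han⟩ := hctl y hyD hypp (a : G) (show (a : G) * y * (a : G)⁻¹ ∈ D from hm)
      have hnN : n ∈ N := coGen_mono le_top hn
      have hny : n * y = y * n :=
        Subgroup.mem_centralizer_singleton_iff.1 (coGen_le hn)
      let b : T := ⟨a * ⟨n, hnN⟩, han⟩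
      have e : (⟨a * (t : N) ^ k * a⁻¹, hm⟩ : T) = b * t ^ k * b⁻¹ := Subtype.ext (Subtype.ext (by
        show (a : G) * y * (a : G)⁻¹ = (a : G) * n * y * ((a : G) * n)⁻¹
        rw [mul_assoc (a : G) n y, hny]; group))
      rw [e, map_mul, map_mul, map_inv, mul_inv_cancel_comm]
    have h1 := TwoFusion.transfer_eq_pow_of_controlled φ t key
    rw [show MonoidHom.transfer φ (t : N) = 1 from hV t] at h1
    exact orderOf_eq_one_iff.1 (Nat.eq_one_of_dvd_coprimes hcopI (orderOf_dvd_of_pow_eq_one h1.symm)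
      (orderOf_dvd_natCard _))
  -- so the abelianisation is trivial
  have htriv : ∀ t : T, φ t = 1 := by
    intro t
    have : t ∈ φ.ker := by
      set K := φ.ker
      by_contra htK
      have hlt : K ≠ ⊤ := fun e => htK (e.symm ▸ Subgroup.mem_top t)
      obtain ⟨p, hp, hpK⟩ := Nat.exists_prime_and_dvd (mt Subgroup.index_eq_one.1 hlt)
      haveI : Fact p.Prime := ⟨hp⟩
      obtain ⟨P⟩ : Nonempty (Sylow p T) := inferInstance
      refine P.not_dvd_index (hpK.trans (Subgroup.index_dvd_of_le fun x hx => ?_))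
      by_cases hx1 : x = 1
      · exact hx1.symm ▸ K.one_mem
      refine MonoidHom.mem_ker.2 (hpp x ((isPrimePow_nat_iff _).2 ?_))
      obtain ⟨k, hk⟩ := (IsPGroup.iff_orderOf.1 P.isPGroup') ⟨x, hx⟩
      rw [← Subgroup.orderOf_coe] at hk
      exact ⟨p, k, hp, Nat.pos_of_ne_zero fun h0 => hx1 (by
        rwa [h0, pow_zero, orderOf_eq_one_iff] at hk), hk.symm⟩
    exact MonoidHom.mem_ker.1 this
  have hTbot : T = ⊥ := by
    haveI : Group.IsSolvable T := by
      haveI := hsol
      exact solvable_of_solvable_injective (f :=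
        (N.subtype.comp T.subtype).codRestrict D fun x => x.2) (fun x y h => by
        have := congrArg Subtype.val h
        exact Subtype.ext (Subtype.ext this))
    by_contra hne
    haveI : Nontrivial T := (Subgroup.nontrivial_iff_ne_bot T).2 hne
    have hlt := IsSolvable.commutator_lt_top_of_nontrivial (G := T)
    refine hlt.ne (eq_top_iff.2 fun t _ => ?_)
    exact (QuotientGroup.eq_one_iff t).1 (htriv t)
  have hdisj : N ⊓ D = ⊥ := by
    rw [inf_comm, ← Subgroup.subgroupOf_map_subtype, show D.subgroupOf N = ⊥ from hTbot,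
      Subgroup.map_bot]
  refine ⟨N, hNn, hdisj, htop, ?_⟩
  rw [← hrel, Subgroup.relIndex, show D.subgroupOf N = ⊥ from hTbot, Subgroup.index_bot]

/-- **C2.** Permutation form: a normal subgroup regular on the orbit of `b`. -/
theorem exists_regular_normal {Ω : Type v} [MulAction G Ω] (H : Subgroup G) {b : Ω}
    (hsol : Group.IsSolvable (MulAction.stabilizer H b))
    (hHall : (Nat.card (MulAction.stabilizer H b)).Coprime (Nat.card (MulAction.orbit H b)))
    (hctl : ∀ y ∈ H, IsPrimePow (orderOf y) → y • b = b → ∀ z ∈ MulAction.orbit H b, y • z = z →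
      ∃ n ∈ coGen (Nat.card (MulAction.stabilizer H b))
        (H ⊓ Subgroup.centralizer ({y} : Set G)), n • b = z) :
    ∃ Q : Subgroup G, Q ≤ H ∧ (∀ h ∈ H, ∀ q ∈ Q, h * q * h⁻¹ ∈ Q) ∧
      (∀ q ∈ Q, q • b = b → q = 1) ∧ (∀ z ∈ MulAction.orbit H b, ∃ q ∈ Q, q • b = z) ∧
      Nat.card Q = Nat.card (MulAction.orbit H b) := by
  set D := MulAction.stabilizer H b with hD
  have hidx : D.index = Nat.card (MulAction.orbit H b) := MulAction.index_stabilizer H b
  obtain ⟨Q, hQn, hQD, hQtop, hQcard⟩ := exists_complement_of_controlled (G := H) (D := D) hsol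
    (by rwa [hidx]) (by
      intro y hyD hypp h hh
      have hyb : (y : G) • b = b := MulAction.mem_stabilizer_iff.1 hyD
      have hfix : (y : G) • (h⁻¹ • b) = h⁻¹ • b := by
        have h1 : (h * y * h⁻¹) • b = b := MulAction.mem_stabilizer_iff.1 hh
        show y • h⁻¹ • b = h⁻¹ • b
        calc y • h⁻¹ • b = h⁻¹ • (h * y * h⁻¹) • b := by
              simp only [← mul_smul]; group
          _ = h⁻¹ • b := by rw [h1]
      obtain ⟨n, hn, hnb⟩ := hctl y y.2 (by rwa [Subgroup.orderOf_coe]) hyb _ ⟨h⁻¹, rfl⟩ hfix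
      have hle : coGen (Nat.card D) (H ⊓ Subgroup.centralizer ({(y : G)} : Set G)) ≤
          (coGen (Nat.card D) (Subgroup.centralizer ({y} : Set H))).map H.subtype := by
        refine (Subgroup.closure_le _).2 fun g hg => ⟨⟨g, hg.1.1⟩, mem_coGen ?_ ?_, rfl⟩
        · exact Subgroup.mem_centralizer_singleton_iff.2 (Subtype.ext
            (Subgroup.mem_centralizer_singleton_iff.1 hg.1.2))
        · rw [← Subgroup.orderOf_coe]
          exact hg.2
      obtain ⟨m, hm, hmn⟩ := hle hn
      refine ⟨m, hm, MulAction.mem_stabilizer_iff.2 ?_⟩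
      have hmb : m • b = h⁻¹ • b := by
        show (m : G) • b = _
        rw [show (m : G) = n from hmn, hnb]
      rw [mul_smul, hmb, smul_inv_smul])
  refine ⟨Q.map H.subtype, Subgroup.map_subtype_le Q, ?_, ?_, ?_, ?_⟩
  · rintro h hh _ ⟨q, hq, rfl⟩
    exact ⟨⟨h, hh⟩ * q * ⟨h, hh⟩⁻¹, hQn.conj_mem q hq _, rfl⟩
  · rintro _ ⟨q, hq, rfl⟩ hqb
    have : q ∈ Q ⊓ D := ⟨hq, MulAction.mem_stabilizer_iff.2 hqb⟩
    rw [hQD, Subgroup.mem_bot] at this
    rw [this, map_one]
  · rintro _ ⟨h, rfl⟩
    haveI := hQn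
    obtain ⟨q, hq, s, hs, hqs⟩ :=
      Subgroup.mem_sup_of_normal_left.1 (hQtop.symm ▸ Subgroup.mem_top h : h ∈ Q ⊔ D)
    refine ⟨(q : G), ⟨q, hq, rfl⟩, ?_⟩
    show q • b = h • b
    rw [← hqs, mul_smul, MulAction.mem_stabilizer_iff.1 hs]
  · rw [Cores.card_map_subtype, hQcard, hidx]

/-- **C2**, with transitive centralisers: only elements with another fixed point in the orbit matter. -/
theorem exists_regular_normal_of_transitive {Ω : Type v} [MulAction G Ω] (H : Subgroup G) {b : Ω}
    (hsol : Group.IsSolvable (MulAction.stabilizer H b))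
    (hHall : (Nat.card (MulAction.stabilizer H b)).Coprime (Nat.card (MulAction.orbit H b)))
    (hctl : ∀ y ∈ H, IsPrimePow (orderOf y) → y • b = b →
      ∀ z ∈ MulAction.orbit H b, z ≠ b → y • z = z →
        (Nat.card (MulAction.orbit ↥(H ⊓ Subgroup.centralizer ({y} : Set G)) b)).Coprime
          (Nat.card (MulAction.stabilizer H b)) ∧
        z ∈ MulAction.orbit ↥(H ⊓ Subgroup.centralizer ({y} : Set G)) b) :
    ∃ Q : Subgroup G, Q ≤ H ∧ (∀ h ∈ H, ∀ q ∈ Q, h * q * h⁻¹ ∈ Q) ∧
      (∀ q ∈ Q, q • b = b → q = 1) ∧ (∀ z ∈ MulAction.orbit H b, ∃ q ∈ Q, q • b = z) ∧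
      Nat.card Q = Nat.card (MulAction.orbit H b) := by
  refine exists_regular_normal H hsol hHall fun y hy hpp hyb z hz hyz => ?_
  by_cases h : z = b
  · exact ⟨1, one_mem _, by rw [one_smul, h]⟩
  · obtain ⟨hc, hzo⟩ := hctl y hy hpp hyb z hz h hyz
    exact coGen_transitive hc hzo

/-- The involutions of `H = Q D` commute pairwise, if `D` is soluble of odd order prime to that of
the normal subgroup `Q` and transitive on the involutions of `Q`. -/
theorem commute_of_complement {Q D : Subgroup G} (hDQ : D ≤ Subgroup.normalizer (Q : Set G))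
    (hsol : Group.IsSolvable D) (hcop : (Nat.card D).Coprime (Nat.card Q))
    (htrans : ∀ s ∈ Q, ∀ t ∈ Q, orderOf s = 2 → orderOf t = 2 → ∃ k ∈ D, k * s * k⁻¹ = t)
    {s t : G} (hs : s ∈ Q) (ht : t ∈ Q) (hs2 : orderOf s = 2) (ht2 : orderOf t = 2) :
    Commute s t := by
  haveI : Fact (Nat.Prime 2) := ⟨Nat.prime_two⟩
  obtain ⟨S, -, hSQ, hDS, hScard⟩ := Coprime.exists_invariant_card hDQ hcop (Or.inl hsol) 2
    (U := ⊥) bot_le IsPGroup.of_bot (by
      rw [Subgroup.normalizer_eq_top_iff.2 inferInstance]; exact le_top)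
  have hS : IsPGroup 2 S := Coprime.isPGroup_of_card hScard
  have hQeven : 2 ∣ Nat.card Q := hs2 ▸ Subgroup.orderOf_dvd_natCard Q hs
  haveI : Nontrivial S := by
    rw [Subgroup.nontrivial_iff_ne_bot]
    intro e
    rw [e, Subgroup.card_bot] at hScard
    exact absurd (Nat.Prime.factorization_pos_of_dvd Nat.prime_two Nat.card_pos.ne' hQeven).ne'
      (fun h => h (Nat.pow_eq_one.1 hScard.symm |>.resolve_left (by norm_num)))
  haveI := hS.center_nontrivial
  obtain ⟨z, hz⟩ := exists_prime_orderOf_dvd_card' (G := Subgroup.center S) 2 (by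
    obtain ⟨k, hk⟩ := (hS.to_subgroup (Subgroup.center S)).exists_card_eq
    rw [hk]
    refine dvd_pow_self 2 fun h0 => ?_
    rw [h0, pow_zero] at hk
    exact (Finite.one_lt_card (α := Subgroup.center S)).ne' hk)
  set z' : G := ((z : S) : G) with hz'
  have hzS : z' ∈ S := (z : S).2
  have hz2 : orderOf z' = 2 := by
    rw [hz', Subgroup.orderOf_coe, Subgroup.orderOf_coe, hz]
  have hzc : ∀ x ∈ S, Commute z' x := fun x hx => by
    have := Subgroup.mem_center_iff.1 z.2 ⟨x, hx⟩
    exact (congrArg Subtype.val this).symm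
  obtain ⟨k, hk, rfl⟩ := htrans z' (hSQ hzS) s hs hz2 hs2
  obtain ⟨l, hl, rfl⟩ := htrans z' (hSQ hzS) t ht hz2 ht2
  have hlz : k⁻¹ * (l * z' * l⁻¹) * k ∈ S := by
    have h := (Subgroup.mem_normalizer_iff.1 (hDS (D.mul_mem (D.inv_mem hk) hl)) z').1 hzS
    rwa [show k⁻¹ * l * z' * (k⁻¹ * l)⁻¹ = k⁻¹ * (l * z' * l⁻¹) * k by group] at h
  have h := (hzc _ hlz).map (MulAut.conj k)
  simpa [mul_assoc] using h

end Cfsg.Agent.Bender
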