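/-
Centralisers after NC (Bender's theorem, free case C3; owner: helper44).

NC for a prime `p`: a `p`-element inverted by an involution fixes that involution's point and no other,
or is trivial.

Main results (namespace `Cfsg.Agent.Bender`):
* `exists_commuting_pair` : under NC a subgroup outside `H` whose intersection with `H` has a
  multiple of `p` involutions contains two commuting involutions
* `transitive_inter_of_nc` : so, by induction, that intersection is transitive on the other points of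
  the orbit
* `dvd_card_centralized` : a `p`-element of `H` centralises a multiple of `p` involutions of `H`
  if `p` divides their number
* `centralizer_transitive` : the centraliser in `H` of such an element is transitive on its other
  fixed points, once every fixed point carries an involution centralised by it
-/
import Cfsg.Agent.Lib.Bender.Step

set_option autoImplicit false
set_option linter.style.haveILetI false
set_option linter.unusedSectionVars false

namespace Cfsg.Agent.Bender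

open Cfsg Involution Aschbacher
open scoped Pointwise

universe u

variable {G : Type u} [Group G] [Finite G] {H : Subgroup G} {p : ℕ} [Fact p.Prime]

/-- NC for the prime `p`. -/
def NoInverted (H : Subgroup G) (p : ℕ) : Prop :=
  ∀ v k : G, orderOf v = 2 → v * k * v⁻¹ = k⁻¹ → (∃ i : ℕ, orderOf k = p ^ i) →
    ∀ c x : G ⧸ H, v • c = c → k • c = c → x ≠ c → k • x = x → k = 1

omit [Fact p.Prime] in
theorem subgroup_orderOf {M : Subgroup G} {t : M} {n : ℕ} : orderOf t = n ↔ orderOf (t : G) = n := by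
  rw [Subgroup.orderOf_coe]

/-- Under NC two or more involutions at a moved point give two commuting involutions. -/
theorem exists_commuting_pair (hH : IsStronglyEmbedded H) (hNC : NoInverted H p)
    {M : Subgroup G} (hMH : ¬ M ≤ H) {d : G} (hd : orderOf d = 2) (hdM : d ∈ M) (hdH : d ∈ H)
    (hdvd : p ∣ Nat.card {t : G // orderOf t = 2 ∧ t ∈ M ∧ t ∈ H}) :
    ∃ x y : M, x ≠ 1 ∧ y ≠ 1 ∧ x ≠ y ∧ x * x = 1 ∧ y * y = 1 ∧ x * y = y * x := by
  by_contra hcon
  push Not at hcon
  haveI : Fact (Nat.Prime 2) := ⟨Nat.prime_two⟩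
  have hL : IsStronglyEmbedded (H.subgroupOf M) := isStronglyEmbedded_inter hH M hMH hd hdM hdH
  set d' : M := ⟨d, hdM⟩ with hd'def
  have hd' : orderOf d' = 2 := subgroup_orderOf.2 hd
  have hiso : IsIsolatedInvolution d' := ⟨hd', fun g hg => by
    by_contra hne
    exact hcon d' (g * d' * g⁻¹) (ne_one hd') (ne_one ((Involution.orderOf_conj g d').trans hd'))
      (Ne.symm hne) (mul_self hd') (mul_self ((Involution.orderOf_conj g d').trans hd')) hg.eq⟩
  set N : Subgroup M := pPrimeCore 2 M with hN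
  haveI hNn : N.Normal := Cores.pPrimeCore_normal 2 M
  have hNodd : Odd (Nat.card N) := Nat.coprime_two_right.1 (Cores.coprime_card_pPrimeCore 2)
  haveI : Group.IsSolvable N := OddOrderTheorem.solvable hNodd
  set K := H.subgroupOf M with hK
  have hdK : d' ∈ K := Subgroup.mem_subgroupOf.2 hdH
  have hNK : ¬ N ≤ K := by
    intro hle
    refine hMH fun g hg => ?_
    have h1 : d' * ⟨g, hg⟩ * d'⁻¹ * (⟨g, hg⟩ : M)⁻¹ ∈ N :=
      ZStar.zStar_of_brauerSuzuki ZStar.uniqueInvolution hiso ⟨g, hg⟩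
    have h2 : (⟨g, hg⟩ : M) * d' * (⟨g, hg⟩ : M)⁻¹ ∈ K := by
      have h3 := K.mul_mem (K.inv_mem hdK) (hle h1)
      have e : d'⁻¹ * (d' * ⟨g, hg⟩ * d'⁻¹ * (⟨g, hg⟩ : M)⁻¹) =
          (⟨g, hg⟩ : M) * d' * (⟨g, hg⟩ : M)⁻¹ := by
        rw [inv_eq hd']
        calc d' * (d' * ⟨g, hg⟩ * d' * (⟨g, hg⟩ : M)⁻¹)
            = (d' * d') * ⟨g, hg⟩ * d' * (⟨g, hg⟩ : M)⁻¹ := by group
          _ = _ := by rw [mul_self hd', one_mul]
      rwa [e] at h3
    exact mem_of_conj_mem hH hd hdH (Subgroup.mem_subgroupOf.1 h2)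
  -- the last term of the derived series moving the point
  obtain ⟨L, hLn, hLN, hLK, hLder⟩ : ∃ L : Subgroup M, L.Normal ∧ L ≤ N ∧ ¬ L ≤ K ∧
      ∀ a ∈ L, ∀ b ∈ L, a * b * a⁻¹ * b⁻¹ ∈ K := by
    obtain ⟨n, hn⟩ := (inferInstance : Group.IsSolvable N).solvable
    have hex : ∃ i, (derivedSeries N i).map N.subtype ≤ K := ⟨n, by
      rw [hn, Subgroup.map_bot]; exact bot_le⟩
    classical
    have hpos : Nat.find hex ≠ 0 := fun h => hNK (by
      have := Nat.find_spec hex
      rw [h, derivedSeries_zero, ← MonoidHom.range_eq_map, Subgroup.range_subtype] at this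
      exact this)
    obtain ⟨i, hi⟩ := Nat.exists_eq_succ_of_ne_zero hpos
    haveI : (derivedSeries N i).Characteristic := derivedSeries_characteristic N i
    refine ⟨(derivedSeries N i).map N.subtype, Cores.map_subtype_normal_of_characteristic N _,
      Subgroup.map_subtype_le _, Nat.find_min hex (by omega), ?_⟩
    rintro _ ⟨a, ha, rfl⟩ _ ⟨b, hb, rfl⟩
    have h1 : a * b * a⁻¹ * b⁻¹ ∈ derivedSeries N (i + 1) := by
      rw [derivedSeries_succ]
      exact Subgroup.commutator_mem_commutator ha hb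
    exact (hi ▸ Nat.find_spec hex) ⟨_, h1, rfl⟩
  haveI := hLn
  obtain ⟨l, hlL, hlK⟩ := SetLike.not_le_iff_exists.1 hLK
  set o : M ⧸ K := ((1 : M) : M ⧸ K) with ho
  have hmem : ∀ g : M, g • o = o ↔ g ∈ K := fun g => smul_one_eq
  have hcomm : ∀ a ∈ L, ∀ b ∈ L, a • b • o = b • a • o := by
    intro a ha b hb
    have h1 : (a⁻¹ * b⁻¹ * (a⁻¹)⁻¹ * (b⁻¹)⁻¹) • o = o :=
      (hmem _).2 (hLder _ (L.inv_mem ha) _ (L.inv_mem hb))
    calc a • b • o = (a * b) • o := (mul_smul a b o).symm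
      _ = (b * a * (a⁻¹ * b⁻¹ * (a⁻¹)⁻¹ * (b⁻¹)⁻¹)) • o := by group
      _ = b • a • o := by rw [mul_smul, h1, mul_smul]
  -- an element of odd order moving `o` has a square moving it
  have hsq : ∀ a ∈ L, (a * a) • o = o → a • o = o := by
    intro a ha h
    obtain ⟨k, hk⟩ := Odd.of_dvd_nat hNodd (Subgroup.orderOf_dvd_natCard N (hLN ha))
    rw [hmem] at h ⊢
    have : a = (a * a) ^ (k + 1) := by
      rw [← sq, ← pow_mul, show 2 * (k + 1) = (2 * k + 1) + 1 by ring, pow_succ, ← hk,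
        pow_orderOf_eq_one, one_mul]
    exact this ▸ K.pow_mem h _
  have PM := pointClass_of_stronglyEmbedded hL
  have hpd : fixPt K d' = o := ((PM.fixed_iff d' hd' o).1 ((hmem d').2 hdK)).symm
  have hdo : d' • o = o := (hmem d').2 hdK
  -- `d` inverts the orbit of `L`
  have hinv : ∀ a ∈ L, d' • a • o = a⁻¹ • o := by
    intro a ha
    set a' := d' * a * d'⁻¹
    have ha' : a' ∈ L := hLn.conj_mem a ha d'
    have hda : ∀ b : M, d' • b • o = (d' * b * d'⁻¹) • o := by
      intro b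
      rw [mul_smul (d' * b) d'⁻¹, inv_smul_eq_iff.2 hdo.symm, mul_smul]
    have hfix : d' • a' • a • o = a' • a • o := by
      rw [← mul_smul a' a, hda]
      have e : d' * (a' * a) * d'⁻¹ = a * a' := by
        show d' * (d' * a * d'⁻¹ * a) * d'⁻¹ = a * (d' * a * d'⁻¹)
        rw [inv_eq hd']
        calc d' * (d' * a * d' * a) * d' = (d' * d') * a * d' * a * d' := by group
          _ = _ := by rw [mul_self hd', one_mul]; group
      rw [e, mul_smul a a' o, mul_smul a' a o, hcomm a ha a' ha']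
    have h1 : a' • a • o = o := ((PM.fixed_iff d' hd' _).1 hfix).trans hpd
    rw [hda a, eq_inv_smul_iff, hcomm a ha a' ha']
    exact h1
  set x := l • o with hx
  set z := l⁻¹ • o with hz
  have hdx : d' • x = z := hinv l hlL
  have hxo : x ≠ o := fun h => hlK ((hmem l).1 h)
  have hxz : x ≠ z := by
    intro h
    refine hxo (hsq l hlL ?_)
    rw [mul_smul, show l • o = l⁻¹ • o from h, smul_inv_smul]
  set T := twoPt M x z with hT
  have hTodd : Odd (Nat.card T) := odd_two_point hL hxz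
  have hdT : d' ∈ Subgroup.normalizer (T : Set M) := swap_mem_normalizer_twoPt PM hd' hdx
  obtain ⟨Q, -, hQT, hdQ, hQp, hQcard⟩ := exists_sylow_invariant (p := p) hd' hdT hTodd
    (R := ⊥) bot_le IsPGroup.of_bot (by
      rw [Subgroup.normalizer_eq_top_iff.2 inferInstance]; exact Subgroup.mem_top d')
  have hm : p ∣ Nat.card {f : M // f ∈ {d : M | orderOf d = 2} ∧ fixPt K f = z} := by
    refine hdvd.trans (dvd_of_eq ?_)
    rw [card_point_eq PM z o]
    refine Nat.card_congr
      { toFun := fun t => ⟨⟨t.1, t.2.2.1⟩, subgroup_orderOf.2 t.2.1,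
          ((PM.fixed_iff _ (subgroup_orderOf.2 t.2.1) o).1 ((hmem _).2
            (Subgroup.mem_subgroupOf.2 t.2.2.2))).symm⟩
        invFun := fun f => ⟨f.1, subgroup_orderOf.1 f.2.1, f.1.2, Subgroup.mem_subgroupOf.1
          ((hmem _).1 (by
            have h := PM.smul_pt f.2.1
            rwa [show fixPt K f.1 = o from f.2.2] at h))⟩
        left_inv := fun t => rfl
        right_inv := fun f => rfl }
  obtain ⟨g, hg, hg1, hgi⟩ := exists_inverted PM hxz hQT hQcard hm hQp
    (show d' ∈ {d : M | orderOf d = 2} from hd') hdx hdQ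
  have hgT : g ∈ T := hQT hg
  have hgx : g • x = x := MulAction.mem_stabilizer_iff.1 hgT.1
  have hgz : g • z = z := MulAction.mem_stabilizer_iff.1 hgT.2
  -- it fixes the point of `d`
  have hgo : g • o = o := by
    have hconj : ∀ b : M, g • b • o = (g * b * g⁻¹) • g • o := fun b => by
      simp only [← mul_smul]; group
    set l' := g * l * g⁻¹
    have hl' : l' ∈ L := hLn.conj_mem l hlL g
    set l₁ := l'⁻¹ * l
    have hl₁ : l₁ ∈ L := L.mul_mem (L.inv_mem hl') hlL
    have e1 : l' • g • o = x := by rw [← hconj]; exact hgx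
    have e0 : g • o = l₁ • o := by rw [mul_smul, eq_inv_smul_iff]; exact e1
    have e2 : l'⁻¹ • g • o = z := by
      have := hconj l⁻¹
      rw [show g * l⁻¹ * g⁻¹ = (g * l * g⁻¹)⁻¹ by group] at this
      rw [← this]
      exact hgz
    have e3 : (l₁ * l₁) • o = o := by
      have h5 : l • l'⁻¹ • g • o = o := by rw [e2, hz, smul_inv_smul]
      have h6 : l'⁻¹ • l • g • o = l • l'⁻¹ • g • o := by
        rw [e0, ← mul_smul l l₁]
        rw [hcomm (l'⁻¹) (L.inv_mem hl') (l * l₁) (L.mul_mem hlL hl₁)]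
        rw [mul_smul l l₁ (l'⁻¹ • o), hcomm l₁ hl₁ l'⁻¹ (L.inv_mem hl')]
      rw [mul_smul, ← e0, show l₁ = l'⁻¹ * l from rfl, mul_smul, h6, h5]
    rw [e0]
    exact hsq l₁ hl₁ e3
  -- contradiction with NC
  refine hg1 (Subtype.ext ?_)
  have hcoe : ∀ (a : M) (b : M), a • (b : M ⧸ K) = (b : M ⧸ K) →
      (a : G) • ((b : G) : G ⧸ H) = ((b : G) : G ⧸ H) := by
    intro a b h
    rw [smul_mk_eq_iff] at h ⊢
    exact Subgroup.mem_subgroupOf.1 h
  obtain ⟨i, hi⟩ := (IsPGroup.iff_orderOf.1 hQp) ⟨g, hg⟩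
  refine hNC d g hd (congrArg Subtype.val hgi) ⟨i, ?_⟩ ((1 : G) : G ⧸ H) ((l : G) : G ⧸ H) ?_ ?_ ?_ ?_
  · rw [← hi, ← Subgroup.orderOf_coe ⟨g, hg⟩, Subgroup.orderOf_coe]
  · exact smul_one_eq.2 hdH
  · exact hcoe g 1 hgo
  · intro e
    have := QuotientGroup.eq.1 e
    rw [mul_one] at this
    exact hlK (Subgroup.mem_subgroupOf.2 (H.inv_mem_iff.1 this))
  · refine hcoe g l ?_
    rwa [hx, ho, MulAction.Quotient.smul_coe, smul_eq_mul, mul_one] at hgx

/-- Under NC and the induction hypothesis the intersection is transitive on the moved points. -/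
theorem transitive_inter_of_nc (hH : IsStronglyEmbedded H) (hIH : CoreTwoBelow G)
    (hNC : NoInverted H p) {M : Subgroup G} (hM : M ≠ ⊤) (hMH : ¬ M ≤ H) {d : G}
    (hd : orderOf d = 2) (hdM : d ∈ M) (hdH : d ∈ H)
    (hdvd : p ∣ Nat.card {t : G // orderOf t = 2 ∧ t ∈ M ∧ t ∈ H})
    {g₁ g₂ : G} (h₁ : g₁ ∈ M) (h₂ : g₂ ∈ M) (h₁' : g₁ ∉ H) (h₂' : g₂ ∉ H) :
    ∃ h ∈ M ⊓ H, h • (g₁ : G ⧸ H) = (g₂ : G ⧸ H) := by
  have hL := isStronglyEmbedded_inter hH M hMH hd hdM hdH
  obtain ⟨h, hh, e⟩ := transitive_of_coreTwo hL (exists_commuting_pair hH hNC hMH hd hdM hdH hdvd)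
    (hIH M hM _ hL) ⟨g₁, h₁⟩ ⟨g₂, h₂⟩ (fun h => h₁' (Subgroup.mem_subgroupOf.1 h))
    (fun h => h₂' (Subgroup.mem_subgroupOf.1 h))
  refine ⟨h, ⟨h.2, Subgroup.mem_subgroupOf.1 hh⟩, ?_⟩
  rw [MulAction.Quotient.smul_coe, smul_eq_mul, eq_comm, QuotientGroup.eq]
  exact Subgroup.mem_subgroupOf.1 e

/-- A `p`-element of `H` centralises `≡ m (mod p)` of its `m` involutions. -/
theorem dvd_card_centralized {y : G} (hy : y ∈ H) (hyp : ∃ i : ℕ, orderOf y = p ^ i)
    (hm : p ∣ Nat.card {t : H // orderOf t = 2}) :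
    p ∣ Nat.card {t : G // orderOf t = 2 ∧ t ∈ Subgroup.centralizer ({y} : Set G) ∧ t ∈ H} := by
  classical
  obtain ⟨i, hi⟩ := hyp
  set I := {t : H // orderOf t = 2}
  haveI := Fintype.ofFinite I
  set Y : H := ⟨y, hy⟩
  let σ : Equiv.Perm I := (MulAut.conj Y).toEquiv.subtypeEquiv fun t => by
    show orderOf t = 2 ↔ orderOf (Y * t * Y⁻¹) = 2
    rw [Involution.orderOf_conj]
  have hpow : σ ^ p ^ i = 1 := by
    have key : ∀ (n : ℕ) (t : I), ((σ ^ n) t).1 = Y ^ n * t.1 * (Y ^ n)⁻¹ := by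
      intro n
      induction n with
      | zero => intro t; simp
      | succ n ih =>
        intro t
        rw [pow_succ', Equiv.Perm.mul_apply]
        show Y * ((σ ^ n) t).1 * Y⁻¹ = _
        rw [ih, pow_succ']
        group
    refine Equiv.ext fun t => Subtype.ext ?_
    rw [key, show Y ^ p ^ i = 1 from Subtype.ext (by
      show y ^ p ^ i = 1
      rw [← hi, pow_orderOf_eq_one])]
    simp
  have h1 := Equiv.Perm.card_compl_support_modEq (p := p) (n := i) (σ := σ) hpow
  rw [Nat.card_eq_fintype_card] at hm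
  have h2 : Nat.card {t : G // orderOf t = 2 ∧ t ∈ Subgroup.centralizer ({y} : Set G) ∧ t ∈ H} =
      σ.supportᶜ.card := by
    rw [← Fintype.card_coe, ← Nat.card_eq_fintype_card]
    refine Nat.card_congr
      { toFun := fun t => ⟨⟨⟨t.1, t.2.2.2⟩, subgroup_orderOf.2 t.2.1⟩, ?_⟩
        invFun := fun t => ⟨t.1.1.1, subgroup_orderOf.1 t.1.2, ?_, t.1.1.2⟩
        left_inv := fun t => rfl
        right_inv := fun t => rfl }
    · rw [Finset.mem_compl, Equiv.Perm.notMem_support]
      refine Subtype.ext (Subtype.ext ?_)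
      show y * t.1 * y⁻¹ = t.1
      rw [← mem_centralizer.1 t.2.2.1, mul_inv_cancel_right]
    · have h := Finset.mem_compl.1 t.2
      rw [Equiv.Perm.notMem_support] at h
      refine mem_centralizer.2 ?_
      have h' : y * (t.1.1 : G) * y⁻¹ = t.1.1 := congrArg (fun s => ((s.1 : H) : G)) h
      exact (mul_inv_eq_iff_eq_mul.1 h').symm
  rw [h2]
  exact (Nat.modEq_zero_iff_dvd).1 (h1.trans (Nat.modEq_zero_iff_dvd.2 hm))

/-- **C3.** The centraliser in `H` of a `p`-element is transitive on its other fixed points. -/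
theorem centralizer_transitive (hH : IsStronglyEmbedded H) (hIH : CoreTwoBelow G)
    (hNC : NoInverted H p) (hm : p ∣ Nat.card {t : H // orderOf t = 2}) {y : G}
    (hy : y ∈ H) (hyp : ∃ i : ℕ, orderOf y = p ^ i)
    (hM : Subgroup.centralizer ({y} : Set G) ≠ ⊤)
    (hcent : ∀ c : G ⧸ H, y • c = c → ∃ t : G, orderOf t = 2 ∧ Commute t y ∧ t • c = c)
    {b z : G ⧸ H} (hb : y • b = b) (hz : y • z = z) (hbo : b ≠ ((1 : G) : G ⧸ H))
    (hzo : z ≠ ((1 : G) : G ⧸ H)) :
    z ∈ MulAction.orbit ↥(H ⊓ Subgroup.centralizer ({y} : Set G)) b := by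
  set M := Subgroup.centralizer ({y} : Set G) with hMdef
  have PC := pointClass_of_stronglyEmbedded hH
  set o : G ⧸ H := ((1 : G) : G ⧸ H) with ho
  obtain ⟨d, hd, hdy, hdo⟩ := hcent o (smul_one_eq.2 hy)
  have hdM : d ∈ M := mem_centralizer.2 hdy
  have hdH : d ∈ H := smul_one_eq.1 hdo
  have key : ∀ c : G ⧸ H, y • c = c → c ≠ o → ∃ g ∈ M, g ∉ H ∧ (g : G ⧸ H) = c := by
    intro c hc hco
    obtain ⟨t, ht, hty, htc⟩ := hcent c hc
    have hne : fixPt H d ≠ fixPt H t := by
      rw [← (PC.fixed_iff d hd o).1 hdo, ← (PC.fixed_iff t ht c).1 htc]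
      exact hco.symm
    obtain ⟨g, hg, hgt⟩ := exists_conj_in PC (K := M) (show d ∈ {d : G | orderOf d = 2} from hd)
      (show t ∈ {d : G | orderOf d = 2} from ht) hdM (mem_centralizer.2 hty) hne
    have hgc : g • o = c := by
      rw [(PC.fixed_iff d hd o).1 hdo, (PC.fixed_iff t ht c).1 htc, ← hgt, PC.pt_conj g (show d ∈
        {d : G | orderOf d = 2} from hd)]
    rw [ho, MulAction.Quotient.smul_coe, smul_eq_mul, mul_one] at hgc
    exact ⟨g, hg, fun h => hco (by rw [← hgc, ho, QuotientGroup.eq, mul_one]; exact H.inv_mem h), hgc⟩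
  obtain ⟨g₁, hg₁, hg₁H, rfl⟩ := key b hb hbo
  obtain ⟨g₂, hg₂, hg₂H, rfl⟩ := key z hz hzo
  obtain ⟨h, hh, e⟩ := transitive_inter_of_nc hH hIH hNC hM (fun h => hg₁H (h hg₁)) hd hdM hdH
    (dvd_card_centralized hy hyp hm) hg₁ hg₂ hg₁H hg₂H
  exact ⟨⟨h, hh.2, hh.1⟩, e⟩

end Cfsg.Agent.Bender
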