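/-
Bender's theorem, second half, the consequence of theorem ODD of `STAGE2.md` (owner: helper43): if no
element of `G` exchanges the involution `v` of `H` with another involution of `H`, and `g` centralises
no involution of `H` but `v`, then `H` has an abelian quotient of odd order in which `g` survives.
-/
import Cfsg.Agent.Lib.Involution.Basic
import Cfsg.Agent.Lib.Solvable.Basic
import Cfsg.Agent.S1131

set_option autoImplicit false
set_option linter.style.haveILetI false

namespace Cfsg.Agent.Bender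

open Cfsg Involution

namespace LinearSplit

variable {L Z : Type*} [Group L] [Finite L] [CommGroup Z] [MulDistribMulAction L Z]
  (hsq : ∀ z : Z, z * z = 1) (htrans : ∀ x y : Z, x ≠ 1 → y ≠ 1 → ∃ h : L, h • x = y)
  (hodd : Odd (Nat.card L))

include hsq hodd in
/-- An element of odd order fixing `(a • w) * w` fixes `w`. -/
theorem eq_one_of_fixed {a : L} {w : Z} (h : a • ((a • w) * w) = (a • w) * w) :
    (a • w) * w = 1 := by
  set u := (a • w) * w with hu
  have e : a • w = u * w := by rw [hu, mul_assoc, hsq, mul_one]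
  have hk : ∀ k : ℕ, a ^ k • w = u ^ k * w := by
    intro k
    induction k with
    | zero => simp
    | succ k ih => rw [pow_succ', mul_smul, ih, smul_mul', smul_pow', h, e, ← mul_assoc, ← pow_succ]
  have h1 := hk (orderOf a)
  rw [pow_orderOf_eq_one, one_smul, eq_comm, mul_eq_right] at h1
  exact orderOf_eq_one_iff.1 (Nat.eq_one_of_dvd_coprimes
    (Nat.coprime_two_left.2 (hodd.of_dvd_nat (orderOf_dvd_natCard a)))
    (orderOf_dvd_of_pow_eq_one (by rw [pow_two, hsq])) (orderOf_dvd_of_pow_eq_one h1))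

include hsq htrans hodd in
/-- An abelian normal subgroup is semiregular on the non-trivial vectors. -/
theorem semiregular [FaithfulSMul L Z] {A : Subgroup L} (hn : A.Normal)
    (hc : ∀ a ∈ A, ∀ b ∈ A, a * b = b * a) {a : L} (ha : a ∈ A) {x : Z} (hx : x ≠ 1)
    (hax : a • x = x) : a = 1 := by
  refine eq_of_smul_eq_smul fun z : Z => ?_
  rw [one_smul]
  by_contra hz
  set y := (a • z) * z with hy
  have hy1 : y ≠ 1 := fun e => hz (mul_right_cancel (b := z) (e.trans (hsq z).symm))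
  have hxy : x * y ≠ 1 := fun e => by
    have exy : x = y := mul_right_cancel (b := y) (e.trans (hsq y).symm)
    exact hy1 (eq_one_of_fixed hsq hodd (by rw [← hy, ← exy, hax]))
  obtain ⟨h, hh⟩ := htrans x (x * y) hx hxy
  have hcard : Nat.card ↥(A ⊓ MulAction.stabilizer L x) = Nat.card ↥(A ⊓ MulAction.stabilizer L (x * y)) := by
    refine Nat.card_congr (Equiv.subtypeEquiv (MulAut.conj h).toEquiv fun b => ?_)
    show b ∈ A ⊓ _ ↔ h * b * h⁻¹ ∈ A ⊓ _
    simp only [Subgroup.mem_inf, MulAction.mem_stabilizer_iff, mul_smul]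
    rw [← hh, inv_smul_smul, smul_left_cancel_iff]
    refine and_congr_left' ⟨fun hb => hn.conj_mem b hb h, fun hb => ?_⟩
    simpa [mul_assoc] using hn.conj_mem _ hb h⁻¹
  have hle : A ⊓ MulAction.stabilizer L (x * y) ≤ A ⊓ MulAction.stabilizer L x := by
    rintro b ⟨hb, hbxy⟩
    refine ⟨hb, MulAction.mem_stabilizer_iff.2 ?_⟩
    have hbxy' : (b • x) * (b • y) = x * y := by rw [← smul_mul']; exact hbxy
    have e1 : (b • x) * x = (b • y) * y := by
      calc (b • x) * x = ((b • x) * (b • y)) * ((b • y) * x) := by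
            rw [mul_assoc, ← mul_assoc (b • y) (b • y), hsq, one_mul]
        _ = (x * x) * ((b • y) * y) := by rw [hbxy']; ac_rfl
        _ = (b • y) * y := by rw [hsq, one_mul]
    have hab : ∀ t : Z, a • b • t = b • a • t := fun t => by rw [← mul_smul, hc a ha b hb, mul_smul]
    have e2 : (b • y) * y = (a • ((b • z) * z)) * ((b • z) * z) := by
      rw [hy, smul_mul', smul_mul', hab]; ac_rfl
    have hfix : a • ((b • x) * x) = (b • x) * x := by rw [smul_mul', hab, hax]
    rw [e1, e2] at hfix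
    have h1 : (b • x) * x = 1 := by rw [e1, e2]; exact eq_one_of_fixed hsq hodd hfix
    exact mul_right_cancel (b := x) (h1.trans (hsq x).symm)
  have hmem : a ∈ A ⊓ MulAction.stabilizer L (x * y) := by
    rw [Subgroup.eq_of_le_of_card_ge hle hcard.le]
    exact ⟨ha, MulAction.mem_stabilizer_iff.2 hax⟩
  have hay : a • y = y := by
    have := MulAction.mem_stabilizer_iff.1 hmem.2
    rwa [smul_mul', hax, mul_right_inj] at this
  exact hy1 (eq_one_of_fixed hsq hodd hay)

include hsq in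
/-- A semiregular elementary abelian group of odd exponent is cyclic. -/
theorem mem_zpowers_of_semiregular {p : ℕ} (hp : p.Prime) (hp2 : Odd p) {A : Subgroup L}
    (hc : ∀ a ∈ A, ∀ b ∈ A, a * b = b * a) (hexp : ∀ a ∈ A, a ^ p = 1)
    (hsr : ∀ a ∈ A, ∀ x : Z, x ≠ 1 → a • x = x → a = 1) {v : Z} (hv : v ≠ 1) {a b : L}
    (ha : a ∈ A) (ha1 : a ≠ 1) (hb : b ∈ A) : b ∈ Subgroup.zpowers a := by
  by_contra hnot
  have horb : ∀ c ∈ A, c ≠ 1 → ∀ y : Z, ∏ j ∈ Finset.range p, c ^ j • y = 1 := by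
    intro c hcA hc1 y
    by_contra hne
    refine hc1 (hsr c hcA _ hne ?_)
    rw [Finset.smul_prod']
    simp only [← mul_smul, ← pow_succ']
    have h1 := Finset.prod_range_succ (fun j => c ^ j • y) p
    rw [Finset.prod_range_succ', hexp c hcA, pow_zero] at h1
    exact mul_right_cancel h1
  have hne1 : ∀ j : ℕ, a ^ j * b ≠ 1 := fun j e =>
    hnot (by
      have hb' : b = (a ^ j)⁻¹ := (inv_eq_of_mul_eq_one_right e).symm
      rw [hb']
      exact inv_mem (Subgroup.npow_mem_zpowers a j))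
  have h0 : ∏ j ∈ Finset.range p, ∏ i ∈ Finset.range p, (a ^ j * b) ^ i • v = 1 :=
    Finset.prod_eq_one fun j _ => horb _ (mul_mem (pow_mem ha j) hb) (hne1 j) v
  rw [Finset.prod_comm, Finset.prod_eq_single 0] at h0
  · simp only [pow_zero, one_smul, Finset.prod_const, Finset.card_range] at h0
    exact hv (orderOf_eq_one_iff.1 (Nat.eq_one_of_dvd_coprimes (Nat.coprime_two_left.2 hp2)
      (orderOf_dvd_of_pow_eq_one (by rw [pow_two, hsq])) (orderOf_dvd_of_pow_eq_one h0)))
  · intro i hi hi0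
    have e : ∀ j, (a ^ j * b) ^ i • v = (a ^ i) ^ j • (b ^ i • v) := fun j => by
      rw [(Commute.pow_left (hc a ha b hb) j).mul_pow, mul_smul, ← pow_mul, mul_comm, pow_mul]
    simp only [e]
    refine horb _ (pow_mem ha i) (fun e' => ?_) _
    have hord : orderOf a = p := by
      haveI := Fact.mk hp
      exact orderOf_eq_prime (hexp a ha) ha1
    exact hi0 (Nat.eq_zero_of_dvd_of_lt (hord ▸ orderOf_dvd_of_pow_eq_one e') (Finset.mem_range.1 hi))
  · intro h
    exact absurd (Finset.mem_range.2 hp.pos) h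

include hsq htrans hodd in
/-- An element with exactly one non-trivial fixed vector survives in an abelian quotient. -/
theorem exists_abelian_quotient [FaithfulSMul L Z] {g : L} {v : Z} (hv : v ≠ 1) (hg : g ≠ 1)
    (hgv : g • v = v) (honly : ∀ z : Z, z ≠ 1 → g • z = z → z = v) :
    ∃ N : Subgroup L, N.Normal ∧ (∀ x y : L, x * y * x⁻¹ * y⁻¹ ∈ N) ∧ g ∉ N := by
  haveI : Group.IsSolvable L := S1131.oddSolvable L hodd
  have htop : (⊤ : Subgroup L) ≠ ⊥ := fun e =>
    hg (Subgroup.mem_bot.1 (e ▸ Subgroup.mem_top g))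
  obtain ⟨p, hp, A, hAn, hA0, -, hAc, -, hexp, -⟩ :=
    Solvable.exists_minimal_normal_pGroup (N := (⊤ : Subgroup L)) htop
  have hc : ∀ a ∈ A, ∀ b ∈ A, a * b = b * a := fun a ha b hb =>
    congrArg Subtype.val (mul_comm' (⟨a, ha⟩ : A) ⟨b, hb⟩)
  have hsr : ∀ a ∈ A, ∀ x : Z, x ≠ 1 → a • x = x → a = 1 := fun a ha x hx e =>
    semiregular hsq htrans hodd hAn hc ha hx e
  obtain ⟨a, ha, ha1⟩ := A.bot_or_exists_ne_one.resolve_left hA0
  have hp2 : Odd p := by
    haveI := Fact.mk hp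
    have h1 : orderOf a = p := orderOf_eq_prime (hexp a ha) ha1
    exact h1 ▸ hodd.of_dvd_nat (orderOf_dvd_natCard a)
  have hconj : ∀ x : L, ∃ k : ℤ, x * a * x⁻¹ = a ^ k := fun x => by
    obtain ⟨k, hk⟩ := Subgroup.mem_zpowers_iff.1
      (mem_zpowers_of_semiregular hsq hp hp2 hc hexp hsr hv ha ha1 (hAn.conj_mem a ha x))
    exact ⟨k, hk.symm⟩
  refine ⟨Subgroup.centralizer ({a} : Set L), ⟨fun n hn x => ?_⟩, fun x y => ?_, fun hgN => ?_⟩
  · rw [Subgroup.mem_centralizer_singleton_iff] at hn ⊢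
    obtain ⟨k, hk⟩ := hconj x⁻¹
    rw [inv_inv] at hk
    have h1 : Commute n (x⁻¹ * a * x) := hk ▸ (Commute.zpow_right hn k)
    calc x * n * x⁻¹ * a = x * (n * (x⁻¹ * a * x)) * x⁻¹ := by group
      _ = x * ((x⁻¹ * a * x) * n) * x⁻¹ := by rw [h1.eq]
      _ = a * (x * n * x⁻¹) := by group
  · rw [Subgroup.mem_centralizer_singleton_iff]
    obtain ⟨k, hk⟩ := hconj x
    obtain ⟨l, hl⟩ := hconj y
    have e : x * y * a * (x * y)⁻¹ = y * x * a * (y * x)⁻¹ := by
      rw [show x * y * a * (x * y)⁻¹ = x * (y * a * y⁻¹) * x⁻¹ by group, hl, ← conj_zpow, hk,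
        show y * x * a * (y * x)⁻¹ = y * (x * a * x⁻¹) * y⁻¹ by group, hk, ← conj_zpow, hl,
        ← zpow_mul, ← zpow_mul, mul_comm]
    calc x * y * x⁻¹ * y⁻¹ * a
        = x * y * x⁻¹ * y⁻¹ * a * (y * x * y⁻¹ * x⁻¹) * (x * y * x⁻¹ * y⁻¹) := by group
      _ = x * y * ((y * x)⁻¹ * a * (y * x)) * (x * y)⁻¹ * (x * y * x⁻¹ * y⁻¹) := by group
      _ = a * (x * y * x⁻¹ * y⁻¹) := by
        congr 1
        obtain ⟨m, hm⟩ := hconj (y * x)⁻¹
        rw [inv_inv] at hm
        rw [hm, ← conj_zpow, e, conj_zpow, ← hm]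
        group
  · rw [Subgroup.mem_centralizer_singleton_iff] at hgN
    have hav : a • v ≠ 1 := fun h => hv ((smul_eq_iff_eq_inv_smul a).1 h |>.trans (smul_one _))
    have h1 : g • (a • v) = a • v := by rw [← mul_smul, hgN, mul_smul, hgv]
    exact ha1 (hsr a ha v hv (honly _ hav h1))

end LinearSplit

universe u

variable {G : Type u} [Group G] [Finite G]

/-- **STAGE2, consequence of ODD.** If no element exchanges `v` with another involution of `H`, an element
centralising no involution of `H` but `v` lies outside a normal subgroup of odd index with abelian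
quotient. That subgroup contains every involution of `H`. -/
theorem exists_linear_kernel {H : Subgroup G}
    (hcomm : ∀ s t : G, orderOf s = 2 → s ∈ H → orderOf t = 2 → t ∈ H → s * t = t * s)
    (htrans : ∀ s t : G, orderOf s = 2 → s ∈ H → orderOf t = 2 → t ∈ H → ∃ h ∈ H, h * s * h⁻¹ = t)
    {v : G} (hv : orderOf v = 2) (hvH : v ∈ H)
    (hno : ∀ t : G, orderOf t = 2 → t ∈ H → t ≠ v → ∀ x : G, x * v * x⁻¹ = t → x * t * x⁻¹ = v → False)
    {g : G} (hg : g ∈ H) (hgv : g * v = v * g)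
    (honly : ∀ t : G, orderOf t = 2 → t ∈ H → g * t = t * g → t = v)
    (hne : ∃ t : G, orderOf t = 2 ∧ t ∈ H ∧ t ≠ v) :
    ∃ N : Subgroup G, N ≤ H ∧ (∀ h ∈ H, ∀ n ∈ N, h * n * h⁻¹ ∈ N) ∧
      (∀ x ∈ H, ∀ y ∈ H, x * y * x⁻¹ * y⁻¹ ∈ N) ∧ Odd (N.relIndex H) ∧
      (∀ t : G, orderOf t = 2 → t ∈ H → t ∈ N) ∧ g ∉ N := by
  -- the group of involutions
  let Z : Subgroup G :=
    { carrier := {x | x ∈ H ∧ x * x = 1}
      one_mem' := ⟨one_mem H, one_mul 1⟩
      mul_mem' := by
        rintro x y ⟨hx, hx2⟩ ⟨hy, hy2⟩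
        refine ⟨mul_mem hx hy, ?_⟩
        by_cases hx1 : x = 1
        · rw [hx1, one_mul, hy2]
        by_cases hy1 : y = 1
        · rw [hy1, mul_one, hx2]
        calc x * y * (x * y) = x * (y * x) * y := by group
          _ = (x * x) * (y * y) := by rw [hcomm y x (orderOf_of_sq hy2 hy1) hy (orderOf_of_sq hx2 hx1) hx]; group
          _ = 1 := by rw [hx2, hy2, mul_one]
      inv_mem' := by
        rintro x ⟨hx, hx2⟩
        exact ⟨inv_mem hx, by rw [← mul_inv_rev, hx2, inv_one]⟩ }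
  have hZ : ∀ z : G, z ∈ Z ↔ z ∈ H ∧ z * z = 1 := fun z => Iff.rfl
  have hinvZ : ∀ t, orderOf t = 2 → t ∈ H → t ∈ Z := fun t ht htH => ⟨htH, Involution.mul_self ht⟩
  have hordZ : ∀ z : Z, z ≠ 1 → orderOf (z : G) = 2 := fun z hz =>
    orderOf_of_sq z.2.2 fun e => hz (Subtype.ext e)
  letI : CommGroup Z :=
    { (inferInstance : Group Z) with
      mul_comm := fun x y => by
        by_cases hx : x = 1
        · rw [hx, one_mul, mul_one]
        by_cases hy : y = 1
        · rw [hy, one_mul, mul_one]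
        exact Subtype.ext (hcomm _ _ (hordZ x hx) x.2.1 (hordZ y hy) y.2.1) }
  letI act : MulDistribMulAction H Z :=
    { smul := fun h z => ⟨(h : G) * z * (h : G)⁻¹, mul_mem (mul_mem h.2 z.2.1) (inv_mem h.2), by
        calc (h : G) * z * (h : G)⁻¹ * ((h : G) * z * (h : G)⁻¹)
            = (h : G) * ((z : G) * z) * (h : G)⁻¹ := by group
          _ = 1 := by rw [z.2.2, mul_one, mul_inv_cancel]⟩
      one_smul := fun z => Subtype.ext (by
        show (1 : G) * z * (1 : G)⁻¹ = z
        group)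
      mul_smul := fun h k z => Subtype.ext (by
        show ((h : G) * k) * z * ((h : G) * k)⁻¹ = h * (k * z * (k : G)⁻¹) * (h : G)⁻¹
        group)
      smul_mul := fun h x y => Subtype.ext (by
        show (h : G) * (x * y) * (h : G)⁻¹ = (h * x * (h : G)⁻¹) * (h * y * (h : G)⁻¹)
        group)
      smul_one := fun h => Subtype.ext (by
        show (h : G) * 1 * (h : G)⁻¹ = 1
        group) }
  set φ := MulDistribMulAction.toMulAut H Z with hφ
  set L := φ.range with hL
  let vv : Z := ⟨v, hinvZ v hv hvH⟩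
  have hsq : ∀ z : Z, z * z = 1 := fun z => Subtype.ext z.2.2
  have hvv : vv ≠ 1 := fun e => Involution.ne_one hv (congrArg Subtype.val e)
  have hLtrans : ∀ x y : Z, x ≠ 1 → y ≠ 1 → ∃ l : L, l • x = y := by
    intro x y hx hy
    obtain ⟨h, hh, e⟩ := htrans x y (hordZ x hx) x.2.1 (hordZ y hy) y.2.1
    exact ⟨⟨φ ⟨h, hh⟩, ⟨_, rfl⟩⟩, Subtype.ext e⟩
  have hodd : Odd (Nat.card L) := by
    by_contra hnot
    haveI : Fact (Nat.Prime 2) := ⟨Nat.prime_two⟩
    obtain ⟨⟨l, h, rfl⟩, hl⟩ :=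
      exists_prime_orderOf_dvd_card' (G := L) 2 (even_iff_two_dvd.1 (Nat.not_odd_iff_even.1 hnot))
    have hl1 : φ h ≠ 1 := fun e => by
      have h1 := Involution.ne_one hl
      exact h1 (Subtype.ext e)
    have hl2 : φ h * φ h = 1 := congrArg Subtype.val (Involution.mul_self hl)
    obtain ⟨z, hz⟩ : ∃ z : Z, h • z ≠ z := by
      by_contra hall
      push Not at hall
      exact hl1 (MulEquiv.ext hall)
    have hz1 : z ≠ 1 := fun e => hz (by rw [e, smul_one])
    obtain ⟨k, hk, hkv⟩ := htrans z v (hordZ z hz1) z.2.1 hv hvH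
    have hzz : h • h • z = z := by
      have := congrArg (fun f : MulAut Z => f z) hl2
      exact this
    set kk : H := ⟨k, hk⟩
    have ekv : kk • z = vv := Subtype.ext hkv
    have hx1 : (kk * h * kk⁻¹) • vv = kk • h • z := by rw [← ekv, mul_smul, mul_smul, inv_smul_smul]
    have hx2 : (kk * h * kk⁻¹) • (kk • h • z) = vv := by
      rw [mul_smul, mul_smul, inv_smul_smul, hzz, ekv]
    set t := kk • h • z
    have ht1 : t ≠ vv := fun e => hz (smul_left_cancel kk (e.trans ekv.symm))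
    have ht0 : t ≠ 1 := fun e => hvv (by rw [← hx2, e, smul_one])
    exact hno (t : G) (hordZ t ht0) t.2.1 (fun e => ht1 (Subtype.ext e))
      ((kk * h * kk⁻¹ : H) : G) (congrArg Subtype.val hx1) (congrArg Subtype.val hx2)
  let gg : H := ⟨g, hg⟩
  have hgg : φ gg ≠ 1 := by
    obtain ⟨t, ht, htH, htv⟩ := hne
    intro e
    have h1 : g * t * g⁻¹ = t :=
      congrArg Subtype.val (congrArg (fun f : MulAut Z => f ⟨t, hinvZ t ht htH⟩) e)
    exact htv (honly t ht htH (mul_inv_eq_iff_eq_mul.1 h1))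
  obtain ⟨M, hMn, hMc, hMg⟩ := LinearSplit.exists_abelian_quotient hsq hLtrans hodd
    (g := ⟨φ gg, gg, rfl⟩) (v := vv) hvv (fun e => hgg (congrArg Subtype.val e))
    (Subtype.ext (mul_inv_eq_iff_eq_mul.2 hgv)) fun z hz e => Subtype.ext
      (honly z (hordZ z hz) z.2.1 (mul_inv_eq_iff_eq_mul.1 (congrArg Subtype.val e)))
  set N₀ := M.comap φ.rangeRestrict with hN₀
  haveI : N₀.Normal := hMn.comap _
  have hsurj : Function.Surjective φ.rangeRestrict := φ.rangeRestrict_surjective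
  refine ⟨N₀.map H.subtype, Subgroup.map_subtype_le _, ?_, ?_, ?_, ?_, ?_⟩
  · rintro h hh _ ⟨n, hn, rfl⟩
    exact ⟨⟨h, hh⟩ * n * ⟨h, hh⟩⁻¹, Subgroup.Normal.conj_mem inferInstance n hn _, rfl⟩
  · intro x hx y hy
    refine ⟨⟨x, hx⟩ * ⟨y, hy⟩ * ⟨x, hx⟩⁻¹ * ⟨y, hy⟩⁻¹, ?_, rfl⟩
    rw [SetLike.mem_coe, hN₀, Subgroup.mem_comap, map_mul, map_mul, map_mul, map_inv, map_inv]
    exact hMc _ _
  · rw [show (N₀.map H.subtype).relIndex H = N₀.index by
      rw [Subgroup.relIndex, Subgroup.subgroupOf, Subgroup.comap_map_eq_self_of_injective H.subtype_injective],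
      hN₀, Subgroup.index_comap_of_surjective _ hsurj]
    exact hodd.of_dvd_nat M.index_dvd_card
  · intro t ht htH
    refine ⟨⟨t, htH⟩, ?_, rfl⟩
    have : φ.rangeRestrict ⟨t, htH⟩ = 1 := Subtype.ext (MulEquiv.ext fun z => Subtype.ext (by
      show t * z * t⁻¹ = z
      by_cases hz : z = 1
      · rw [hz]; simp
      rw [hcomm t z ht htH (hordZ z hz) z.2.1, mul_inv_cancel_right]))
    rw [SetLike.mem_coe, hN₀, Subgroup.mem_comap, this]
    exact one_mem M
  · rintro ⟨n, hn, e⟩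
    exact hMg (by
      have : n = gg := Subtype.ext e
      rw [this] at hn
      exact hn)

end Cfsg.Agent.Bender
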