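/-
An odd transitive linear group with an element of prime order fixing one vector (stage 2d of Bender's
theorem, `STAGE2.md`; owner: helper84).

`L` of odd order acts faithfully and transitively on `Z \ 1`, `Z` elementary abelian of exponent two,
`g` has prime order `r` and fixes only `v`.  A minimal normal subgroup is `<a>`, the ring generated
by `a` is a field, `Z` is its orbit of `v` and `g` induces a field automorphism with fixed field of two
elements.

Main result (namespace `Cfsg.Agent.Bender`):
* `exists_galois` : a normal subgroup avoids `g`, meets every coset `g^i`, and is semiregular on `v`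
-/
import Cfsg.Agent.Lib.Bender.HalfOddSplit
import Mathlib.Algebra.Polynomial.Eval.Degree
import Mathlib.Algebra.Polynomial.Roots
import Mathlib.Algebra.Ring.Subring.Basic

set_option autoImplicit false
set_option linter.style.haveILetI false
set_option linter.unusedSectionVars false

namespace Cfsg.Agent.Bender

open Cfsg Involution Polynomial

universe u w

variable {L : Type u} {Z : Type w} [Group L] [Finite L] [CommGroup Z] [MulDistribMulAction L Z]

/-- The action of `L` as additive endomorphisms. -/
def endHom : L →* AddMonoid.End (Additive Z) where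
  toFun h :=
    { toFun := fun x => Additive.ofMul (h • x.toMul)
      map_zero' := congrArg Additive.ofMul (smul_one h)
      map_add' := fun x y => congrArg Additive.ofMul (smul_mul' h x.toMul y.toMul) }
  map_one' := AddMonoidHom.ext fun x => congrArg Additive.ofMul (one_smul L x.toMul)
  map_mul' h k := AddMonoidHom.ext fun x => congrArg Additive.ofMul (mul_smul h k x.toMul)

theorem endHom_apply (h : L) (z : Z) : endHom h (Additive.ofMul z) = Additive.ofMul (h • z) := rfl

theorem endHom_mul_apply (x y : AddMonoid.End (Additive Z)) (z : Additive Z) : (x * y) z = x (y z) :=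
  rfl

theorem end_add (x : AddMonoid.End (Additive Z)) (y z : Additive Z) : x (y + z) = x y + x z :=
  AddMonoidHom.map_add x y z

theorem end_zero (x : AddMonoid.End (Additive Z)) : x (0 : Additive Z) = 0 :=
  AddMonoidHom.map_zero x

theorem end_neg (x : AddMonoid.End (Additive Z)) (y : Additive Z) : x (-y) = -x y :=
  AddMonoidHom.map_neg x y

theorem end_sum (x : AddMonoid.End (Additive Z)) {ι : Type*} (s : Finset ι) (f : ι → Additive Z) :
    x (∑ i ∈ s, f i) = ∑ i ∈ s, x (f i) :=
  map_sum (x : Additive Z →+ Additive Z) f s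

theorem end_sum_apply {ι : Type*} (s : Finset ι) (f : ι → AddMonoid.End (Additive Z)) (y : Additive Z) :
    (∑ i ∈ s, f i) y = ∑ i ∈ s, f i y := by
  classical
  induction s using Finset.induction_on with
  | empty => rfl
  | insert i s hi ih => rw [Finset.sum_insert hi, Finset.sum_insert hi, ← ih]; rfl

theorem endHom_inv_cancel (h : L) (z : Additive Z) :
    endHom (Z := Z) h⁻¹ (endHom (Z := Z) h z) = z := by
  rw [← endHom_mul_apply, ← map_mul, inv_mul_cancel, map_one]
  rfl

/-- Conjugation by the action of `h`. -/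
def endConj (h : L) : AddMonoid.End (Additive Z) →+* AddMonoid.End (Additive Z) where
  toFun x := endHom h * x * endHom h⁻¹
  map_one' := by rw [mul_one, ← map_mul, mul_inv_cancel, map_one]
  map_mul' x y := by
    calc endHom h * (x * y) * endHom h⁻¹
        = endHom h * x * 1 * (y * endHom h⁻¹) := by simp only [mul_one, mul_assoc]
      _ = endHom h * x * (endHom h⁻¹ * endHom h) * (y * endHom h⁻¹) := by
          rw [← map_mul, inv_mul_cancel, map_one]
      _ = _ := by simp only [mul_assoc]
  map_zero' := by simp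
  map_add' x y := by rw [mul_add, add_mul]

theorem endConj_endHom (h k : L) :
    endConj (Z := Z) h (endHom k) = endHom (h * k * h⁻¹) := by
  show endHom h * endHom k * endHom h⁻¹ = _
  rw [map_mul, map_mul]

variable [Finite Z] [FaithfulSMul L Z]

theorem endHom_injective : Function.Injective (endHom (L := L) (Z := Z)) := fun h k e =>
  eq_of_smul_eq_smul fun z : Z => Additive.ofMul.injective
    (DFunLike.congr_fun e (Additive.ofMul z))

/-- **The Galois splitting.** -/
theorem exists_galois (hsq : ∀ z : Z, z * z = 1)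
    (htrans : ∀ x y : Z, x ≠ 1 → y ≠ 1 → ∃ h : L, h • x = y) (hodd : Odd (Nat.card L))
    {v : Z} (hv : v ≠ 1) {g : L} {r : ℕ} (hr : r.Prime) (hg : orderOf g = r) (hgv : g • v = v)
    (honly : ∀ z : Z, z ≠ 1 → g • z = z → z = v) :
    ∃ N : Subgroup L, N.Normal ∧ g ∉ N ∧ (∀ h : L, ∃ i : ℕ, (g ^ i)⁻¹ * h ∈ N) ∧
      ∀ h ∈ N, h • v = v → h = 1 := by
  classical
  haveI : Group.IsSolvable L := S1131.oddSolvable L hodd
  have hg1 : g ≠ 1 := fun e => hr.ne_one (by rw [← hg, e, orderOf_one])
  have htop : (⊤ : Subgroup L) ≠ ⊥ := fun e =>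
    hg1 (Subgroup.mem_bot.1 (e ▸ Subgroup.mem_top g))
  obtain ⟨p, hp, A, hAn, hA0, -, hAc, -, hexp, -⟩ :=
    Solvable.exists_minimal_normal_pGroup (N := (⊤ : Subgroup L)) htop
  have hc : ∀ a ∈ A, ∀ b ∈ A, a * b = b * a := fun a ha b hb =>
    congrArg Subtype.val (mul_comm' (⟨a, ha⟩ : A) ⟨b, hb⟩)
  have hsr : ∀ a ∈ A, ∀ x : Z, x ≠ 1 → a • x = x → a = 1 := fun a ha x hx e =>
    LinearSplit.semiregular hsq htrans hodd hAn hc ha hx e
  obtain ⟨a, ha, ha1⟩ := A.bot_or_exists_ne_one.resolve_left hA0
  have hp2 : Odd p := by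
    haveI := Fact.mk hp
    have h1 : orderOf a = p := orderOf_eq_prime (hexp a ha) ha1
    exact h1 ▸ hodd.of_dvd_nat (orderOf_dvd_natCard a)
  have hconj : ∀ x : L, x * a * x⁻¹ ∈ Subgroup.zpowers a := fun x =>
    LinearSplit.mem_zpowers_of_semiregular hsq hp hp2 hc hexp hsr hv ha ha1 (hAn.conj_mem a ha x)
  have hav : a • v ≠ v := fun e => ha1 (hsr a ha v hv e)
  have hgca : ¬ Commute g a := fun hc' => by
    have hne : a • v ≠ 1 := fun h => hv ((smul_eq_iff_eq_inv_smul a).1 h |>.trans (smul_one _))
    exact hav (honly _ hne (by rw [← mul_smul, hc'.eq, mul_smul, hgv]))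
  -- the ring generated by `a`
  set R : Subring (AddMonoid.End (Additive Z)) := Subring.closure {endHom a} with hR
  have haR : endHom a ∈ R := Subring.subset_closure rfl
  have hpow : ∀ y ∈ Subgroup.zpowers a, endHom (Z := Z) y ∈ R := by
    intro y hy
    obtain ⟨k, rfl⟩ := (IsOfFinOrder.mem_powers_iff_mem_zpowers (isOfFinOrder_of_finite a)).2 hy
    rw [map_pow]
    exact pow_mem haR k
  have hRcomm : ∀ x ∈ R, ∀ y ∈ R, x * y = y * x := by
    intro x hx y hy
    induction hx, hy using Subring.closure_induction₂ with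
    | mem_mem x y hx hy =>
      rw [Set.mem_singleton_iff.1 hx, Set.mem_singleton_iff.1 hy]
    | zero_left x _ => simp
    | zero_right x _ => simp
    | one_left x _ => simp
    | one_right x _ => simp
    | neg_left x y _ _ h => exact Commute.neg_left (show Commute x y from h)
    | neg_right x y _ _ h => exact Commute.neg_right (show Commute x y from h)
    | add_left x y z _ _ _ h1 h2 => simp [add_mul, mul_add, h1, h2]
    | add_right x y z _ _ _ h1 h2 => simp [add_mul, mul_add, h1, h2]
    | mul_left x y z _ _ _ h1 h2 => rw [mul_assoc, h2, ← mul_assoc, h1, mul_assoc]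
    | mul_right x y z _ _ _ h1 h2 => rw [← mul_assoc, h1, mul_assoc, h2, ← mul_assoc]
  have hconjR : ∀ h : L, ∀ x ∈ R, endConj (Z := Z) h x ∈ R := by
    intro h x hx
    induction hx using Subring.closure_induction with
    | mem x hx =>
      rw [Set.mem_singleton_iff.1 hx, endConj_endHom]
      exact hpow _ (hconj h)
    | zero => rw [map_zero]; exact zero_mem R
    | one => rw [map_one]; exact one_mem R
    | neg x _ h => rw [map_neg]; exact neg_mem h
    | add x y _ _ h1 h2 => rw [map_add]; exact add_mem h1 h2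
    | mul x y _ _ h1 h2 => rw [map_mul]; exact mul_mem h1 h2
  -- the cyclic modules are irreducible
  let S : Additive Z → Set (Additive Z) := fun y => (fun c : R => (c : AddMonoid.End (Additive Z)) y) '' Set.univ
  have hSmem : ∀ y, y ∈ S y := fun y => ⟨1, trivial, rfl⟩
  have hSsub : ∀ y z, z ∈ S y → S z ⊆ S y := by
    rintro y _ ⟨c, -, rfl⟩ _ ⟨d, -, rfl⟩
    exact ⟨d * c, trivial, rfl⟩
  have hSmap : ∀ (h : L) y, endHom (Z := Z) h '' S y = S (endHom (Z := Z) h y) := by
    intro h y
    ext z
    constructor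
    · rintro ⟨_, ⟨c, -, rfl⟩, rfl⟩
      refine ⟨⟨_, hconjR h c c.2⟩, trivial, ?_⟩
      show (endHom (Z := Z) h * (c : AddMonoid.End (Additive Z)) * endHom (Z := Z) h⁻¹ :
        AddMonoid.End (Additive Z)) (endHom (Z := Z) h y) = _
      rw [endHom_mul_apply, endHom_mul_apply, endHom_inv_cancel]
    · rintro ⟨c, -, rfl⟩
      refine ⟨_, ⟨⟨_, hconjR h⁻¹ c c.2⟩, trivial, rfl⟩, ?_⟩
      show endHom (Z := Z) h ((endHom (Z := Z) h⁻¹ * (c : AddMonoid.End (Additive Z)) *
        endHom (Z := Z) h⁻¹⁻¹ : AddMonoid.End (Additive Z)) y) = _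
      rw [inv_inv, endHom_mul_apply, endHom_mul_apply, ← endHom_mul_apply (endHom h), ← map_mul,
        mul_inv_cancel, map_one]
      rfl
  have hScard : ∀ y z : Additive Z, y ≠ 0 → z ≠ 0 → Nat.card (S y) = Nat.card (S z) := by
    intro y z hy hz
    obtain ⟨h, hh⟩ := htrans y.toMul z.toMul hy hz
    have e : endHom (Z := Z) h y = z := congrArg Additive.ofMul hh
    rw [← e, ← hSmap]
    refine (Nat.card_image_of_injective (fun p q hpq => ?_) _).symm
    rw [← endHom_inv_cancel (Z := Z) h p, hpq, endHom_inv_cancel]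
  have hirr : ∀ y z : Additive Z, y ≠ 0 → z ≠ 0 → z ∈ S y → S z = S y := fun y z hy hz hzy =>
    Set.eq_of_subset_of_ncard_le (hSsub y z hzy)
      (by rw [← Nat.card_coe_set_eq, ← Nat.card_coe_set_eq, hScard y z hy hz]) (Set.toFinite _)
  -- so the ring is a field
  have hdom : ∀ c ∈ R, ∀ x : Additive Z, x ≠ 0 → c x = 0 → c = 0 := by
    intro c hc x hx hcx
    refine DFunLike.ext _ _ fun y => ?_
    by_contra hcy
    have hy : y ≠ 0 := fun e => hcy (by rw [e]; exact end_zero c)
    have hxy : x + y ≠ 0 := fun e => hcy (by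
      rw [eq_neg_of_add_eq_zero_right e, end_neg, hcx, neg_zero]; rfl)
    have hcy' : c y ∈ S (x + y) := ⟨⟨c, hc⟩, trivial, by
      show c (x + y) = c y
      rw [end_add, hcx, zero_add]⟩
    have h1 : S (c y) = S (x + y) := hirr _ _ hxy hcy hcy'
    have h2 : S (c y) = S y := hirr _ _ hy hcy ⟨⟨c, hc⟩, trivial, rfl⟩
    obtain ⟨d, -, hd⟩ : x + y ∈ S y := h2 ▸ h1 ▸ hSmem (x + y)
    have hxS : x ∈ S y := ⟨d - 1, trivial, by
      show (d : AddMonoid.End (Additive Z)) y - y = x
      rw [show (d : AddMonoid.End (Additive Z)) y = x + y from hd, add_sub_cancel_right]⟩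
    obtain ⟨e, -, he⟩ : y ∈ S x := (hirr _ _ hy hx hxS).symm ▸ hSmem y
    apply hcy
    rw [← show (e : AddMonoid.End (Additive Z)) x = y from he, ← endHom_mul_apply, hRcomm c hc _ e.2,
      endHom_mul_apply, hcx, end_zero]
    rfl
  letI : CommRing R := { (inferInstance : Ring R) with mul_comm := fun x y => Subtype.ext (hRcomm x x.2 y y.2) }
  have hvA : Additive.ofMul v ≠ (0 : Additive Z) := hv
  haveI : Nontrivial R := ⟨⟨0, 1, fun e => hvA (by
    have := DFunLike.congr_fun (congrArg Subtype.val e) (Additive.ofMul v)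
    exact this.symm)⟩⟩
  haveI : NoZeroDivisors R := ⟨fun {x y} hxy => by
    rw [or_iff_not_imp_left]
    intro hx
    refine Subtype.ext (DFunLike.ext _ _ fun z => ?_)
    by_contra hyz
    refine hx (Subtype.ext (hdom x x.2 _ hyz ?_))
    exact DFunLike.congr_fun (congrArg Subtype.val hxy) z⟩
  haveI : IsDomain R := NoZeroDivisors.to_isDomain R
  haveI : Finite (AddMonoid.End (Additive Z)) :=
    Finite.of_injective (fun f => ⇑f) DFunLike.coe_injective
  -- the automorphisms
  let σ : L → (R →+* R) := fun h => (endConj (Z := Z) h).restrict R R (hconjR h)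
  have hσv : ∀ h : L, h • v = v → ∀ c : R,
      ((σ h c : R) : AddMonoid.End (Additive Z)) (Additive.ofMul v) =
        endHom h ((c : AddMonoid.End (Additive Z)) (Additive.ofMul v)) := by
    intro h hh c
    show (endHom (Z := Z) h * (c : AddMonoid.End (Additive Z)) * endHom (Z := Z) h⁻¹ :
      AddMonoid.End (Additive Z)) (Additive.ofMul v) = _
    rw [endHom_mul_apply, endHom_mul_apply, endHom_apply, inv_smul_eq_iff.2 hh.symm]
  have hfix : ∀ c : R, σ g c = c → c = 0 ∨ c = 1 := by
    intro c hc
    by_cases h0 : (c : AddMonoid.End (Additive Z)) (Additive.ofMul v) = 0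
    · exact Or.inl (Subtype.ext (hdom c c.2 _ hvA h0))
    · right
      have h1 := hσv g hgv c
      rw [hc] at h1
      have h2 := honly _ h0 (congrArg Additive.toMul h1).symm
      refine sub_eq_zero.1 (Subtype.ext (hdom _ (c - 1).2 (Additive.ofMul v) hvA ?_))
      show (c : AddMonoid.End (Additive Z)) (Additive.ofMul v) - Additive.ofMul v = 0
      rw [sub_eq_zero]
      exact congrArg Additive.ofMul h2
  let β : ℕ → R := fun i => ⟨endHom (g ^ i * a * (g ^ i)⁻¹), hpow _ (hconj _)⟩
  have hβeq : ∀ i j : ℕ, β i = β j → g ^ i * a * (g ^ i)⁻¹ = g ^ j * a * (g ^ j)⁻¹ := fun i j e =>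
    endHom_injective (congrArg Subtype.val e)
  have hβσ : ∀ i, σ g (β i) = β (i + 1) := fun i => Subtype.ext (by
    show endConj g (endHom _) = endHom _
    rw [endConj_endHom, pow_succ']
    congr 1
    group)
  have hβr : β r = β 0 := Subtype.ext (by
    show endHom _ = endHom _
    rw [← hg, pow_orderOf_eq_one, pow_zero])
  have hβinj : ∀ i, i < r → β i = β 0 → i = 0 := by
    intro i hi e
    by_contra hi0
    have h1 : Commute (g ^ i) a := by
      have h2 := hβeq i 0 e
      rw [pow_zero, one_mul, inv_one, mul_one, mul_inv_eq_iff_eq_mul] at h2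
      exact h2
    obtain ⟨k, hk⟩ := Nat.exists_mul_mod_eq_one_of_coprime
      (((hr.coprime_iff_not_dvd).2 fun h => hi0 (Nat.eq_zero_of_dvd_of_lt h hi)).symm) hr.one_lt
    refine hgca ?_
    have h3 := h1.pow_left k
    rwa [← pow_mul, ← pow_mod_orderOf, hg, hk.2, pow_one] at h3
  -- every automorphism is a power of that of `g`
  have hgal : ∀ h : L, ∃ i : ℕ, Commute ((g ^ i)⁻¹ * h) a := by
    intro h
    set P : R[X] := ∏ i ∈ Finset.range r, (X - C (β i)) with hP
    have hPfix : P.map (σ g) = P := by
      have h1 := Finset.prod_range_succ' (fun i => X - C (β i)) r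
      rw [Finset.prod_range_succ] at h1
      rw [hP, Polynomial.map_prod]
      simp only [Polynomial.map_sub, Polynomial.map_X, Polynomial.map_C, hβσ]
      rw [hβr] at h1
      exact (mul_right_cancel₀ (X_sub_C_ne_zero _) h1).symm
    have hPh : P.map (σ h) = P := by
      refine Polynomial.ext fun k => ?_
      rw [coeff_map]
      rcases hfix (P.coeff k) (by rw [← coeff_map, hPfix]) with e | e <;> rw [e] <;> simp
    have hroot : P.eval (σ h (β 0)) = 0 := by
      rw [← hPh, eval_map, eval₂_hom, hP, eval_prod,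
        Finset.prod_eq_zero (Finset.mem_range.2 hr.pos) (by simp), map_zero]
    rw [hP, eval_prod, Finset.prod_eq_zero_iff] at hroot
    obtain ⟨i, -, hi⟩ := hroot
    rw [eval_sub, eval_X, eval_C, sub_eq_zero] at hi
    refine ⟨i, ?_⟩
    have h1 : h * a * h⁻¹ = g ^ i * a * (g ^ i)⁻¹ := by
      refine endHom_injective (Z := Z) ?_
      have := congrArg Subtype.val hi
      rw [← endConj_endHom]
      convert this using 1
      show endConj h (endHom a) = endConj h (endHom (g ^ 0 * a * (g ^ 0)⁻¹))
      simp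
    show (g ^ i)⁻¹ * h * a = a * ((g ^ i)⁻¹ * h)
    calc (g ^ i)⁻¹ * h * a = (g ^ i)⁻¹ * (h * a * h⁻¹) * h := by group
      _ = a * ((g ^ i)⁻¹ * h) := by rw [h1]; group
  -- the orbit of `v` is everything
  have hall : ∀ u : Additive Z, ∃ c : R, (c : AddMonoid.End (Additive Z)) (Additive.ofMul v) = u := by
    intro u
    let Q : R[X] := ∏ i ∈ (Finset.range r).erase 0, (X - C (β i))
    have hQ0 : Q.eval (β 0) ≠ 0 := by
      rw [eval_prod, Finset.prod_ne_zero_iff]
      intro i hi
      rw [eval_sub, eval_X, eval_C, sub_ne_zero]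
      exact fun e => (Finset.mem_erase.1 hi).1 (hβinj i (Finset.mem_range.1 (Finset.mem_erase.1 hi).2) e.symm)
    have hQi : ∀ i ∈ (Finset.range r).erase 0, Q.eval (β i) = 0 := fun i hi => by
      rw [eval_prod]
      exact Finset.prod_eq_zero hi (by simp)
    have hin : ∀ j : ℕ, ∃ c : R, ∑ i ∈ Finset.range r,
        ((β i ^ j : R) : AddMonoid.End (Additive Z)) (endHom (g ^ i) u) =
          (c : AddMonoid.End (Additive Z)) (Additive.ofMul v) := by
      intro j
      set q := ∑ i ∈ Finset.range r, ((β i ^ j : R) : AddMonoid.End (Additive Z)) (endHom (g ^ i) u) with hq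
      have hstep : ∀ i, endHom g (((β i ^ j : R) : AddMonoid.End (Additive Z)) (endHom (g ^ i) u)) =
          ((β (i + 1) ^ j : R) : AddMonoid.End (Additive Z)) (endHom (g ^ (i + 1)) u) := by
        intro i
        rw [← hβσ, ← map_pow]
        show _ = (endHom (Z := Z) g * ((β i ^ j : R) : AddMonoid.End (Additive Z)) *
          endHom (Z := Z) g⁻¹ : AddMonoid.End (Additive Z)) (endHom (g ^ (i + 1)) u)
        rw [endHom_mul_apply, endHom_mul_apply, pow_succ' g, map_mul, endHom_mul_apply, endHom_inv_cancel]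
      have hqfix : endHom g q = q := by
        rw [hq, end_sum]
        simp only [hstep]
        have h1 := Finset.sum_range_succ'
          (fun i => ((β i ^ j : R) : AddMonoid.End (Additive Z)) (endHom (g ^ i) u)) r
        rw [Finset.sum_range_succ] at h1
        rw [hβr, show g ^ r = g ^ 0 by rw [← hg, pow_orderOf_eq_one, pow_zero]] at h1
        exact (add_right_cancel h1).symm
      by_cases h0 : q = 0
      · exact ⟨0, by rw [h0]; rfl⟩
      · exact ⟨1, by
          show q = Additive.ofMul v
          exact congrArg Additive.ofMul (honly q.toMul h0 (congrArg Additive.toMul hqfix))⟩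
    choose c hc using hin
    obtain ⟨e, he⟩ : ∃ e : R, e * Q.eval (β 0) = 1 := by
      obtain ⟨e, he⟩ := (Finite.isField_of_domain R).mul_inv_cancel hQ0
      exact ⟨e, by rw [mul_comm, he]⟩
    refine ⟨e * ∑ j ∈ Finset.range (Q.natDegree + 1), Q.coeff j * c j, ?_⟩
    have h1 : ((Q.eval (β 0) : R) : AddMonoid.End (Additive Z)) u =
        ((∑ j ∈ Finset.range (Q.natDegree + 1), Q.coeff j * c j : R) : AddMonoid.End (Additive Z))
          (Additive.ofMul v) := by
      have h2 : ((Q.eval (β 0) : R) : AddMonoid.End (Additive Z)) u = ∑ i ∈ Finset.range r,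
          ((Q.eval (β i) : R) : AddMonoid.End (Additive Z)) (endHom (g ^ i) u) := by
        rw [Finset.sum_eq_single 0]
        · rw [pow_zero, map_one]; rfl
        · intro i hi hi0
          rw [hQi i (Finset.mem_erase.2 ⟨hi0, hi⟩)]
          rfl
        · intro h; exact absurd (Finset.mem_range.2 hr.pos) h
      rw [h2]
      simp only [eval_eq_sum_range, AddSubmonoidClass.coe_finsetSum, end_sum_apply,
        MulMemClass.coe_mul, endHom_mul_apply]
      rw [Finset.sum_comm]
      refine Finset.sum_congr rfl fun j _ => ?_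
      rw [← hc j, end_sum]
    rw [MulMemClass.coe_mul, endHom_mul_apply, ← h1, ← endHom_mul_apply, ← MulMemClass.coe_mul, he]
    rfl
  refine ⟨Subgroup.centralizer ({a} : Set L), ⟨fun n hn x => ?_⟩, fun h => hgca ?_,
    fun h => ?_, fun h hh hhv => ?_⟩
  · rw [Subgroup.mem_centralizer_singleton_iff] at hn ⊢
    obtain ⟨k, hk⟩ := Subgroup.mem_zpowers_iff.1 (hconj x⁻¹)
    rw [inv_inv] at hk
    have h1 : Commute n (x⁻¹ * a * x) := hk ▸ (Commute.zpow_right hn k)
    calc x * n * x⁻¹ * a = x * (n * (x⁻¹ * a * x)) * x⁻¹ := by group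
      _ = x * ((x⁻¹ * a * x) * n) * x⁻¹ := by rw [h1.eq]
      _ = a * (x * n * x⁻¹) := by group
  · exact Subgroup.mem_centralizer_singleton_iff.1 h
  · obtain ⟨i, hi⟩ := hgal h
    exact ⟨i, Subgroup.mem_centralizer_singleton_iff.2 hi⟩
  · rw [Subgroup.mem_centralizer_singleton_iff] at hh
    have hca : ∀ c ∈ R, endHom (Z := Z) h * c = c * endHom h := by
      intro c hc
      induction hc using Subring.closure_induction with
      | mem x hx => rw [Set.mem_singleton_iff.1 hx, ← map_mul, ← map_mul, hh]
      | zero => simp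
      | one => simp
      | neg x _ e => exact Commute.neg_right (show Commute (endHom (Z := Z) h) x from e)
      | add x y _ _ e1 e2 => simp [mul_add, add_mul, e1, e2]
      | mul x y _ _ e1 e2 => rw [← mul_assoc, e1, mul_assoc, e2, mul_assoc]
    refine endHom_injective (Z := Z) (DFunLike.ext _ _ fun u => ?_)
    obtain ⟨c, rfl⟩ := hall u
    rw [← endHom_mul_apply, hca c c.2, endHom_mul_apply, endHom_apply, hhv, map_one]
    rfl

end Cfsg.Agent.Bender
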