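/-
Centralisers of inverted elements of a two-point stabiliser (S1223; owner: helper2).

* `odd_centralizer_of_inverted` : `u ∉ H` an involution inverting `j ≠ 1` in `H ∩ H ^ u`: the
  centraliser of `j` has odd order, as soon as two commuting involutions force those of `H` to
  commute (stage 2a of the assembly plan)
-/
import Cfsg.Agent.Lib.Bender.CoreTwo
import Cfsg.Agent.Lib.Bender.Setup
import Cfsg.Agent.Lib.Bender.Signalizer

set_option autoImplicit false
set_option linter.style.haveILetI false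

namespace Cfsg.Agent.Bender

open Cfsg Involution Aschbacher

universe u

variable {G : Type u} [Group G] [Finite G]

omit [Finite G] in
theorem eq_one_of_odd_of_two_pow {j : G} {n : ℕ} (hj : Odd (orderOf j)) (h : j ^ 2 ^ n = 1) :
    j = 1 :=
  orderOf_eq_one_iff.1 (Nat.eq_one_of_dvd_coprimes ((Nat.coprime_two_left.2 hj).pow_left n)
    (orderOf_dvd_of_pow_eq_one h) dvd_rfl)

/-- An element centralised by `z` and inverted by `u`, `z * u` of odd order, has order at most two. -/
theorem eq_one_of_product_odd {z u j : G} (hz : orderOf z = 2) (hu : orderOf u = 2)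
    (hodd : Odd (orderOf (z * u))) (hj : Odd (orderOf j)) (hc : Commute z j)
    (hinv : u * j * u⁻¹ = j⁻¹) : j = 1 := by
  obtain ⟨k, hk, hkz⟩ := RankThree.exists_conj_of_odd hz hu hodd
  obtain ⟨e, rfl⟩ := Subgroup.mem_zpowers_iff.1 hk
  set k := (z * u) ^ e with hkdef
  have hku : u * k * u⁻¹ = k⁻¹ := by
    have h := (RankThree.semiconj_product' hz hu).zpow_right e
    rw [inv_zpow] at h
    rw [h.eq, mul_inv_cancel_right]
  have hcy : u * (k * j * k⁻¹) * u⁻¹ = k * j * k⁻¹ := by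
    rw [← hkz]
    calc k * z * k⁻¹ * (k * j * k⁻¹) * (k * z * k⁻¹)⁻¹ = k * (z * j * z⁻¹) * k⁻¹ := by group
      _ = k * j * k⁻¹ := by rw [hc.eq, mul_inv_cancel_right]
  have h1 : k⁻¹ * j⁻¹ * k = k * j * k⁻¹ := by
    rw [← hcy]
    calc k⁻¹ * j⁻¹ * k = (u * k * u⁻¹) * (u * j * u⁻¹) * (u * k * u⁻¹)⁻¹ := by
          rw [hku, hinv, inv_inv]
      _ = u * (k * j * k⁻¹) * u⁻¹ := by group
  have h2 : k * k * j * (k * k)⁻¹ = j⁻¹ := by
    calc k * k * j * (k * k)⁻¹ = k * (k * j * k⁻¹) * k⁻¹ := by group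
      _ = j⁻¹ := by rw [← h1]; group
  have h4 : Commute ((k * k) ^ 2) j := by
    show (k * k) ^ 2 * j = j * (k * k) ^ 2
    generalize k * k = g at h2
    have hgj : g * j = j⁻¹ * g := mul_inv_eq_iff_eq_mul.1 h2
    have hgj' : g * j⁻¹ = j * g := by
      rw [← mul_inv_eq_iff_eq_mul]
      calc g * j⁻¹ * g⁻¹ = (g * j * g⁻¹)⁻¹ := by group
        _ = j := by rw [h2, inv_inv]
    rw [sq, mul_assoc, hgj, ← mul_assoc, hgj', mul_assoc]
  have hko : Odd (orderOf (k * k)) := by
    refine hodd.of_dvd_nat (orderOf_dvd_of_pow_eq_one ?_)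
    have hke : k ^ orderOf (z * u) = 1 := by
      rw [hkdef, ← zpow_natCast, ← zpow_mul, mul_comm, zpow_mul, zpow_natCast, pow_orderOf_eq_one,
        one_zpow]
    rw [(Commute.refl k).mul_pow, hke, one_mul]
  have h5 : Commute (k * k) j := by
    obtain ⟨l, hl⟩ := hko
    have : ((k * k) ^ 2) ^ (l + 1) = k * k := by
      rw [← pow_mul, show 2 * (l + 1) = orderOf (k * k) + 1 by omega, pow_succ, pow_orderOf_eq_one,
        one_mul]
    exact this ▸ h4.pow_left (l + 1)
  rw [h5.eq, mul_inv_cancel_right] at h2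
  exact eq_one_of_odd_of_two_pow (n := 1) hj
    (by rw [pow_one, sq]; nth_rw 2 [h2]; exact mul_inv_cancel j)

/-- The centraliser of an inverted element of a two-point stabiliser has odd order. -/
theorem odd_centralizer_of_inverted {H : Subgroup G} (hH : IsStronglyEmbedded H)
    (hcomm : (∃ x y : G, x ≠ 1 ∧ y ≠ 1 ∧ x ≠ y ∧ x * x = 1 ∧ y * y = 1 ∧ x * y = y * x) →
      ∀ s ∈ H, ∀ t ∈ H, orderOf s = 2 → orderOf t = 2 → Commute s t)
    {u : G} (hu : orderOf u = 2) (huH : u ∉ H) {j : G}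
    (hj : j ∈ H ⊓ H.map (MulAut.conj u).toMonoidHom) (hj1 : j ≠ 1) (hinv : u * j * u⁻¹ = j⁻¹) :
    Odd (Nat.card ↥(Subgroup.centralizer ({j} : Set G))) := by
  have PC := pointClass_of_stronglyEmbedded hH
  have hjodd : Odd (orderOf j) :=
    (hH.2.2 u huH).of_dvd_nat (Subgroup.orderOf_dvd_natCard _ hj)
  rw [← Nat.not_even_iff_odd]
  intro heven
  obtain ⟨z, hzC, hz⟩ := Involution.exists_involution_mem heven
  have hzj : Commute z j := mem_centralizer.1 hzC
  rcases Nat.even_or_odd (orderOf (z * u)) with he | ho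
  swap
  · exact hj1 (eq_one_of_product_odd hz hu ho hjodd hzj hinv)
  have hpt : fixPt H z = fixPt H u := by
    by_contra hne
    exact Nat.not_even_iff_odd.2 (PC.odd_order hz hu hne) he
  set d := fixPt H u with hd
  have hjd : j • d = d := hpt ▸ PC.commute_fix hz hzj.symm
  -- two commuting involutions
  obtain ⟨r, hr, hrz, hru, -⟩ := exists_commuting_involution hz hu he
  have htwo : ∃ x y : G, x ≠ 1 ∧ y ≠ 1 ∧ x ≠ y ∧ x * x = 1 ∧ y * y = 1 ∧ x * y = y * x := by
    have hex : ∀ {a : G}, orderOf a = 2 → Commute r a → a ≠ r →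
        ∃ x y : G, x ≠ 1 ∧ y ≠ 1 ∧ x ≠ y ∧ x * x = 1 ∧ y * y = 1 ∧ x * y = y * x :=
      fun {a} ha hc hne => ⟨r, a, ne_one hr, ne_one ha, hne.symm, mul_self hr, mul_self ha, hc.eq⟩
    by_cases h : z = r
    · refine hex hu hru fun e => ?_
      rw [h, ← e, mul_self hu, orderOf_one] at he
      exact absurd he (by decide)
    · exact hex hz hrz h
  -- the involutions at the point of `u` commute
  have hcu : Commute u (j * u * j⁻¹) := by
    induction hd' : d using QuotientGroup.induction_on with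
    | _ g =>
      have hmem : ∀ s : G, orderOf s = 2 → s • d = d → g⁻¹ * s * g ∈ H := fun s _ h => by
        rw [hd', smul_mk_eq_iff] at h
        exact h
      have hou : orderOf (j * u * j⁻¹) = 2 := (Involution.orderOf_conj j u).trans hu
      have hord : ∀ s : G, orderOf s = 2 → orderOf (g⁻¹ * s * g) = 2 := fun s hs => by
        have := Involution.orderOf_conj g⁻¹ s
        rwa [inv_inv, hs] at this
      have hfix : (j * u * j⁻¹) • d = d := by
        rw [mul_smul, mul_smul, inv_smul_eq_iff.2 hjd.symm, PC.smul_pt hu, hjd]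
      have := (hcomm htwo _ (hmem u hu (PC.smul_pt hu)) _ (hmem _ hou hfix)
        (hord u hu) (hord _ hou)).map (MulAut.conj g).toMonoidHom
      simpa [mul_assoc] using this
  have h4 : (j⁻¹ * j⁻¹) * (j⁻¹ * j⁻¹) = 1 := by
    have e : u * (j * u * j⁻¹) = j⁻¹ * j⁻¹ := by
      rw [← mul_assoc, ← mul_assoc]
      nth_rw 2 [← inv_eq hu]
      rw [hinv]
    have hsq := hcu.mul_pow 2
    rw [e, sq, sq, sq, mul_self hu, one_mul,
      mul_self ((Involution.orderOf_conj j u).trans hu)] at hsq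
    exact hsq
  refine hj1 (eq_one_of_odd_of_two_pow (n := 2) hjodd ?_)
  rw [← inv_eq_one, ← inv_pow]
  calc (j⁻¹) ^ 2 ^ 2 = (j⁻¹ * j⁻¹) * (j⁻¹ * j⁻¹) := by group
    _ = 1 := h4

end Cfsg.Agent.Bender
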