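import Cfsg.Agent.EqLemmas
/-!
# Lower bounds for the dimension of faithful modules in characteristic two (owner: helper38)

* `Good P N` : `2 ^ a ≡ 1 (mod P)` only if `N ∣ a`
* `rank_sub_one_ge` : an element of odd prime power order `P` moves at least `N` dimensions
* `range_pow_sub_one_le`, `range_mul_sub_one_le` : monotonicity
* `card_le_finrank_of_abelian` : `S` normalising an abelian subgroup of odd order not centralised
  by an involution lying in every nontrivial cyclic subgroup of `S` needs dimension `|S|`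
-/

set_option autoImplicit false
set_option linter.style.haveILetI false

namespace Cfsg.Agent.Bender

open Module

/-- `P` divides `2 ^ a - 1` only if `N ∣ a`. -/
def Good (P N : ℕ) : Prop := ∀ a : ℕ, P ∣ 2 ^ a - 1 → N ∣ a

variable {V : Type*} [AddCommGroup V] [Module (ZMod 2) V] [Module.Finite (ZMod 2) V]

theorem finite_module : Finite V := Module.finite_of_finite (ZMod 2)

theorem range_pow_sub_one_le (f : Module.End (ZMod 2) V) (j : ℕ) :
    LinearMap.range (f ^ j - 1) ≤ LinearMap.range (f - 1) := by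
  rw [← mul_geom_sum f j]
  exact LinearMap.range_comp_le_range _ _

theorem range_mul_sub_one_le (f g : Module.End (ZMod 2) V) :
    finrank (ZMod 2) (LinearMap.range (f * g - 1)) ≤
      finrank (ZMod 2) (LinearMap.range (f - 1)) + finrank (ZMod 2) (LinearMap.range (g - 1)) := by
  have e : f * g - 1 = f * (g - 1) + (f - 1) := by rw [mul_sub, mul_one]; abel
  have h : LinearMap.range (f * g - 1) ≤
      (LinearMap.range (g - 1)).map f ⊔ LinearMap.range (f - 1) := by
    rintro _ ⟨v, rfl⟩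
    rw [e, LinearMap.add_apply]
    exact Submodule.add_mem_sup (Submodule.mem_map_of_mem (LinearMap.mem_range_self _ _))
      (LinearMap.mem_range_self _ _)
  refine (Submodule.finrank_mono h).trans ((Submodule.finrank_add_le_finrank_add_finrank _ _).trans ?_)
  rw [add_comm]
  exact Nat.add_le_add_left (Submodule.finrank_map_le _ _) _

/-- An element of odd prime power order `P` moves at least `N` dimensions. -/
theorem rank_sub_one_ge {P N p k : ℕ} (hp : p.Prime) (hp2 : p ≠ 2) (hP : P = p ^ (k + 1))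
    (hgood : Good P N) (f : Module.End (ZMod 2) V) (hf : f ^ P = 1) (hf1 : f ^ p ^ k ≠ 1) :
    N ≤ finrank (ZMod 2) (LinearMap.range (f - 1)) := by
  classical
  haveI : Finite V := finite_module
  haveI := Fintype.ofFinite V
  have hP0 : 0 < P := hP ▸ pow_pos hp.pos _
  let u : (Module.End (ZMod 2) V)ˣ := ⟨f, f ^ (P - 1),
    by rw [← pow_succ', Nat.sub_add_cancel hP0, hf], by rw [← pow_succ, Nat.sub_add_cancel hP0, hf]⟩
  have huP : u ^ P = 1 := Units.ext (by rw [Units.val_pow_eq_pow_val]; exact hf)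
  have hord : orderOf u = P := by
    haveI := Fact.mk hp
    rw [hP]
    refine orderOf_eq_prime_pow (fun h => hf1 ?_) (hP ▸ huP)
    have := congrArg Units.val h
    rwa [Units.val_pow_eq_pow_val] at this
  set C := LinearMap.ker (f ^ p ^ k - 1) with hC
  have hmemC : ∀ v, v ∈ C ↔ (f ^ p ^ k) v = v := fun v => by
    rw [hC, LinearMap.mem_ker, LinearMap.sub_apply, sub_eq_zero]; rfl
  have hCinv : ∀ (g : Subgroup.zpowers u) (v : V), v ∉ C →
      ((g : (Module.End (ZMod 2) V)ˣ) : Module.End (ZMod 2) V) v ∉ C := by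
    intro g v hv h
    refine hv ((hmemC v).2 ?_)
    have hc : Commute ((g : (Module.End (ZMod 2) V)ˣ)) (u ^ p ^ k) := by
      obtain ⟨z, hz⟩ := Subgroup.mem_zpowers_iff.1 g.2
      rw [← hz]
      exact ((Commute.refl u).zpow_left z).pow_right _
    have h' := congrArg (fun w => (((g : (Module.End (ZMod 2) V)ˣ)⁻¹ : (Module.End (ZMod 2) V)ˣ) :
      Module.End (ZMod 2) V) w) ((hmemC _).1 h)
    rw [← Module.End.mul_apply, ← Module.End.mul_apply, ← Module.End.mul_apply, ← Units.val_mul,
      inv_mul_cancel] at h'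
    have e : (f ^ p ^ k) * ((g : (Module.End (ZMod 2) V)ˣ) : Module.End (ZMod 2) V) =
        ((g : (Module.End (ZMod 2) V)ˣ) : Module.End (ZMod 2) V) * f ^ p ^ k := by
      have := congrArg Units.val hc.symm.eq
      rwa [Units.val_mul, Units.val_mul, Units.val_pow_eq_pow_val] at this
    rw [mul_assoc, e, ← mul_assoc, ← Units.val_mul, inv_mul_cancel, Units.val_one, one_mul,
      Module.End.one_apply] at h'
    exact h'
  letI act : MulAction (Subgroup.zpowers u) {v : V // v ∉ C} :=
    { smul := fun g v => ⟨_, hCinv g v.1 v.2⟩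
      one_smul := fun v => rfl
      mul_smul := fun g g' v => rfl }
  have hfree : ∀ v : {v : V // v ∉ C}, MulAction.stabilizer (Subgroup.zpowers u) v = ⊥ := by
    intro v
    refine eq_bot_iff.2 fun g hg => Subgroup.mem_bot.2 ?_
    by_contra hg1
    refine v.2 ((hmemC v.1).2 ?_)
    -- the fixing powers form a subgroup containing the element of order `p`
    let W : Subgroup (Module.End (ZMod 2) V)ˣ :=
      { carrier := {w | (w : Module.End (ZMod 2) V) v.1 = v.1}
        one_mem' := rfl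
        mul_mem' := fun {a b} (ha : _ = _) (hb : _ = _) => by
          show ((a * b : (Module.End (ZMod 2) V)ˣ) : Module.End (ZMod 2) V) v.1 = v.1
          rw [Units.val_mul, Module.End.mul_apply, hb, ha]
        inv_mem' := fun {a} (ha : _ = _) => by
          show ((a⁻¹ : (Module.End (ZMod 2) V)ˣ) : Module.End (ZMod 2) V) v.1 = v.1
          conv_lhs => rw [← ha]
          rw [← Module.End.mul_apply, ← Units.val_mul, inv_mul_cancel]
          rfl }
    have hgW : (g : (Module.End (ZMod 2) V)ˣ) ∈ W :=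
      congrArg Subtype.val (MulAction.mem_stabilizer_iff.1 hg)
    obtain ⟨j, hj⟩ := Subgroup.mem_zpowers_iff.1 g.2
    have hnd : ¬ ((P : ℤ) ∣ j) := fun ⟨l, hl⟩ => hg1 (Subtype.ext (by
      rw [← hj, hl, zpow_mul, zpow_natCast, huP, one_zpow]; rfl))
    have hg2 : Nat.gcd j.natAbs P ∣ p ^ k := by
      obtain ⟨i, hi, e⟩ := (Nat.dvd_prime_pow hp).1
        ((Nat.gcd_dvd_right j.natAbs P).trans (dvd_of_eq hP))
      rw [e]
      refine pow_dvd_pow p ?_
      by_contra hik
      refine hnd (Int.natCast_dvd.2 ?_)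
      rw [hP, show k + 1 = i by omega, ← e]
      exact Nat.gcd_dvd_left _ _
    obtain ⟨l, hl⟩ := hg2
    have hmem : u ^ (Nat.gcd j.natAbs P : ℤ) ∈ W := by
      have hb := Int.gcd_eq_gcd_ab j (P : ℤ)
      rw [Int.gcd] at hb
      simp only [Int.natAbs_natCast] at hb
      rw [show ((Nat.gcd j.natAbs P : ℕ) : ℤ) = j * j.gcdA P + (P : ℤ) * j.gcdB P from hb, zpow_add,
        zpow_mul, zpow_mul, hj, zpow_natCast, huP, one_zpow, mul_one]
      exact W.zpow_mem hgW _
    have := W.pow_mem hmem l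
    rw [zpow_natCast, ← pow_mul, ← hl] at this
    have h' : ((u ^ p ^ k : (Module.End (ZMod 2) V)ˣ) : Module.End (ZMod 2) V) v.1 = v.1 := this
    rwa [Units.val_pow_eq_pow_val] at h'
  have hcount := Nat.card_congr (MulAction.selfEquivOrbitsQuotientProd hfree)
  rw [Nat.card_prod, Nat.card_zpowers, hord] at hcount
  have hsplit : Nat.card {v : V // v ∉ C} = Nat.card V - Nat.card C := by
    rw [Nat.card_eq_fintype_card, Fintype.card_subtype_compl, Nat.card_eq_fintype_card,
      Nat.card_eq_fintype_card]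
  have hcV : Nat.card V = 2 ^ finrank (ZMod 2) V := by
    rw [Module.natCard_eq_pow_finrank (K := ZMod 2), Nat.card_zmod]
  have hcC : Nat.card C = 2 ^ finrank (ZMod 2) C := by
    rw [Module.natCard_eq_pow_finrank (K := ZMod 2), Nat.card_zmod]
  rw [hsplit, hcV, hcC] at hcount
  have hle : finrank (ZMod 2) C ≤ finrank (ZMod 2) V := Submodule.finrank_le C
  obtain ⟨d, hd⟩ := Nat.exists_eq_add_of_le hle
  rw [hd, pow_add, ← Nat.mul_sub_one] at hcount
  have hd0 : d ≠ 0 := by
    intro h0
    rw [h0, add_zero] at hd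
    refine hf1 (LinearMap.ext fun v => ?_)
    rw [Module.End.one_apply, ← hmemC, Submodule.eq_top_of_finrank_eq hd.symm]
    trivial
  have hdvd : P ∣ 2 ^ d - 1 := by
    refine Nat.Coprime.dvd_of_dvd_mul_left ?_ (Dvd.intro_left _ hcount.symm)
    rw [hP]
    exact ((Nat.coprime_primes hp Nat.prime_two).2 hp2).pow _ _
  have hN := Nat.le_of_dvd (Nat.pos_of_ne_zero hd0) (hgood d hdvd)
  have hker : finrank (ZMod 2) (LinearMap.ker (f - 1)) ≤ finrank (ZMod 2) C := by
    refine Submodule.finrank_mono fun v hv => (hmemC v).2 ?_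
    rw [LinearMap.mem_ker, LinearMap.sub_apply, sub_eq_zero] at hv
    rw [Module.End.pow_apply]
    exact Function.iterate_fixed hv _
  have := LinearMap.finrank_range_add_finrank_ker (f - 1)
  omega

/-- `S` normalising an abelian subgroup of odd order which is not centralised by an involution in
every nontrivial cyclic subgroup of `S` needs dimension `|S|`. -/
theorem card_le_finrank_of_abelian {G : Type*} [Group G] [Finite G]
    (ρ : G →* Module.End (ZMod 2) V) (hρ : Function.Injective ρ) {A S : Subgroup G}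
    (hA : ∀ a ∈ A, ∀ b ∈ A, a * b = b * a) (hodd : Odd (Nat.card A))
    (hSA : ∀ s ∈ S, ∀ a ∈ A, s * a * s⁻¹ ∈ A) {t : G} (ht : ∀ s ∈ S, s ≠ 1 → t ∈ Subgroup.zpowers s)
    (hnc : ∃ a ∈ A, t * a * t⁻¹ ≠ a) : Nat.card S ≤ finrank (ZMod 2) V := by
  classical
  haveI : Finite V := finite_module
  obtain ⟨a₀, ha₀, hta⟩ := hnc
  set T : Set (Module.End (ZMod 2) V) := ρ '' A with hT
  set E := Algebra.adjoin (ZMod 2) T with hE
  have hcomm : ∀ x ∈ T, ∀ y ∈ T, x * y = y * x := by
    rintro _ ⟨a, ha, rfl⟩ _ ⟨b, hb, rfl⟩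
    rw [← map_mul, ← map_mul, hA a ha b hb]
  letI : CommRing E := Algebra.adjoinCommRingOfComm (ZMod 2) hcomm
  haveI : Nontrivial V := by
    by_contra hV
    rw [not_nontrivial_iff_subsingleton] at hV
    exact hta (hρ (LinearMap.ext fun v => Subsingleton.elim _ _))
  haveI : Nontrivial E :=
    ⟨⟨0, 1, fun e => zero_ne_one (congrArg (fun x : E => (x : Module.End (ZMod 2) V)) e)⟩⟩
  haveI : CharP E 2 := charP_of_injective_algebraMap (algebraMap (ZMod 2) E).injective 2
  set f := Nat.totient (Nat.card A) with hf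
  have hpow : ∀ x : E, x ^ 2 ^ f = x := by
    intro x
    obtain ⟨x, hx⟩ := x
    induction hx using Algebra.adjoin_induction with
    | mem x hx =>
      obtain ⟨a, ha, rfl⟩ := hx
      refine Subtype.ext ?_
      rw [SubmonoidClass.coe_pow]
      show ρ a ^ 2 ^ f = ρ a
      have h1 : a ^ Nat.card A = 1 :=
        orderOf_dvd_iff_pow_eq_one.1 (Subgroup.orderOf_dvd_natCard A ha)
      have h2 : 2 ^ f ≡ 1 [MOD Nat.card A] :=
        Nat.ModEq.pow_totient (Nat.coprime_two_left.2 hodd)
      rw [← map_pow, (pow_eq_pow_iff_modEq.2 (h2.of_dvd (orderOf_dvd_of_pow_eq_one h1)) :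
        a ^ 2 ^ f = a ^ 1), pow_one]
    | algebraMap r =>
      show (algebraMap (ZMod 2) E r) ^ 2 ^ f = algebraMap (ZMod 2) E r
      rw [← map_pow, ZMod.pow_card_pow]
    | add x y hx hy ihx ihy =>
      show ((⟨x, hx⟩ : E) + ⟨y, hy⟩) ^ 2 ^ f = _
      rw [add_pow_char_pow, ihx, ihy]; rfl
    | mul x y hx hy ihx ihy =>
      show ((⟨x, hx⟩ : E) * ⟨y, hy⟩) ^ 2 ^ f = _
      rw [mul_pow, ihx, ihy]; rfl
  let K := AlgebraicClosure (ZMod 2)
  have hsep : ∀ x : E, x ≠ 0 → ∃ φ : E →ₐ[ZMod 2] K, φ x ≠ 0 := by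
    intro x hx
    set ε := x ^ (2 ^ f - 1) with hε
    have hxe : x * ε = x := by
      rw [hε, ← pow_succ', Nat.sub_add_cancel Nat.one_le_two_pow, hpow]
    have hεε : ε * ε = ε := by
      rcases Nat.eq_zero_or_pos (2 ^ f - 1) with h0 | h0
      · rw [hε, h0, pow_zero, mul_one]
      · have e1 : ε = x ^ (2 ^ f - 1 - 1) * x := by rw [hε, ← pow_succ, Nat.sub_add_cancel h0]
        conv_lhs => rw [e1]
        rw [← e1]
        conv_lhs => arg 1; rw [e1]
        rw [mul_assoc, hxe, ← e1]
    have hnu : ¬ IsUnit (1 - ε) := fun h => hx (by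
      have : (1 - ε) * ε = (1 - ε) * 0 := by rw [sub_mul, one_mul, hεε, sub_self, mul_zero]
      rw [← hxe, h.mul_left_cancel this, mul_zero])
    obtain ⟨P, hP, hle⟩ := Ideal.exists_le_maximal _ (mt Ideal.span_singleton_eq_top.1 hnu)
    haveI := hP
    letI := Ideal.Quotient.field P
    haveI : Algebra.IsAlgebraic (ZMod 2) (E ⧸ P) := Algebra.IsAlgebraic.of_finite (ZMod 2) _
    refine ⟨(IsAlgClosed.lift (R := ZMod 2) (S := E ⧸ P) (M := K)).comp (Ideal.Quotient.mkₐ (ZMod 2) P),
      fun h0 => ?_⟩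
    have hxP : x ∈ P := by
      rw [← Ideal.Quotient.eq_zero_iff_mem]
      exact (map_eq_zero (IsAlgClosed.lift (R := ZMod 2) (S := E ⧸ P) (M := K))).1 h0
    have h1 : (1 : E) ∈ P := by
      have := P.add_mem (hle (Ideal.mem_span_singleton_self _)) (P.mul_mem_right (x ^ (2 ^ f - 1 - 1)) hxP)
      have h0' : 1 ≤ 2 ^ f - 1 := by
        have : 2 ^ 1 ≤ 2 ^ f := Nat.pow_le_pow_right (by norm_num) (Nat.totient_pos.2 Nat.card_pos)
        omega
      rwa [← pow_succ', Nat.sub_add_cancel h0', ← hε, sub_add_cancel] at this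
    exact hP.ne_top ((Ideal.eq_top_iff_one P).2 h1)
  -- conjugation
  have hconj : ∀ s ∈ S, ∀ x ∈ E, ρ s * x * ρ s⁻¹ ∈ E := by
    intro s hs x hx
    induction hx using Algebra.adjoin_induction with
    | mem x hx =>
      obtain ⟨a, ha, rfl⟩ := hx
      exact Algebra.subset_adjoin ⟨s * a * s⁻¹, hSA s hs a ha, by rw [map_mul, map_mul]⟩
    | algebraMap r =>
      rw [← Algebra.commutes, mul_assoc, ← map_mul, mul_inv_cancel, map_one, mul_one]
      exact Subalgebra.algebraMap_mem _ r
    | add x y hx hy ihx ihy => rw [mul_add, add_mul]; exact add_mem ihx ihy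
    | mul x y hx hy ihx ihy =>
      have e : ρ s * (x * y) * ρ s⁻¹ = ρ s * x * ρ s⁻¹ * (ρ s * y * ρ s⁻¹) := by
        have h1 : ρ s⁻¹ * ρ s = 1 := by rw [← map_mul, inv_mul_cancel, map_one]
        calc ρ s * (x * y) * ρ s⁻¹ = ρ s * x * (ρ s⁻¹ * ρ s) * y * ρ s⁻¹ := by
              rw [h1, mul_one]; simp only [mul_assoc]
          _ = _ := by simp only [mul_assoc]
      rw [e]; exact mul_mem ihx ihy
  let σ : S → (E →ₐ[ZMod 2] E) := fun s =>
    { toFun := fun x => ⟨ρ s * x * ρ (s : G)⁻¹, hconj s s.2 x x.2⟩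
      map_one' := Subtype.ext (by
        show ρ s * 1 * ρ (s : G)⁻¹ = 1
        rw [mul_one, ← map_mul, mul_inv_cancel, map_one])
      map_mul' := fun x y => Subtype.ext (by
        show ρ s * ((x : Module.End (ZMod 2) V) * y) * ρ (s : G)⁻¹ =
          ρ s * x * ρ (s : G)⁻¹ * (ρ s * y * ρ (s : G)⁻¹)
        have h1 : ρ (s : G)⁻¹ * ρ s = 1 := by rw [← map_mul, inv_mul_cancel, map_one]
        calc ρ s * ((x : Module.End (ZMod 2) V) * y) * ρ (s : G)⁻¹
            = ρ s * x * (ρ (s : G)⁻¹ * ρ s) * y * ρ (s : G)⁻¹ := by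
              rw [h1, mul_one]; simp only [mul_assoc]
          _ = _ := by simp only [mul_assoc])
      map_zero' := Subtype.ext (by show ρ s * 0 * ρ (s : G)⁻¹ = 0; rw [mul_zero, zero_mul])
      map_add' := fun x y => Subtype.ext (by
        show ρ s * ((x : Module.End (ZMod 2) V) + y) * ρ (s : G)⁻¹ = _
        rw [mul_add, add_mul]; rfl)
      commutes' := fun r => Subtype.ext (by
        show ρ s * (algebraMap (ZMod 2) (Module.End (ZMod 2) V) r) * ρ (s : G)⁻¹ = _
        rw [← Algebra.commutes, mul_assoc, ← map_mul, mul_inv_cancel, map_one, mul_one]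
        rfl) }
  have hσ : ∀ s s' : S, σ (s * s') = (σ s).comp (σ s') := fun s s' => AlgHom.ext fun x => Subtype.ext (by
    show ρ ((s * s' : S) : G) * (x : Module.End (ZMod 2) V) * ρ ((s * s' : S) : G)⁻¹ =
      ρ s * (ρ s' * x * ρ (s' : G)⁻¹) * ρ (s : G)⁻¹
    rw [Subgroup.coe_mul, mul_inv_rev, map_mul, map_mul]; simp only [mul_assoc])
  let xA : E := ⟨ρ a₀, Algebra.subset_adjoin ⟨a₀, ha₀, rfl⟩⟩
  by_cases hS : ∃ s ∈ S, s ≠ 1
  swap
  · push Not at hS
    rw [(Subgroup.eq_bot_iff_forall S).2 hS, Subgroup.card_bot]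
    exact Module.finrank_pos
  obtain ⟨s₁, hs₁, hs₁1⟩ := hS
  have htS : t ∈ S := (Subgroup.zpowers_le.2 hs₁) (ht s₁ hs₁ hs₁1)
  obtain ⟨φ, hφ⟩ := hsep (σ ⟨t, htS⟩ xA - xA) fun h => hta (hρ (by
    have h' := congrArg Subtype.val (sub_eq_zero.1 h)
    rw [map_mul, map_mul]
    exact h'))
  rw [map_sub, sub_ne_zero] at hφ
  let Φ : S → (E →ₐ[ZMod 2] K) := fun s => φ.comp (σ s)
  have hinj : Function.Injective Φ := by
    intro s s' he
    by_contra hne
    set w := s * s'⁻¹
    have hw : φ.comp (σ w) = φ := by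
      have h1 : (φ.comp (σ s)).comp (σ s'⁻¹) = (φ.comp (σ s')).comp (σ s'⁻¹) := congrArg (fun ψ : E →ₐ[ZMod 2] K => ψ.comp (σ s'⁻¹)) he
      rw [AlgHom.comp_assoc, AlgHom.comp_assoc, ← hσ, ← hσ, mul_inv_cancel] at h1
      rw [h1]
      refine AlgHom.ext fun x => congrArg φ (Subtype.ext ?_)
      show ρ ((1 : S) : G) * (x : Module.End (ZMod 2) V) * ρ ((1 : S) : G)⁻¹ = x
      rw [Subgroup.coe_one, inv_one, map_one, one_mul, mul_one]
    let W : Subgroup S :=
      { carrier := {v | φ.comp (σ v) = φ}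
        one_mem' := AlgHom.ext fun x => congrArg φ (Subtype.ext (by
          show ρ ((1 : S) : G) * (x : Module.End (ZMod 2) V) * ρ ((1 : S) : G)⁻¹ = x
          rw [Subgroup.coe_one, inv_one, map_one, one_mul, mul_one]))
        mul_mem' := fun {a b} (ha : _ = _) (hb : _ = _) => by
          show φ.comp (σ (a * b)) = φ
          rw [hσ, ← AlgHom.comp_assoc, ha, hb]
        inv_mem' := fun {a} (ha : _ = _) => by
          show φ.comp (σ a⁻¹) = φ
          conv_lhs => rw [← ha]
          rw [AlgHom.comp_assoc, ← hσ, mul_inv_cancel]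
          exact AlgHom.ext fun x => congrArg φ (Subtype.ext (by
            show ρ ((1 : S) : G) * (x : Module.End (ZMod 2) V) * ρ ((1 : S) : G)⁻¹ = x
            rw [Subgroup.coe_one, inv_one, map_one, one_mul, mul_one])) }
    have hw1 : (w : G) ≠ 1 := fun h => hne (mul_inv_eq_one.1 (Subtype.ext h : w = 1))
    obtain ⟨z, hz⟩ := Subgroup.mem_zpowers_iff.1 (ht w w.2 hw1)
    have htW : (⟨t, htS⟩ : S) ∈ W := by
      rw [show (⟨t, htS⟩ : S) = w ^ z from Subtype.ext (by rw [Subgroup.coe_zpow, hz])]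
      exact W.zpow_mem hw z
    exact hφ (AlgHom.congr_fun (htW : φ.comp (σ ⟨t, htS⟩) = φ) xA)
  refine ((Nat.card_le_card_of_injective Φ hinj).trans (card_algHom_le_finrank (ZMod 2) E K)).trans ?_
  -- a faithful vector
  obtain ⟨v, hv⟩ : ∃ v : V, ∀ x : E, (x : Module.End (ZMod 2) V) v = 0 → x = 0 := by
    haveI : Finite E := Module.finite_of_finite (ZMod 2)
    obtain ⟨v, -, hmin⟩ := Set.Finite.exists_minimalFor
      (fun v : V => {x : E | (x : Module.End (ZMod 2) V) v = 0}) Set.univ (Set.toFinite _)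
      Set.univ_nonempty
    refine ⟨v, fun x hx => by_contra fun hx0 => ?_⟩
    obtain ⟨w, hw⟩ : ∃ w, (x : Module.End (ZMod 2) V) w ≠ 0 := by
      by_contra hc
      push Not at hc
      exact hx0 (Subtype.ext (LinearMap.ext hc))
    have h2f : 1 ≤ 2 ^ f - 1 := by
      have : 2 ^ 1 ≤ 2 ^ f := Nat.pow_le_pow_right (by norm_num) (Nat.totient_pos.2 Nat.card_pos)
      omega
    set ε := x ^ (2 ^ f - 1) with hε
    have hxe : x * ε = x := by
      rw [hε, ← pow_succ', Nat.sub_add_cancel Nat.one_le_two_pow, hpow]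
    have hεε : ε * ε = ε := by
      conv_lhs => arg 1; rw [hε, show 2 ^ f - 1 = (2 ^ f - 1 - 1) + 1 by omega, pow_succ]
      rw [mul_assoc, hxe, hε, ← pow_succ, show 2 ^ f - 1 - 1 + 1 = 2 ^ f - 1 by omega]
    have hεv : (ε : Module.End (ZMod 2) V) v = 0 := by
      rw [hε, show 2 ^ f - 1 = (2 ^ f - 1 - 1) + 1 by omega, pow_succ, Subalgebra.coe_mul,
        Module.End.mul_apply, hx, map_zero]
    have hεw : (ε : Module.End (ZMod 2) V) ((ε : Module.End (ZMod 2) V) w) =
        (ε : Module.End (ZMod 2) V) w := by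
      rw [← Module.End.mul_apply, ← Subalgebra.coe_mul, hεε]
    set v' := v + (ε : Module.End (ZMod 2) V) w
    have hsub : {y : E | (y : Module.End (ZMod 2) V) v' = 0} ⊆
        {y : E | (y : Module.End (ZMod 2) V) v = 0} := by
      intro y (hy : (y : Module.End (ZMod 2) V) v' = 0)
      rw [map_add] at hy
      have h1 := congrArg ((ε : Module.End (ZMod 2) V)) hy
      rw [map_add, map_zero, ← Module.End.mul_apply, ← Module.End.mul_apply, ← Subalgebra.coe_mul,
        mul_comm ε y, Subalgebra.coe_mul, Module.End.mul_apply, Module.End.mul_apply, hεv, map_zero,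
        zero_add, hεw] at h1
      show (y : Module.End (ZMod 2) V) v = 0
      rwa [h1, add_zero] at hy
    have hxv : (x : Module.End (ZMod 2) V) v' ≠ 0 := by
      rw [map_add, hx, zero_add, ← Module.End.mul_apply, ← Subalgebra.coe_mul, hxe]
      exact hw
    exact hxv (hmin (j := v') trivial hsub hx)
  refine LinearMap.finrank_le_finrank_of_injective
    (f := ({ toFun := fun x : E => (x : Module.End (ZMod 2) V) v
             map_add' := fun x y => rfl
             map_smul' := fun c x => rfl } : E →ₗ[ZMod 2] V)) ?_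
  rw [injective_iff_map_eq_zero]
  exact hv

end Cfsg.Agent.Bender
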