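/-
The core of a group of odd order and `p`-rank at most two, seen from `Ω₁` of a Sylow subgroup
(owner: helper40).

* `le_core_of_omega` : a `p'`-subgroup normalised by `R ⊇ Ω₁ Q` lies in `O_p'(K)`
* `exists_core_mul_omega` : `K = O_p'(K) N_K(Ω₁ Q)`
-/
import Cfsg.Agent.Lib.Bender.CoreRankTwo
import Cfsg.Agent.Lib.Coprime.PQ

set_option autoImplicit false
set_option linter.style.haveILetI false
set_option linter.unusedSectionVars false

namespace Cfsg.Agent.Bender

universe u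

variable {G : Type u} [Group G] [Finite G] {p : ℕ} [Fact p.Prime] {K Q R : Subgroup G}

/-- A `p'`-subgroup normalised by the elements of order `p` of a Sylow subgroup lies in the core. -/
theorem le_core_of_omega (hp : p ≠ 2) (hK : Odd (Nat.card K)) (hr : Cfsg.PRankLE p 2 K)
    (hQK : Q ≤ K) (hQ : Nat.card Q = p ^ (Nat.card K).factorization p) (hRQ : R ≤ Q)
    (hR : ∀ x ∈ Q, x ^ p = 1 → x ∈ R) {X : Subgroup G} (hXK : X ≤ K)
    (hX : ¬ p ∣ Nat.card X) (hRX : R ≤ Subgroup.normalizer (X : Set G)) : X ≤ core p K := by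
  haveI : Group.IsSolvable K := OddOrderTheorem.solvable hK
  obtain ⟨S, hS⟩ := Coprime.exists_sylow_map_eq hQK hQ
  set O := Cfsg.pPrimeCore p K with hO
  set f := QuotientGroup.mk' O with hf
  set C := Cfsg.pCore p (K ⧸ O) with hCdef
  haveI : C.Normal := Subgroup.sSup_normal _ fun _ h => h.1
  have hsurj : Function.Surjective f := QuotientGroup.mk'_surjective _
  haveI : Group.IsSolvable (K ⧸ O) := Group.isSolvable_of_surjective hsurj
  have hC : Subgroup.centralizer (C : Set (K ⧸ O)) ≤ C :=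
    Solvable.centralizer_pCore_le_of_isSolvable (Cores.pPrimeCore_quotient_self p)
  set X' := (X.subgroupOf K).map f with hX'
  have hX'card : ¬ p ∣ Nat.card X' := fun h => hX ((h.trans (Subgroup.card_map_dvd _ _)).trans
    (dvd_of_eq (Cores.card_subgroupOf hXK)))
  have hCS : C ≤ (S : Subgroup K).map f := Cores.pCore_le_sylow (S.mapSurjective hsurj)
  have hSC : (S : Subgroup K).map f ≤ C :=
    Subgroup.map_le_iff_le_comap.2 (sylow_le_pPrimePCore hK hr S)
  have hcomm : ∀ r ∈ R.subgroupOf K, ∀ x ∈ X', f r * x = x * f r := by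
    rintro r hr _ ⟨x, hx, rfl⟩
    have hrS : r ∈ (S : Subgroup K) := by
      obtain ⟨s, hs, e⟩ := hS.ge (hRQ hr)
      rwa [← Subtype.ext e]
    have h1 : f r * f x * (f r)⁻¹ * (f x)⁻¹ ∈ X' := by
      refine ⟨r * x * r⁻¹ * x⁻¹, ?_, by simp⟩
      exact Subgroup.mul_mem _
        ((Subgroup.mem_normalizer_iff.1 (hRX hr) x).1 hx) (Subgroup.inv_mem _ hx)
    have h2 : f r * f x * (f r)⁻¹ * (f x)⁻¹ ∈ C := by
      have hrC := hSC ⟨r, hrS, rfl⟩
      rw [show f r * f x * (f r)⁻¹ * (f x)⁻¹ = f r * (f x * (f r)⁻¹ * (f x)⁻¹) by group]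
      exact C.mul_mem hrC (Subgroup.Normal.conj_mem inferInstance _ (C.inv_mem hrC) _)
    have h3 : f r * f x * (f r)⁻¹ * (f x)⁻¹ = 1 := by
      rw [← orderOf_eq_one_iff]
      obtain ⟨n, hn⟩ := (Cores.isPGroup_pCore p (K ⧸ O)).exists_card_eq
      exact Nat.eq_one_of_dvd_coprimes
        (Nat.Coprime.pow_left n ((Fact.out : p.Prime).coprime_iff_not_dvd.2 hX'card))
        (hn ▸ Subgroup.orderOf_dvd_natCard _ h2) (Subgroup.orderOf_dvd_natCard _ h1)
    rwa [mul_inv_eq_one, mul_inv_eq_iff_eq_mul] at h3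
  have hcent : X' ≤ Subgroup.centralizer (C : Set (K ⧸ O)) := by
    refine Coprime.le_centralizer_of_fixing_order_p p hp (Cores.isPGroup_pCore p (K ⧸ O))
      (by rw [Subgroup.normalizer_eq_top_iff.2 (inferInstance : C.Normal)]; exact le_top)
      ((Fact.out : p.Prime).coprime_iff_not_dvd.2 hX'card).symm fun y hy hyp => ?_
    obtain ⟨s, hs, rfl⟩ := hCS hy
    have hyp' : f (s ^ p) = 1 := by
      rw [map_pow]
      exact orderOf_dvd_iff_pow_eq_one.1 (dvd_of_eq hyp)
    have hsp : s ^ p = 1 := by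
      rw [← orderOf_eq_one_iff]
      obtain ⟨n, hn⟩ := S.2.exists_card_eq
      exact Nat.eq_one_of_dvd_coprimes
        (Nat.Coprime.pow_left n ((Fact.out : p.Prime).coprime_iff_not_dvd.2
          Cores.not_dvd_card_pPrimeCore))
        (hn ▸ Subgroup.orderOf_dvd_natCard _ (pow_mem hs p))
        (Subgroup.orderOf_dvd_natCard _ ((QuotientGroup.eq_one_iff _).1 hyp'))
    have hsR : s ∈ R.subgroupOf K :=
      hR _ (hS ▸ Subgroup.mem_map_of_mem K.subtype hs) (congrArg Subtype.val hsp)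
    exact Subgroup.mem_centralizer_iff.2 fun x hx => (hcomm s hsR x hx).symm
  have hbot : X' = ⊥ := by
    rw [← Subgroup.card_eq_one]
    obtain ⟨n, hn⟩ := ((Cores.isPGroup_pCore p (K ⧸ O)).to_le (hcent.trans hC)).exists_card_eq
    rcases n.eq_zero_or_pos with rfl | hpos
    · rw [hn, pow_zero]
    · exact absurd (hn ▸ dvd_pow_self p hpos.ne') hX'card
  rw [hX', Subgroup.map_eq_bot_iff, QuotientGroup.ker_mk'] at hbot
  intro x hx
  exact ⟨⟨x, hXK hx⟩, hbot (show (⟨x, hXK hx⟩ : K) ∈ X.subgroupOf K from hx), rfl⟩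

/-- `K` is the product of its core and the normaliser of the elements of order `p` of a Sylow
subgroup. -/
theorem exists_core_mul_omega (hK : Odd (Nat.card K)) (hr : Cfsg.PRankLE p 2 K)
    (hQK : Q ≤ K) (hQ : Nat.card Q = p ^ (Nat.card K).factorization p) (hRQ : R ≤ Q)
    (hRexp : ∀ x ∈ R, x ^ p = 1) (hR : ∀ x ∈ Q, x ^ p = 1 → x ∈ R) {g : G} (hg : g ∈ K) :
    ∃ a ∈ core p K, ∃ n ∈ K, n ∈ Subgroup.normalizer (R : Set G) ∧ a * n = g := by
  obtain ⟨a, ha, n, hn, hnQ, e⟩ := exists_core_mul hK hr hQK hQ hg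
  exact ⟨a, ha, n, hn, Coprime.mem_normalizer_of_forall fun r hr' =>
    hR _ ((Subgroup.mem_normalizer_iff.1 hnQ r).1 (hRQ hr'))
      (by rw [conj_pow, hRexp r hr', mul_one, mul_inv_cancel]), e⟩

end Cfsg.Agent.Bender
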