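/-
The kernel of the action of `N(P)` on the fixed points of a centred subgroup (owner: helper40).

`P` is a centred subgroup of rank at most two in a failure and `E = Ω₁ P`.

* `Failure.exists_conj_odd` : the members of `D` normalising `P` are conjugate by the odd core `M`
* `Failure.transitive` : `M` is transitive on `Fix P`
* `Failure.kernel_fixes` : an odd normal subgroup of `N(P)` centralising `E` fixes `Fix P` pointwise
* `Failure.line_moved` : `M` moves the line `[P, v] ∩ E`
-/
import Cfsg.Agent.Lib.Bender.RankTwoLocal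

set_option autoImplicit false
set_option linter.style.haveILetI false
set_option linter.unusedSectionVars false

namespace Cfsg.Agent.Bender

open Cfsg Involution Aschbacher
open scoped Pointwise commutatorElement

universe u v

variable {G : Type u} {Ω : Type v} [Group G] [MulAction G Ω]

namespace Failure

variable [Finite G] [Finite Ω] {D : Set G} {pt : G → Ω} {p : ℕ} [Fact p.Prime] {P : Subgroup G}
  (F : Failure D pt p P)
include F

theorem exists_at_fixed {z : Ω} (hz : P ≤ MulAction.stabilizer G z) :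
    ∃ e ∈ D, e ∈ Subgroup.normalizer (P : Set G) ∧ pt e = z := by
  obtain ⟨e, he, heP⟩ := F.exists_mem
  rcases eq_or_ne (pt e) z with h | h
  · exact ⟨e, he, heP, h⟩
  obtain ⟨u, hu, huP, hux, -, -⟩ := F.exists_swap h (F.pt_fixed he heP) hz
  exact ⟨u * e * u⁻¹, F.pointClass.conj_mem u e he, mem_normalizer_conj huP heP,
    by rw [F.pointClass.pt_conj u he, hux]⟩

/-- Conjugation in `N(P)` carries lines to lines. -/
theorem line_conj {e n y : G} (hn : n ∈ Subgroup.normalizer (P : Set G))
    (hy : y ∈ gen P e ⊓ omegaZ p P) :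
    n * y * n⁻¹ ∈ gen P (n * e * n⁻¹) ⊓ omegaZ p P :=
  ⟨conj_mem_gen hn hy.1, (Subgroup.mem_normalizer_iff.1 (F.omegaZ_normalized hn) y).1 hy.2⟩

/-- A subgroup containing a line of `E` and an element off it contains `E`. -/
theorem omega_le_of {L T : Subgroup G} (hLE : L ≤ omegaZ p P) (hL : Nat.card L = p) (hLT : L ≤ T)
    {y : G} (hyE : y ∈ omegaZ p P) (hyT : y ∈ T) (hyL : y ∉ L) : omegaZ p P ≤ T := by
  set S := T ⊓ omegaZ p P with hS
  have h1 : L < S := lt_of_le_of_ne (le_inf hLT hLE) fun h => hyL (h.ge ⟨hyT, hyE⟩)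
  have h2 := card_lt_of_lt h1
  obtain ⟨k, hk, hSk⟩ := (Nat.dvd_prime_pow (Fact.out : p.Prime)).1
    (F.omega_card ▸ Subgroup.card_dvd_of_le (inf_le_right : S ≤ _))
  rw [hL, hSk] at h2
  have h3 : 1 < k := by
    by_contra h
    have := Nat.pow_le_pow_right (Fact.out : p.Prime).pos (show k ≤ 1 by omega)
    rw [pow_one] at this
    omega
  have := Subgroup.eq_of_le_of_card_ge (inf_le_right : S ≤ omegaZ p P)
    (by rw [F.omega_card, hSk]; exact Nat.pow_le_pow_right (Fact.out : p.Prime).pos h3)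
  exact inf_eq_right.1 this

section Odd

variable {v : G} (hv : v ∈ D) (hvP : v ∈ Subgroup.normalizer (P : Set G)) {M : Subgroup G}
  (hMN : M ≤ Subgroup.normalizer (P : Set G)) (hM : Odd (Nat.card M))
  (hMn : ∀ g ∈ Subgroup.normalizer (P : Set G), g ∈ Subgroup.normalizer (M : Set G))
  (hcomm : ∀ e ∈ D, e ∈ Subgroup.normalizer (P : Set G) → ∀ g ∈ Subgroup.normalizer (P : Set G),
    e * g * e⁻¹ * g⁻¹ ∈ M)
include hv hvP hMN hM hMn hcomm

/-- `N(P) = M C(v)`. -/
theorem exists_decomp {n : G} (hn : n ∈ Subgroup.normalizer (P : Set G)) :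
    ∃ r ∈ M, ∃ z ∈ Subgroup.normalizer (P : Set G), Commute z v ∧ r * z = n := by
  haveI : Fact (Nat.Prime 2) := ⟨Nat.prime_two⟩
  have hvi := F.inv_self hv
  have hv2 := F.mul_self hv
  have h1 : n⁻¹ * v * n * v ∈ M := by
    have := (Subgroup.mem_normalizer_iff''.1 (hMn n hn) _).1 (hcomm v hv hvP n hn)
    rw [hvi] at this
    convert this using 1
    group
  obtain ⟨z, hz, hzf⟩ := exists_fixed_coset (p := 2) (Nat.two_dvd_ne_zero.2 (Nat.odd_iff.1 hM)) n
    (fun z => v * z * v) (fun z hz => by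
      have h2 := (Subgroup.mem_normalizer_iff.1 (hMn v hvP) _).1 hz
      rw [hvi] at h2
      have := mul_mem h1 h2
      convert this using 1
      calc n⁻¹ * (v * z * v) = n⁻¹ * v * n * 1 * (n⁻¹ * z) * v := by group
        _ = n⁻¹ * v * n * (v * v) * (n⁻¹ * z) * v := by rw [hv2]
        _ = _ := by group) (k := 1) (fun z => by
      show v * (v * z * v) * v = z
      calc v * (v * z * v) * v = (v * v) * z * (v * v) := by group
        _ = z := by rw [hv2]; group)
  have hzN : z ∈ Subgroup.normalizer (P : Set G) := by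
    have := mul_mem hn (hMN hz)
    rwa [mul_inv_cancel_left] at this
  refine ⟨z * (n⁻¹ * z)⁻¹ * z⁻¹, (Subgroup.mem_normalizer_iff.1 (hMn z hzN) _).1 (inv_mem hz), z,
    hzN, ?_, by group⟩
  show z * v = v * z
  calc z * v = (v * z * v) * v := by rw [hzf]
    _ = v * z * (v * v) := by group
    _ = v * z := by rw [hv2, mul_one]

theorem exists_conj_odd {e : G} (he : e ∈ D) (heP : e ∈ Subgroup.normalizer (P : Set G)) :
    ∃ r ∈ M, r * v * r⁻¹ = e := by
  obtain ⟨n, hn, rfl⟩ := F.exists_conj hv hvP he heP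
  obtain ⟨r, hr, z, -, hzv, rfl⟩ := F.exists_decomp hv hvP hMN hM hMn hcomm hn
  refine ⟨r, hr, ?_⟩
  calc r * v * r⁻¹ = r * (v * z) * z⁻¹ * r⁻¹ := by group
    _ = r * (z * v) * z⁻¹ * r⁻¹ := by rw [hzv.eq]
    _ = _ := by group

theorem transitive {z : Ω} (hz : P ≤ MulAction.stabilizer G z) : ∃ m ∈ M, m • pt v = z := by
  rcases eq_or_ne (pt v) z with h | h
  · exact ⟨1, M.one_mem, by rw [one_smul, h]⟩
  obtain ⟨u, hu, huP, hux, -, -⟩ := F.exists_swap h (F.pt_fixed hv hvP) hz
  obtain ⟨r, hr, hru⟩ := F.exists_conj_odd hv hvP hMN hM hMn hcomm hu huP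
  refine ⟨u * v⁻¹, ?_, by rw [mul_smul, F.inv_self hv, F.pointClass.smul_pt hv, hux]⟩
  have := inv_mem (hcomm v hv hvP r (hMN hr))
  rw [← hru]
  convert this using 1
  group

/-- The line of `v` is moved by `M`. -/
theorem line_moved :
    ¬ ∀ m ∈ M, ∀ y ∈ gen P v ⊓ omegaZ p P, m * y * m⁻¹ ∈ gen P v ⊓ omegaZ p P := by
  intro h
  set L := gen P v ⊓ omegaZ p P with hL
  have hLne : L ≠ ⊥ := F.gen_inf_omega_ne_bot hv hvP
  have hkey : ∀ n ∈ Subgroup.normalizer (P : Set G), ∀ y ∈ L, n * y * n⁻¹ ∈ L := by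
    intro n hn y hy
    obtain ⟨r, hr, z, hz, hzv, rfl⟩ := F.exists_decomp hv hvP hMN hM hMn hcomm hn
    have h1 := F.line_conj hz hy
    rw [show z * v * z⁻¹ = v by rw [hzv.eq, mul_inv_cancel_right]] at h1
    have := h r hr _ h1
    convert this using 1
    group
  refine F.key_all hLne (inf_le_right.trans (omegaZ_le p P))
    (fun n hn => Coprime.mem_normalizer_of_forall (hkey n hn)) fun e he heP y hy => ?_
  obtain ⟨r, hr, rfl⟩ := F.exists_conj_odd hv hvP hMN hM hMn hcomm he heP
  have h1 : r⁻¹ * y * r ∈ L := by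
    have := hkey r⁻¹ (inv_mem (hMN hr)) y hy
    rwa [inv_inv] at this
  have := (F.line_conj (hMN hr) h1).1
  rwa [show r * (r⁻¹ * y * r) * r⁻¹ = y by group] at this

end Odd

/-- The step for a subgroup abelian on `Fix P`. -/
theorem kernel_step {K : Subgroup G} (hKN : K ≤ Subgroup.normalizer (P : Set G))
    (hKn : ∀ g ∈ Subgroup.normalizer (P : Set G), g ∈ Subgroup.normalizer (K : Set G))
    (hKE : K ≤ Subgroup.centralizer (omegaZ p P : Set G)) (hK : Odd (Nat.card K))
    (hder : ∀ z : Ω, P ≤ MulAction.stabilizer G z → (⁅K, K⁆ : Subgroup G) ≤ MulAction.stabilizer G z)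
    {v : G} (hv : v ∈ D) (hvP : v ∈ Subgroup.normalizer (P : Set G)) :
    K ≤ MulAction.stabilizer G (pt v) := by
  have PC := F.pointClass
  have hvi := F.inv_self hv
  have hv2 := F.mul_self hv
  set a := pt v with ha
  have hPa := F.pt_fixed hv hvP
  have hva : v • a = a := PC.smul_pt hv
  intro k hk
  by_contra hka
  rw [MulAction.mem_stabilizer_iff] at hka
  -- an inverted element moving `a`
  set g := k⁻¹ * v * k * v with hg
  have hgK : g ∈ K := by
    have h1 := (Subgroup.mem_normalizer_iff.1 (hKn v hvP) k).1 hk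
    rw [hvi] at h1
    have := mul_mem (inv_mem hk) h1
    convert this using 1
    rw [hg]; group
  have hginv : v * g * v = g⁻¹ := by
    rw [hg, mul_inv_rev, mul_inv_rev, mul_inv_rev, inv_inv, hvi]
    calc v * (k⁻¹ * v * k * v) * v = v * k⁻¹ * v * k * (v * v) := by group
      _ = _ := by rw [hv2, mul_one]; group
  have hga : g • a ≠ a := by
    intro h
    rw [hg, mul_smul, hva, mul_smul, mul_smul, inv_smul_eq_iff] at h
    exact hka ((PC.fixed_iff v hv _).1 h)
  have hinvpow : ∀ j : ℕ, v * g ^ j * v = (g ^ j)⁻¹ := fun j => by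
    calc v * g ^ j * v = v * g ^ j * v⁻¹ := by rw [hvi]
      _ = (v * g * v⁻¹) ^ j := conj_pow.symm
      _ = _ := by rw [hvi, hginv, inv_pow]
  -- the square roots
  obtain ⟨l, hl⟩ := hK.of_dvd_nat (Subgroup.orderOf_dvd_natCard K hgK)
  set e := l + 1 with he
  have hstep : ∀ k : ℕ, g ^ (e ^ (k + 1)) * g ^ (e ^ (k + 1)) = g ^ (e ^ k) := by
    intro k
    rw [← pow_add, show e ^ (k + 1) + e ^ (k + 1) = orderOf g * e ^ k + e ^ k by
        rw [hl, he]; ring, pow_add, pow_mul, pow_orderOf_eq_one, one_pow, one_mul]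
  have hroot : ∀ k : ℕ, (g ^ (e ^ k)) ^ (2 ^ k) = g := by
    intro k
    induction k with
    | zero => simp
    | succ k ih => rw [pow_succ' 2 k, pow_mul, sq, hstep, ih]
  have hcop : e.Coprime (orderOf g) := by
    refine Nat.coprime_of_dvd' fun q _ h1 h2 => ?_
    have h3 : q ∣ 2 * e := h1.mul_left 2
    have h4 : 2 * e = orderOf g + 1 := by omega
    rw [h4] at h3
    exact (Nat.dvd_add_right h2).1 h3
  set t := Nat.totient (orderOf g) with ht
  have htpos : 0 < t := Nat.totient_pos.2 (orderOf_pos g)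
  set y : ℕ → Ω := fun k => g ^ (e ^ k) • a with hy
  have hper : ∀ k, y (k + t) = y k := by
    intro k
    show g ^ (e ^ (k + t)) • a = g ^ (e ^ k) • a
    congr 1
    refine pow_eq_pow_iff_modEq.2 ?_
    rw [pow_add]
    conv_rhs => rw [← mul_one (e ^ k)]
    exact (Nat.ModEq.pow_totient hcop).mul_left _
  have hgN : g ∈ Subgroup.normalizer (P : Set G) := hKN hgK
  have hy' : ∀ k, y k ≠ a ∧ P ≤ MulAction.stabilizer G (y k) := by
    refine fun k => ⟨fun h => hga ?_, le_stab_smul (pow_mem hgN _) hPa⟩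
    have h1 : g ^ (e ^ k) ∈ MulAction.stabilizer G a := MulAction.mem_stabilizer_iff.2 h
    have := pow_mem h1 (2 ^ k)
    rwa [hroot, MulAction.mem_stabilizer_iff] at this
  set u : ℕ → G := fun k => g ^ (e ^ (k + 1)) * v * (g ^ (e ^ (k + 1)))⁻¹ with hu
  have huD : ∀ k, u k ∈ D := fun k => PC.conj_mem _ v hv
  have huP : ∀ k, u k ∈ Subgroup.normalizer (P : Set G) := fun k =>
    mem_normalizer_conj (pow_mem hgN _) hvP
  have hua : ∀ k, u k • a = y k := by
    intro k
    have h1 : u k = g ^ (e ^ k) * v := by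
      rw [← hstep k]
      calc u k = g ^ (e ^ (k + 1)) * v * (g ^ (e ^ (k + 1)))⁻¹ := rfl
        _ = g ^ (e ^ (k + 1)) * v * (v * g ^ (e ^ (k + 1)) * v) := by rw [hinvpow]
        _ = g ^ (e ^ (k + 1)) * (v * v) * g ^ (e ^ (k + 1)) * v := by group
        _ = _ := by rw [hv2]; group
    rw [h1, mul_smul, hva]
  have hupt : ∀ k, pt (u k) = y (k + 1) := fun k => PC.pt_conj _ hv
  set L := gen P v ⊓ omegaZ p P with hL
  have hLu : ∀ k, L ≤ gen P (u k) ⊓ omegaZ p P := by
    intro k x hx
    have h1 := F.line_conj (pow_mem hgN (e ^ (k + 1))) hx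
    rwa [← (Subgroup.mem_centralizer_iff.1 (hKE (pow_mem hgK _)) x hx.2),
      mul_inv_cancel_right] at h1
  have hxP : P ≤ Subgroup.normalizer (L : Set G) := by
    intro x hx
    refine Coprime.mem_normalizer_of_forall fun w hw => ?_
    rw [hw.2.2.2 x hx, mul_inv_cancel_right]
    exact hw
  have huL : ∀ k, u k ∈ Subgroup.normalizer (L : Set G) := by
    intro k
    refine Coprime.mem_normalizer_of_forall fun w hw => ?_
    rw [F.inv_self (huD k), F.line_inverted (huD k) (huP k) (hLu k hw)]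
    exact inv_mem hw
  have hgfix : ∀ k, gen P (u k) ≤
      fixers ((fun b : G => b • y (k + 1)) '' (core p (twoPt G a (y k)) : Set G)) := by
    intro k
    have := F.gen_fixes (hy' k).1.symm hPa (hy' k).2 (huD k) (huP k) (hua k)
    rwa [hupt k] at this
  by_cases hpres : ∀ k, ∀ n ∈ twoPt G a (y k), n ∈ Subgroup.normalizer (P : Set G) →
      n ∈ Subgroup.normalizer (L : Set G)
  · exact F.toCentred.chain hPa y hy' htpos hper (F.gen_inf_omega_ne_bot hv hvP)
      (inf_le_right.trans (omegaZ_le p P)) hxP hpres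
      (fun k => ⟨u k, huD k, huP k, huL k, hua k, hupt k⟩)
      (fun k => ((hLu k).trans inf_le_left).trans (hgfix k))
  -- otherwise all of `E` lies in the two swappers' subgroups
  push Not at hpres
  obtain ⟨k₀, n, hn, hnP, hnL⟩ := hpres
  obtain ⟨w, hw, hwn⟩ : ∃ w ∈ L, n * w * n⁻¹ ∉ L := by
    by_contra h
    push Not at h
    exact hnL (Coprime.mem_normalizer_of_forall h)
  -- `n` fixes all the `g ^ i • a`
  have hna : n • a = a := MulAction.mem_stabilizer_iff.1 hn.1
  have hswap : ∀ x ∈ K, ∀ z ∈ K, x • z • a = z • x • a := by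
    intro x hx z hz
    have h1 := hder _ (le_stab_smul (hKN hz) (le_stab_smul (hKN hx) hPa))
      (Subgroup.commutator_mem_commutator hx hz)
    calc x • z • a = ⁅x, z⁆ • z • x • a := by
          rw [commutatorElement_def]
          simp only [← mul_smul]
          group
      _ = z • x • a := MulAction.mem_stabilizer_iff.1 h1
  set r := g ^ (e ^ k₀) with hr
  have hrK : r ∈ K := pow_mem hgK _
  have hxK : n * r * n⁻¹ ∈ K := (Subgroup.mem_normalizer_iff.1 (hKn n hnP) r).1 hrK
  have hxa : (n * r * n⁻¹) • a = r • a := by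
    rw [mul_smul, mul_smul, inv_smul_eq_iff.2 hna.symm]
    exact MulAction.mem_stabilizer_iff.1 hn.2
  have hpow : ∀ i : ℕ, (n * r * n⁻¹) ^ i • a = r ^ i • a := by
    intro i
    induction i with
    | zero => simp
    | succ i ih =>
      rw [pow_succ', mul_smul, ih, hswap _ hxK _ (pow_mem hrK i), hxa, ← mul_smul, ← pow_succ]
  have hnfix : ∀ k, n • y k = y k := by
    intro k
    have h1 : g ^ (e ^ k) = r ^ (2 ^ k₀ * e ^ k) := by rw [pow_mul, hr, hroot]
    show n • g ^ (e ^ k) • a = g ^ (e ^ k) • a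
    rw [h1]
    refine Eq.trans ?_ (hpow _)
    rw [conj_pow, mul_smul, mul_smul, inv_smul_eq_iff.2 hna.symm]
  refine F.toCentred.chain hPa y hy' htpos hper F.omega_ne_bot (omegaZ_le p P)
    (fun x hx => F.omegaZ_normalized (Subgroup.le_normalizer hx))
    (fun k m _ hm => F.omegaZ_normalized hm)
    (fun k => ⟨u k, huD k, huP k, F.omegaZ_normalized (huP k), hua k, hupt k⟩) (fun k => ?_)
  refine F.omega_le_of inf_le_right (F.line_card hv hvP) ?_ ?_ ?_ hwn
  · exact ((hLu k).trans inf_le_left).trans (hgfix k)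
  · exact (Subgroup.mem_normalizer_iff.1 (F.omegaZ_normalized hnP) w).1 hw.2
  · have h1 := (F.line_conj hnP (hLu k hw)).1
    have := F.gen_fixes (hy' k).1.symm hPa (hy' k).2 (PC.conj_mem n _ (huD k))
      (mem_normalizer_conj hnP (huP k)) (by
        rw [mul_smul, mul_smul, inv_smul_eq_iff.2 hna.symm, hua, hnfix])
    rw [PC.pt_conj n (huD k), hupt, hnfix] at this
    exact this h1

/-- An odd normal subgroup of `N(P)` centralising `E` fixes every point of `Fix P`. -/
theorem kernel_fixes {K : Subgroup G} (hKN : K ≤ Subgroup.normalizer (P : Set G))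
    (hKn : ∀ g ∈ Subgroup.normalizer (P : Set G), g ∈ Subgroup.normalizer (K : Set G))
    (hKE : K ≤ Subgroup.centralizer (omegaZ p P : Set G)) (hK : Odd (Nat.card K)) {z : Ω}
    (hz : P ≤ MulAction.stabilizer G z) : K ≤ MulAction.stabilizer G z := by
  induction hn : Nat.card K using Nat.strong_induction_on generalizing K z with
  | _ n ih =>
    obtain ⟨v, hv, hvP, rfl⟩ := F.exists_at_fixed hz
    rcases eq_or_ne K ⊥ with rfl | hne
    · exact bot_le
    refine F.kernel_step hKN hKn hKE hK (fun y hy => ?_) hv hvP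
    haveI : Nontrivial K := (Subgroup.nontrivial_iff_ne_bot K).2 hne
    haveI : Group.IsSolvable K := OddOrderTheorem.solvable hK
    have hC0 : (⁅K, K⁆ : Subgroup G) = (commutator ↥K).map K.subtype :=
      K.map_subtype_commutator.symm
    have hlt : (⁅K, K⁆ : Subgroup G) < K := by
      refine lt_of_le_of_ne (hC0 ▸ Subgroup.map_subtype_le _) fun e => ?_
      refine (Group.IsSolvable.commutator_lt_top_of_nontrivial K).ne ?_
      refine Subgroup.map_injective K.subtype_injective ?_
      rw [← hC0, e, ← MonoidHom.range_eq_map, Subgroup.range_subtype]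
    exact ih _ (hn ▸ card_lt_of_lt hlt) (hlt.le.trans hKN)
      (fun g hg => mem_normalizer_commutator_of (hKn g hg) (hKn g hg)) (hlt.le.trans hKE)
      (hK.of_dvd_nat (Subgroup.card_dvd_of_le hlt.le)) hy rfl

end Failure

end Cfsg.Agent.Bender
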