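/-
No centred subgroup of rank at most two beside a free one (owner: helper40).

* `Failure.false_of_free` : in a failure of Bender's theorem a centred `p`-subgroup of largest order
  fixing two points has rank at least three if some free `p`-subgroup fixes a point
-/
import Cfsg.Agent.Lib.Bender.RankTwoKernel

set_option autoImplicit false
set_option linter.style.haveILetI false
set_option linter.unusedSectionVars false

namespace Cfsg.Agent.Bender

open Cfsg Involution Aschbacher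
open scoped Pointwise commutatorElement

universe u v

variable {G : Type u} {Ω : Type v} [Group G] [MulAction G Ω]

/-- An element of `p`-power order acting on a line modulo a centralised subgroup is trivial there. -/
theorem conj_mem_line {p : ℕ} [Fact p.Prime] {C : Subgroup G} {g x : G} {k j : ℕ}
    (hg : g ^ (p ^ k) = 1) (hx : x ^ p = 1) (hC : ∀ c ∈ C, g * c * g⁻¹ = c)
    (hcx : ∀ c ∈ C, Commute c x) (h : g * x * g⁻¹ * (x ^ j)⁻¹ ∈ C) :
    g * x * g⁻¹ * x⁻¹ ∈ C := by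
  set c := g * x * g⁻¹ * (x ^ j)⁻¹ with hc
  have hstep : ∀ i : ℕ, g ^ i * x * (g ^ i)⁻¹ * (x ^ (j ^ i))⁻¹ ∈ C := by
    intro i
    induction i with
    | zero => simp
    | succ i ih =>
      set d := g ^ i * x * (g ^ i)⁻¹ * (x ^ (j ^ i))⁻¹ with hd
      have h1 : g ^ (i + 1) * x * (g ^ (i + 1))⁻¹ = d * (g * x * g⁻¹) ^ (j ^ i) := by
        rw [conj_pow]
        calc g ^ (i + 1) * x * (g ^ (i + 1))⁻¹
            = g * (g ^ i * x * (g ^ i)⁻¹) * g⁻¹ := by rw [pow_succ']; group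
          _ = g * (d * x ^ (j ^ i)) * g⁻¹ := by rw [hd, inv_mul_cancel_right]
          _ = (g * d * g⁻¹) * (g * x ^ (j ^ i) * g⁻¹) := by group
          _ = _ := by rw [hC d ih]
      have h2 : (g * x * g⁻¹) ^ (j ^ i) = c ^ (j ^ i) * x ^ (j ^ (i + 1)) := by
        rw [show g * x * g⁻¹ = c * x ^ j by rw [hc, inv_mul_cancel_right],
          ((hcx c h).pow_right j).mul_pow, ← pow_mul, ← pow_succ']
      rw [h1, h2, ← mul_assoc, mul_inv_cancel_right]
      exact mul_mem ih (pow_mem h _)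
  have h3 := hstep (p ^ k)
  rw [hg, one_mul, inv_one, mul_one] at h3
  have h4 : x ^ (j ^ (p ^ k)) = x ^ j := by
    refine pow_eq_pow_iff_modEq.2 (Nat.ModEq.of_dvd (orderOf_dvd_of_pow_eq_one hx) ?_)
    rw [← ZMod.natCast_eq_natCast_iff]
    push_cast
    exact ZMod.pow_card_pow _
  rw [h4] at h3
  have h5 := mul_mem h (inv_mem h3)
  convert h5 using 1
  rw [hc, mul_inv_rev, inv_inv]
  group

/-- In a `p`-group a proper subgroup is normalised by an element outside it. -/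
theorem exists_normalizing_elem [Finite G] {p : ℕ} [Fact p.Prime] {Q R : Subgroup G}
    (hQ : IsPGroup p Q) (h : R < Q) :
    ∃ g ∈ Q, g ∉ R ∧ g ∈ Subgroup.normalizer (R : Set G) := by
  haveI := hQ.isNilpotent
  have h1 : R.subgroupOf Q < ⊤ := lt_top_iff_ne_top.2 fun e =>
    h.not_ge (Subgroup.subgroupOf_eq_top.1 e)
  obtain ⟨g, hg, hgR⟩ := SetLike.exists_of_lt (Group.normalizerCondition_of_isNilpotent _ h1)
  refine ⟨g, g.2, hgR, Coprime.mem_normalizer_of_forall fun x hx => ?_⟩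
  exact (Subgroup.mem_normalizer_iff.1 hg ⟨x, h.le hx⟩).1 hx

namespace Failure

variable [Finite G] [Finite Ω] {D : Set G} {pt : G → Ω} {p : ℕ} [Fact p.Prime] {P : Subgroup G}
  (F : Failure D pt p P)
include F

/-- The kernel of the action of `N(P)` on `E` has odd order. -/
theorem odd_centralizer :
    Odd (Nat.card ↥(Subgroup.normalizer (P : Set G) ⊓ Subgroup.centralizer (omegaZ p P : Set G))) := by
  by_contra h
  haveI : Fact (Nat.Prime 2) := ⟨Nat.prime_two⟩
  obtain ⟨⟨t, ht⟩, ht2⟩ := exists_prime_orderOf_dvd_card' 2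
    (even_iff_two_dvd.1 (Nat.not_odd_iff_even.1 h))
  rw [Subgroup.orderOf_mk] at ht2
  exact F.not_centralizes_omega (F.all t ht2) ht.1 fun y hy =>
    mem_centralizer.2 ((Subgroup.mem_centralizer_iff.1 ht.2) y hy)

theorem centralizer_normalized {g : G} (hg : g ∈ Subgroup.normalizer (P : Set G)) :
    g ∈ Subgroup.normalizer
      ((Subgroup.normalizer (P : Set G) ⊓ Subgroup.centralizer (omegaZ p P : Set G) : Subgroup G) :
        Set G) := by
  refine Coprime.mem_normalizer_of_forall fun k hk =>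
    ⟨mem_normalizer_conj hg hk.1, Subgroup.mem_centralizer_iff.2 fun y hy => ?_⟩
  have h1 := Subgroup.mem_centralizer_iff.1 hk.2 _
    ((Subgroup.mem_normalizer_iff''.1 (F.omegaZ_normalized hg) y).1 hy)
  calc y * (g * k * g⁻¹) = g * ((g⁻¹ * y * g) * k) * g⁻¹ := by group
    _ = g * (k * (g⁻¹ * y * g)) * g⁻¹ := by rw [h1]
    _ = g * k * g⁻¹ * y := by group

theorem centralizer_fixes {k : G} (hk : k ∈ Subgroup.normalizer (P : Set G))
    (hkE : k ∈ Subgroup.centralizer (omegaZ p P : Set G)) {z : Ω}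
    (hz : P ≤ MulAction.stabilizer G z) : k • z = z :=
  MulAction.mem_stabilizer_iff.1 (F.kernel_fixes
    (K := Subgroup.normalizer (P : Set G) ⊓ Subgroup.centralizer (omegaZ p P : Set G)) inf_le_left
    (fun _ hg => F.centralizer_normalized hg) inf_le_right F.odd_centralizer hz ⟨hk, hkE⟩)

/-- A `p`-subgroup of `N(P)` containing `P` and centralising `E` is `P`. -/
theorem eq_of_centralizes {Q : Subgroup G} (hQ : IsPGroup p Q) (hPQ : P ≤ Q)
    (hQN : Q ≤ Subgroup.normalizer (P : Set G))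
    (hQE : Q ≤ Subgroup.centralizer (omegaZ p P : Set G)) : Q = P := by
  obtain ⟨x, y, hxy, hx, hy⟩ := F.two_points
  exact (Subgroup.eq_of_le_of_card_ge hPQ (F.max Q hQ x y hxy
    (fun q hq => F.centralizer_fixes (hQN hq) (hQE hq) hx)
    (fun q hq => F.centralizer_fixes (hQN hq) (hQE hq) hy))).symm

theorem conj_pt_fixed {k u : G} (hu : u ∈ D)
    (hku : k⁻¹ * u * k ∈ Subgroup.normalizer (P : Set G)) {x : G} (hx : x ∈ P) :
    (k * x * k⁻¹) • pt u = pt u := by
  have hD : k⁻¹ * u * k ∈ D := by simpa using F.pointClass.conj_mem k⁻¹ u hu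
  have h1 := MulAction.mem_stabilizer_iff.1 (F.pt_fixed hD hku hx)
  have h2 : pt (k⁻¹ * u * k) = k⁻¹ • pt u := by simpa using F.pointClass.pt_conj k⁻¹ hu
  rw [h2] at h1
  rw [mul_smul, mul_smul, h1, smul_inv_smul]

section Odd

variable {v : G} (hv : v ∈ D) (hvP : v ∈ Subgroup.normalizer (P : Set G)) {M : Subgroup G}
  (hMN : M ≤ Subgroup.normalizer (P : Set G)) (hM : Odd (Nat.card M))
  (hMn : ∀ g ∈ Subgroup.normalizer (P : Set G), g ∈ Subgroup.normalizer (M : Set G))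
  (hcomm : ∀ e ∈ D, e ∈ Subgroup.normalizer (P : Set G) → ∀ g ∈ Subgroup.normalizer (P : Set G),
    e * g * e⁻¹ * g⁻¹ ∈ M)
  (hmax : ∀ K : Subgroup G, K ≤ Subgroup.normalizer (P : Set G) → Odd (Nat.card K) →
    (∀ g ∈ Subgroup.normalizer (P : Set G), g ∈ Subgroup.normalizer (K : Set G)) → K ≤ M)
include hv hvP

/-- The elements of `E` centralised by `v` form a line. -/
theorem fixed_card :
    Nat.card (omegaZ p P ⊓ Subgroup.centralizer ({v} : Set G) : Subgroup G) = p := by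
  obtain ⟨k, hk, hC⟩ := (Nat.dvd_prime_pow (Fact.out : p.Prime)).1 (F.omega_card ▸
    Subgroup.card_dvd_of_le (inf_le_left :
      omegaZ p P ⊓ Subgroup.centralizer ({v} : Set G) ≤ omegaZ p P))
  have hk0 : k ≠ 0 := by
    rintro rfl
    obtain ⟨c, hc, hc1, hcv⟩ := F.exists_fixed_omega hv hvP
    have h := Subgroup.eq_bot_of_card_eq _ (by rw [hC, pow_zero])
    refine hc1 (Subgroup.mem_bot.1 (h ▸ ⟨hc, mem_centralizer.2 ?_⟩))
    show c * v = v * c
    calc c * v = (v * c * v) * v := by rw [hcv]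
      _ = v * c * (v * v) := by group
      _ = v * c := by rw [F.mul_self hv, mul_one]
  have hk2 : k ≠ 2 := by
    rintro rfl
    exact F.not_centralizes_omega hv hvP (inf_eq_left.1 (Subgroup.eq_of_le_of_card_ge inf_le_left
      (by rw [hC, F.omega_card])))
  rw [hC, show k = 1 by omega, pow_one]

theorem fixed_inter_line {y : G} (hy : y ∈ gen P v ⊓ omegaZ p P) (hyv : Commute y v) : y = 1 := by
  have h1 := F.line_inverted hv hvP hy
  rw [← hyv.eq, mul_assoc, F.mul_self hv, mul_one] at h1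
  have h3 : y * y = 1 := by nth_rw 2 [h1]; exact mul_inv_cancel _
  have h4 := F.odd_P.of_dvd_nat (Subgroup.orderOf_dvd_natCard P hy.2.1)
  exact orderOf_eq_one_iff.1 (Nat.eq_one_of_dvd_coprimes (Nat.coprime_two_left.2 h4)
    (orderOf_dvd_of_pow_eq_one (by rw [sq, h3])) dvd_rfl)

theorem omega_le_centralizer {g : G}
    (hL : ∀ y ∈ gen P v ⊓ omegaZ p P, Commute y g)
    (hC : ∀ y ∈ omegaZ p P ⊓ Subgroup.centralizer ({v} : Set G), Commute y g) :
    g ∈ Subgroup.centralizer (omegaZ p P : Set G) := by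
  obtain ⟨c, hc, hc1, hcv⟩ := F.exists_fixed_omega hv hvP
  have hcv' : Commute c v := by
    show c * v = v * c
    calc c * v = (v * c * v) * v := by rw [hcv]
      _ = v * c * (v * v) := by group
      _ = v * c := by rw [F.mul_self hv, mul_one]
  have h := F.omega_le_of inf_le_right (F.line_card hv hvP)
    (fun y hy => mem_centralizer.2 (hL y hy)) hc
    (mem_centralizer.2 (hC c ⟨hc, mem_centralizer.2 hcv'⟩))
    (fun h => hc1 (F.fixed_inter_line hv hvP h hcv'))
  exact Subgroup.mem_centralizer_iff.2 fun y hy => mem_centralizer.1 (h hy)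

include hMN hM hMn hcomm hmax

theorem centralizer_le :
    Subgroup.normalizer (P : Set G) ⊓ Subgroup.centralizer (omegaZ p P : Set G) ≤ M :=
  hmax _ inf_le_left F.odd_centralizer fun _ hg => F.centralizer_normalized hg

theorem le_odd : P ≤ M := fun x hx =>
  F.centralizer_le hv hvP hMN hM hMn hcomm hmax ⟨Subgroup.le_normalizer hx,
    Subgroup.mem_centralizer_iff.2 fun _ hy => (hy.2.2 x hx).symm⟩

/-- The elements of `p`-power order of `N(P)` lie in `M`. -/
theorem mem_odd {n : G} (hn : n ∈ Subgroup.normalizer (P : Set G)) {k : ℕ} (hnk : n ^ (p ^ k) = 1) :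
    n ∈ M := by
  have hline : ∀ w ∈ Subgroup.normalizer (P : Set G), Commute w v → ∀ i : ℕ, w ^ (p ^ i) = 1 →
      w ∈ M := by
    intro w hw hwv i hwi
    refine F.centralizer_le hv hvP hMN hM hMn hcomm hmax ⟨hw, ?_⟩
    have key : ∀ H : Subgroup G, H ≤ omegaZ p P → Nat.card H = p →
        (∀ y ∈ H, w * y * w⁻¹ ∈ H) → ∀ y ∈ H, Commute y w := by
      intro H hHE hH hHw y hy
      rcases eq_or_ne y 1 with rfl | hy1
      · exact Commute.one_left w
      have hgen : Subgroup.zpowers y = H := Subgroup.eq_of_le_of_card_ge (Subgroup.zpowers_le.2 hy)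
        (by rw [hH, Nat.card_zpowers, orderOf_eq_prime (hHE hy).2.1 hy1])
      obtain ⟨j, hj : y ^ j = w * y * w⁻¹⟩ :=
        mem_powers_iff_mem_zpowers.2 (hgen.ge (hHw y hy))
      have h1 := conj_mem_line (C := ⊥) hwi (hHE hy).2.1
        (fun c hc => by rw [Subgroup.mem_bot.1 hc]; group)
        (fun c hc => by rw [Subgroup.mem_bot.1 hc]; exact Commute.one_left y)
        (j := j) (Subgroup.mem_bot.2 (by rw [hj, mul_inv_cancel]))
      rw [Subgroup.mem_bot, mul_inv_eq_one, mul_inv_eq_iff_eq_mul] at h1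
      exact h1.symm
    refine F.omega_le_centralizer hv hvP (key _ inf_le_right (F.line_card hv hvP) fun y hy => ?_)
      (key _ inf_le_left (F.fixed_card hv hvP) fun y hy => ?_)
    · have := F.line_conj hw hy
      rwa [hwv.eq, mul_inv_cancel_right] at this
    · refine ⟨(Subgroup.mem_normalizer_iff.1 (F.omegaZ_normalized hw) y).1 hy.1, mem_centralizer.2 ?_⟩
      exact (hwv.mul_left (mem_centralizer.1 hy.2)).mul_left hwv.inv_left
  obtain ⟨r, hr, z, hz, hzv, rfl⟩ := F.exists_decomp hv hvP hMN hM hMn hcomm hn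
  set N := Subgroup.normalizer (P : Set G) with hN
  haveI : (M.subgroupOf N).Normal :=
    Subgroup.normal_subgroupOf_of_le_normalizer fun g hg => hMn g hg
  let φ := QuotientGroup.mk' (M.subgroupOf N)
  obtain ⟨i, m, hm, hzm⟩ := Nat.exists_eq_pow_mul_and_not_dvd (orderOf_pos z).ne' p
    (Fact.out : p.Prime).one_lt.ne'
  have h1 : z ^ m ∈ M := hline _ (pow_mem hz m) (hzv.pow_left m) i (by
    rw [← pow_mul, mul_comm, ← hzm, pow_orderOf_eq_one])
  have h2 : φ ⟨r * z, hn⟩ = φ ⟨z, hz⟩ := by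
    rw [show (⟨r * z, hn⟩ : N) = ⟨r, hMN hr⟩ * ⟨z, hz⟩ from rfl, map_mul,
      show φ ⟨r, hMN hr⟩ = 1 from (QuotientGroup.eq_one_iff _).2 hr, one_mul]
  have h3 : φ ⟨r * z, hn⟩ ^ m = 1 := by
    rw [h2, ← map_pow]
    exact (QuotientGroup.eq_one_iff _).2 h1
  have h4 : φ ⟨r * z, hn⟩ ^ (p ^ k) = 1 := by
    rw [← map_pow, show (⟨r * z, hn⟩ : N) ^ (p ^ k) = 1 from Subtype.ext hnk, map_one]
  have h5 : φ ⟨r * z, hn⟩ = 1 := orderOf_eq_one_iff.1 (Nat.eq_one_of_dvd_coprimes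
    (Nat.Coprime.pow_left k ((Fact.out : p.Prime).coprime_iff_not_dvd.2 hm))
    (orderOf_dvd_of_pow_eq_one h4) (orderOf_dvd_of_pow_eq_one h3))
  exact (QuotientGroup.eq_one_iff (⟨r * z, hn⟩ : N)).1 h5

theorem pgroup_le_odd {Q : Subgroup G} (hQ : IsPGroup p Q)
    (hQN : Q ≤ Subgroup.normalizer (P : Set G)) : Q ≤ M := by
  intro q hq
  obtain ⟨k, hk⟩ := hQ ⟨q, hq⟩
  exact F.mem_odd hv hvP hMN hM hMn hcomm hmax (hQN hq) (congrArg Subtype.val hk)

section Sylow

variable {P₁ : Subgroup G} (hPP₁ : P ≤ P₁) (hP₁M : P₁ ≤ M) (hP₁ : IsPGroup p P₁)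
  (hP₁card : Nat.card P₁ = p ^ (Nat.card M).factorization p)
  (hvP₁ : v ∈ Subgroup.normalizer (P₁ : Set G))
include hPP₁ hP₁M hP₁ hP₁card hvP₁

/-- An element of `M` that is of `p`-power order on `E` agrees with one of `P₁` on `E`. -/
theorem image_sylow {g : G} (hg : g ∈ M) {k : ℕ}
    (hgk : g ^ (p ^ k) ∈ Subgroup.centralizer (omegaZ p P : Set G)) :
    ∃ x ∈ P₁, x⁻¹ * g ∈ Subgroup.centralizer (omegaZ p P : Set G) := by
  set E := omegaZ p P with hE
  letI : CommGroup E :=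
    { (inferInstance : Group E) with mul_comm := fun a b => Subtype.ext (b.2.2.2 a a.2.1) }
  let φ : M →* MulAut E := E.normalizerMonoidHom.comp
    (Subgroup.inclusion fun m hm => F.omegaZ_normalized (hMN hm))
  have happly : ∀ (m : M) (y : E), ((φ m y : E) : G) = m * y * (m : G)⁻¹ := fun m y => rfl
  have hone : ∀ m : M, φ m = 1 ↔ (m : G) ∈ Subgroup.centralizer (E : Set G) := by
    intro m
    constructor
    · intro h
      refine Subgroup.mem_centralizer_iff.2 fun y hy => ?_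
      have h1 := happly m ⟨y, hy⟩
      rw [h] at h1
      calc y * (m : G) = (m * y * (m : G)⁻¹) * m := congrArg (· * (m : G)) h1
        _ = m * y := by group
    · intro h
      refine MulEquiv.ext fun y => Subtype.ext ?_
      rw [happly, ← Subgroup.mem_centralizer_iff.1 h y y.2, mul_inv_cancel_right]
      rfl
  let f := φ.rangeRestrict
  obtain ⟨S, hS⟩ := Coprime.exists_sylow_map_eq hP₁M hP₁card
  let T := S.mapSurjective φ.rangeRestrict_surjective
  haveI : (T : Subgroup φ.range).Normal := RankTwoPLength.normal_sylow_of_action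
    (fun y : E => Subtype.ext y.2.2.1) F.omega_card.le
    (hM.of_dvd_nat (Subgroup.card_dvd_of_surjective f φ.rangeRestrict_surjective)) φ.range.subtype
    φ.range.subtype_injective F.odd_prime T
  haveI := Sylow.unique_of_normal T inferInstance
  have hp : IsPGroup p (Subgroup.zpowers (f ⟨g, hg⟩)) := by
    refine IsPGroup.of_card_dvd_pow (n := k) ?_
    rw [Nat.card_zpowers]
    refine orderOf_dvd_of_pow_eq_one ?_
    rw [← map_pow]
    exact Subtype.ext ((hone _).2 hgk)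
  obtain ⟨T', hT'⟩ := hp.exists_le_sylow
  rw [Subsingleton.elim T' T] at hT'
  obtain ⟨s, hs, hsg⟩ := hT' (Subgroup.mem_zpowers _)
  refine ⟨s, hS ▸ Subgroup.mem_map_of_mem M.subtype hs, (hone (s⁻¹ * ⟨g, hg⟩)).1 ?_⟩
  rw [map_mul, map_inv, inv_mul_eq_one]
  exact congrArg Subtype.val hsg

theorem line_fixed_or {x : G} (hx : x ∈ P₁) (hxP : x ∉ P) :
    ¬ x ∈ Subgroup.centralizer (omegaZ p P : Set G) := by
  intro hxE
  refine hxP ?_
  set Q := P₁ ⊓ (Subgroup.normalizer (P : Set G) ⊓ Subgroup.centralizer (omegaZ p P : Set G))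
  have hQ := F.eq_of_centralizes (Q := Q) (hP₁.to_le inf_le_left)
    (le_inf hPP₁ (le_inf Subgroup.le_normalizer fun y hy =>
      Subgroup.mem_centralizer_iff.2 fun _ hw => (hw.2.2 y hy).symm))
    (inf_le_right.trans inf_le_left) (inf_le_right.trans inf_le_right)
  exact hQ.le ⟨hx, hMN (hP₁M hx), hxE⟩

/-- If `P₁ ≠ P` its fixed line on `E` is the one centralised by `v`, and `M` normalises it. -/
theorem fixed_line (hne : P₁ ≠ P) :
    omegaZ p P ⊓ Subgroup.centralizer (P₁ : Set G) =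
        omegaZ p P ⊓ Subgroup.centralizer ({v} : Set G) ∧
      ∀ m ∈ M, ∀ c ∈ omegaZ p P ⊓ Subgroup.centralizer ({v} : Set G),
        m * c * m⁻¹ ∈ omegaZ p P ⊓ Subgroup.centralizer ({v} : Set G) := by
  set E := omegaZ p P with hE
  set ell := E ⊓ Subgroup.centralizer (P₁ : Set G) with hell
  obtain ⟨x₀, hx₀, hx₀P⟩ := SetLike.exists_of_lt (lt_of_le_of_ne hPP₁ hne.symm)
  -- the fixed line
  have hne1 : ell ≠ ⊥ := by
    letI : CommGroup E :=
      { (inferInstance : Group E) with mul_comm := fun a b => Subtype.ext (b.2.2.2 a a.2.1) }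
    let φ : P₁ →* MulAut E := E.normalizerMonoidHom.comp
      (Subgroup.inclusion fun m hm => F.omegaZ_normalized (hMN (hP₁M hm)))
    have htop : (⊤ : Subgroup E) ≠ ⊥ := by
      haveI := (Subgroup.nontrivial_iff_ne_bot E).2 F.omega_ne_bot
      exact top_ne_bot
    obtain ⟨d, -, hd1, hd⟩ := RankTwoPLength.exists_fixed hP₁ F.omega_isPGroup φ ⊤
      (fun _ _ _ => Subgroup.mem_top _) htop
    intro h
    have hdm : (d : G) ∈ ell := ⟨d.2, Subgroup.mem_centralizer_iff.2 fun x hx => by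
      have h1 : x * (d : G) * x⁻¹ = d := congrArg Subtype.val (hd ⟨x, hx⟩)
      exact mul_inv_eq_iff_eq_mul.1 h1⟩
    rw [h, Subgroup.mem_bot] at hdm
    exact hd1 (Subtype.ext hdm)
  have hellE : ell ≠ E := fun h => F.line_fixed_or hv hvP hMN hM hMn hcomm hmax hPP₁ hP₁M hP₁
    hP₁card hvP₁ hx₀ hx₀P (Subgroup.mem_centralizer_iff.2 fun y hy =>
      (Subgroup.mem_centralizer_iff.1 (h.ge hy).2 x₀ hx₀).symm)
  have hcard : Nat.card ell = p := by
    obtain ⟨k, hk, hC⟩ := (Nat.dvd_prime_pow (Fact.out : p.Prime)).1 (F.omega_card ▸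
      Subgroup.card_dvd_of_le (inf_le_left : ell ≤ E))
    have hk0 : k ≠ 0 := by
      rintro rfl
      exact hne1 (Subgroup.eq_bot_of_card_eq _ (by rw [hC, pow_zero]))
    have hk2 : k ≠ 2 := by
      rintro rfl
      exact hellE (Subgroup.eq_of_le_of_card_ge inf_le_left (by rw [hC, F.omega_card]))
    rw [hC, show k = 1 by omega, pow_one]
  have hMl : ∀ m ∈ M, ∀ c ∈ ell, m * c * m⁻¹ ∈ ell := by
    intro m hm c hc
    refine ⟨(Subgroup.mem_normalizer_iff.1 (F.omegaZ_normalized (hMN hm)) c).1 hc.1,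
      Subgroup.mem_centralizer_iff.2 fun x hx => ?_⟩
    obtain ⟨n, hn⟩ := hP₁ ⟨x, hx⟩
    obtain ⟨x', hx', hk⟩ := F.image_sylow hv hvP hMN hM hMn hcomm hmax hPP₁ hP₁M hP₁ hP₁card hvP₁
      (g := m⁻¹ * x * m) (mul_mem (mul_mem (inv_mem hm) (hP₁M hx)) hm) (k := n) (by
        rw [show (m⁻¹ * x * m) ^ (p ^ n) = 1 by
          have := conj_pow (i := p ^ n) (a := m⁻¹) (b := x)
          rw [inv_inv, show x ^ (p ^ n) = 1 from congrArg Subtype.val hn, mul_one,
            inv_mul_cancel] at this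
          exact this]
        exact one_mem _)
    have h1 : Commute (x' * (x'⁻¹ * (m⁻¹ * x * m))) c :=
      Commute.mul_left (Subgroup.mem_centralizer_iff.1 hc.2 x' hx')
        (Subgroup.mem_centralizer_iff.1 hk c hc.1).symm
    rw [mul_inv_cancel_left] at h1
    calc x * (m * c * m⁻¹) = m * ((m⁻¹ * x * m) * c) * m⁻¹ := by group
      _ = m * (c * (m⁻¹ * x * m)) * m⁻¹ := by rw [h1.eq]
      _ = m * c * m⁻¹ * x := by group
  have hinter : ∀ y ∈ gen P v ⊓ E, y ∈ ell → y = 1 := by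
    intro y hy hyl
    by_contra hy1
    have h1 : Subgroup.zpowers y = ell := Subgroup.eq_of_le_of_card_ge
      (Subgroup.zpowers_le.2 hyl) (by rw [hcard, Nat.card_zpowers, orderOf_eq_prime hy.2.2.1 hy1])
    rw [F.line_eq hv hvP hy hy1] at h1
    refine F.line_moved hv hvP hMN hM hMn hcomm ?_
    rw [← hE, h1]
    exact hMl
  have hvell : ∀ y ∈ ell, v * y * v ∈ ell := by
    intro y hy
    refine ⟨F.conj_mem_omega hv hvP hy.1, Subgroup.mem_centralizer_iff.2 fun x hx => ?_⟩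
    have hx' : v * x * v ∈ P₁ := by
      have := (Subgroup.mem_normalizer_iff.1 hvP₁ x).1 hx
      rwa [F.inv_self hv] at this
    calc x * (v * y * v) = (v * v) * x * (v * y * v) := by rw [F.mul_self hv, one_mul]
      _ = v * ((v * x * v) * y) * v := by group
      _ = v * (y * (v * x * v)) * v := by rw [Subgroup.mem_centralizer_iff.1 hy.2 _ hx']
      _ = (v * y * v) * x * (v * v) := by group
      _ = v * y * v * x := by rw [F.mul_self hv, mul_one]
  have hle : ell ≤ E ⊓ Subgroup.centralizer ({v} : Set G) := by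
    intro y hy
    refine ⟨hy.1, mem_centralizer.2 ?_⟩
    set w := y⁻¹ * (v * y * v) with hw
    have hwl : w ∈ ell := mul_mem (inv_mem hy) (hvell y hy)
    have hwinv : v * w * v = w⁻¹ := by
      rw [hw, mul_inv_rev, mul_inv_rev, mul_inv_rev, inv_inv, F.inv_self hv]
      calc v * (y⁻¹ * (v * y * v)) * v = v * y⁻¹ * v * y * (v * v) := by group
        _ = _ := by rw [F.mul_self hv, mul_one]; group
    have h1 := hinter w (F.inverted_mem_line hv hwl.1 hwinv) hwl
    rw [hw, inv_mul_eq_one] at h1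
    show y * v = v * y
    calc y * v = (v * y * v) * v := by rw [← h1]
      _ = v * y * (v * v) := by group
      _ = v * y := by rw [F.mul_self hv, mul_one]
  have heq : ell = E ⊓ Subgroup.centralizer ({v} : Set G) :=
    Subgroup.eq_of_le_of_card_ge hle (by rw [hcard, F.fixed_card hv hvP])
  exact ⟨heq, heq ▸ hMl⟩

/-- `P₁` moves `E` along its fixed line. -/
theorem comm_mem_line (hne : P₁ ≠ P) {x : G} (hx : x ∈ P₁) {y : G}
    (hy : y ∈ gen P v ⊓ omegaZ p P) :
    x * y * x⁻¹ * y⁻¹ ∈ omegaZ p P ⊓ Subgroup.centralizer ({v} : Set G) := by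
  obtain ⟨heq, -⟩ := F.fixed_line hv hvP hMN hM hMn hcomm hmax hPP₁ hP₁M hP₁ hP₁card hvP₁ hne
  set E := omegaZ p P with hE
  set C := E ⊓ Subgroup.centralizer ({v} : Set G) with hC
  obtain ⟨k, hk⟩ := hP₁ ⟨x, hx⟩
  have hCx : ∀ c ∈ C, x * c * x⁻¹ = c := fun c hc => by
    rw [Subgroup.mem_centralizer_iff.1 (heq.ge hc).2 x hx, mul_inv_cancel_right]
  rcases eq_or_ne y 1 with rfl | hy1
  · simp
  -- `E` is the product of the two lines
  have hsup : E ≤ C ⊔ Subgroup.zpowers y := by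
    obtain ⟨c, hc, hc1⟩ := (Subgroup.bot_or_exists_ne_one C).resolve_left fun h => by
      have := F.fixed_card hv hvP
      rw [← hE, ← hC, h, Subgroup.card_bot] at this
      exact (Fact.out : p.Prime).one_lt.ne this
    refine F.omega_le_of (L := Subgroup.zpowers y) (Subgroup.zpowers_le.2 hy.2)
      (by rw [Nat.card_zpowers, orderOf_eq_prime hy.2.2.1 hy1]) le_sup_right hc.1
      (Subgroup.mem_sup_left hc) fun h => hc1 ?_
    exact F.fixed_inter_line hv hvP ((F.line_eq hv hvP hy hy1).le h) (mem_centralizer.1 hc.2)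
  have hxy : x * y * x⁻¹ ∈ E :=
    (Subgroup.mem_normalizer_iff.1 (F.omegaZ_normalized (hMN (hP₁M hx))) y).1 hy.2
  obtain ⟨c, hc, w, hw, hcw⟩ := (Coprime.mem_sup_iff (fun w hw => Coprime.mem_normalizer_of_forall
    fun c hc => by
      rw [hc.1.2.2 w ((Subgroup.zpowers_le.2 (hy.2.1 : y ∈ P)) hw), mul_inv_cancel_right]
      exact hc)).1 (hsup hxy)
  obtain ⟨j, hj : y ^ j = w⟩ := mem_powers_iff_mem_zpowers.2 hw
  refine conj_mem_line (C := C) (congrArg Subtype.val hk) hy.2.2.1 hCx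
    (fun c hc => (hy.2.2.2 c hc.1.1)) (j := j) ?_
  rw [← hcw, ← hj, mul_inv_cancel_right]
  exact hc

/-- `P` has index `p` in `P₁`. -/
theorem exists_pow_mem {x₀ : G} (hx₀ : x₀ ∈ P₁) (hx₀P : x₀ ∉ P) {x : G} (hx : x ∈ P₁) :
    ∃ i : ℕ, i < p ∧ (x₀ ^ i)⁻¹ * x ∈ P := by
  have hne : P₁ ≠ P := fun h => hx₀P (h.le hx₀)
  obtain ⟨heq, -⟩ := F.fixed_line hv hvP hMN hM hMn hcomm hmax hPP₁ hP₁M hP₁ hP₁card hvP₁ hne
  set C := omegaZ p P ⊓ Subgroup.centralizer ({v} : Set G) with hC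
  obtain ⟨y, hy, hy1⟩ := (Subgroup.bot_or_exists_ne_one _).resolve_left
    (F.gen_inf_omega_ne_bot hv hvP)
  have hcC : ∀ w ∈ P₁, ∀ c ∈ C, Commute w c := fun w hw c hc =>
    Subgroup.mem_centralizer_iff.1 (heq.ge hc).2 w hw
  have hcent : ∀ w ∈ P₁, w * y * w⁻¹ = y → w ∈ P := by
    intro w hw h
    by_contra hwP
    refine F.line_fixed_or hv hvP hMN hM hMn hcomm hmax hPP₁ hP₁M hP₁ hP₁card hvP₁ hw hwP
      (F.omega_le_centralizer hv hvP (fun z hz => ?_) fun c hc => (hcC w hw c hc).symm)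
    obtain ⟨i, rfl⟩ := Subgroup.mem_zpowers_iff.1 ((F.line_eq hv hvP hy hy1).ge hz)
    exact (show Commute w y from mul_inv_eq_iff_eq_mul.1 h).symm.zpow_left i
  set c₀ := x₀ * y * x₀⁻¹ * y⁻¹ with hc₀
  have hc₀C : c₀ ∈ C := F.comm_mem_line hv hvP hMN hM hMn hcomm hmax hPP₁ hP₁M hP₁ hP₁card hvP₁ hne
    hx₀ hy
  have hpow : ∀ i : ℕ, x₀ ^ i * y * (x₀ ^ i)⁻¹ = c₀ ^ i * y := by
    intro i
    induction i with
    | zero => simp
    | succ i ih =>
      calc x₀ ^ (i + 1) * y * (x₀ ^ (i + 1))⁻¹ = x₀ * (x₀ ^ i * y * (x₀ ^ i)⁻¹) * x₀⁻¹ := by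
            rw [pow_succ']; group
        _ = x₀ * c₀ ^ i * y * x₀⁻¹ := by rw [ih]; group
        _ = c₀ ^ i * (x₀ * y * x₀⁻¹) := by
            rw [(hcC x₀ hx₀ _ (pow_mem hc₀C i)).eq]; group
        _ = c₀ ^ (i + 1) * y := by
            rw [show x₀ * y * x₀⁻¹ = c₀ * y by rw [hc₀, inv_mul_cancel_right], pow_succ]; group
  have hc₀1 : c₀ ≠ 1 := fun h => hx₀P (hcent x₀ hx₀ (mul_inv_eq_one.1 h))
  have hgen : Subgroup.zpowers c₀ = C := Subgroup.eq_of_le_of_card_ge
    (Subgroup.zpowers_le.2 hc₀C)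
    (by rw [F.fixed_card hv hvP, Nat.card_zpowers, orderOf_eq_prime hc₀C.1.2.1 hc₀1])
  obtain ⟨i, hi : c₀ ^ i = x * y * x⁻¹ * y⁻¹⟩ := mem_powers_iff_mem_zpowers.2 (hgen.ge
    (F.comm_mem_line hv hvP hMN hM hMn hcomm hmax hPP₁ hP₁M hP₁ hP₁card hvP₁ hne hx hy))
  refine ⟨i % p, Nat.mod_lt _ (Fact.out : p.Prime).pos, hcent _ (mul_mem (inv_mem (pow_mem hx₀ _))
    hx) ?_⟩
  have h1 : x * y * x⁻¹ = x₀ ^ (i % p) * y * (x₀ ^ (i % p))⁻¹ := by
    rw [hpow, ← orderOf_eq_prime hc₀C.1.2.1 hc₀1, pow_mod_orderOf, hi, inv_mul_cancel_right]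
  calc (x₀ ^ (i % p))⁻¹ * x * y * ((x₀ ^ (i % p))⁻¹ * x)⁻¹
      = (x₀ ^ (i % p))⁻¹ * (x * y * x⁻¹) * x₀ ^ (i % p) := by group
    _ = y := by rw [h1]; group

/-- No element of `P₁` outside `P` fixes the point of `v`. -/
theorem not_fix {x : G} (hx : x ∈ P₁) (hxP : x ∉ P) : x • pt v ≠ pt v := by
  intro hxa
  have hne : P₁ ≠ P := fun h => hxP (h.le hx)
  obtain ⟨heq, hMl⟩ := F.fixed_line hv hvP hMN hM hMn hcomm hmax hPP₁ hP₁M hP₁ hP₁card hvP₁ hne
  have hPa := F.pt_fixed hv hvP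
  have hfix : ∀ w ∈ P₁, w • pt v = pt v := by
    intro w hw
    obtain ⟨i, -, hi⟩ := F.exists_pow_mem hv hvP hMN hM hMn hcomm hmax hPP₁ hP₁M hP₁ hP₁card hvP₁
      hx hxP hw
    rw [show w = x ^ i * ((x ^ i)⁻¹ * w) by group, mul_smul,
      MulAction.mem_stabilizer_iff.1 (hPa hi)]
    exact MulAction.mem_stabilizer_iff.1 (pow_mem (MulAction.mem_stabilizer_iff.2 hxa) i)
  obtain ⟨b, hb, hbP⟩ := F.exists_other (pt v)
  obtain ⟨m, hm, hmb⟩ := F.transitive hv hvP hMN hM hMn hcomm hbP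
  set E := omegaZ p P with hE
  set C := E ⊓ Subgroup.centralizer ({v} : Set G) with hC
  have hvi := F.inv_self hv
  have hv2 := F.mul_self hv
  set e := m * v * m⁻¹ with he
  have hmN := hMN hm
  have hgM : v * e ∈ M := by
    have := hcomm v hv hvP m hmN
    rw [hvi] at this
    rw [he]
    convert this using 1
    group
  have hsq : ∀ y ∈ E, v * y * v * y ∈ C := by
    intro y hy
    refine ⟨mul_mem (F.conj_mem_omega hv hvP hy) hy, mem_centralizer.2 ?_⟩
    show v * y * v * y * v = v * (v * y * v * y)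
    calc v * y * v * y * v = (v * y * v * y) * v := by group
      _ = (y * (v * y * v)) * v := by
          rw [show v * y * v * y = y * (v * y * v) from
            hy.2.2 _ (F.conj_mem_omega hv hvP hy).1 |>.symm |> fun h => h.symm]
      _ = y * v * y * (v * v) := by group
      _ = (v * v) * y * v * y := by rw [hv2]; group
      _ = v * (v * y * v * y) := by group
  have hCe : ∀ c ∈ C, e * c * e⁻¹ = c := by
    intro c hc
    have h1 : m⁻¹ * c * m ∈ C := by
      have := hMl m⁻¹ (inv_mem hm) c hc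
      rwa [inv_inv] at this
    calc e * c * e⁻¹ = m * (v * (m⁻¹ * c * m) * v⁻¹) * m⁻¹ := by rw [he]; group
      _ = m * (m⁻¹ * c * m) * m⁻¹ := by
          rw [← (mem_centralizer.1 h1.2).eq, mul_inv_cancel_right]
      _ = c := by group
  have hgC : ∀ c ∈ C, v * e * c * (v * e)⁻¹ = c := by
    intro c hc
    calc v * e * c * (v * e)⁻¹ = v * (e * c * e⁻¹) * v⁻¹ := by group
      _ = c := by rw [hCe c hc, ← (mem_centralizer.1 hc.2).eq, mul_inv_cancel_right]
  have hgE : ∀ y ∈ E, v * e * y * (v * e)⁻¹ * y⁻¹ ∈ C := by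
    intro y hy
    have hy' : m⁻¹ * y * m ∈ E :=
      (Subgroup.mem_normalizer_iff''.1 (F.omegaZ_normalized hmN) y).1 hy
    set c₁ := e * y * e⁻¹ * y with hc₁
    have hc₁C : c₁ ∈ C := by
      have := hMl m hm _ (hsq _ hy')
      convert this using 1
      rw [hc₁, he, mul_inv_rev, mul_inv_rev, inv_inv, hvi]
      group
    have h2 := mul_mem hc₁C (hsq y⁻¹ (inv_mem hy))
    convert h2 using 1
    calc v * e * y * (v * e)⁻¹ * y⁻¹ = v * c₁ * y⁻¹ * v⁻¹ * y⁻¹ := by rw [hc₁]; group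
      _ = c₁ * (v * y⁻¹ * v * y⁻¹) := by
          rw [← (mem_centralizer.1 hc₁C.2).eq, hvi]; group
  have hgp : (v * e) ^ (p ^ 1) ∈ Subgroup.centralizer (E : Set G) := by
    refine Subgroup.mem_centralizer_iff.2 fun y hy => ?_
    set d := v * e * y * (v * e)⁻¹ * y⁻¹ with hd
    have hdC := hgE y hy
    have hpow : ∀ i : ℕ, (v * e) ^ i * y * ((v * e) ^ i)⁻¹ = d ^ i * y := by
      intro i
      induction i with
      | zero => simp
      | succ i ih =>
        calc (v * e) ^ (i + 1) * y * ((v * e) ^ (i + 1))⁻¹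
            = v * e * ((v * e) ^ i * y * ((v * e) ^ i)⁻¹) * (v * e)⁻¹ :=
              (fun w : G => show w ^ (i + 1) * y * (w ^ (i + 1))⁻¹ = w * (w ^ i * y * (w ^ i)⁻¹) * w⁻¹ by
                rw [pow_succ']; group) _
          _ = (v * e * d ^ i * (v * e)⁻¹) * (v * e * y * (v * e)⁻¹) := by rw [ih]; group
          _ = d ^ i * (d * y) := by rw [hgC _ (pow_mem hdC i), hd, inv_mul_cancel_right]
          _ = d ^ (i + 1) * y := by rw [← mul_assoc, pow_succ]
    have h3 := hpow (p ^ 1)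
    rw [show d ^ (p ^ 1) = 1 by rw [pow_one]; exact hdC.1.2.1, one_mul] at h3
    exact (mul_inv_eq_iff_eq_mul.1 h3).symm
  obtain ⟨w, hw, hwk⟩ := F.image_sylow hv hvP hMN hM hMn hcomm hmax hPP₁ hP₁M hP₁ hP₁card hvP₁
    hgM hgp
  have h5 : (v * e) • pt v = pt v := by
    rw [show v * e = w * (w⁻¹ * (v * e)) by group, mul_smul,
      F.centralizer_fixes (mul_mem (inv_mem (hMN (hP₁M hw))) (hMN hgM)) hwk hPa, hfix w hw]
  rw [mul_smul, smul_eq_iff_eq_inv_smul, hvi, F.pointClass.smul_pt hv] at h5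
  have h6 := (F.pointClass.fixed_iff e (F.pointClass.conj_mem m v hv) _).1 h5
  rw [he, F.pointClass.pt_conj m hv, hmb] at h6
  exact hb h6.symm

/-- `P` is the only one of its conjugates in `P₁`. -/
theorem conj_unique {g : G} (hg : ∀ x ∈ P, g * x * g⁻¹ ∈ P₁) :
    g ∈ Subgroup.normalizer (P : Set G) := by
  by_contra hgN
  have hcard : Nat.card (P.map (MulAut.conj g).toMonoidHom) = Nat.card P :=
    Subgroup.card_map_of_injective (MulAut.conj g).injective
  set P' := P.map (MulAut.conj g).toMonoidHom with hP'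
  have hP'mem : ∀ s ∈ P', ∃ x ∈ P, g * x * g⁻¹ = s := by
    rintro _ ⟨x, hx, rfl⟩
    exact ⟨x, hx, rfl⟩
  have hP'1 : P' ≤ P₁ := by
    rintro _ ⟨x, hx, rfl⟩
    exact hg x hx
  have habel : ∀ s ∈ P', ∀ w ∈ P', s * w = w * s := by
    rintro _ ⟨x, hx, rfl⟩ _ ⟨w, hw, rfl⟩
    rw [← map_mul, ← map_mul, F.comm x hx w hw]
  obtain ⟨r, hr, hrP⟩ : ∃ r ∈ P', r ∉ P := by
    by_contra h
    push Not at h
    exact hgN (Coprime.mem_normalizer_of_forall fun x hx => h _ ⟨x, hx, rfl⟩)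
  have hr₁ := hP'1 hr
  have hne : P₁ ≠ P := fun h => hrP (h.le hr₁)
  obtain ⟨heq, -⟩ := F.fixed_line hv hvP hMN hM hMn hcomm hmax hPP₁ hP₁M hP₁ hP₁card hvP₁ hne
  have hsplit : ∀ x₀ ∈ P₁, x₀ ∉ P → ∀ x ∈ P₁, ∃ i : ℕ, i < p ∧ (x₀ ^ i)⁻¹ * x ∈ P :=
    fun x₀ h₀ h₁ x hx => F.exists_pow_mem hv hvP hMN hM hMn hcomm hmax hPP₁ hP₁M hP₁ hP₁card hvP₁
      h₀ h₁ hx
  set I := P ⊓ P' with hI
  set Z := P ⊓ Subgroup.centralizer (P₁ : Set G) with hZ
  have hIZ : I ≤ Z := by
    intro w hw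
    refine ⟨hw.1, Subgroup.mem_centralizer_iff.2 fun x hx => ?_⟩
    obtain ⟨i, -, hi⟩ := hsplit r hr₁ hrP x hx
    have h1 : Commute (r ^ i * ((r ^ i)⁻¹ * x)) w :=
      Commute.mul_left ((show Commute r w from habel r hr w hw.2).pow_left i)
        (F.comm _ hi w hw.1)
    rw [mul_inv_cancel_left] at h1
    exact h1
  -- the index of the intersection is `p`
  have hindex : Nat.card P ≤ p * Nat.card I := by
    have hchoice : ∀ s : P', ∃ i : ℕ, i < p ∧ (r ^ i)⁻¹ * (s : G) ∈ I := by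
      intro s
      obtain ⟨i, hip, hi⟩ := hsplit r hr₁ hrP s (hP'1 s.2)
      exact ⟨i, hip, hi, P'.mul_mem (P'.inv_mem (pow_mem hr i)) s.2⟩
    choose i hi hiI using hchoice
    have hinj : Function.Injective fun s : P' => ((⟨i s, hi s⟩ : Fin p), (⟨_, hiI s⟩ : I)) := by
      intro s t h
      simp only [Prod.mk.injEq, Fin.mk.injEq, Subtype.mk.injEq] at h
      rw [h.1] at h
      exact Subtype.ext (mul_left_cancel h.2)
    have := Nat.card_le_card_of_injective _ hinj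
    rwa [Nat.card_prod, Nat.card_fin, hcard] at this
  have hgrow : ∀ R : Subgroup G, I < R → R ≤ P → R = P := by
    intro R hIR hRP
    refine Subgroup.eq_of_le_of_card_ge hRP (hindex.trans ?_)
    obtain ⟨i, hi⟩ := (F.pgroup.to_le (inf_le_left : I ≤ P)).exists_card_eq
    obtain ⟨j, hj⟩ := (F.pgroup.to_le hRP).exists_card_eq
    have := card_lt_of_lt hIR
    rw [hi, hj] at this
    rw [hi, hj, ← pow_succ']
    exact Nat.pow_le_pow_right (Fact.out : p.Prime).pos
      ((Nat.pow_lt_pow_iff_right (Fact.out : p.Prime).one_lt).1 this)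
  obtain ⟨y, hy, hy1⟩ := (Subgroup.bot_or_exists_ne_one _).resolve_left
    (F.gen_inf_omega_ne_bot hv hvP)
  have hLZ : ∀ w ∈ gen P v ⊓ omegaZ p P, w ∈ Z → w = 1 := fun w hw hwZ =>
    F.fixed_inter_line hv hvP hw (mem_centralizer.1 (heq.le ⟨hw.2, hwZ.2⟩).2)
  have hZI : Z = I := by
    by_contra h
    exact hy1 (hLZ y hy ((hgrow Z (lt_of_le_of_ne hIZ (Ne.symm h)) inf_le_left).ge hy.2.1))
  have hvZ : ∀ z ∈ Z, v * z * v ∈ Z := by
    intro z hz
    refine ⟨F.conj_mem_P hv hvP hz.1, Subgroup.mem_centralizer_iff.2 fun x hx => ?_⟩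
    have hx' : v * x * v ∈ P₁ := by
      have := (Subgroup.mem_normalizer_iff.1 hvP₁ x).1 hx
      rwa [F.inv_self hv] at this
    calc x * (v * z * v) = (v * v) * x * (v * z * v) := by rw [F.mul_self hv, one_mul]
      _ = v * ((v * x * v) * z) * v := by group
      _ = v * (z * (v * x * v)) * v := by rw [Subgroup.mem_centralizer_iff.1 hz.2 _ hx']
      _ = (v * z * v) * x * (v * v) := by group
      _ = v * z * v * x := by rw [F.mul_self hv, mul_one]
  have hZv : Z ≤ Subgroup.centralizer ({v} : Set G) := by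
    rcases F.centralizes_or hv inf_le_left hvZ with h | ⟨w, hw, hw1, hwp, hwinv⟩
    · exact h
    · exact absurd (hLZ w (F.inverted_mem_line hv (F.mem_omega hw.1 hwp) hwinv) hw) hw1
  have hL : ∀ q ∈ P, ∃ z ∈ Z, ∃ l ∈ gen P v ⊓ omegaZ p P, z * l = q := by
    have hsup : Z ⊔ gen P v ⊓ omegaZ p P = P := by
      refine hgrow _ (lt_of_le_of_ne (hZI.ge.trans le_sup_left) fun h => hy1 (hLZ y hy ?_))
        (sup_le inf_le_left (inf_le_right.trans (omegaZ_le p P)))
      rw [hZI, h]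
      exact Subgroup.mem_sup_right hy
    intro q hq
    refine (Coprime.mem_sup_iff (fun l hl => Coprime.mem_normalizer_of_forall fun z hz => ?_)).1
      (hsup.ge hq)
    rw [(hl.2.2.2 z hz.1).symm, mul_inv_cancel_right]
    exact hz
  -- an element outside `P` inverted by `v`
  set x := r⁻¹ * (v * r * v) with hxdef
  have hvr : v * r * v ∈ P₁ := by
    have := (Subgroup.mem_normalizer_iff.1 hvP₁ r).1 hr₁
    rwa [F.inv_self hv] at this
  have hx₁ : x ∈ P₁ := mul_mem (inv_mem hr₁) hvr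
  have hvi := F.inv_self hv
  have hv2 := F.mul_self hv
  have hxinv : v * x * v = x⁻¹ := by
    rw [hxdef, mul_inv_rev, mul_inv_rev, mul_inv_rev, inv_inv, hvi]
    calc v * (r⁻¹ * (v * r * v)) * v = v * r⁻¹ * v * r * (v * v) := by group
      _ = _ := by rw [hv2, mul_one]; group
  have hxP : x ∉ P := by
    intro hxP
    haveI : Fact (Nat.Prime 2) := ⟨Nat.prime_two⟩
    obtain ⟨z, hz, hzf⟩ := exists_fixed_coset (p := 2)
      (Nat.two_dvd_ne_zero.2 (Nat.odd_iff.1 F.odd_P)) r (fun z => v * z * v) (fun z hz => by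
        have h2 : v * (r⁻¹ * z) * v ∈ P := F.conj_mem_P hv hvP hz
        have := mul_mem hxP h2
        convert this using 1
        rw [hxdef]
        calc r⁻¹ * (v * z * v) = r⁻¹ * v * r * 1 * (r⁻¹ * z) * v := by group
          _ = r⁻¹ * v * r * (v * v) * (r⁻¹ * z) * v := by rw [hv2]
          _ = _ := by group) (k := 1) (fun z => by
        show v * (v * z * v) * v = z
        calc v * (v * z * v) * v = (v * v) * z * (v * v) := by group
          _ = z := by rw [hv2]; group)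
    have hz1 : z ∈ P₁ := by
      have := mul_mem hr₁ (hPP₁ hz)
      rwa [mul_inv_cancel_left] at this
    have hzP : z ∉ P := fun h => hrP (by
      have := mul_mem h (inv_mem hz)
      rwa [mul_inv_rev, inv_inv, mul_inv_cancel_left] at this)
    refine F.not_fix hv hvP hMN hM hMn hcomm hmax hPP₁ hP₁M hP₁ hP₁card hvP₁ hz1 hzP
      (F.pointClass.commute_fix hv ?_)
    show z * v = v * z
    calc z * v = (v * z * v) * v := by rw [hzf]
      _ = v * z * (v * v) := by group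
      _ = v * z := by rw [hv2, mul_one]
  -- so `v` normalises `P'`
  have hvP' : v ∈ Subgroup.normalizer (P' : Set G) := by
    refine Coprime.mem_normalizer_of_forall fun s hs => ?_
    rw [hvi]
    obtain ⟨i, -, hi⟩ := hsplit x hx₁ hxP s (hP'1 hs)
    obtain ⟨z, hz, l, hl, hzl⟩ := hL _ hi
    have hs' : s = x ^ i * (z * l) := by rw [hzl, mul_inv_cancel_left]
    have hxi : v * x ^ i * v = (x ^ i)⁻¹ := by
      calc v * x ^ i * v = v * x ^ i * v⁻¹ := by rw [hvi]
        _ = (v * x * v⁻¹) ^ i := conj_pow.symm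
        _ = _ := by rw [hvi, hxinv, inv_pow]
    have hvs : v * s * v = (x ^ i)⁻¹ * z * l⁻¹ := by
      rw [hs']
      calc v * (x ^ i * (z * l)) * v = (v * x ^ i * v) * (v * z * v) * (v * l * v) := by
            rw [show (v * x ^ i * v) * (v * z * v) * (v * l * v) =
              v * x ^ i * (v * v) * z * (v * v) * l * v by group, hv2]; group
        _ = _ := by
            rw [hxi, F.line_inverted hv hvP hl, (mem_centralizer.1 (hZv hz)).symm.eq,
              mul_assoc z v v, hv2, mul_one]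
    have hk : (x ^ i)⁻¹ * l⁻¹ * x ^ i * l ∈ Z := by
      have h1 := F.comm_mem_line hv hvP hMN hM hMn hcomm hmax hPP₁ hP₁M hP₁ hP₁card hvP₁ hne
        (inv_mem (pow_mem hx₁ i)) (inv_mem hl)
      rw [inv_inv, inv_inv] at h1
      exact ⟨h1.1.1, (heq.ge h1).2⟩
    have hzs : v * s * v * s ∈ Z := by
      have h2 := mul_mem (mul_mem hz hk) hz
      convert h2 using 1
      have hzx : Commute (x ^ i) z := Subgroup.mem_centralizer_iff.1 hz.2 _ (pow_mem hx₁ i)
      rw [hvs, hs']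
      have hzl' : Commute l z := hl.2.2.2 z hz.1 |>.symm
      calc (x ^ i)⁻¹ * z * l⁻¹ * (x ^ i * (z * l))
          = ((x ^ i)⁻¹ * z) * (l⁻¹ * (x ^ i * z) * l) := by group
        _ = (z * (x ^ i)⁻¹) * (l⁻¹ * x ^ i * (z * l)) := by
            rw [hzx.inv_left.eq]; group
        _ = (z * (x ^ i)⁻¹) * (l⁻¹ * x ^ i * (l * z)) := by rw [hzl'.eq]
        _ = _ := by group
    rw [hZI] at hzs
    have := P'.mul_mem hzs.2 (P'.inv_mem hs)
    rwa [mul_inv_cancel_right] at this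
  -- so `P'` fixes the point of `v`
  have hgv : g⁻¹ * v * g ∈ Subgroup.normalizer (P : Set G) := by
    refine Coprime.mem_normalizer_of_forall fun w hw => ?_
    obtain ⟨w', hw', e⟩ := hP'mem _ ((Subgroup.mem_normalizer_iff.1 hvP' _).1
      (⟨w, hw, rfl⟩ : g * w * g⁻¹ ∈ P'))
    convert hw' using 1
    calc g⁻¹ * v * g * w * (g⁻¹ * v * g)⁻¹ = g⁻¹ * (v * (g * w * g⁻¹) * v⁻¹) * g := by group
      _ = w' := by rw [← e]; group
  obtain ⟨w, hw, rfl⟩ := hP'mem r hr
  exact F.not_fix hv hvP hMN hM hMn hcomm hmax hPP₁ hP₁M hP₁ hP₁card hvP₁ hr₁ hrP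
    (F.conj_pt_fixed hv hgv hw)

/-- `P₁` is a Sylow subgroup of `G`. -/
theorem sylow_eq {Q : Subgroup G} (hQ : IsPGroup p Q) (hle : P₁ ≤ Q) : Q = P₁ := by
  by_contra h
  obtain ⟨g, hgQ, hg₁, hgn⟩ := exists_normalizing_elem hQ (lt_of_le_of_ne hle (Ne.symm h))
  have hgN := F.conj_unique hv hvP hMN hM hMn hcomm hmax hPP₁ hP₁M hP₁ hP₁card hvP₁ (g := g)
    fun x hx => (Subgroup.mem_normalizer_iff.1 hgn x).1 (hPP₁ hx)
  have hR : IsPGroup p (P₁ ⊔ Subgroup.zpowers g : Subgroup G) :=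
    hQ.to_le (sup_le hle (Subgroup.zpowers_le.2 hgQ))
  have hRM : P₁ ⊔ Subgroup.zpowers g ≤ M := F.pgroup_le_odd hv hvP hMN hM hMn hcomm hmax hR
    (sup_le (hP₁M.trans hMN) (Subgroup.zpowers_le.2 hgN))
  have := Coprime.card_le_of_isPGroup hR hRM
  rw [← hP₁card] at this
  exact hg₁ ((Subgroup.eq_of_le_of_card_ge le_sup_left this).ge
    (Subgroup.mem_sup_right (Subgroup.mem_zpowers g)))

end Sylow

/-- `P` is a Sylow subgroup of the stabiliser of the point of `v`. -/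
theorem stab_sylow_eq {R : Subgroup G} (hR : IsPGroup p R) (hPR : P ≤ R)
    (hRa : R ≤ MulAction.stabilizer G (pt v)) : R = P := by
  by_contra h
  obtain ⟨g, hgR, hgP, hgN⟩ := exists_normalizing_elem hR (lt_of_le_of_ne hPR (Ne.symm h))
  set R₀ := P ⊔ Subgroup.zpowers g with hR₀
  have hR₀R : R₀ ≤ R := sup_le hPR (Subgroup.zpowers_le.2 hgR)
  have hR₀M : R₀ ≤ M := F.pgroup_le_odd hv hvP hMN hM hMn hcomm hmax (hR.to_le hR₀R)
    (sup_le Subgroup.le_normalizer (Subgroup.zpowers_le.2 hgN))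
  have hva := F.pointClass.smul_pt hv
  have hvK : v ∈ Subgroup.normalizer
      ((M ⊓ MulAction.stabilizer G (pt v) : Subgroup G) : Set G) := by
    refine Coprime.mem_normalizer_of_forall fun x hx =>
      ⟨(Subgroup.mem_normalizer_iff.1 (hMn v hvP) x).1 hx.1, MulAction.mem_stabilizer_iff.2 ?_⟩
    rw [mul_smul, mul_smul, inv_smul_eq_iff.2 hva.symm, MulAction.mem_stabilizer_iff.1 hx.2, hva]
  have hPM := F.le_odd hv hvP hMN hM hMn hcomm hmax
  obtain ⟨R₁, hPR₁, hR₁K, hvR₁, hR₁, hR₁card⟩ := exists_sylow_invariant (p := p)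
    (F.pointClass.inv v hv) hvK (hM.of_dvd_nat (Subgroup.card_dvd_of_le inf_le_left))
    (le_inf hPM (F.pt_fixed hv hvP)) F.pgroup hvP
  obtain ⟨P₁, hR₁P₁, hP₁M, hvP₁, hP₁, hP₁card⟩ := exists_sylow_invariant (p := p)
    (F.pointClass.inv v hv) (hMn v hvP) hM (hR₁K.trans inf_le_left) hR₁ hvR₁
  have hlt : Nat.card P < Nat.card R₀ := card_lt_of_lt (lt_of_le_of_ne le_sup_left fun e =>
    hgP (e.ge (Subgroup.mem_sup_right (Subgroup.mem_zpowers g))))
  have hle : Nat.card R₀ ≤ Nat.card R₁ := by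
    rw [hR₁card]
    exact Coprime.card_le_of_isPGroup (hR.to_le hR₀R) (le_inf hR₀M (hR₀R.trans hRa))
  obtain ⟨x, hx, hxP⟩ : ∃ x ∈ R₁, x ∉ P := by
    by_contra hc
    push Not at hc
    have := Subgroup.card_le_of_le (hc : R₁ ≤ P)
    omega
  exact F.not_fix hv hvP hMN hM hMn hcomm hmax (hPR₁.trans hR₁P₁) hP₁M hP₁ hP₁card hvP₁
    (hR₁P₁ hx) hxP (MulAction.mem_stabilizer_iff.1 (hR₁K hx).2)

end Odd

/-- **No centred subgroup of rank at most two beside a free one.** -/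
theorem false_of_free {X : Subgroup G} (hX : IsPGroup p X) (hfree : Free D pt X) {z : Ω}
    (hz : X ≤ MulAction.stabilizer G z) : False := by
  have PC := F.pointClass
  obtain ⟨v, hv, hvP⟩ := F.exists_mem
  obtain ⟨M, hMN, hM, hMn, hcomm, hmax⟩ := F.exists_odd
  obtain ⟨P₁, hPP₁, hP₁M, hvP₁, hP₁, hP₁card⟩ := exists_sylow_invariant (p := p)
    (PC.inv v hv) (hMn v hvP) hM (F.le_odd hv hvP hMN hM hMn hcomm hmax) F.pgroup hvP
  let S : Sylow p G := ⟨P₁, hP₁, fun hQ hle =>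
    F.sylow_eq hv hvP hMN hM hMn hcomm hmax hPP₁ hP₁M hP₁ hP₁card hvP₁ hQ hle⟩
  -- a conjugate of `P` contains `X`
  obtain ⟨k, hk⟩ : ∃ k : G, ∀ x ∈ X, k⁻¹ * x * k ∈ P := by
    obtain ⟨g, hg⟩ : ∃ g : G, g • pt v = z := by
      rcases eq_or_ne (pt v) z with h | h
      · exact ⟨1, by rw [one_smul, h]⟩
      obtain ⟨f, hf, hfz⟩ := PC.exists_at z
      obtain ⟨w, -, -, hw⟩ := PC.exists_mid hv hf (hfz.symm ▸ h)
      exact ⟨w, hw.trans hfz⟩
    set A := MulAction.stabilizer G (pt v) with hA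
    set X' := X.map (MulAut.conj g⁻¹).toMonoidHom with hX'
    have hX'A : X' ≤ A := by
      rintro _ ⟨x, hx, rfl⟩
      show (g⁻¹ * x * g⁻¹⁻¹) • pt v = pt v
      rw [inv_inv, mul_smul, mul_smul, hg, MulAction.mem_stabilizer_iff.1 (hz hx), ← hg,
        inv_smul_smul]
    have hPA : P ≤ A := F.pt_fixed hv hvP
    let T : Sylow p A := ⟨P.subgroupOf A, F.pgroup.comap_subtype, fun {Q} hQ hle => by
      have h1 := F.stab_sylow_eq hv hvP hMN hM hMn hcomm hmax (R := Q.map A.subtype) (hQ.map _)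
        (fun x hx => ⟨⟨x, hPA hx⟩, hle hx, rfl⟩) (Subgroup.map_subtype_le _)
      ext q
      rw [Subgroup.mem_subgroupOf, ← h1]
      exact ⟨fun h => ⟨q, h, rfl⟩, fun ⟨q', hq', e⟩ => Subtype.ext e ▸ hq'⟩⟩
    obtain ⟨T', hT'⟩ := (((hX.map (MulAut.conj g⁻¹).toMonoidHom).comap_subtype :
      IsPGroup p (X'.subgroupOf A))).exists_le_sylow
    obtain ⟨h, hh⟩ := MulAction.exists_smul_eq A T T'
    refine ⟨g * h, fun x hx => ?_⟩
    have hxA : g⁻¹ * x * g ∈ X' := ⟨x, hx, by simp⟩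
    have h1 := hT' (show (⟨_, hX'A hxA⟩ : A) ∈ X'.subgroupOf A from hxA)
    rw [← hh, Sylow.coe_subgroup_smul, Coprime.mem_conj] at h1
    have h2 : (h : G)⁻¹ * (g⁻¹ * x * g) * h ∈ P := h1
    convert h2 using 1
    group
  set P' := P.map (MulAut.conj k).toMonoidHom with hP'
  have hXP' : X ≤ P' := fun x hx => ⟨k⁻¹ * x * k, hk x hx, by
    show k * (k⁻¹ * x * k) * k⁻¹ = x
    group⟩
  have hP'X : P' ≤ Subgroup.normalizer (X : Set G) := by
    rintro _ ⟨w, hw, rfl⟩
    refine Coprime.mem_normalizer_of_forall fun x hx => ?_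
    show k * w * k⁻¹ * x * (k * w * k⁻¹)⁻¹ ∈ X
    rw [show k * w * k⁻¹ * x * (k * w * k⁻¹)⁻¹ = k * (w * (k⁻¹ * x * k) * w⁻¹) * k⁻¹ by group,
      F.comm w hw _ (hk x hx), mul_inv_cancel_right,
      show k * (k⁻¹ * x * k) * k⁻¹ = x by group]
    exact hx
  obtain ⟨u, hu, huX, humove⟩ := hfree
  refine humove ?_
  have hXodd : Odd (Nat.card X) := by
    have := Subgroup.card_dvd_of_le hXP'
    rw [hP', Subgroup.card_map_of_injective (MulAut.conj k).injective] at this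
    exact F.odd_P.of_dvd_nat this
  obtain ⟨N, hNX, hNodd, hnorm, hNcomm, -⟩ :=
    exists_core PC hXodd ⟨u, hu, huX, humove⟩ hu huX
  set K := N ⊔ P' with hK
  have hP'N : P' ≤ Subgroup.normalizer (N : Set G) := fun w hw =>
    Coprime.mem_normalizer_of_forall (hnorm w (hP'X hw))
  have hKX : K ≤ Subgroup.normalizer (X : Set G) := sup_le hNX hP'X
  have hKodd : Odd (Nat.card K) := by
    by_contra hev
    haveI : Fact (Nat.Prime 2) := ⟨Nat.prime_two⟩
    obtain ⟨⟨t, ht⟩, ht2⟩ := exists_prime_orderOf_dvd_card' 2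
      (even_iff_two_dvd.1 (Nat.not_odd_iff_even.1 hev))
    rw [Subgroup.orderOf_mk] at ht2
    obtain ⟨n, hn, q, hq, rfl⟩ := (Coprime.mem_sup_iff hP'N).1 ht
    have hq2 : q * q ∈ N := by
      have h1 : n * q * (n * q) = 1 := by rw [← sq, ← ht2, pow_orderOf_eq_one]
      have h2 := mul_mem hn ((Subgroup.mem_normalizer_iff.1 (hP'N hq) n).1 hn)
      have h3 : n * (q * n * q⁻¹) * (q * q) = 1 := by rw [← h1]; group
      rw [eq_inv_of_mul_eq_one_right h3]
      exact inv_mem h2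
    have hqodd : Odd (orderOf q) := by
      refine F.odd_P.of_dvd_nat ((Subgroup.orderOf_dvd_natCard _ hq).trans ?_)
      rw [hP', Subgroup.card_map_of_injective (MulAut.conj k).injective]
    obtain ⟨l, hl⟩ := hqodd
    have hqN : q ∈ N := by
      have h4 := pow_mem hq2 (l + 1)
      rwa [← sq, ← pow_mul, show 2 * (l + 1) = orderOf q + 1 by omega, pow_succ, pow_orderOf_eq_one,
        one_mul] at h4
    have h5 := hNodd.of_dvd_nat (Subgroup.orderOf_dvd_natCard N (mul_mem hn hqN))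
    rw [ht2] at h5
    exact absurd h5 (by decide)
  have huK : u ∈ Subgroup.normalizer (K : Set G) := by
    refine Coprime.mem_normalizer_of_forall fun x hx => ?_
    have := mul_mem (Subgroup.mem_sup_left (hNcomm x (hKX hx)) : _ ∈ K) hx
    rwa [inv_mul_cancel_right] at this
  obtain ⟨T, hXT, hTK, huT, hTp, hTcard⟩ := exists_sylow_invariant (p := p) (PC.inv u hu) huK
    hKodd (hXP'.trans le_sup_right) hX huX
  obtain ⟨T₀, hT₀⟩ := Coprime.exists_sylow_map_eq hTK hTcard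
  obtain ⟨T₁, hT₁⟩ := (((F.pgroup.map (MulAut.conj k).toMonoidHom).comap_subtype :
    IsPGroup p (P'.subgroupOf K))).exists_le_sylow
  obtain ⟨c, hc⟩ := MulAction.exists_smul_eq K T₁ T₀
  have hcT : ∀ w ∈ P, (c * k) * w * ((c : G) * k)⁻¹ ∈ T := by
    intro w hw
    have hw' : k * w * k⁻¹ ∈ P' := ⟨w, hw, rfl⟩
    have hwK : k * w * k⁻¹ ∈ K := Subgroup.mem_sup_right hw'
    have h1 := hT₁ (show (⟨_, hwK⟩ : K) ∈ P'.subgroupOf K from hw')
    have h2 : c * ⟨_, hwK⟩ * c⁻¹ ∈ (T₀ : Subgroup K) := by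
      rw [← hc, Sylow.coe_subgroup_smul]
      exact Coprime.conj_mem_conj.2 h1
    have h3 := hT₀ ▸ Subgroup.mem_map_of_mem K.subtype h2
    convert h3 using 1
    show _ = (c : G) * (k * w * k⁻¹) * (c : G)⁻¹
    group
  obtain ⟨S', hS'⟩ := hTp.exists_le_sylow
  obtain ⟨y, hy⟩ := MulAction.exists_smul_eq G S S'
  have huniq : ∀ f : G, (∀ w ∈ P, f * w * f⁻¹ ∈ T) → y⁻¹ * f ∈ Subgroup.normalizer (P : Set G) := by
    intro f hf
    refine F.conj_unique hv hvP hMN hM hMn hcomm hmax hPP₁ hP₁M hP₁ hP₁card hvP₁ fun w hw => ?_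
    have h1 := hS' (hf w hw)
    rw [← hy, Sylow.coe_subgroup_smul, Coprime.mem_conj] at h1
    have h2 : y⁻¹ * (f * w * f⁻¹) * y ∈ P₁ := h1
    convert h2 using 1
    group
  have h6 := huniq _ hcT
  have h7 := huniq (u * (c * k)) fun w hw => by
    have := (Subgroup.mem_normalizer_iff.1 huT _).1 (hcT w hw)
    convert this using 1
    group
  have h8 : ((c : G) * k)⁻¹ * u * (c * k) ∈ Subgroup.normalizer (P : Set G) := by
    have := mul_mem (inv_mem h6) h7
    convert this using 1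
    group
  intro x hx
  have hx' : k⁻¹ * ((c : G)⁻¹ * x * c) * k ∈ P :=
    hk _ ((Subgroup.mem_normalizer_iff''.1 (hKX c.2) x).1 hx)
  have h9 := F.conj_pt_fixed hu h8 hx'
  rw [show (c : G) * k * (k⁻¹ * ((c : G)⁻¹ * x * c) * k) * ((c : G) * k)⁻¹ = x by group] at h9
  exact MulAction.mem_stabilizer_iff.2 h9

end Failure

end Cfsg.Agent.Bender
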