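/-
A centred subgroup has rank at least three (owner: helper40).

`v` is a member of `D` at `a` normalising the centred subgroup `P` of rank at most two and `i` is
inverted by `v` in the line `[P, v] ∩ E`, `E = Ω₁ P`.

* `Failure.translation_fixes` : an element of `N(P)` centralising `i` fixes `a`
* `Failure.centralizer_omega_fixes` : `C(E)` fixes `a`
* `Failure.fixed_unique` : `E` fixes no other point of the orbit of `a` under `C(i)`
* `Failure.centralizer_line_fixes` : `C(i)` fixes `a`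
* `Failure.false` : there is no such subgroup
* `centred_rank_two_false` : the centred case of the step for rank at most two
-/
import Cfsg.Agent.Lib.Bender.RankTwo
import Cfsg.Agent.Lib.Bender.PairCore
import Cfsg.Agent.Lib.Bender.Good

set_option autoImplicit false
set_option linter.style.haveILetI false
set_option linter.unusedSectionVars false

namespace Cfsg.Agent.Bender

open Cfsg Involution Aschbacher
open scoped Pointwise commutatorElement

universe u v

variable {G : Type u} {Ω : Type v} [Group G] [MulAction G Ω]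

/-- A `p`-subgroup of `K` is carried by `K` into a maximal one. -/
theorem exists_conj_le_of_maximal [Finite G] {p : ℕ} [Fact p.Prime] {K P Q : Subgroup G}
    (hP : IsPGroup p P) (hPK : P ≤ K)
    (hmax : ∀ R : Subgroup G, IsPGroup p R → P ≤ R → R ≤ K → R = P)
    (hQ : IsPGroup p Q) (hQK : Q ≤ K) : ∃ h ∈ K, ∀ x ∈ Q, h * x * h⁻¹ ∈ P := by
  let T : Sylow p K := ⟨P.subgroupOf K, hP.comap_subtype, fun {R} hR hle => by
    have h1 := hmax (R.map K.subtype) (hR.map _) (fun x hx => ⟨⟨x, hPK hx⟩, hle hx, rfl⟩)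
      (Subgroup.map_subtype_le _)
    ext q
    rw [Subgroup.mem_subgroupOf, ← h1]
    exact ⟨fun h => ⟨q, h, rfl⟩, fun ⟨q', hq', e⟩ => Subtype.ext e ▸ hq'⟩⟩
  obtain ⟨T', hT'⟩ := (hQ.comap_subtype : IsPGroup p (Q.subgroupOf K)).exists_le_sylow
  obtain ⟨h, hh⟩ := MulAction.exists_smul_eq K T' T
  refine ⟨h, h.2, fun x hx => ?_⟩
  have h1 := hT' (show (⟨x, hQK hx⟩ : K) ∈ Q.subgroupOf K from hx)
  have h2 : h * ⟨x, hQK hx⟩ * h⁻¹ ∈ (T : Subgroup K) := by
    rw [← hh, Sylow.coe_subgroup_smul]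
    exact Coprime.conj_mem_conj.2 h1
  exact h2

namespace Centred

variable [Finite G] [Finite Ω] {D : Set G} {pt : G → Ω} {p : ℕ} [Fact p.Prime] {P : Subgroup G}
  (C : Centred D pt p P)
include C

/-- **The chain along an inverted line.** `g` is inverted by `v` and moves its point `a`; `R` lies in
every stabiliser of a pair on the line and controls the cores; `J` is normalised by the swappers and
fixes the core orbit of their points. -/
theorem line_false {v g : G} {J R : Subgroup G} (hv : v ∈ D) (hgo : Odd (orderOf g))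
    (hinv : v * g * v = g⁻¹) (hga : g • pt v ≠ pt v) (hJ : J ≠ ⊥) (hJp : IsPGroup p J)
    (hJR : J ≤ R) (hRJ : R ≤ Subgroup.normalizer (J : Set G))
    (hRpt : ∀ j : ℕ, R ≤ MulAction.stabilizer G (g ^ j • pt v))
    (hcore : ∀ j : ℕ, g ∈ Subgroup.zpowers (g ^ j) → ∀ X : Subgroup G,
      X ≤ twoPt G (pt v) (g ^ j • pt v) → ¬ p ∣ Nat.card X →
      R ≤ Subgroup.normalizer (X : Set G) → X ≤ core p (twoPt G (pt v) (g ^ j • pt v)))
    (hmul : ∀ j : ℕ, g ∈ Subgroup.zpowers (g ^ j) → ∀ w ∈ twoPt G (pt v) (g ^ j • pt v),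
      ∃ b ∈ core p (twoPt G (pt v) (g ^ j • pt v)), ∃ n ∈ twoPt G (pt v) (g ^ j • pt v),
        n ∈ Subgroup.normalizer (J : Set G) ∧ b * n = w)
    (hJu : ∀ j : ℕ, g ^ j * v * (g ^ j)⁻¹ ∈ Subgroup.normalizer (J : Set G))
    (hfix : ∀ j : ℕ, (g ^ j * v * (g ^ j)⁻¹) • pt v ≠ pt v →
      ∀ b ∈ core p (twoPt G (pt v) ((g ^ j * v * (g ^ j)⁻¹) • pt v)),
        J ≤ MulAction.stabilizer G (b • g ^ j • pt v)) : False := by
  have PC := C.pointClass
  have hvi : v⁻¹ = v := inv_eq (PC.inv v hv)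
  have hv2 : v * v = 1 := mul_self (PC.inv v hv)
  set a := pt v with ha
  have hva : v • a = a := PC.smul_pt hv
  have hinvpow : ∀ j : ℕ, v * g ^ j * v = (g ^ j)⁻¹ := fun j => by
    calc v * g ^ j * v = v * g ^ j * v⁻¹ := by rw [hvi]
      _ = (v * g * v⁻¹) ^ j := conj_pow.symm
      _ = _ := by rw [hvi, hinv, inv_pow]
  obtain ⟨l, hl⟩ := hgo
  set e := l + 1 with he
  have hstep : ∀ k : ℕ, g ^ (e ^ (k + 1)) * g ^ (e ^ (k + 1)) = g ^ (e ^ k) := by
    intro k
    rw [← pow_add, show e ^ (k + 1) + e ^ (k + 1) = orderOf g * e ^ k + e ^ k by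
        rw [hl, he]; ring, pow_add, pow_mul, pow_orderOf_eq_one, one_pow, one_mul]
  have hroot : ∀ k : ℕ, (g ^ (e ^ k)) ^ (2 ^ k) = g := by
    intro k
    induction k with
    | zero => simp
    | succ k ih => rw [pow_succ' 2 k, pow_mul, sq, hstep, ih]
  have hcop : e.Coprime (orderOf g) := by
    refine Nat.coprime_of_dvd' fun q _ h1 h2 => ?_
    have h3 : q ∣ 2 * e := h1.mul_left 2
    have h4 : 2 * e = orderOf g + 1 := by omega
    rw [h4] at h3
    exact (Nat.dvd_add_right h2).1 h3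
  have hgen : ∀ k : ℕ, g ∈ Subgroup.zpowers (g ^ (e ^ k)) := fun k =>
    ⟨((2 ^ k : ℕ) : ℤ), by simp only [zpow_natCast]; exact hroot k⟩
  set t := Nat.totient (orderOf g) with ht
  have htpos : 0 < t := Nat.totient_pos.2 (orderOf_pos g)
  set y : ℕ → Ω := fun k => g ^ (e ^ k) • a with hy
  have hper : ∀ k, y (k + t) = y k := by
    intro k
    show g ^ (e ^ (k + t)) • a = g ^ (e ^ k) • a
    congr 1
    refine pow_eq_pow_iff_modEq.2 ?_
    rw [pow_add]
    conv_rhs => rw [← mul_one (e ^ k)]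
    exact (Nat.ModEq.pow_totient hcop).mul_left _
  have hyne : ∀ k, y k ≠ a := by
    intro k h
    have h1 : g ^ (e ^ k) ∈ MulAction.stabilizer G a := MulAction.mem_stabilizer_iff.2 h
    have := pow_mem h1 (2 ^ k)
    rw [hroot, MulAction.mem_stabilizer_iff] at this
    exact hga this
  have hRK : ∀ k, R ≤ twoPt G a (y k) := fun k => le_inf (fun x hx => by
    have := hRpt 0 hx
    rwa [pow_zero, one_smul] at this) (hRpt _)
  set u : ℕ → G := fun k => g ^ (e ^ (k + 1)) * v * (g ^ (e ^ (k + 1)))⁻¹ with hu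
  have huD : ∀ k, u k ∈ D := fun k => PC.conj_mem _ v hv
  have hua : ∀ k, u k • a = y k := by
    intro k
    have h1 : u k = g ^ (e ^ k) * v := by
      rw [← hstep k]
      calc u k = g ^ (e ^ (k + 1)) * v * (g ^ (e ^ (k + 1)))⁻¹ := rfl
        _ = g ^ (e ^ (k + 1)) * v * (v * g ^ (e ^ (k + 1)) * v) := by rw [hinvpow]
        _ = g ^ (e ^ (k + 1)) * (v * v) * g ^ (e ^ (k + 1)) * v := by group
        _ = _ := by rw [hv2]; group
    rw [h1, mul_smul, hva]
  have hupt : ∀ k, pt (u k) = y (k + 1) := fun k => PC.pt_conj _ hv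
  set A : ℕ → Subgroup G := fun k => core p (twoPt G a (y k)) with hA
  set T : ℕ → Subgroup G := fun k => ⁅A k, J⁆ with hT
  have hJA : ∀ k, J ≤ Subgroup.normalizer (A k : Set G) := fun k =>
    (hJR.trans (hRK k)).trans (le_normalizer_core p _)
  have hTA : ∀ k, T k ≤ A k := fun k => Subgroup.le_normalizer_iff_commutator_le_left.1 (hJA k)
  have hJcop : ∀ k, (Nat.card J).Coprime (Nat.card (A k)) := fun k => by
    obtain ⟨n, hn⟩ := hJp.exists_card_eq
    rw [hn]
    exact Nat.Coprime.pow_left n ((Fact.out : p.Prime).coprime_iff_not_dvd.2 not_dvd_card_core)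
  have hsolv : ∀ k, Group.IsSolvable (A k) := fun k =>
    OddOrderTheorem.solvable (odd_card_core (C.odd a (y k) (hyne k).symm))
  have hstepT : ∀ k, T k ≤ T (k + 1) := by
    intro k
    have hle : T k ≤ twoPt G a (y (k + 1)) := by
      refine le_inf ((hTA k).trans ((core_le p _).trans inf_le_left)) ?_
      rw [hT, Subgroup.commutator_le]
      intro b hb j hj
      have h1 : j • b⁻¹ • y (k + 1) = b⁻¹ • y (k + 1) :=
        MulAction.mem_stabilizer_iff.1 (hfix (e ^ (k + 1))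
          (show u k • a ≠ a by rw [hua]; exact hyne k) b⁻¹
          (by rw [show (g ^ (e ^ (k + 1)) * v * (g ^ (e ^ (k + 1)))⁻¹) • a = y k from hua k]
              exact (A k).inv_mem hb) hj)
      rw [MulAction.mem_stabilizer_iff, commutatorElement_def, mul_smul, mul_smul, mul_smul,
        inv_smul_eq_iff.2 (MulAction.mem_stabilizer_iff.1 ((hRK (k + 1)) (hJR hj)).2).symm, h1,
        smul_inv_smul]
    have hAk : T k ≤ A (k + 1) := hcore _ (hgen (k + 1)) (T k) hle
      (fun h => not_dvd_card_core (h.trans (Subgroup.card_dvd_of_le (hTA k))))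
      (fun r hr => mem_normalizer_commutator_of (le_normalizer_core p _ (hRK k hr)) (hRJ hr))
    calc T k = ⁅T k, J⁆ :=
          (Coprime.commutator_commutator_eq (hJA k) (hJcop k) (Or.inr (hsolv k))).symm
      _ ≤ T (k + 1) := Subgroup.commutator_mono hAk le_rfl
  have hmono : Monotone T := monotone_nat_of_le_succ hstepT
  have hTt : T 0 = T t := congrArg (fun z => (⁅core p (twoPt G a z), J⁆ : Subgroup G))
    (by simpa using (hper 0).symm)
  have h01 : T 0 = T 1 := le_antisymm (hmono zero_le_one) (hTt ▸ hmono htpos)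
  have huy : u 1 • y 1 = a := by rw [← hua 1, PC.smul_smul_self (huD 1)]
  have hu0 : pt (u 0) = y 1 := hupt 0
  have hcom : twoPt G (y 1) a = twoPt G a (y 1) := inf_comm _ _
  by_cases hbot : T 1 = ⊥
  · have hcent : A 1 ≤ Subgroup.normalizer (J : Set G) :=
      (Subgroup.commutator_eq_bot_iff_le_centralizer.1 hbot).trans
        (Subgroup.centralizer_le_normalizer _)
    refine C.crit J (y 1) a (hyne 1) hJ (hcom ▸ hJR.trans (hRK 1)) ?_ (u 0) (huD 0) hu0 (hJu _)
      (u 1) (huD 1) huy (hJu _)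
    rw [hcom]
    intro w hw
    obtain ⟨b, hb, n, -, hn, rfl⟩ := hmul _ (hgen 1) w hw
    exact mul_mem (hcent hb) hn
  · refine C.crit (T 1) (y 1) a (hyne 1) hbot (hcom ▸ (hTA 1).trans (core_le p _)) ?_ (u 0) (huD 0)
      hu0 (h01 ▸ mem_normalizer_commutator_of
        (normalizer_le_core p _ (C.normalizes_twoPt (huD 0) (hua 0))) (hJu _))
      (u 1) (huD 1) huy (mem_normalizer_commutator_of
        (normalizer_le_core p _ (C.normalizes_twoPt (huD 1) (hua 1))) (hJu _))
    rw [hcom]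
    intro w hw
    obtain ⟨b, hb, n, hnK, hn, rfl⟩ := hmul _ (hgen 1) w hw
    exact mul_mem (Subgroup.normalizer_commutator_ge_left (A 1) J hb)
      (mem_normalizer_commutator_of (le_normalizer_core p _ hnK) hn)

end Centred

namespace Failure

variable [Finite G] [Finite Ω] {D : Set G} {pt : G → Ω} {p : ℕ} [Fact p.Prime] {P : Subgroup G}
  (F : Failure D pt p P) {v : G} (hv : v ∈ D) (hvP : v ∈ Subgroup.normalizer (P : Set G))
include F hv hvP

theorem sylow_stab {R : Subgroup G} (hR : IsPGroup p R) (hPR : P ≤ R)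
    (hRa : R ≤ MulAction.stabilizer G (pt v)) : R = P := by
  obtain ⟨M, hMN, hM, hMn, hcomm, hmax⟩ := F.exists_odd
  exact F.stab_sylow_eq hv hvP hMN hM hMn hcomm hmax hR hPR hRa

theorem exists_conj_stab {Q : Subgroup G} (hQ : IsPGroup p Q)
    (hQa : Q ≤ MulAction.stabilizer G (pt v)) :
    ∃ h ∈ MulAction.stabilizer G (pt v), ∀ x ∈ Q, h * x * h⁻¹ ∈ P :=
  exists_conj_le_of_maximal F.pgroup (F.pt_fixed hv hvP)
    (fun _ hR hPR hRa => F.sylow_stab hv hvP hR hPR hRa) hQ hQa

theorem rank_stab {K : Subgroup G} (hK : K ≤ MulAction.stabilizer G (pt v)) :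
    Cfsg.PRankLE p 2 K := by
  intro A hA hexp
  haveI := hA
  set A' := A.map K.subtype
  have hA' : IsPGroup p A' := by
    rintro ⟨x, y, hy, rfl⟩
    exact ⟨1, Subtype.ext (show K.subtype y ^ (p ^ 1) = 1 by
      rw [pow_one, ← map_pow, hexp y hy, map_one])⟩
  obtain ⟨h, -, hh⟩ := F.exists_conj_stab hv hvP hA' ((Subgroup.map_subtype_le _).trans hK)
  have hle : A'.map (MulAut.conj h).toMonoidHom ≤ P := by
    rintro _ ⟨x, hx, rfl⟩
    exact hh x hx
  rw [← Cores.card_map_subtype K A, ← Subgroup.card_map_of_injective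
    (f := (MulAut.conj h).toMonoidHom) (MulAut.conj h).injective]
  refine F.card_le_sq hle ?_ ?_
  · rintro _ ⟨_, ⟨y, hy, rfl⟩, rfl⟩
    rw [← map_pow, ← map_pow, hexp y hy, map_one, map_one]
  · rintro _ ⟨_, ⟨y, hy, rfl⟩, rfl⟩ _ ⟨_, ⟨z, hz, rfl⟩, rfl⟩
    rw [← map_mul, ← map_mul, ← map_mul, ← map_mul,
      show y * z = z * y from congrArg Subtype.val (hA.is_comm.comm ⟨y, hy⟩ ⟨z, hz⟩)]

/-- A conjugate of `E` inside `P` is `E`. -/
theorem mem_omega_normalizer {n : G} (h : ∀ x ∈ omegaZ p P, n * x * n⁻¹ ∈ P) :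
    n ∈ Subgroup.normalizer (omegaZ p P : Set G) :=
  Coprime.mem_normalizer_of_forall fun x hx => F.mem_omega (h x hx)
    (by rw [conj_pow, hx.2.1, mul_one, mul_inv_cancel])

section Line

variable {i : G} (hi : i ∈ gen P v ⊓ omegaZ p P) (hi1 : i ≠ 1)
include hi hi1

theorem line_le_centralizer {w : G} (hw : Commute w i) :
    ∀ x ∈ gen P v ⊓ omegaZ p P, Commute x w := by
  intro x hx
  obtain ⟨j, rfl⟩ := Subgroup.mem_zpowers_iff.1 ((F.line_eq hv hvP hi hi1).ge hx)
  exact (hw.symm).zpow_left j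

theorem odd_line_centralizer : Odd (Nat.card ↥(Subgroup.centralizer ({i} : Set G))) :=
  odd_centralizer_of_centred F.pointClass F.odd F.crit F.odd_prime F.pgroup F.ne_bot F.two_points
    F.max F.centred F.all hv hvP hi.2.1 hi1 (by rw [F.inv_self hv, F.line_inverted hv hvP hi])

theorem normalizes_line_centralizer :
    v ∈ Subgroup.normalizer ((Subgroup.centralizer ({i} : Set G) : Subgroup G) : Set G) := by
  refine Coprime.mem_normalizer_of_forall fun x hx => mem_centralizer.2 ?_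
  have hvi := F.inv_self hv
  have h1 : v * i * v⁻¹ = i⁻¹ := by rw [hvi]; exact F.line_inverted hv hvP hi
  have h2 := ((mem_centralizer.1 hx).inv_right).map (MulAut.conj v)
  simp only [MulAut.conj_apply] at h2
  rwa [show v * i⁻¹ * v⁻¹ = i by simpa [mul_inv_rev, mul_assoc] using congrArg (·⁻¹) h1] at h2

/-- **No translation.** An element of `N(P)` centralising `i` fixes the point of `v`. -/
theorem translation_fixes {g : G} (hg : g ∈ Subgroup.normalizer (P : Set G)) (hgi : Commute g i) :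
    g • pt v = pt v := by
  obtain ⟨M, hMN, hM, hMn, hcomm, hmax⟩ := F.exists_odd
  obtain ⟨P₁, hPP₁, hP₁M, hvP₁, hP₁, hP₁card⟩ := exists_sylow_invariant (p := p)
    (F.pointClass.inv v hv) (hMn v hvP) hM (F.le_odd hv hvP hMN hM hMn hcomm hmax) F.pgroup hvP
  set E := omegaZ p P with hE
  have hvi := F.inv_self hv
  have hv2 := F.mul_self hv
  set e := g⁻¹ * v * g with he
  have heD : e ∈ D := by simpa [he] using F.pointClass.conj_mem g⁻¹ v hv
  have heP : e ∈ Subgroup.normalizer (P : Set G) := by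
    simpa [he] using mem_normalizer_conj (inv_mem hg) hvP
  have hei : e * i * e = i⁻¹ := by
    calc e * i * e = g⁻¹ * v * (g * i) * g⁻¹ * v * g := by rw [he]; group
      _ = g⁻¹ * v * (i * g) * g⁻¹ * v * g := by rw [hgi.eq]
      _ = g⁻¹ * (v * i * v) * g := by group
      _ = g⁻¹ * (i⁻¹ * g) := by rw [F.line_inverted hv hvP hi]; group
      _ = g⁻¹ * (g * i⁻¹) := by rw [hgi.inv_right.eq]
      _ = i⁻¹ := by group
  have hiL : i ∈ gen P e ⊓ E := F.inverted_mem_line heD hi.2 hei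
  have hLe : gen P e ⊓ E = gen P v ⊓ E := by
    rw [← F.line_eq heD heP hiL hi1, F.line_eq hv hvP hi hi1]
  have hsplit : ∀ w ∈ D, w ∈ Subgroup.normalizer (P : Set G) → gen P w ⊓ E = gen P v ⊓ E →
      ∀ y ∈ E, y⁻¹ * (w * y * w) ∈ gen P v ⊓ E := by
    intro w hw hwP hwL y hy
    rw [← hwL]
    refine F.inverted_mem_line hw (mul_mem (inv_mem hy) (F.conj_mem_omega hw hwP hy)) ?_
    rw [mul_inv_rev, mul_inv_rev, mul_inv_rev, inv_inv, F.inv_self hw]
    calc w * (y⁻¹ * (w * y * w)) * w = w * y⁻¹ * w * y * (w * w) := by group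
      _ = _ := by rw [F.mul_self hw, mul_one]; group
  set d := e * v with hd
  have hdM : d ∈ M := by
    have h1 := (Subgroup.mem_normalizer_iff''.1 (hMn g hg) _).1 (hcomm v hv hvP g hg)
    rw [hvi] at h1
    rw [hd, he]
    convert h1 using 1
    group
  have hdi : Commute d i := by
    show d * i = i * d
    have hiv : v * i⁻¹ * v = i := by
      have h2 := congrArg (·⁻¹) (F.line_inverted hv hvP hi)
      simpa [mul_inv_rev, hvi, mul_assoc] using h2
    have hei' : e * i⁻¹ * e = i := by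
      have h2 := congrArg (·⁻¹) hei
      simpa [mul_inv_rev, F.inv_self heD, mul_assoc] using h2
    calc d * i = e * (v * i * v) * v := by
          rw [hd, show e * (v * i * v) * v = e * v * i * (v * v) by group, hv2, mul_one]
      _ = e * i⁻¹ * v := by rw [F.line_inverted hv hvP hi]
      _ = e * i⁻¹ * (e * e) * v := by rw [F.mul_self heD, mul_one]
      _ = (e * i⁻¹ * e) * (e * v) := by group
      _ = i * d := by rw [hei']
  have hdL := F.line_le_centralizer hv hvP hi hi1 hdi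
  have hdE : ∀ y ∈ E, d * y * d⁻¹ * y⁻¹ ∈ gen P v ⊓ E := by
    intro y hy
    set w₁ := y⁻¹ * (v * y * v) with hw₁
    set w₂ := y⁻¹ * (e * y * e) with hw₂
    have h1 := hsplit v hv hvP rfl y hy
    have h2 := hsplit e heD heP hLe y hy
    have h3 : d * y * d⁻¹ = (e * y * e) * (e * w₁ * e) := by
      calc d * y * d⁻¹ = e * (v * y * v⁻¹) * e⁻¹ := by rw [hd]; group
        _ = e * (y * w₁) * e := by rw [hvi, F.inv_self heD, hw₁, mul_inv_cancel_left]
        _ = e * y * 1 * w₁ * e := by group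
        _ = e * y * (e * e) * w₁ * e := by rw [F.mul_self heD]
        _ = _ := by group
    rw [h3, F.line_inverted heD heP (hLe.ge h1)]
    have h4 : (e * y * e) * w₁⁻¹ * y⁻¹ = w₂ * w₁⁻¹ := by
      rw [show e * y * e = y * w₂ by rw [hw₂, mul_inv_cancel_left]]
      have hc : Commute y (w₂ * w₁⁻¹) :=
        ((mul_mem h2.2 (inv_mem h1.2) : w₂ * w₁⁻¹ ∈ E).2.2 y hy.1)
      rw [mul_assoc y w₂, hc.eq, mul_inv_cancel_right]
    rw [h4]
    exact mul_mem h2 (inv_mem h1)
  have hdp : d ^ (p ^ 1) ∈ Subgroup.centralizer (E : Set G) := by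
    refine Subgroup.mem_centralizer_iff.2 fun y hy => ?_
    set c := d * y * d⁻¹ * y⁻¹ with hc
    have hcL := hdE y hy
    have hpow : ∀ j : ℕ, d ^ j * y * (d ^ j)⁻¹ = c ^ j * y := by
      intro j
      induction j with
      | zero => simp
      | succ j ih =>
        calc d ^ (j + 1) * y * (d ^ (j + 1))⁻¹ = d * (d ^ j * y * (d ^ j)⁻¹) * d⁻¹ :=
              (fun w : G => show w ^ (j + 1) * y * (w ^ (j + 1))⁻¹ = w * (w ^ j * y * (w ^ j)⁻¹) * w⁻¹ by
                rw [pow_succ']; group) _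
          _ = (d * c ^ j * d⁻¹) * (d * y * d⁻¹) := by rw [ih]; group
          _ = c ^ j * (c * y) := by
              rw [← ((hdL _ (pow_mem hcL j))).eq, mul_inv_cancel_right, hc, inv_mul_cancel_right]
          _ = c ^ (j + 1) * y := by rw [← mul_assoc, pow_succ]
    have h3 := hpow (p ^ 1)
    rw [show c ^ (p ^ 1) = 1 by rw [pow_one]; exact hcL.2.2.1, one_mul] at h3
    exact (mul_inv_eq_iff_eq_mul.1 h3).symm
  obtain ⟨x, hx, hxk⟩ := F.image_sylow hv hvP hMN hM hMn hcomm hmax hPP₁ hP₁M hP₁ hP₁card hvP₁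
    hdM hdp
  have hxP : x ∈ P := by
    by_contra hxP
    obtain ⟨heq, -⟩ := F.fixed_line hv hvP hMN hM hMn hcomm hmax hPP₁ hP₁M hP₁ hP₁card hvP₁
      (fun h => hxP (h.le hx))
    refine F.line_fixed_or hv hvP hMN hM hMn hcomm hmax hPP₁ hP₁M hP₁ hP₁card hvP₁ hx hxP
      (F.omega_le_centralizer hv hvP (F.line_le_centralizer hv hvP hi hi1 ?_) fun c hc =>
        Commute.symm (Subgroup.mem_centralizer_iff.1 (heq.ge hc).2 x hx))
    have h1 : Commute (d * (x⁻¹ * d)⁻¹) i :=
      hdi.mul_left (show Commute (x⁻¹ * d) i from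
        (Subgroup.mem_centralizer_iff.1 hxk i hi.2).symm).inv_left
    rwa [mul_inv_rev, inv_inv, mul_inv_cancel_left] at h1
  have hdCE : d ∈ Subgroup.centralizer (E : Set G) := by
    have h1 : x ∈ Subgroup.centralizer (E : Set G) :=
      Subgroup.mem_centralizer_iff.2 fun y hy => (hy.2.2 x hxP).symm
    have := mul_mem h1 hxk
    rwa [mul_inv_cancel_left] at this
  have h5 := F.centralizer_fixes (mul_mem heP hvP) hdCE (F.pt_fixed hv hvP)
  rw [mul_smul, F.pointClass.smul_pt hv] at h5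
  have h6 := (F.pointClass.fixed_iff e heD _).1 h5
  have h7 : pt e = g⁻¹ • pt v := by simpa [he] using F.pointClass.pt_conj g⁻¹ hv
  rw [h7] at h6
  exact (eq_inv_smul_iff.1 h6)

/-- `P` is a maximal `p`-subgroup of `C(E)`. -/
theorem sylow_centralizer {R : Subgroup G} (hR : IsPGroup p R) (hPR : P ≤ R)
    (hRE : R ≤ Subgroup.centralizer (omegaZ p P : Set G)) : R = P := by
  by_contra h
  obtain ⟨g, hgR, hgP, hgN⟩ := exists_normalizing_elem hR (lt_of_le_of_ne hPR (Ne.symm h))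
  have := F.eq_of_centralizes (Q := P ⊔ Subgroup.zpowers g)
    (hR.to_le (sup_le hPR (Subgroup.zpowers_le.2 hgR))) le_sup_left
    (sup_le Subgroup.le_normalizer (Subgroup.zpowers_le.2 hgN))
    ((sup_le hPR (Subgroup.zpowers_le.2 hgR)).trans hRE)
  exact hgP (this.le (Subgroup.mem_sup_right (Subgroup.mem_zpowers g)))

theorem centralizer_omega_le_line :
    Subgroup.centralizer (omegaZ p P : Set G) ≤ Subgroup.centralizer ({i} : Set G) :=
  fun x hx => mem_centralizer.2 (Subgroup.mem_centralizer_iff.1 hx i hi.2).symm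

theorem pair_odd {z : Ω} (hz : z ≠ pt v) : Odd (Nat.card (twoPt G (pt v) z)) :=
  F.odd (pt v) z hz.symm

/-- The step for `C(E)`. -/
theorem omega_step {K : Subgroup G} (hKE : K ≤ Subgroup.centralizer (omegaZ p P : Set G))
    (hKn : ∀ n ∈ Subgroup.normalizer (omegaZ p P : Set G), n ∈ Subgroup.normalizer (K : Set G))
    (hder : (⁅K, K⁆ : Subgroup G) ≤ MulAction.stabilizer G (pt v)) :
    K ≤ MulAction.stabilizer G (pt v) := by
  have PC := F.pointClass
  have hvi := F.inv_self hv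
  have hv2 := F.mul_self hv
  set E := omegaZ p P with hE
  set a := pt v with ha
  have hva : v • a = a := PC.smul_pt hv
  have hvE := F.omegaZ_normalized hvP
  have hK : Odd (Nat.card K) := (F.odd_line_centralizer hv hvP hi hi1).of_dvd_nat
    (Subgroup.card_dvd_of_le (hKE.trans (F.centralizer_omega_le_line hv hvP hi hi1)))
  intro k hk
  by_contra hka
  rw [MulAction.mem_stabilizer_iff] at hka
  set g := k⁻¹ * v * k * v with hg
  have hgK : g ∈ K := by
    have h1 := (Subgroup.mem_normalizer_iff.1 (hKn v hvE) k).1 hk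
    rw [hvi] at h1
    have := mul_mem (inv_mem hk) h1
    convert this using 1
    rw [hg]; group
  have hginv : v * g * v = g⁻¹ := by
    rw [hg, mul_inv_rev, mul_inv_rev, mul_inv_rev, inv_inv, hvi]
    calc v * (k⁻¹ * v * k * v) * v = v * k⁻¹ * v * k * (v * v) := by group
      _ = _ := by rw [hv2, mul_one]; group
  have hga : g • a ≠ a := by
    intro h
    rw [hg, mul_smul, hva, mul_smul, mul_smul, inv_smul_eq_iff] at h
    exact hka ((PC.fixed_iff v hv _).1 h)
  have hgo : Odd (orderOf g) := hK.of_dvd_nat (Subgroup.orderOf_dvd_natCard K hgK)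
  have hcomE : ∀ x ∈ E, ∀ w ∈ K, Commute x w := fun x hx w hw =>
    Subgroup.mem_centralizer_iff.1 (hKE hw) x hx
  have hEfix : ∀ w ∈ K, E ≤ MulAction.stabilizer G (w • a) := by
    intro w hw x hx
    rw [MulAction.mem_stabilizer_iff, ← mul_smul, (hcomE x hx w hw).eq, mul_smul,
      MulAction.mem_stabilizer_iff.1 (F.pt_fixed hv hvP hx.1)]
  have hline : ∀ j : ℕ, g ∈ Subgroup.zpowers (g ^ j) → g ^ j • a ≠ a := fun j hj h => hga
    (MulAction.mem_stabilizer_iff.1 (Subgroup.zpowers_le.2 (MulAction.mem_stabilizer_iff.2 h) hj))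
  -- the cores of the pairs on the line
  have hpair : ∀ j : ℕ, g ∈ Subgroup.zpowers (g ^ j) → ∃ Q : Subgroup G, Q ≤ twoPt G a (g ^ j • a) ∧
      Nat.card Q = p ^ (Nat.card (twoPt G a (g ^ j • a))).factorization p ∧ E ≤ Q ∧
      ∀ x ∈ Q, x ^ p = 1 → x ∈ E := by
    intro j _
    obtain ⟨Q, hEQ, hQK, hQp, hQcard⟩ := exists_sylow_twoPt (G := G) (p := p) a (g ^ j • a)
      F.omega_isPGroup (le_inf (fun x hx => F.pt_fixed hv hvP hx.1) (hEfix _ (pow_mem hgK j)))
    obtain ⟨h, -, hh⟩ := F.exists_conj_stab hv hvP hQp (hQK.trans inf_le_left)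
    refine ⟨Q, hQK, hQcard, hEQ, fun x hx hxp => ?_⟩
    have hhE := F.mem_omega_normalizer hv hvP (fun w hw => hh w (hEQ hw))
    exact (Subgroup.mem_normalizer_iff.1 hhE x).2
      (F.mem_omega (hh x hx) (by rw [conj_pow, hxp, mul_one, mul_inv_cancel]))
  have hrank : ∀ j : ℕ, Cfsg.PRankLE p 2 (twoPt G a (g ^ j • a)) := fun j =>
    F.rank_stab hv hvP inf_le_left
  have hcore : ∀ j : ℕ, g ∈ Subgroup.zpowers (g ^ j) → ∀ X : Subgroup G, X ≤ twoPt G a (g ^ j • a) →
      ¬ p ∣ Nat.card X → E ≤ Subgroup.normalizer (X : Set G) →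
      X ≤ core p (twoPt G a (g ^ j • a)) := by
    intro j hj X hXK hX hEX
    obtain ⟨Q, hQK, hQcard, hEQ, hQE⟩ := hpair j hj
    exact le_core_of_omega F.odd_prime (F.pair_odd hv hvP hi hi1 (hline j hj)) (hrank j) hQK hQcard hEQ hQE
      hXK hX hEX
  have hmulE : ∀ j : ℕ, g ∈ Subgroup.zpowers (g ^ j) → ∀ w ∈ twoPt G a (g ^ j • a),
      ∃ b ∈ core p (twoPt G a (g ^ j • a)), ∃ n ∈ twoPt G a (g ^ j • a),
        n ∈ Subgroup.normalizer (E : Set G) ∧ b * n = w := by
    intro j hj w hw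
    obtain ⟨Q, hQK, hQcard, hEQ, hQE⟩ := hpair j hj
    exact exists_core_mul_omega (F.pair_odd hv hvP hi hi1 (hline j hj)) (hrank j) hQK hQcard hEQ
      (fun x hx => hx.2.1) hQE hw
  -- conjugates of `v` along the line invert the line of `v`
  set L := gen P v ⊓ E with hL
  have hLinv : ∀ (j : ℕ), ∀ x ∈ L, (g ^ j * v * (g ^ j)⁻¹) * x * (g ^ j * v * (g ^ j)⁻¹)⁻¹ = x⁻¹ := by
    intro j x hx
    have hc : Commute x (g ^ j) := hcomE x hx.2 _ (pow_mem hgK j)
    calc (g ^ j * v * (g ^ j)⁻¹) * x * (g ^ j * v * (g ^ j)⁻¹)⁻¹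
        = g ^ j * v * ((g ^ j)⁻¹ * (x * g ^ j)) * v⁻¹ * (g ^ j)⁻¹ := by group
      _ = g ^ j * v * ((g ^ j)⁻¹ * (g ^ j * x)) * v⁻¹ * (g ^ j)⁻¹ := by rw [hc.eq]
      _ = g ^ j * (v * x * v) * (g ^ j)⁻¹ := by rw [hvi]; group
      _ = g ^ j * x⁻¹ * (g ^ j)⁻¹ := by rw [F.line_inverted hv hvP hx]
      _ = x⁻¹ := by rw [← hc.inv_left.eq, mul_inv_cancel_right]
  have hLfix : ∀ j : ℕ, (g ^ j * v * (g ^ j)⁻¹) • a ≠ a →
      ∀ b ∈ core p (twoPt G a ((g ^ j * v * (g ^ j)⁻¹) • a)),
        L ≤ MulAction.stabilizer G (b • g ^ j • a) := by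
    intro j hj b hb x hx
    have hxc : x • g ^ j • a = g ^ j • a :=
      MulAction.mem_stabilizer_iff.1 (hEfix _ (pow_mem hgK j) hx.2)
    have hxa : x • a = a := MulAction.mem_stabilizer_iff.1 (F.pt_fixed hv hvP hx.2.1)
    have hpt : pt (g ^ j * v * (g ^ j)⁻¹) = g ^ j • a := PC.pt_conj _ hv
    set u := g ^ j * v * (g ^ j)⁻¹ with hu
    have huy : x • u • a = u • a := by
      have h1 : x * u = u * x⁻¹ := by
        calc x * u = (u * x * u⁻¹)⁻¹ * u := by rw [hLinv j x hx, inv_inv]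
          _ = u * x⁻¹ := by group
      rw [← mul_smul, h1, mul_smul, inv_smul_eq_iff.2 hxa.symm]
    rw [MulAction.mem_stabilizer_iff, ← hpt]
    exact centred_orbit_fixed PC F.odd F.pgroup hj.symm (PC.conj_mem _ v hv) rfl
      ⟨MulAction.mem_stabilizer_iff.2 hxa, MulAction.mem_stabilizer_iff.2 huy⟩ hx.2.1
      (by rw [hpt]; exact hxc) (hLinv j x hx) hb
  by_cases hpres : ∀ j : ℕ, g ∈ Subgroup.zpowers (g ^ j) → ∀ n ∈ twoPt G a (g ^ j • a),
      n ∈ Subgroup.normalizer (E : Set G) → n ∈ Subgroup.normalizer (L : Set G)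
  · refine F.toCentred.line_false hv hgo hginv hga (F.gen_inf_omega_ne_bot hv hvP)
      (F.omega_isPGroup.to_le inf_le_right) (inf_le_right : L ≤ E) ?_
      (fun j => hEfix _ (pow_mem hgK j)) hcore ?_ ?_ hLfix
    · intro x hx
      refine Coprime.mem_normalizer_of_forall fun w hw => ?_
      rw [hw.2.2.2 x hx.1, mul_inv_cancel_right]
      exact hw
    · intro j hj w hw
      obtain ⟨b, hb, n, hn, hnE, e⟩ := hmulE j hj w hw
      exact ⟨b, hb, n, hn, hpres j hj n hn hnE, e⟩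
    · intro j
      refine Coprime.mem_normalizer_of_forall fun x hx => ?_
      rw [hLinv j x hx]
      exact inv_mem hx
  push Not at hpres
  obtain ⟨j₀, hj₀, n, hn, hnE, hnL⟩ := hpres
  obtain ⟨w, hw, hwn⟩ : ∃ w ∈ L, n * w * n⁻¹ ∉ L := by
    by_contra h
    push Not at h
    exact hnL (Coprime.mem_normalizer_of_forall h)
  have hna : n • a = a := MulAction.mem_stabilizer_iff.1 hn.1
  have hswap : ∀ x ∈ K, ∀ z ∈ K, x • z • a = z • x • a := by
    intro x hx z hz
    have hzx : (z * x)⁻¹ * ⁅x, z⁆ * (z * x) ∈ (⁅K, K⁆ : Subgroup G) :=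
      (Subgroup.mem_normalizer_iff''.1 (mem_normalizer_commutator_of
        (Subgroup.le_normalizer (mul_mem hz hx)) (Subgroup.le_normalizer (mul_mem hz hx))) _).1
        (Subgroup.commutator_mem_commutator hx hz)
    have h1 := MulAction.mem_stabilizer_iff.1 (hder hzx)
    calc x • z • a = (z * x) • ((z * x)⁻¹ * ⁅x, z⁆ * (z * x)) • a := by
          rw [commutatorElement_def]
          simp only [← mul_smul]
          group
      _ = z • x • a := by rw [h1, mul_smul]
  -- `n` fixes the line: it acts trivially on the powers of `g` modulo the stabiliser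
  set r := g ^ j₀ with hr
  have hrK : r ∈ K := pow_mem hgK _
  have hxK : ∀ x ∈ K, n * x * n⁻¹ ∈ K := fun x hx =>
    (Subgroup.mem_normalizer_iff.1 (hKn n hnE) x).1 hx
  have hxa : (n * r * n⁻¹) • a = r • a := by
    rw [mul_smul, mul_smul, inv_smul_eq_iff.2 hna.symm]
    exact MulAction.mem_stabilizer_iff.1 hn.2
  -- the subgroup of `K` whose image is fixed by `n`
  let S : Subgroup G :=
    { carrier := {x | x ∈ K ∧ (n * x * n⁻¹) • a = x • a}
      one_mem' := ⟨K.one_mem, by simp⟩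
      mul_mem' := fun {x y} hx hy => ⟨mul_mem hx.1 hy.1, by
        rw [← conj_mul, mul_smul (n * x * n⁻¹), mul_smul x y a, hy.2,
          hswap _ (hxK x hx.1) _ hy.1, hx.2, hswap _ hy.1 _ hx.1]⟩
      inv_mem' := fun {x} hx => ⟨inv_mem hx.1, by
        rw [← conj_inv, inv_smul_eq_iff, hswap _ (hxK x hx.1) _ (inv_mem hx.1), hx.2,
          inv_smul_smul]⟩ }
  have hnfix : ∀ x ∈ S, n • x • a = x • a := by
    intro x hx
    calc n • x • a = (n * x * n⁻¹) • a := by
          rw [mul_smul, mul_smul, inv_smul_eq_iff.2 hna.symm]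
      _ = x • a := hx.2
  have hgS : g ∈ S := Subgroup.zpowers_le.2 (show r ∈ S from ⟨hrK, hxa⟩) hj₀
  refine F.toCentred.line_false hv hgo hginv hga F.omega_ne_bot F.omega_isPGroup le_rfl
    (fun x hx => F.omegaZ_normalized (Subgroup.le_normalizer hx.1))
    (fun j => hEfix _ (pow_mem hgK j)) hcore hmulE
    (fun j => mul_mem (mul_mem (Subgroup.centralizer_le_normalizer _ (hKE (pow_mem hgK j))) hvE)
      (inv_mem (Subgroup.centralizer_le_normalizer _ (hKE (pow_mem hgK j))))) ?_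
  intro j hj b hb
  refine F.omega_le_of inf_le_right (F.line_card hv hvP) (hLfix j hj b hb)
    ((Subgroup.mem_normalizer_iff.1 hnE w).1 hw.2) ?_ hwn
  set u := g ^ j * v * (g ^ j)⁻¹ with hu
  have hpt : pt u = g ^ j • a := PC.pt_conj _ hv
  have hyS : u • a = g ^ j • g ^ j • a := by
    have hinvpow : v * g ^ j * v = (g ^ j)⁻¹ := by
      calc v * g ^ j * v = v * g ^ j * v⁻¹ := by rw [hvi]
        _ = (v * g * v⁻¹) ^ j := conj_pow.symm
        _ = _ := by rw [hvi, hginv, inv_pow]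
    rw [hu, ← hinvpow, ← mul_smul, show g ^ j * v * (v * g ^ j * v) = g ^ j * (v * v) * g ^ j * v by
      group, hv2, mul_one, mul_smul, hva]
  have hfa : ∀ k : ℕ, n • g ^ k • a = g ^ k • a := fun k => hnfix _ (pow_mem hgS k)
  have hu' : (n * u * n⁻¹) • a = u • a := by
    rw [mul_smul, mul_smul, inv_smul_eq_iff.2 hna.symm, hyS, ← mul_smul (g ^ j), ← pow_add]
    exact hfa _
  have hpt' : pt (n * u * n⁻¹) = g ^ j • a := by
    rw [PC.pt_conj n (PC.conj_mem _ v hv), hpt, hfa]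
  set x := n * w * n⁻¹ with hx
  have hxE : x ∈ E := (Subgroup.mem_normalizer_iff.1 hnE w).1 hw.2
  have hxinv : (n * u * n⁻¹) * x * (n * u * n⁻¹)⁻¹ = x⁻¹ := by
    calc (n * u * n⁻¹) * x * (n * u * n⁻¹)⁻¹ = n * (u * w * u⁻¹) * n⁻¹ := by rw [hx]; group
      _ = x⁻¹ := by rw [hLinv j w hw, hx]; group
  have hxa' : x • a = a := MulAction.mem_stabilizer_iff.1 (F.pt_fixed hv hvP hxE.1)
  have huy : x • u • a = u • a := by
    rw [hyS, ← mul_smul (g ^ j), ← pow_add]
    exact MulAction.mem_stabilizer_iff.1 (hEfix _ (pow_mem hgK _) hxE)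
  rw [MulAction.mem_stabilizer_iff, ← hpt']
  exact centred_orbit_fixed PC F.odd F.pgroup hj.symm (PC.conj_mem _ _ (PC.conj_mem _ v hv)) hu'
    ⟨MulAction.mem_stabilizer_iff.2 hxa', MulAction.mem_stabilizer_iff.2 huy⟩ hxE.1
    (by rw [hpt']; exact MulAction.mem_stabilizer_iff.1 (hEfix _ (pow_mem hgK j) hxE)) hxinv hb
/-- `C(E)` fixes the point of `v`. -/
theorem centralizer_omega_fixes :
    Subgroup.centralizer (omegaZ p P : Set G) ≤ MulAction.stabilizer G (pt v) := by
  set E := omegaZ p P with hE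
  suffices h : ∀ K : Subgroup G, K ≤ Subgroup.centralizer (E : Set G) →
      (∀ n ∈ Subgroup.normalizer (E : Set G), n ∈ Subgroup.normalizer (K : Set G)) →
      K ≤ MulAction.stabilizer G (pt v) by
    refine h _ le_rfl fun n hn => Coprime.mem_normalizer_of_forall fun k hk => ?_
    refine Subgroup.mem_centralizer_iff.2 fun y hy => ?_
    have h1 := Subgroup.mem_centralizer_iff.1 hk _ ((Subgroup.mem_normalizer_iff''.1 hn y).1 hy)
    calc y * (n * k * n⁻¹) = n * ((n⁻¹ * y * n) * k) * n⁻¹ := by group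
      _ = n * (k * (n⁻¹ * y * n)) * n⁻¹ := by rw [h1]
      _ = n * k * n⁻¹ * y := by group
  intro K hKE hKn
  induction hn : Nat.card K using Nat.strong_induction_on generalizing K with
  | _ m ih =>
    rcases eq_or_ne K ⊥ with rfl | hne
    · exact bot_le
    refine F.omega_step hv hvP hi hi1 hKE hKn ?_
    have hK : Odd (Nat.card K) := (F.odd_line_centralizer hv hvP hi hi1).of_dvd_nat
      (Subgroup.card_dvd_of_le (hKE.trans (F.centralizer_omega_le_line hv hvP hi hi1)))
    haveI : Nontrivial K := (Subgroup.nontrivial_iff_ne_bot K).2 hne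
    haveI : Group.IsSolvable K := OddOrderTheorem.solvable hK
    have hC0 : (⁅K, K⁆ : Subgroup G) = (commutator ↥K).map K.subtype :=
      K.map_subtype_commutator.symm
    have hlt : (⁅K, K⁆ : Subgroup G) < K := by
      refine lt_of_le_of_ne (hC0 ▸ Subgroup.map_subtype_le _) fun e => ?_
      refine (Group.IsSolvable.commutator_lt_top_of_nontrivial K).ne ?_
      refine Subgroup.map_injective K.subtype_injective ?_
      rw [← hC0, e, ← MonoidHom.range_eq_map, Subgroup.range_subtype]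
    exact ih _ (hn ▸ card_lt_of_lt hlt) _ (hlt.le.trans hKE)
      (fun g hg => mem_normalizer_commutator_of (hKn g hg) (hKn g hg)) rfl

/-- A conjugate of `E` in `C(i)` at the point of `v` goes back to `E` inside `C(i)`. -/
theorem exists_conj_omega {A : Subgroup G} (hA : IsPGroup p A)
    (hAi : A ≤ Subgroup.centralizer ({i} : Set G)) (hAa : A ≤ MulAction.stabilizer G (pt v)) :
    ∃ h ∈ Subgroup.centralizer ({i} : Set G) ⊓ MulAction.stabilizer G (pt v),
      ∀ x ∈ A, h * x * h⁻¹ ∈ P :=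
  exists_conj_le_of_maximal F.pgroup
    (le_inf (fun x hx => mem_centralizer.2 (F.comm x hx i hi.2.1)) (F.pt_fixed hv hvP))
    (fun _ hR hPR hRK => F.sylow_stab hv hvP hR hPR (hRK.trans inf_le_right)) hA (le_inf hAi hAa)

/-- `E` fixes no other point of the orbit of the point of `v` under `C(i)`. -/
theorem fixed_unique {g : G} (hgi : Commute g i)
    (hfix : omegaZ p P ≤ MulAction.stabilizer G (g • pt v)) : g • pt v = pt v := by
  set E := omegaZ p P with hE
  set E' := E.map (MulAut.conj g⁻¹).toMonoidHom with hE'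
  have hE'i : E' ≤ Subgroup.centralizer ({i} : Set G) := by
    rintro _ ⟨x, hx, rfl⟩
    refine mem_centralizer.2 ?_
    show Commute (g⁻¹ * x * g⁻¹⁻¹) i
    exact (hgi.inv_left.mul_left (F.comm x hx.1 i hi.2.1)).mul_left (by rw [inv_inv]; exact hgi)
  have hE'a : E' ≤ MulAction.stabilizer G (pt v) := by
    rintro _ ⟨x, hx, rfl⟩
    show (g⁻¹ * x * g⁻¹⁻¹) • pt v = pt v
    rw [inv_inv, mul_smul, mul_smul, MulAction.mem_stabilizer_iff.1 (hfix hx), inv_smul_smul]
  obtain ⟨h, hhK, hh⟩ :=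
    F.exists_conj_omega hv hvP hi hi1 (F.omega_isPGroup.map (MulAut.conj g⁻¹).toMonoidHom) hE'i hE'a
  set n := h * g⁻¹ with hn
  have hnE : n ∈ Subgroup.normalizer (E : Set G) := F.mem_omega_normalizer hv hvP fun x hx => by
    have := hh _ (⟨x, hx, rfl⟩ : (MulAut.conj g⁻¹).toMonoidHom x ∈ E')
    convert this using 1
    simp [hn, mul_assoc]
  -- `n ^ (-1)` is the product of an element of `C(E)` and one of `N(P)`
  set m := n⁻¹ with hm
  have hmE : m ∈ Subgroup.normalizer (E : Set G) := inv_mem hnE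
  set Q := P.map (MulAut.conj m).toMonoidHom with hQ
  have hQE : Q ≤ Subgroup.centralizer (E : Set G) := by
    rintro _ ⟨x, hx, rfl⟩
    refine Subgroup.mem_centralizer_iff.2 fun y hy => ?_
    show y * (m * x * m⁻¹) = m * x * m⁻¹ * y
    have h1 := ((Subgroup.mem_normalizer_iff''.1 hmE y).1 hy).2.2 x hx
    calc y * (m * x * m⁻¹) = m * ((m⁻¹ * y * m) * x) * m⁻¹ := by group
      _ = m * (x * (m⁻¹ * y * m)) * m⁻¹ := by rw [← h1]
      _ = m * x * m⁻¹ * y := by group
  obtain ⟨c, hc, hcP⟩ := exists_conj_le_of_maximal F.pgroup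
    (fun x hx => Subgroup.mem_centralizer_iff.2 fun y hy => (hy.2.2 x hx).symm)
    (fun _ hR hPR hRE => F.sylow_centralizer hv hvP hi hi1 hR hPR hRE)
    (F.pgroup.map (MulAut.conj m).toMonoidHom) hQE
  have hcm : c * m ∈ Subgroup.normalizer (P : Set G) := Coprime.mem_normalizer_of_forall fun x hx => by
    have := hcP _ (⟨x, hx, rfl⟩ : (MulAut.conj m).toMonoidHom x ∈ Q)
    convert this using 1
    simp [mul_assoc]
  have hci : Commute c i := mem_centralizer.1 (F.centralizer_omega_le_line hv hvP hi hi1 hc)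
  have hmi : Commute m i := by
    rw [hm, hn, mul_inv_rev, inv_inv]
    exact hgi.mul_left (mem_centralizer.1 hhK.1).inv_left
  have h1 := F.translation_fixes hv hvP hi hi1 hcm (hci.mul_left hmi)
  have h2 : c • pt v = pt v :=
    MulAction.mem_stabilizer_iff.1 (F.centralizer_omega_fixes hv hvP hi hi1 hc)
  have h3 : m • pt v = g • pt v := by
    rw [hm, hn, mul_inv_rev, inv_inv, mul_smul,
      inv_smul_eq_iff.2 (MulAction.mem_stabilizer_iff.1 hhK.2).symm]
  rw [mul_smul] at h1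
  rw [← h3]
  exact MulAction.injective c (h1.trans h2.symm)

/-- `C(i)` fixes the point of `v`. -/
theorem centralizer_line_fixes :
    Subgroup.centralizer ({i} : Set G) ≤ MulAction.stabilizer G (pt v) := by
  have PC := F.pointClass
  have hvi := F.inv_self hv
  have hv2 := F.mul_self hv
  set E := omegaZ p P with hE
  set a := pt v with ha
  have hva : v • a = a := PC.smul_pt hv
  set C := Subgroup.centralizer ({i} : Set G) with hC
  have hCodd := F.odd_line_centralizer hv hvP hi hi1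
  intro k hk
  by_contra hka
  rw [MulAction.mem_stabilizer_iff] at hka
  set g := k⁻¹ * v * k * v with hg
  have hgC : g ∈ C := by
    have h1 := (Subgroup.mem_normalizer_iff.1 (F.normalizes_line_centralizer hv hvP hi hi1) k).1 hk
    rw [hvi] at h1
    have := mul_mem (inv_mem hk) h1
    convert this using 1
    rw [hg]; group
  have hginv : v * g * v = g⁻¹ := by
    rw [hg, mul_inv_rev, mul_inv_rev, mul_inv_rev, inv_inv, hvi]
    calc v * (k⁻¹ * v * k * v) * v = v * k⁻¹ * v * k * (v * v) := by group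
      _ = _ := by rw [hv2, mul_one]; group
  have hga : g • a ≠ a := by
    intro h
    rw [hg, mul_smul, hva, mul_smul, mul_smul, inv_smul_eq_iff] at h
    exact hka ((PC.fixed_iff v hv _).1 h)
  set L := gen P v ⊓ E with hL
  have hLcomm : ∀ x ∈ L, ∀ j : ℕ, Commute x (g ^ j) := fun x hx j =>
    F.line_le_centralizer hv hvP hi hi1 (mem_centralizer.1 (pow_mem hgC j)) x hx
  have hLfix : ∀ j : ℕ, L ≤ MulAction.stabilizer G (g ^ j • a) := by
    intro j x hx
    rw [MulAction.mem_stabilizer_iff, ← mul_smul, (hLcomm x hx j).eq, mul_smul,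
      MulAction.mem_stabilizer_iff.1 (F.pt_fixed hv hvP hx.2.1)]
  have hline : ∀ j : ℕ, g ∈ Subgroup.zpowers (g ^ j) → g ^ j • a ≠ a := fun j hj h => hga
    (MulAction.mem_stabilizer_iff.1 (Subgroup.zpowers_le.2 (MulAction.mem_stabilizer_iff.2 h) hj))
  -- the Sylow subgroups of the pairs have rank one
  have hpair : ∀ j : ℕ, g ∈ Subgroup.zpowers (g ^ j) → ∃ Q : Subgroup G,
      Q ≤ twoPt G a (g ^ j • a) ∧
      Nat.card Q = p ^ (Nat.card (twoPt G a (g ^ j • a))).factorization p ∧ L ≤ Q ∧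
      ∀ x ∈ Q, x ^ p = 1 → x ∈ L := by
    intro j hj
    obtain ⟨Q, hLQ, hQK, hQp, hQcard⟩ := exists_sylow_twoPt (G := G) (p := p) a (g ^ j • a)
      (F.omega_isPGroup.to_le (inf_le_right : L ≤ E))
      (le_inf (fun x hx => F.pt_fixed hv hvP hx.2.1) (hLfix j))
    refine ⟨Q, hQK, hQcard, hLQ, fun x hx hxp => ?_⟩
    by_contra hxL
    obtain ⟨h, -, hh⟩ := F.exists_conj_stab hv hvP hQp (hQK.trans inf_le_left)
    -- a conjugate of `E` fixes the pair
    set Q' := Q.map (MulAut.conj h).toMonoidHom with hQ'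
    have hmem : ∀ y ∈ Q, y ^ p = 1 → h * y * h⁻¹ ∈ E := fun y hy hyp =>
      F.mem_omega (hh y hy) (by rw [conj_pow, hyp, mul_one, mul_inv_cancel])
    have hcard : Nat.card (L.map (MulAut.conj h).toMonoidHom) = p := by
      rw [Subgroup.card_map_of_injective (f := (MulAut.conj h).toMonoidHom)
        (MulAut.conj h).injective, F.line_card hv hvP]
    have hEQ : E ≤ Q' := by
      refine F.omega_le_of (L := L.map (MulAut.conj h).toMonoidHom) ?_ hcard
        (Subgroup.map_mono hLQ) (hmem x hx hxp) ⟨x, hx, rfl⟩ ?_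
      · rintro _ ⟨y, hy, rfl⟩
        exact hmem y (hLQ hy) hy.2.2.1
      · rintro ⟨y, hy, e⟩
        exact hxL ((MulAut.conj h).injective e ▸ hy)
    set E' := E.map (MulAut.conj h⁻¹).toMonoidHom with hE'
    have hE'Q : E' ≤ Q := by
      rintro _ ⟨y, hy, rfl⟩
      obtain ⟨q, hq, rfl⟩ := hEQ hy
      show h⁻¹ * (h * q * h⁻¹) * h⁻¹⁻¹ ∈ Q
      rwa [show h⁻¹ * (h * q * h⁻¹) * h⁻¹⁻¹ = q by group]
    have hE'i : E' ≤ C := by
      rintro _ ⟨y, hy, rfl⟩
      refine mem_centralizer.2 ?_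
      have h1 := F.comm y hy.1 _ (hh i (hLQ hi))
      show h⁻¹ * y * h⁻¹⁻¹ * i = i * (h⁻¹ * y * h⁻¹⁻¹)
      calc h⁻¹ * y * h⁻¹⁻¹ * i = h⁻¹ * (y * (h * i * h⁻¹)) * h := by group
        _ = h⁻¹ * ((h * i * h⁻¹) * y) * h := by rw [h1]
        _ = i * (h⁻¹ * y * h⁻¹⁻¹) := by group
    obtain ⟨h₂, hh₂K, hh₂⟩ := F.exists_conj_omega hv hvP hi hi1
      (F.omega_isPGroup.map (MulAut.conj h⁻¹).toMonoidHom) hE'i
      ((hE'Q.trans hQK).trans inf_le_left)
    have hnE : h₂ * h⁻¹ ∈ Subgroup.normalizer (E : Set G) :=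
      F.mem_omega_normalizer hv hvP fun y hy => by
        have := hh₂ _ (⟨y, hy, rfl⟩ : (MulAut.conj h⁻¹).toMonoidHom y ∈ E')
        convert this using 1
        simp [mul_assoc]
    have hfix : E ≤ MulAction.stabilizer G ((h₂ * g ^ j) • a) := by
      intro y hy
      have h1 : (h₂ * h⁻¹)⁻¹ * y * (h₂ * h⁻¹) ∈ E := (Subgroup.mem_normalizer_iff''.1 hnE y).1 hy
      have h2 := MulAction.mem_stabilizer_iff.1 (hQK (hE'Q
        (⟨_, h1, rfl⟩ : (MulAut.conj h⁻¹).toMonoidHom _ ∈ E'))).2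
      rw [MulAction.mem_stabilizer_iff, mul_smul]
      calc y • h₂ • g ^ j • a = h₂ • (MulAut.conj h⁻¹).toMonoidHom
            ((h₂ * h⁻¹)⁻¹ * y * (h₂ * h⁻¹)) • g ^ j • a := by
            show y • h₂ • g ^ j • a = h₂ • (h⁻¹ * ((h₂ * h⁻¹)⁻¹ * y * (h₂ * h⁻¹)) * h⁻¹⁻¹) • g ^ j • a
            simp only [← mul_smul]
            group
        _ = h₂ • g ^ j • a := by rw [h2]
    have h3 := F.fixed_unique hv hvP hi hi1
      ((mem_centralizer.1 hh₂K.1).mul_left (mem_centralizer.1 (pow_mem hgC j))) hfix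
    rw [mul_smul] at h3
    exact hline j hj (MulAction.injective h₂ (h3.trans (MulAction.mem_stabilizer_iff.1 hh₂K.2).symm))
  have hrank : ∀ j : ℕ, Cfsg.PRankLE p 2 (twoPt G a (g ^ j • a)) := fun j =>
    F.rank_stab hv hvP inf_le_left
  have hLinv : ∀ (j : ℕ), ∀ x ∈ L, (g ^ j * v * (g ^ j)⁻¹) * x * (g ^ j * v * (g ^ j)⁻¹)⁻¹ = x⁻¹ := by
    intro j x hx
    have hc := hLcomm x hx j
    calc (g ^ j * v * (g ^ j)⁻¹) * x * (g ^ j * v * (g ^ j)⁻¹)⁻¹
        = g ^ j * v * ((g ^ j)⁻¹ * (x * g ^ j)) * v⁻¹ * (g ^ j)⁻¹ := by group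
      _ = g ^ j * v * ((g ^ j)⁻¹ * (g ^ j * x)) * v⁻¹ * (g ^ j)⁻¹ := by rw [hc.eq]
      _ = g ^ j * (v * x * v) * (g ^ j)⁻¹ := by rw [hvi]; group
      _ = g ^ j * x⁻¹ * (g ^ j)⁻¹ := by rw [F.line_inverted hv hvP hx]
      _ = x⁻¹ := by rw [← hc.inv_left.eq, mul_inv_cancel_right]
  refine F.toCentred.line_false hv (hCodd.of_dvd_nat (Subgroup.orderOf_dvd_natCard C hgC)) hginv hga
    (F.gen_inf_omega_ne_bot hv hvP) (F.omega_isPGroup.to_le inf_le_right) le_rfl
    Subgroup.le_normalizer hLfix ?_ ?_ ?_ ?_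
  · intro j hj X hXK hX hLX
    obtain ⟨Q, hQK, hQcard, hLQ, hQL⟩ := hpair j hj
    exact le_core_of_omega F.odd_prime (F.pair_odd hv hvP hi hi1 (hline j hj)) (hrank j) hQK hQcard
      hLQ hQL hXK hX hLX
  · intro j hj w hw
    obtain ⟨Q, hQK, hQcard, hLQ, hQL⟩ := hpair j hj
    exact exists_core_mul_omega (F.pair_odd hv hvP hi hi1 (hline j hj)) (hrank j) hQK hQcard hLQ
      (fun x hx => hx.2.2.1) hQL hw
  · intro j
    refine Coprime.mem_normalizer_of_forall fun x hx => ?_
    rw [hLinv j x hx]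
    exact inv_mem hx
  · intro j hj b hb x hx
    have hpt : pt (g ^ j * v * (g ^ j)⁻¹) = g ^ j • a := PC.pt_conj _ hv
    have hxc : x • g ^ j • a = g ^ j • a := MulAction.mem_stabilizer_iff.1 (hLfix j hx)
    have hxa : x • a = a := MulAction.mem_stabilizer_iff.1 (F.pt_fixed hv hvP hx.2.1)
    set u := g ^ j * v * (g ^ j)⁻¹ with hu
    have huy : x • u • a = u • a := by
      have h1 : x * u = u * x⁻¹ := by
        calc x * u = (u * x * u⁻¹)⁻¹ * u := by rw [hLinv j x hx, inv_inv]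
          _ = u * x⁻¹ := by group
      rw [← mul_smul, h1, mul_smul, inv_smul_eq_iff.2 hxa.symm]
    rw [MulAction.mem_stabilizer_iff, ← hpt]
    exact centred_orbit_fixed PC F.odd F.pgroup hj.symm (PC.conj_mem _ v hv) rfl
      ⟨MulAction.mem_stabilizer_iff.2 hxa, MulAction.mem_stabilizer_iff.2 huy⟩ hx.2.1
      (by rw [hpt]; exact hxc) (hLinv j x hx) hb

end Line

omit hv hvP in
/-- **A centred subgroup has rank at least three.** -/
theorem false : False := by
  have PC := F.pointClass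
  obtain ⟨x, y, hxy, hx, hy, u, hu, huP, hux, b, hb, hmove⟩ := exists_core_moved PC F.odd F.crit
    F.odd_prime F.pgroup F.ne_bot F.two_points F.max F.centred
  obtain ⟨i, hi, hi1⟩ := (Subgroup.bot_or_exists_ne_one _).resolve_left
    (F.gen_inf_omega_ne_bot hu huP)
  set A := core p (twoPt G x y) with hA
  set L := gen P u ⊓ omegaZ p P with hL
  have hLP : L ≤ P := inf_le_right.trans (omegaZ_le p P)
  have hLA : L ≤ Subgroup.normalizer (A : Set G) :=
    (hLP.trans (le_inf hx hy)).trans (le_normalizer_core p _)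
  have hcop : (Nat.card L).Coprime (Nat.card A) := by
    obtain ⟨n, hn⟩ := (F.pgroup.to_le hLP).exists_card_eq
    rw [hn]
    exact Nat.Coprime.pow_left n ((Fact.out : p.Prime).coprime_iff_not_dvd.2 not_dvd_card_core)
  have hsup := Coprime.commutator_sup_centralizer hLA hcop
    (Or.inr (OddOrderTheorem.solvable (odd_card_core (F.odd x y hxy))))
  have hle : ⁅A, L⁆ ⊔ (A ⊓ Subgroup.centralizer (L : Set G)) ≤ MulAction.stabilizer G (pt u) := by
    refine sup_le ?_ ?_
    · rw [Subgroup.commutator_le]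
      intro c hc j hj
      have h1 := F.gen_fixes hxy hx hy hu huP hux hj.1
      have h2 : j • pt u = pt u := MulAction.mem_stabilizer_iff.1 (F.pt_fixed hu huP (hLP hj))
      have h3 : j • c⁻¹ • pt u = c⁻¹ • pt u := mem_fixers.1 h1 _ ⟨c⁻¹, A.inv_mem hc, rfl⟩
      rw [MulAction.mem_stabilizer_iff, commutatorElement_def, mul_smul, mul_smul, mul_smul,
        inv_smul_eq_iff.2 h2.symm, h3, smul_inv_smul]
    · intro c hc
      exact F.centralizer_line_fixes hu huP hi hi1
        (mem_centralizer.2 (Subgroup.mem_centralizer_iff.1 hc.2 i hi).symm)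
  exact hmove (MulAction.mem_stabilizer_iff.1 (hle (hsup.ge hb)))

end Failure

/-- The centred case of the step for `p`-rank at most two. -/
theorem centred_rank_two_false [Finite G] [Finite Ω] {D : Set G} {pt : G → Ω} {p : ℕ} [Fact p.Prime]
    {P : Subgroup G} (PC : PointClass G Ω D pt)
    (hodd : ∀ x y : Ω, x ≠ y → Odd (Nat.card (twoPt G x y)))
    (crit : ∀ (N : Subgroup G) (x y : Ω), x ≠ y → N ≠ ⊥ → N ≤ twoPt G x y →
      twoPt G x y ≤ Subgroup.normalizer (N : Set G) →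
      ∀ u ∈ D, pt u = x → u ∈ Subgroup.normalizer (N : Set G) →
      ∀ w ∈ D, w • x = y → w ∈ Subgroup.normalizer (N : Set G) → False)
    (hD : ∀ t : G, orderOf t = 2 → t ∈ D) (hp : p ≠ 2)
    (hm : ∃ z : Ω, p ∣ Nat.card {g : G // g ∈ D ∧ pt g = z}) (hPp : IsPGroup p P)
    (htwo : ∃ x y : Ω, x ≠ y ∧ P ≤ MulAction.stabilizer G x ∧ P ≤ MulAction.stabilizer G y)
    (hmax : ∀ Q : Subgroup G, IsPGroup p Q → ∀ x y : Ω, x ≠ y → Q ≤ MulAction.stabilizer G x →
      Q ≤ MulAction.stabilizer G y → Nat.card Q ≤ Nat.card P)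
    (hcentred : ¬ Free D pt P) (hrank : Cfsg.PRankLE p 2 P) : False :=
  Failure.false ⟨⟨PC, hodd, crit, hp, hPp, htwo, hmax, hcentred, hrank⟩, hD, hm⟩

end Cfsg.Agent.Bender
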