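/-
The normaliser of a centred subgroup of rank at most two (owner: helper40).

* `Failure` : a centred subgroup of rank at most two in a failure of Bender's theorem
* `Failure.key_all` : nothing nontrivial normalised by `N(P)` lies in all `[P, e]`
* `Failure.omega_card`, `Failure.line_card` : `Ω₁P = E` has order `p²`, each `[P, e]` meets it in a line
* `Failure.comm` : `P` is abelian
* `Failure.exists_odd` : an odd normal subgroup of `N(P)` covering it with the centraliser of each `e`
-/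
import Cfsg.Agent.Lib.Bender.Chain
import Cfsg.Agent.Lib.PGroup.UniqueOrderP
import Cfsg.Agent.Lib.PGroup.Basic

set_option autoImplicit false
set_option linter.style.haveILetI false
set_option linter.unusedSectionVars false

namespace Cfsg.Agent.Bender

open Cfsg Involution Aschbacher
open scoped Pointwise commutatorElement

universe u v

variable {G : Type u} {Ω : Type v} [Group G] [MulAction G Ω]

theorem conj_mem_gen {P : Subgroup G} {n e w : G} (hn : n ∈ Subgroup.normalizer (P : Set G))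
    (hw : w ∈ gen P e) : n * w * n⁻¹ ∈ gen P (n * e * n⁻¹) := by
  induction hw using Subgroup.closure_induction with
  | mem x hx =>
    obtain ⟨g, hg, rfl⟩ := hx
    refine Subgroup.subset_closure ⟨n * g * n⁻¹, (Subgroup.mem_normalizer_iff.1 hn g).1 hg, ?_⟩
    group
  | one => simp
  | mul x y _ _ hx hy =>
    have := mul_mem hx hy
    rwa [conj_mul] at this
  | inv x _ hx =>
    have := inv_mem hx
    rwa [conj_inv] at this

theorem gen_conj_mem {P : Subgroup G} {e g w : G} (he2 : e * e = 1) (hg : g ∈ P)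
    (hw : w ∈ gen P e) : g * w * g⁻¹ ∈ gen P e := by
  have hei : e⁻¹ = e := inv_eq_of_mul_eq_one_right he2
  induction hw using Subgroup.closure_induction with
  | mem x hx =>
    obtain ⟨h, hh, rfl⟩ := hx
    have h1 : e * (g * h * e * (g * h)⁻¹) ∈ gen P e :=
      Subgroup.subset_closure ⟨g * h, P.mul_mem hg hh, rfl⟩
    have h2 : e * (g * e * g⁻¹) ∈ gen P e := Subgroup.subset_closure ⟨g, hg, rfl⟩
    have := mul_mem (inv_mem h2) h1
    convert this using 1
    rw [show (e * (g * e * g⁻¹))⁻¹ = g * e⁻¹ * g⁻¹ * e⁻¹ by group, hei]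
    calc g * (e * (h * e * h⁻¹)) * g⁻¹ = g * e * g⁻¹ * 1 * (g * h * e * (g * h)⁻¹) := by group
      _ = g * e * g⁻¹ * (e * e) * (g * h * e * (g * h)⁻¹) := by rw [he2]
      _ = _ := by group
  | one => simp
  | mul x y _ _ hx hy =>
    have := mul_mem hx hy
    rwa [conj_mul] at this
  | inv x _ hx =>
    have := inv_mem hx
    rwa [conj_inv] at this

/-- A centred subgroup of rank at most two in a failure. -/
structure Failure (D : Set G) (pt : G → Ω) (p : ℕ) (P : Subgroup G) : Prop
    extends Centred D pt p P where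
  all : ∀ t : G, orderOf t = 2 → t ∈ D
  moves : ∃ z : Ω, p ∣ Nat.card {g : G // g ∈ D ∧ pt g = z}

/-- The elements of order `p` of the centre of `P`. -/
def omegaZ (p : ℕ) (P : Subgroup G) : Subgroup G where
  carrier := {x | x ∈ P ∧ x ^ p = 1 ∧ ∀ g ∈ P, g * x = x * g}
  one_mem' := ⟨P.one_mem, one_pow p, fun g _ => by simp⟩
  mul_mem' := fun {a b} ha hb => ⟨P.mul_mem ha.1 hb.1, by
    rw [(show Commute a b from ha.2.2 b hb.1 |>.symm).mul_pow, ha.2.1, hb.2.1, one_mul],
    fun g hg => by rw [← mul_assoc, ha.2.2 g hg, mul_assoc, hb.2.2 g hg, ← mul_assoc]⟩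
  inv_mem' := fun {a} ha => ⟨P.inv_mem ha.1, by rw [inv_pow, ha.2.1, inv_one], fun g hg =>
    ((show Commute g a from ha.2.2 g hg).inv_right).eq⟩

theorem mem_omegaZ {p : ℕ} {P : Subgroup G} {x : G} :
    x ∈ omegaZ p P ↔ x ∈ P ∧ x ^ p = 1 ∧ ∀ g ∈ P, g * x = x * g := Iff.rfl

theorem omegaZ_le (p : ℕ) (P : Subgroup G) : omegaZ p P ≤ P := fun _ h => h.1

namespace Failure

variable [Finite G] [Finite Ω] {D : Set G} {pt : G → Ω} {p : ℕ} [Fact p.Prime] {P : Subgroup G}
  (F : Failure D pt p P)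
include F

theorem mul_self {e : G} (he : e ∈ D) : e * e = 1 :=
  Involution.mul_self (F.pointClass.inv e he)

theorem inv_self {e : G} (he : e ∈ D) : e⁻¹ = e :=
  inv_eq_of_mul_eq_one_right (F.mul_self he)

theorem conj_mem_P {e x : G} (he : e ∈ D) (heP : e ∈ Subgroup.normalizer (P : Set G))
    (hx : x ∈ P) : e * x * e ∈ P := by
  have := (Subgroup.mem_normalizer_iff.1 heP x).1 hx
  rwa [F.inv_self he] at this

theorem omegaZ_normalized {g : G} (hg : g ∈ Subgroup.normalizer (P : Set G)) :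
    g ∈ Subgroup.normalizer (omegaZ p P : Set G) := by
  refine Coprime.mem_normalizer_of_forall fun x hx => ?_
  refine ⟨(Subgroup.mem_normalizer_iff.1 hg x).1 hx.1, by rw [conj_pow, hx.2.1]; group, ?_⟩
  intro h hh
  have h1 : g⁻¹ * h * g ∈ P := (Subgroup.mem_normalizer_iff''.1 hg h).1 hh
  calc h * (g * x * g⁻¹) = g * ((g⁻¹ * h * g) * x) * g⁻¹ := by group
    _ = g * (x * (g⁻¹ * h * g)) * g⁻¹ := by rw [hx.2.2 _ h1]
    _ = _ := by group

theorem ne_bot : P ≠ ⊥ := by
  intro h
  obtain ⟨x, y, hxy, hx, hy⟩ := F.two_points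
  obtain ⟨z, hz⟩ := F.moves
  obtain ⟨e, he, heP, -, -, hex⟩ := F.exists_swap hxy hx hy
  have h1 := card_twoPt F.pointClass hex he rfl
  have h2 : p ∣ Nat.card (twoPt G (pt e) x) := by
    rw [h1, card_point_eq F.pointClass (pt e) z]
    exact hz.mul_right _
  have h3 := F.card_eq hex (F.pt_fixed he heP) hx
  rw [h, Subgroup.card_bot] at h3
  exact absurd h3.symm (Nat.one_lt_pow ((Fact.out : p.Prime).factorization_pos_of_dvd
    Nat.card_pos.ne' h2).ne' (Fact.out : p.Prime).one_lt).ne'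

theorem odd_P : Odd (Nat.card P) := by
  obtain ⟨x, y, hxy, hx, hy⟩ := F.two_points
  exact (F.odd x y hxy).of_dvd_nat (Subgroup.card_dvd_of_le (le_inf hx hy))

theorem exists_other (a : Ω) : ∃ b, b ≠ a ∧ P ≤ MulAction.stabilizer G b := by
  obtain ⟨x, y, hxy, hx, hy⟩ := F.two_points
  rcases eq_or_ne x a with rfl | h
  · exact ⟨y, hxy.symm, hy⟩
  · exact ⟨x, h, hx⟩

theorem exists_mem : ∃ e ∈ D, e ∈ Subgroup.normalizer (P : Set G) := by
  obtain ⟨x, y, hxy, hx, hy⟩ := F.two_points
  obtain ⟨e, he, heP, -⟩ := F.exists_swap hxy hx hy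
  exact ⟨e, he, heP⟩

/-- All members of `D` normalising `P` are conjugate in `N(P)`. -/
theorem exists_conj {e f : G} (he : e ∈ D) (heP : e ∈ Subgroup.normalizer (P : Set G)) (hf : f ∈ D)
    (hfP : f ∈ Subgroup.normalizer (P : Set G)) :
    ∃ n ∈ Subgroup.normalizer (P : Set G), n * e * n⁻¹ = f := by
  by_cases h : pt e = pt f
  · obtain ⟨b, hb, hbP⟩ := F.exists_other (pt e)
    obtain ⟨w, hw, hwP, -, -, hwne⟩ := F.exists_swap hb.symm (F.pt_fixed he heP) hbP
    obtain ⟨n₁, hn₁, e1⟩ := exists_conj_in F.pointClass he hw heP hwP hwne.symm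
    obtain ⟨n₂, hn₂, e2⟩ := exists_conj_in F.pointClass hw hf hwP hfP (h ▸ hwne)
    exact ⟨n₂ * n₁, mul_mem hn₂ hn₁, by rw [← e2, ← e1]; group⟩
  · exact exists_conj_in F.pointClass he hf heP hfP h

theorem not_centralized {e : G} (he : e ∈ D) (heP : e ∈ Subgroup.normalizer (P : Set G)) :
    ¬ P ≤ Subgroup.centralizer ({e} : Set G) := by
  intro h
  obtain ⟨b, hb, hbP⟩ := F.exists_other (pt e)
  obtain ⟨z, hz⟩ := F.moves
  have ha := F.pt_fixed he heP
  have h1 := card_twoPt F.pointClass hb.symm he rfl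
  have h2 : Nat.card P ≤ pPart p (Nat.card ↥(twoPt G (pt e) b ⊓ Subgroup.centralizer ({e} : Set G))) :=
    Coprime.card_le_of_isPGroup F.pgroup (le_inf (le_inf ha hbP) h)
  have h3 := F.card_eq hb.symm ha hbP
  have h4 : p ∣ Nat.card {g : G // g ∈ D ∧ pt g = pt e} := card_point_eq F.pointClass z (pt e) ▸ hz
  have h5 : Nat.card {g : G // g ∈ D ∧ pt g = pt e} ≠ 0 :=
    (Nat.card_pos_iff.2 ⟨⟨⟨e, he, rfl⟩⟩, inferInstance⟩).ne'
  rw [h1, Nat.factorization_mul h5 Nat.card_pos.ne', Finsupp.add_apply, pow_add] at h3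
  have h6 : p ≤ p ^ (Nat.card {g : G // g ∈ D ∧ pt g = pt e}).factorization p :=
    Nat.le_self_pow ((Fact.out : p.Prime).factorization_pos_of_dvd h5 h4).ne' p
  have h7 : 0 < pPart p (Nat.card ↥(twoPt G (pt e) b ⊓ Subgroup.centralizer ({e} : Set G))) :=
    pow_pos (Fact.out : p.Prime).pos _
  rw [h3] at h2
  unfold pPart at h2 h7
  nlinarith [(Fact.out : p.Prime).two_le]

theorem gen_le {e : G} (he : e ∈ D) (heP : e ∈ Subgroup.normalizer (P : Set G)) : gen P e ≤ P :=
  Bender.gen_le heP (F.mul_self he)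

theorem gen_ne_bot {e : G} (he : e ∈ D) (heP : e ∈ Subgroup.normalizer (P : Set G)) :
    gen P e ≠ ⊥ := by
  intro h
  refine F.not_centralized he heP fun g hg => mem_centralizer.2 ?_
  have h1 : e * (g * e * g⁻¹) = 1 := Subgroup.mem_bot.1 (h ▸ Subgroup.subset_closure ⟨g, hg, rfl⟩)
  rw [mul_eq_one_iff_inv_eq, F.inv_self he, eq_mul_inv_iff_mul_eq] at h1
  exact h1.symm

/-- An inverted element of `P` lies in `[P, e]`. -/
theorem inverted_mem_gen {e x : G} (he : e ∈ D) (hx : x ∈ P) (hinv : e * x * e = x⁻¹) :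
    x ∈ gen P e := by
  have h1 : x⁻¹ * x⁻¹ ∈ gen P e := by
    have := Subgroup.subset_closure (k := {w | ∃ g ∈ P, e * (g * e * g⁻¹) = w}) ⟨x, hx, rfl⟩
    rw [show e * (x * e * x⁻¹) = (e * x * e) * x⁻¹ by group, hinv] at this
    exact this
  have h2 : x * x ∈ gen P e := by
    have := inv_mem h1
    rwa [mul_inv_rev, inv_inv] at this
  obtain ⟨l, hl⟩ := F.odd_P.of_dvd_nat (Subgroup.orderOf_dvd_natCard P hx)
  have h3 : x = (x * x) ^ (l + 1) := by
    rw [← sq, ← pow_mul, show 2 * (l + 1) = orderOf x + 1 by omega, pow_succ, pow_orderOf_eq_one,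
      one_mul]
  rw [h3]
  exact pow_mem h2 _

/-- A subgroup of `P` invariant under `e` is centralised unless it has an inverted element of
order `p`. -/
theorem centralizes_or {e : G} (he : e ∈ D) {Q : Subgroup G} (hQP : Q ≤ P)
    (hQ : ∀ x ∈ Q, e * x * e ∈ Q) :
    Q ≤ Subgroup.centralizer ({e} : Set G) ∨
      ∃ y ∈ Q, y ≠ 1 ∧ y ^ p = 1 ∧ e * y * e = y⁻¹ := by
  rw [or_iff_not_imp_right]
  intro hno x hx
  refine mem_centralizer.2 ?_
  set y := x⁻¹ * (e * x * e) with hy
  have hyQ : y ∈ Q := Q.mul_mem (Q.inv_mem hx) (hQ x hx)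
  have hyinv : e * y * e = y⁻¹ := by
    rw [hy]
    calc e * (x⁻¹ * (e * x * e)) * e = (e * x⁻¹ * e) * x * (e * e) := by group
      _ = (e * x⁻¹ * e) * x := by rw [F.mul_self he, mul_one]
      _ = _ := by rw [mul_inv_rev, mul_inv_rev, mul_inv_rev, inv_inv, F.inv_self he]; group
  have hy1 : y = 1 := by
    by_contra hne
    obtain ⟨k, hk⟩ := (IsPGroup.iff_orderOf.1 F.pgroup) ⟨y, hQP hyQ⟩
    rw [Subgroup.orderOf_mk] at hk
    rcases k with - | k
    · exact hne (orderOf_eq_one_iff.1 (by rw [hk, pow_zero]))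
    refine hno ⟨y ^ p ^ k, pow_mem hyQ _, ?_, ?_, ?_⟩
    · refine pow_ne_one_of_lt_orderOf (pow_ne_zero _ (Fact.out : p.Prime).pos.ne') ?_
      rw [hk]
      exact Nat.pow_lt_pow_right (Fact.out : p.Prime).one_lt (by omega)
    · rw [← pow_mul, ← pow_succ, ← hk, pow_orderOf_eq_one]
    · rw [← inv_pow, ← hyinv]
      calc e * y ^ p ^ k * e = e * y ^ p ^ k * e⁻¹ := by rw [F.inv_self he]
        _ = (e * y * e⁻¹) ^ p ^ k := (conj_pow ..).symm
        _ = _ := by rw [F.inv_self he]
  rw [hy, inv_mul_eq_one] at hy1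
  show x * e = e * x
  calc x * e = (e * x * e) * e := by rw [← hy1]
    _ = e * x * (e * e) := by group
    _ = e * x := by rw [F.mul_self he, mul_one]

/-- The chain over all of `Fix P`: nothing nontrivial normalised by `N(P)` lies in every
`[P, e]`. -/
theorem key_all {J : Subgroup G} (hJ : J ≠ ⊥) (hJP : J ≤ P)
    (hN : ∀ n ∈ Subgroup.normalizer (P : Set G), n ∈ Subgroup.normalizer (J : Set G))
    (hgen : ∀ e ∈ D, e ∈ Subgroup.normalizer (P : Set G) → J ≤ gen P e) : False := by
  obtain ⟨e₀, he₀, he₀P⟩ := F.exists_mem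
  set x := pt e₀
  have hx := F.pt_fixed he₀ he₀P
  let S := {z : Ω // z ≠ x ∧ P ≤ MulAction.stabilizer G z}
  have hsw : ∀ z : S, ∃ u ∈ D, u ∈ Subgroup.normalizer (P : Set G) ∧ u • x = z.1 ∧
      P ≤ MulAction.stabilizer G (pt u) ∧ pt u ≠ x := fun z => F.exists_swap z.2.1.symm hx z.2.2
  choose u hu huP hux hupt hune using hsw
  let f : S → S := fun z => ⟨pt (u z), hune z, hupt z⟩
  obtain ⟨b, hb, hbP⟩ := F.exists_other x
  obtain ⟨i, j, hij, heq⟩ := Finite.exists_ne_map_eq_of_infinite fun n : ℕ => f^[n] ⟨b, hb, hbP⟩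
  wlog hlt : i < j generalizing i j
  · exact this j i hij.symm heq.symm (by omega)
  set z := f^[i] ⟨b, hb, hbP⟩
  have hz : f^[j - i] z = z := by
    rw [← Function.iterate_add_apply, Nat.sub_add_cancel hlt.le]
    exact heq.symm
  refine F.toCentred.chain hx (fun k => (f^[k] z).1) (fun k => (f^[k] z).2) (t := j - i) (by omega)
    (fun k => by simp only [Function.iterate_add_apply, hz]) hJ hJP
    (fun g hg => hN g (Subgroup.le_normalizer hg)) (fun k n _ hn => hN n hn)
    (fun k => ⟨_, hu _, huP _, hN _ (huP _), hux _, by rw [Function.iterate_succ_apply']⟩)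
    (fun k => ?_)
  simp only [Function.iterate_succ_apply']
  exact (hgen _ (hu _) (huP _)).trans
    (F.gen_fixes (f^[k] z).2.1.symm hx (f^[k] z).2.2 (hu _) (huP _) (hux _))

theorem gen_inf_omega_ne_bot {e : G} (he : e ∈ D) (heP : e ∈ Subgroup.normalizer (P : Set G)) :
    gen P e ⊓ omegaZ p P ≠ ⊥ := by
  set Q := (gen P e).subgroupOf P with hQ
  haveI : Q.Normal := ⟨fun w hw g => gen_conj_mem (F.mul_self he) g.2 hw⟩
  have hQ1 : Q ≠ ⊥ := fun h => F.gen_ne_bot he heP (by
    rw [Subgroup.subgroupOf_eq_bot, disjoint_iff, inf_eq_left.2 (F.gen_le he heP)] at h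
    exact h)
  obtain ⟨⟨w, hw⟩, hw1⟩ : ∃ w : (Q ⊓ Subgroup.center P : Subgroup P), w ≠ 1 := by
    haveI := (Subgroup.nontrivial_iff_ne_bot _).2
      (PGroup.inf_center_ne_bot F.pgroup (N := Q) hQ1)
    exact exists_ne 1
  have hw0 : w ≠ 1 := fun h => hw1 (Subtype.ext h)
  obtain ⟨k, hk⟩ := (IsPGroup.iff_orderOf.1 F.pgroup) w
  rcases k with - | k
  · exact absurd (orderOf_eq_one_iff.1 (by rw [hk, pow_zero])) hw0
  intro hbot
  have hmem : ((w ^ p ^ k : P) : G) ∈ gen P e ⊓ omegaZ p P := by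
    refine ⟨(pow_mem hw.1 _ : w ^ p ^ k ∈ Q), (w ^ p ^ k).2, ?_, fun g hg => ?_⟩
    · rw [← SubgroupClass.coe_pow, ← pow_mul, ← pow_succ, ← hk, pow_orderOf_eq_one]
      rfl
    · exact congrArg Subtype.val (Subgroup.mem_center_iff.1 (pow_mem hw.2 _) ⟨g, hg⟩)
  rw [hbot, Subgroup.mem_bot] at hmem
  refine pow_ne_one_of_lt_orderOf (pow_ne_zero _ (Fact.out : p.Prime).pos.ne') ?_ (Subtype.ext hmem)
  rw [hk]
  exact Nat.pow_lt_pow_right (Fact.out : p.Prime).one_lt (by omega)

theorem omega_isPGroup : IsPGroup p (omegaZ p P) := F.pgroup.to_le (omegaZ_le p P)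

theorem omega_ne_bot : omegaZ p P ≠ ⊥ := fun h => by
  obtain ⟨e, he, heP⟩ := F.exists_mem
  exact F.gen_inf_omega_ne_bot he heP (by rw [h, inf_bot_eq])

theorem card_le_sq {A : Subgroup G} (hA : A ≤ P) (hexp : ∀ a ∈ A, a ^ p = 1)
    (hcomm : ∀ a ∈ A, ∀ b ∈ A, a * b = b * a) : Nat.card A ≤ p ^ 2 := by
  rw [← Cores.card_subgroupOf hA]
  refine F.rank _ ⟨⟨fun a b => Subtype.ext (Subtype.ext (hcomm _ a.2 _ b.2))⟩⟩ fun a ha => ?_
  exact Subtype.ext (by rw [SubgroupClass.coe_pow, hexp (a : G) ha]; rfl)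

theorem not_le_gen {e : G} (he : e ∈ D) (heP : e ∈ Subgroup.normalizer (P : Set G)) :
    ¬ omegaZ p P ≤ gen P e := by
  intro h
  refine F.key_all F.omega_ne_bot (omegaZ_le p P) (fun n hn => F.omegaZ_normalized hn)
    fun f hf hfP x hx => ?_
  obtain ⟨n, hn, rfl⟩ := F.exists_conj he heP hf hfP
  have hx' : n⁻¹ * x * n ∈ omegaZ p P :=
    (Subgroup.mem_normalizer_iff''.1 (F.omegaZ_normalized hn) x).1 hx
  have := conj_mem_gen hn (h hx')
  convert this using 1
  group

theorem omega_card : Nat.card (omegaZ p P) = p ^ 2 := by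
  obtain ⟨e, he, heP⟩ := F.exists_mem
  obtain ⟨k, hk⟩ := F.omega_isPGroup.exists_card_eq
  have hk2 : k ≤ 2 := (Nat.pow_le_pow_iff_right (Fact.out : p.Prime).one_lt).1 (hk ▸
    F.card_le_sq (omegaZ_le p P) (fun a ha => ha.2.1) fun a ha b hb => hb.2.2 a ha.1)
  refine hk.trans (congrArg (p ^ ·) ?_)
  by_contra hne
  refine F.not_le_gen he heP ?_
  have hne' := F.gen_inf_omega_ne_bot he heP
  obtain ⟨j, hj⟩ := (F.omega_isPGroup.to_le (inf_le_right (a := gen P e))).exists_card_eq
  have hj0 : j ≠ 0 := by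
    rintro rfl
    exact hne' (Subgroup.eq_bot_of_card_eq _ (by rw [hj, pow_zero]))
  have := Subgroup.eq_of_le_of_card_ge (inf_le_right : gen P e ⊓ omegaZ p P ≤ _) (by
    rw [hk, hj]
    exact Nat.pow_le_pow_right (Fact.out : p.Prime).pos (by omega))
  exact inf_eq_right.1 this

theorem mem_omega {x : G} (hx : x ∈ P) (hxp : x ^ p = 1) : x ∈ omegaZ p P := by
  set E := omegaZ p P
  have hcx : ∀ e ∈ E, e * x = x * e := fun e he => (he.2.2 x hx).symm
  have hmem : ∀ a ∈ E ⊔ Subgroup.zpowers x, ∃ e ∈ E, ∃ i : ℤ, a = e * x ^ i := by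
    intro a ha
    obtain ⟨e, he, b, hb, rfl⟩ := (Coprime.mem_sup_iff
      (Subgroup.zpowers_le.2 (Coprime.mem_normalizer_of_forall fun e he => by
        rw [← hcx e he, mul_inv_cancel_right]; exact he))).1 ha
    obtain ⟨i, rfl⟩ := Subgroup.mem_zpowers_iff.1 hb
    exact ⟨e, he, i, rfl⟩
  have hle : E ⊔ Subgroup.zpowers x ≤ P := sup_le (omegaZ_le p P) (Subgroup.zpowers_le.2 hx)
  have h := F.card_le_sq hle (fun a ha => ?_) fun a ha b hb => ?_
  · have := Subgroup.eq_of_le_of_card_ge (le_sup_left : E ≤ E ⊔ Subgroup.zpowers x)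
      (by rw [F.omega_card]; exact h)
    exact this.ge (Subgroup.mem_sup_right (Subgroup.mem_zpowers x))
  · obtain ⟨e, he, i, rfl⟩ := hmem a ha
    rw [((show Commute e x from hcx e he).zpow_right i).mul_pow, he.2.1, one_mul, ← zpow_natCast,
      ← zpow_mul, mul_comm, zpow_mul, zpow_natCast, hxp, one_zpow]
  · obtain ⟨e, he, i, rfl⟩ := hmem a ha
    obtain ⟨f, hf, j, rfl⟩ := hmem b hb
    have c1 : Commute e f := (he.2.2 f hf.1).symm
    have c2 : Commute e (x ^ j) := (show Commute e x from hcx e he).zpow_right j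
    have c3 : Commute (x ^ i) f := ((show Commute f x from hcx f hf).zpow_right i).symm
    have c4 : Commute (x ^ i) (x ^ j) := (Commute.refl x).zpow_zpow i j
    exact ((c1.mul_right c2).mul_left (c3.mul_right c4)).eq

theorem line_card {e : G} (he : e ∈ D) (heP : e ∈ Subgroup.normalizer (P : Set G)) :
    Nat.card (gen P e ⊓ omegaZ p P : Subgroup G) = p := by
  obtain ⟨j, hj⟩ := (F.omega_isPGroup.to_le (inf_le_right (a := gen P e))).exists_card_eq
  have hj0 : j ≠ 0 := by
    rintro rfl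
    exact F.gen_inf_omega_ne_bot he heP (Subgroup.eq_bot_of_card_eq _ (by rw [hj, pow_zero]))
  rcases Nat.lt_or_ge j 2 with h | h
  · rw [hj, show j = 1 by omega, pow_one]
  · refine absurd ?_ (F.not_le_gen he heP)
    have := Subgroup.eq_of_le_of_card_ge (inf_le_right : gen P e ⊓ omegaZ p P ≤ _) (by
      rw [F.omega_card, hj]; exact Nat.pow_le_pow_right (Fact.out : p.Prime).pos h)
    exact inf_eq_right.1 this

theorem line_eq {e : G} (he : e ∈ D) (heP : e ∈ Subgroup.normalizer (P : Set G)) {y : G}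
    (hy : y ∈ gen P e ⊓ omegaZ p P) (hy1 : y ≠ 1) :
    Subgroup.zpowers y = gen P e ⊓ omegaZ p P :=
  Subgroup.eq_of_le_of_card_ge (Subgroup.zpowers_le.2 hy) (by
    rw [F.line_card he heP, Nat.card_zpowers, orderOf_eq_prime hy.2.2.1 hy1])

theorem gen_conj_self {e w : G} (he : e ∈ D) (heP : e ∈ Subgroup.normalizer (P : Set G))
    (hw : w ∈ gen P e) : e * w * e ∈ gen P e := by
  have := conj_mem_gen heP hw
  rwa [mul_inv_cancel_right, F.inv_self he] at this

/-- The line `[P, e] ∩ E` is inverted by `e`. -/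
theorem line_inverted {e : G} (he : e ∈ D) (heP : e ∈ Subgroup.normalizer (P : Set G)) {x : G}
    (hx : x ∈ gen P e ⊓ omegaZ p P) : e * x * e = x⁻¹ := by
  rcases F.centralizes_or he (F.gen_le he heP) (fun w hw => F.gen_conj_self he heP hw) with
    h | ⟨y, hy, hy1, hyp, hyinv⟩
  · refine absurd ?_ (F.gen_ne_bot he heP)
    refine Subgroup.closure_eq_bot_iff.2 fun w hw => ?_
    have hwmem : w ∈ gen P e := Subgroup.subset_closure hw
    obtain ⟨g, hg, rfl⟩ := hw
    have h1 : Commute (e * (g * e * g⁻¹)) e := mem_centralizer.1 (h hwmem)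
    set w := e * (g * e * g⁻¹) with hw'
    have h2 : e * w * e = w⁻¹ := by
      rw [hw', mul_inv_rev, mul_inv_rev, mul_inv_rev, inv_inv, F.inv_self he]
      calc e * (e * (g * e * g⁻¹)) * e = (e * e) * (g * e * g⁻¹) * e := by group
        _ = _ := by rw [F.mul_self he, one_mul]; group
    have h3 : w * w = 1 := by
      rw [mul_assoc, h1.eq, ← mul_assoc, F.mul_self he, one_mul] at h2
      nth_rw 2 [h2]
      exact mul_inv_cancel _
    have h4 := F.odd_P.of_dvd_nat (Subgroup.orderOf_dvd_natCard P (F.gen_le he heP hwmem))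
    have h5 : orderOf w ∣ 2 := orderOf_dvd_of_pow_eq_one (by rw [sq, h3])
    exact Set.mem_singleton_iff.2 (orderOf_eq_one_iff.1
      (Nat.eq_one_of_dvd_coprimes (Nat.coprime_two_left.2 h4) h5 dvd_rfl))
  · have hyE : y ∈ gen P e ⊓ omegaZ p P := ⟨hy, F.mem_omega (F.gen_le he heP hy) hyp⟩
    obtain ⟨i, rfl⟩ := Subgroup.mem_zpowers_iff.1 ((F.line_eq he heP hyE hy1).ge hx)
    calc e * y ^ i * e = e * y ^ i * e⁻¹ := by rw [F.inv_self he]
      _ = (e * y * e⁻¹) ^ i := conj_zpow.symm
      _ = _ := by rw [F.inv_self he, hyinv, inv_zpow]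

theorem inverted_mem_line {e x : G} (he : e ∈ D) (hx : x ∈ omegaZ p P) (hinv : e * x * e = x⁻¹) :
    x ∈ gen P e ⊓ omegaZ p P :=
  ⟨F.inverted_mem_gen he hx.1 hinv, hx⟩

theorem conj_mem_omega {e x : G} (he : e ∈ D) (heP : e ∈ Subgroup.normalizer (P : Set G))
    (hx : x ∈ omegaZ p P) : e * x * e ∈ omegaZ p P := by
  have := (Subgroup.mem_normalizer_iff.1 (F.omegaZ_normalized heP) x).1 hx
  rwa [F.inv_self he] at this

/-- `e` fixes some nontrivial element of `E`. -/
theorem exists_fixed_omega {e : G} (he : e ∈ D) (heP : e ∈ Subgroup.normalizer (P : Set G)) :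
    ∃ c ∈ omegaZ p P, c ≠ 1 ∧ e * c * e = c := by
  obtain ⟨x, hx, hxL⟩ := SetLike.not_le_iff_exists.1 (F.not_le_gen he heP)
  refine ⟨x * (e * x * e), mul_mem hx (F.conj_mem_omega he heP hx), fun h => ?_, ?_⟩
  · exact hxL (F.inverted_mem_gen he hx.1 (inv_eq_of_mul_eq_one_right h).symm)
  · have hc : (e * x * e) * x = x * (e * x * e) :=
      (hx.2.2 _ (F.conj_mem_omega he heP hx).1)
    calc e * (x * (e * x * e)) * e = (e * x * e) * x * (e * e) := by group
      _ = _ := by rw [F.mul_self he, mul_one, hc]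

theorem not_centralizes_omega {e : G} (he : e ∈ D) (heP : e ∈ Subgroup.normalizer (P : Set G)) :
    ¬ omegaZ p P ≤ Subgroup.centralizer ({e} : Set G) := by
  intro h
  obtain ⟨⟨y, hy⟩, hy1⟩ := ((Subgroup.nontrivial_iff_ne_bot _).2
    (F.gen_inf_omega_ne_bot he heP)).exists_pair_ne |>.elim fun a ⟨b, hab⟩ => by
      rcases eq_or_ne a 1 with rfl | ha
      · exact (⟨b, hab.symm⟩ : ∃ y : (gen P e ⊓ omegaZ p P : Subgroup G), y ≠ 1)
      · exact ⟨a, ha⟩
  have h1 := F.line_inverted he heP hy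
  have h2 : Commute y e := mem_centralizer.1 (h hy.2)
  rw [← h2.eq, mul_assoc, F.mul_self he, mul_one] at h1
  have h3 : y * y = 1 := by nth_rw 2 [h1]; exact mul_inv_cancel _
  have h4 := F.odd_P.of_dvd_nat (Subgroup.orderOf_dvd_natCard P hy.2.1)
  exact hy1 (Subtype.ext (orderOf_eq_one_iff.1 (Nat.eq_one_of_dvd_coprimes
    (Nat.coprime_two_left.2 h4) (orderOf_dvd_of_pow_eq_one (by rw [sq, h3])) dvd_rfl)))

/-- `P` is abelian. -/
theorem comm : ∀ x ∈ P, ∀ y ∈ P, x * y = y * x := by
  have hle : ∀ e ∈ D, e ∈ Subgroup.normalizer (P : Set G) → ⁅P, P⁆ ≤ gen P e := by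
    intro e he heP
    set C := P ⊓ Subgroup.centralizer ({e} : Set G) with hC
    have hcyc : IsCyclic C := by
      by_contra h
      have hCp : IsPGroup p C := F.pgroup.to_le inf_le_left
      obtain ⟨A, -, -, hA, hAcard⟩ := PGroup.exists_normal_elementary_sq F.odd_prime hCp
        (S := (⊤ : Subgroup C)) (fun h' => h (isCyclic_of_surjective Subgroup.topEquiv
          (MulEquiv.surjective _)))
      have hAE : A.map C.subtype ≤ omegaZ p P := by
        rintro _ ⟨a, ha, rfl⟩
        exact F.mem_omega a.2.1 (congrArg Subtype.val (hA.2 a ha) : ((a ^ p : C) : G) = 1)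
      have heq := Subgroup.eq_of_le_of_card_ge hAE (by
        rw [F.omega_card, Cores.card_map_subtype, hAcard])
      exact F.not_centralizes_omega he heP (heq ▸ (Subgroup.map_subtype_le A).trans inf_le_right)
    have hdec : ∀ x ∈ P, ∃ z ∈ C, z⁻¹ * x ∈ gen P e := by
      intro x hx
      have hodd : Odd (Nat.card (gen P e)) :=
        F.odd_P.of_dvd_nat (Subgroup.card_dvd_of_le (F.gen_le he heP))
      haveI : Fact (Nat.Prime 2) := ⟨Nat.prime_two⟩
      obtain ⟨z, hz, hzf⟩ := exists_fixed_coset (p := 2)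
        (Nat.two_dvd_ne_zero.2 (Nat.odd_iff.1 hodd)) x (fun z => e * z * e)
        (fun z hz => by
          have h1 : x⁻¹ * (e * x * e) ∈ gen P e := by
            have := inv_mem (Subgroup.subset_closure (k := {w | ∃ g ∈ P, e * (g * e * g⁻¹) = w})
              ⟨x⁻¹, P.inv_mem hx, rfl⟩)
            rw [mul_inv_rev, mul_inv_rev, mul_inv_rev, inv_inv, inv_inv, F.inv_self he] at this
            unfold gen
            simpa only [mul_assoc] using this
          have := mul_mem h1 (F.gen_conj_self he heP hz)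
          convert this using 1
          calc x⁻¹ * (e * z * e) = x⁻¹ * e * x * (x⁻¹ * z) * e := by group
            _ = x⁻¹ * e * x * (e * e) * (x⁻¹ * z) * e := by rw [F.mul_self he, mul_one]
            _ = _ := by group) (k := 1) (fun z => by
          show e * (e * z * e) * e = z
          calc e * (e * z * e) * e = (e * e) * z * (e * e) := by group
            _ = z := by rw [F.mul_self he]; group)
      refine ⟨z, ⟨?_, mem_centralizer.2 ?_⟩, ?_⟩
      · have := P.mul_mem hx (F.gen_le he heP hz)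
        rwa [mul_inv_cancel_left] at this
      · show z * e = e * z
        calc z * e = (e * z * e) * e := by rw [hzf]
          _ = e * z * (e * e) := by group
          _ = e * z := by rw [F.mul_self he, mul_one]
      · have := inv_mem hz
        rwa [mul_inv_rev, inv_inv] at this
    haveI : ((gen P e).subgroupOf P).Normal :=
      ⟨fun w hw g => gen_conj_mem (F.mul_self he) g.2 hw⟩
    rw [Subgroup.commutator_le]
    intro x hx y hy
    set φ := QuotientGroup.mk' ((gen P e).subgroupOf P)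
    have hkey : φ ⁅(⟨x, hx⟩ : P), (⟨y, hy⟩ : P)⁆ = 1 := by
      have heq : ∀ a (ha : a ∈ P), ∀ z (hz : z ∈ C), z⁻¹ * a ∈ gen P e →
          φ ⟨a, ha⟩ = φ ⟨z, hz.1⟩ := fun a ha z hz h =>
        (QuotientGroup.eq.2 (show ((⟨z, hz.1⟩ : P)⁻¹ * ⟨a, ha⟩) ∈ (gen P e).subgroupOf P from h)).symm
      obtain ⟨z, hz, hzx⟩ := hdec x hx
      obtain ⟨w, hw, hwy⟩ := hdec y hy
      rw [map_commutatorElement, heq x hx z hz hzx, heq y hy w hw hwy, ← map_commutatorElement,
        commutatorElement_eq_one_iff_mul_comm.2, map_one]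
      letI : CommGroup C := IsCyclic.commGroup
      exact Subtype.ext (congrArg (Subtype.val : C → G) (mul_comm (⟨z, hz⟩ : C) ⟨w, hw⟩))
    have := (QuotientGroup.eq_one_iff _).1 hkey
    exact this
  have hbot : ⁅P, P⁆ = ⊥ := by
    by_contra h
    refine F.key_all h (Subgroup.commutator_le.2 fun a ha b hb =>
      mul_mem (mul_mem (mul_mem ha hb) (inv_mem ha)) (inv_mem hb))
      (fun n hn => mem_normalizer_commutator_of hn hn) hle
  intro x hx y hy
  exact commutatorElement_eq_one_iff_mul_comm.1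
    (Subgroup.mem_bot.1 (hbot ▸ Subgroup.commutator_mem_commutator hx hy))

/-- No two distinct commuting members of `D` normalise `P`. -/
theorem eq_of_commute_norm {e f : G} (he : e ∈ D) (heP : e ∈ Subgroup.normalizer (P : Set G))
    (hf : f ∈ D) (hfP : f ∈ Subgroup.normalizer (P : Set G)) (hc : Commute e f) : e = f := by
  by_contra hne
  have h2 : orderOf (e * f) = 2 := Involution.orderOf_of_sq (by
    calc e * f * (e * f) = e * (f * e) * f := by group
      _ = (e * e) * (f * f) := by rw [← hc.eq]; group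
      _ = 1 := by rw [F.mul_self he, F.mul_self hf, one_mul]) (fun h => hne (by
    rw [mul_eq_one_iff_eq_inv, F.inv_self hf] at h; exact h))
  -- two commuting members cannot invert one nontrivial element of `E`
  have key : ∀ a b, a ∈ D → a ∈ Subgroup.normalizer (P : Set G) → b ∈ D →
      b ∈ Subgroup.normalizer (P : Set G) → Commute a b → a * b ∈ D →
      ∀ x ∈ omegaZ p P, x ≠ 1 → a * x * a = x⁻¹ → b * x * b = x⁻¹ → False := by
    intro a b ha haP hb hbP hab habD x hx hx1 hax hbx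
    have hLb : gen P a ⊓ omegaZ p P = gen P b ⊓ omegaZ p P := by
      rw [← F.line_eq ha haP (F.inverted_mem_line ha hx hax) hx1,
        ← F.line_eq hb hbP (F.inverted_mem_line hb hx hbx) hx1]
    have habP : a * b ∈ Subgroup.normalizer (P : Set G) := mul_mem haP hbP
    obtain ⟨⟨y, hy⟩, hy1⟩ := exists_ne_one_of (F.gen_inf_omega_ne_bot habD habP)
    have hyinv : (a * b) * y * (a * b) = y⁻¹ := F.line_inverted habD habP hy
    -- split `y` under `a`
    have hab' : a * (b * y * b) * a = y⁻¹ := by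
      rw [← hyinv]
      calc a * (b * y * b) * a = a * b * y * (b * a) := by group
        _ = _ := by rw [← hab.eq]
    set y' := y⁻¹ * (a * y * a) with hy'
    have hy'E : y' ∈ omegaZ p P := mul_mem (inv_mem hy.2) (F.conj_mem_omega ha haP hy.2)
    have hy'inv : a * y' * a = y'⁻¹ := by
      rw [hy']
      calc a * (y⁻¹ * (a * y * a)) * a = (a * y⁻¹ * a) * y * (a * a) := by group
        _ = (a * y⁻¹ * a) * y := by rw [F.mul_self ha, mul_one]
        _ = _ := by rw [mul_inv_rev, mul_inv_rev, mul_inv_rev, inv_inv, F.inv_self ha]; group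
    by_cases hy'1 : y' = 1
    · -- `a` centralises `y`, so `b` inverts it
      rw [hy', inv_mul_eq_one] at hy'1
      have hby : b * y * b = y⁻¹ := by
        calc b * y * b = a * (a * (b * y * b) * a) * a := by
              rw [show a * (a * (b * y * b) * a) * a = (a * a) * (b * y * b) * (a * a) by group,
                F.mul_self ha]; group
          _ = (a * y * a)⁻¹ := by
              rw [hab', mul_inv_rev, mul_inv_rev, F.inv_self ha]; group
          _ = y⁻¹ := by rw [← hy'1]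
      have hya := F.line_inverted ha haP (hLb.ge (F.inverted_mem_line hb hy.2 hby))
      rw [← hy'1] at hya
      have h3 : y * y = 1 := by nth_rw 2 [hya]; exact mul_inv_cancel _
      have h4 := F.odd_P.of_dvd_nat (Subgroup.orderOf_dvd_natCard P hy.2.1)
      exact hy1 (Subtype.ext (orderOf_eq_one_iff.1 (Nat.eq_one_of_dvd_coprimes
        (Nat.coprime_two_left.2 h4) (orderOf_dvd_of_pow_eq_one (by rw [sq, h3])) dvd_rfl)))
    · -- `y'` is inverted by `a`, so by `b`, so fixed and inverted by `a * b`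
      have hy'L : y' ∈ gen P (a * b) ⊓ omegaZ p P := by
        refine mul_mem (inv_mem hy) ?_
        refine ⟨?_, F.conj_mem_omega ha haP hy.2⟩
        have := conj_mem_gen haP hy.1
        have e1 : a * (a * b) * a⁻¹ = a * b := by
          calc a * (a * b) * a⁻¹ = a * (b * a) * a⁻¹ := by rw [hab.eq]
            _ = a * b := by group
        rwa [e1, F.inv_self ha] at this
      have h5 := F.line_inverted habD habP hy'L
      have h6 : b * y' * b = y'⁻¹ :=
        F.line_inverted hb hbP (hLb.le (F.inverted_mem_line ha hy'E hy'inv))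
      have h7 : (a * b) * y' * (a * b) = y' := by
        calc (a * b) * y' * (a * b) = a * (b * y') * (a * b) := by group
          _ = a * (b * y') * (b * a) := congrArg (a * (b * y') * ·) hab.eq
          _ = a * (b * y' * b) * a := by group
          _ = (a * y' * a)⁻¹ := by
              have h8 : ∀ z : G, a * z⁻¹ * a = (a * z * a)⁻¹ := fun z => by
                rw [mul_inv_rev, mul_inv_rev, F.inv_self ha, mul_assoc]
              rw [h6, h8]
          _ = y' := by rw [hy'inv, inv_inv]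
      rw [h7] at h5
      have h3 : y' * y' = 1 := by nth_rw 2 [h5]; exact mul_inv_cancel _
      have h4 := F.odd_P.of_dvd_nat (Subgroup.orderOf_dvd_natCard P hy'E.1)
      exact hy'1 (orderOf_eq_one_iff.1 (Nat.eq_one_of_dvd_coprimes
        (Nat.coprime_two_left.2 h4) (orderOf_dvd_of_pow_eq_one (by rw [sq, h3])) dvd_rfl))
  have hefD := F.all _ h2
  obtain ⟨⟨x, hx⟩, hx1⟩ := exists_ne_one_of (F.gen_inf_omega_ne_bot he heP)
  have hx0 : x ≠ 1 := fun h => hx1 (Subtype.ext h)
  have hex := F.line_inverted he heP hx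
  set y := x⁻¹ * (f * x * f) with hy
  have hfx : f * x * f ∈ gen P e ⊓ omegaZ p P := by
    refine ⟨?_, F.conj_mem_omega hf hfP hx.2⟩
    have := conj_mem_gen hfP hx.1
    rwa [← hc.eq, mul_inv_cancel_right, F.inv_self hf] at this
  have hyL : y ∈ gen P e ⊓ omegaZ p P := mul_mem (inv_mem hx) hfx
  by_cases hy1 : y = 1
  · -- `f` centralises `x`, so `e * f` inverts it
    rw [hy, inv_mul_eq_one] at hy1
    refine key e (e * f) he heP hefD (mul_mem heP hfP) ((Commute.refl e).mul_right hc) ?_ x hx.2 hx0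
      hex ?_
    · rw [← mul_assoc, F.mul_self he, one_mul]
      exact hf
    · calc (e * f) * x * (e * f) = e * (f * x * f) * e := by
            rw [hc.eq]; group
              -- both sides agree as `e` and `f` commute
            rw [show e * f = f * e from hc.eq]
        _ = x⁻¹ := by rw [← hy1, hex]
  · have hyinv : f * y * f = y⁻¹ := by
      rw [hy]
      calc f * (x⁻¹ * (f * x * f)) * f = (f * x⁻¹ * f) * x * (f * f) := by group
        _ = (f * x⁻¹ * f) * x := by rw [F.mul_self hf, mul_one]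
        _ = _ := by rw [mul_inv_rev, mul_inv_rev, mul_inv_rev, inv_inv, F.inv_self hf]; group
    exact key e f he heP hf hfP hc hefD y hyL.2 hy1 (F.line_inverted he heP hyL) hyinv
where
  exists_ne_one_of {K : Subgroup G} (h : K ≠ ⊥) : ∃ y : K, y ≠ 1 := by
    haveI := (Subgroup.nontrivial_iff_ne_bot K).2 h
    exact exists_ne 1

/-- An odd normal subgroup of `N(P)` containing all commutators with members of `D`. -/
theorem exists_odd : ∃ M : Subgroup G, M ≤ Subgroup.normalizer (P : Set G) ∧ Odd (Nat.card M) ∧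
    (∀ g ∈ Subgroup.normalizer (P : Set G), g ∈ Subgroup.normalizer (M : Set G)) ∧
    (∀ e ∈ D, e ∈ Subgroup.normalizer (P : Set G) → ∀ g ∈ Subgroup.normalizer (P : Set G),
      e * g * e⁻¹ * g⁻¹ ∈ M) ∧
    (∀ K : Subgroup G, K ≤ Subgroup.normalizer (P : Set G) → Odd (Nat.card K) →
      (∀ g ∈ Subgroup.normalizer (P : Set G), g ∈ Subgroup.normalizer (K : Set G)) → K ≤ M) := by
  haveI : Fact (Nat.Prime 2) := ⟨Nat.prime_two⟩
  set N := Subgroup.normalizer (P : Set G) with hN
  refine ⟨(pPrimeCore 2 N).map N.subtype, Subgroup.map_subtype_le _, ?_, ?_, ?_, ?_⟩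
  · rw [Cores.card_map_subtype]
    exact Nat.coprime_two_right.1 (Cores.coprime_card_pPrimeCore 2)
  · exact fun g hg => Cores.normalizer_le_normalizer_map _ (Subgroup.le_normalizer hg)
  · intro e he heP g hg
    have hiso : IsIsolatedInvolution (⟨e, heP⟩ : N) := by
      refine ⟨by rw [← Subgroup.orderOf_coe]; exact F.pointClass.inv e he, fun k hk => Subtype.ext ?_⟩
      exact F.eq_of_commute_norm (F.pointClass.conj_mem _ e he)
        (mem_normalizer_conj k.2 heP) he heP (congrArg Subtype.val hk).symm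
    exact ⟨_, ZStar.zStar_of_brauerSuzuki ZStar.uniqueInvolution hiso ⟨g, hg⟩, rfl⟩
  · intro K hKN hK hKn x hx
    have hnorm : (K.subgroupOf N).Normal :=
      Cores.subgroupOf_normal_of_le_normalizer fun g hg => hKn g hg
    refine ⟨⟨x, hKN hx⟩, Cores.le_pPrimeCore hnorm ?_ hx, rfl⟩
    rw [Cores.card_subgroupOf hKN]
    exact Nat.coprime_two_right.2 hK

end Failure

end Cfsg.Agent.Bender
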