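import Cfsg.Agent.EqLemmas
/-!
# Strongly closed 2-subgroups with centralisers in a proper subgroup (owner: helper38)

The hypotheses of S3289; everything here is elementary.

* `ClosedSetup.sylow_le` : `T ≤ H`
* `ClosedSetup.fusion` : `H` controls the fusion of subgroups of `S`
* `ClosedSetup.mem_of_conj_mem` : an element of `S#` lies in one conjugate of `H` only
-/

set_option autoImplicit false
set_option linter.style.haveILetI false

namespace Cfsg.Agent.Bender

open scoped Pointwise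

/-- A 2-element normalising a nontrivial 2-group fixes one of its nontrivial elements. -/
theorem exists_fixed {G : Type*} [Group G] [Finite G] {E : Subgroup G} (hE2 : IsPGroup 2 E)
    (hE : E ≠ ⊥) {x : G} {k : ℕ} (hk : orderOf x = 2 ^ k)
    (hx : x ∈ Subgroup.normalizer (E : Set G)) : ∃ e ∈ E, e ≠ 1 ∧ x * e * x⁻¹ = e := by
  haveI : Fact (Nat.Prime 2) := ⟨Nat.prime_two⟩
  set M := Subgroup.normalizer (E : Set G) with hM
  haveI : (E.subgroupOf M).Normal := by
    rw [hM]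
    exact Subgroup.normal_in_normalizer
  set X := Subgroup.zpowers (⟨x, hx⟩ : M)
  haveI hX : IsPGroup 2 X := IsPGroup.of_card (n := k) (by rw [Nat.card_zpowers, Subgroup.orderOf_mk, hk])
  letI : MulAction X (E.subgroupOf M) := MulAction.compHom _
    (MulAut.conjNormal.comp X.subtype : X →* MulAut (E.subgroupOf M))
  have h1 : (1 : E.subgroupOf M) ∈ MulAction.fixedPoints X (E.subgroupOf M) := fun y => by
    show MulAut.conjNormal (y : M) (1 : E.subgroupOf M) = 1
    exact map_one _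
  have hdvd : 2 ∣ Nat.card (E.subgroupOf M) := by
    rw [Nat.card_congr (Subgroup.subgroupOfEquivOfLe Subgroup.le_normalizer).toEquiv]
    obtain ⟨j, hj⟩ := IsPGroup.iff_card.1 hE2
    rw [hj]
    refine dvd_pow_self 2 fun h0 => hE (Subgroup.card_eq_one.1 ?_)
    rw [hj, h0, pow_zero]
  obtain ⟨e, he, hne'⟩ := hX.exists_fixed_point_of_prime_dvd_card_of_fixed_point
    (E.subgroupOf M) hdvd h1
  exact ⟨(e : M), Subgroup.mem_subgroupOf.1 e.2, fun e1 => hne' (Subtype.ext (Subtype.ext e1)).symm,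
    congrArg (fun z : E.subgroupOf M => ((z : M) : G)) (he ⟨⟨x, hx⟩, Subgroup.mem_zpowers _⟩)⟩

/-- The hypotheses of S3289. -/
structure ClosedSetup {G : Type*} [Group G] (T : Sylow 2 G) (S H : Subgroup G) : Prop where
  ne_bot : S ≠ ⊥
  closed : Cfsg.IsStronglyClosed S (T : Subgroup G)
  proper : H ≠ ⊤
  cent : ∀ s ∈ S, s ≠ 1 → Subgroup.centralizer ({s} : Set G) ≤ H
  norm : Subgroup.normalizer ((Cfsg.omegaOne 2 S : Subgroup G) : Set G) ≤ H

namespace ClosedSetup

variable {G : Type*} [Group G] [Finite G] {T : Sylow 2 G} {S H : Subgroup G}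
  (h : ClosedSetup T S H)
include h

omit [Finite G] in
theorem conj_mem {s : G} (hs : s ∈ S) {g : G} (hg : g * s * g⁻¹ ∈ (T : Subgroup G)) :
    g * s * g⁻¹ ∈ S :=
  h.closed.2 s hs g hg

/-- An element conjugating `S` into `S` lies in `H`. -/
theorem mem_of_conj_le {c : G} (hc : ∀ s ∈ S, c * s * c⁻¹ ∈ S) : c ∈ H := by
  refine h.norm (Subgroup.mem_normalizer_iff.2 fun x => ?_)
  have hmap : ∀ x ∈ Cfsg.omegaOne 2 S, c * x * c⁻¹ ∈ Cfsg.omegaOne 2 S := fun x hx => by
    induction hx using Subgroup.closure_induction with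
    | mem y hy =>
      refine Subgroup.subset_closure ⟨hc y hy.1, ?_⟩
      rw [conj_pow, hy.2, mul_one, mul_inv_cancel]
    | one => simp
    | mul y z _ _ hy hz =>
      rw [show c * (y * z) * c⁻¹ = c * y * c⁻¹ * (c * z * c⁻¹) by group]
      exact mul_mem hy hz
    | inv y _ hy =>
      rw [show c * y⁻¹ * c⁻¹ = (c * y * c⁻¹)⁻¹ by group]
      exact inv_mem hy
  refine ⟨fun hx => hmap x hx, fun hx => ?_⟩
  have hinv : ∀ y ∈ Cfsg.omegaOne 2 S, c⁻¹ * y * c ∈ Cfsg.omegaOne 2 S := by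
    intro y hy
    have hsurj := Finite.injective_iff_surjective.1
      (fun (a b : (Cfsg.omegaOne 2 S : Subgroup G)) (e : (⟨_, hmap a a.2⟩ : (Cfsg.omegaOne 2 S : Subgroup G)) =
        ⟨_, hmap b b.2⟩) => Subtype.ext (mul_left_cancel (mul_right_cancel (congrArg Subtype.val e))))
    obtain ⟨⟨a, ha⟩, e⟩ := hsurj ⟨y, hy⟩
    have e' : c * a * c⁻¹ = y := congrArg Subtype.val e
    rw [← e', show c⁻¹ * (c * a * c⁻¹) * c = a by group]
    exact ha
  simpa [mul_assoc] using hinv _ hx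

theorem sylow_le : (T : Subgroup G) ≤ H := fun x hx =>
  h.mem_of_conj_le fun s hs => h.conj_mem hs (mul_mem (mul_mem hx (h.closed.1 hs)) (inv_mem hx))

theorem exists_move {X : Subgroup G} (hX : IsPGroup 2 X) (hXH : X ≤ H) :
    ∃ k ∈ H, ∀ x ∈ X, k * x * k⁻¹ ∈ (T : Subgroup G) := by
  haveI : Fact (Nat.Prime 2) := ⟨Nat.prime_two⟩
  obtain ⟨R, hR⟩ := (hX.comap_subtype (H := X) (K := H)).exists_le_sylow
  obtain ⟨k, hk⟩ := MulAction.exists_smul_eq H R (T.subtype h.sylow_le)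
  refine ⟨k, k.2, fun x hx => ?_⟩
  have h1 : k * ⟨x, hXH hx⟩ * k⁻¹ ∈ ((k • R : Sylow 2 H) : Subgroup H) :=
    ⟨_, hR (Subgroup.mem_subgroupOf.2 hx), rfl⟩
  rw [hk, Sylow.coe_subtype, Subgroup.mem_subgroupOf] at h1
  exact h1

/-- `H` controls the fusion of nontrivial subgroups of `S`. -/
theorem fusion : ∀ E : Subgroup G, E ≤ S → E ≠ ⊥ → ∀ c : G, (∀ e ∈ E, c * e * c⁻¹ ∈ S) → c ∈ H := by
  haveI : Fact (Nat.Prime 2) := ⟨Nat.prime_two⟩
  intro E
  induction hn : Nat.card S - Nat.card E using Nat.strong_induction_on generalizing E with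
  | _ n ih =>
  intro hES hE c hc
  rcases eq_or_ne E S with rfl | hne
  · exact h.mem_of_conj_le hc
  have hS2 : IsPGroup 2 S := T.isPGroup'.to_le h.closed.1
  -- the normaliser in `S` is larger
  set M := Subgroup.normalizer (E : Set G) with hM
  have hlt : E < S ⊓ M := by
    refine lt_of_le_of_ne (le_inf hES Subgroup.le_normalizer) fun he => hne ?_
    haveI := hS2.isNilpotent
    have htop : E.subgroupOf S = ⊤ := by
      by_contra hlt'
      obtain ⟨⟨x, hxS⟩, hx, hxE⟩ := SetLike.exists_of_lt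
        (Group.normalizerCondition_of_isNilpotent (E.subgroupOf S) (lt_top_iff_ne_top.2 hlt'))
      refine hxE (Subgroup.mem_subgroupOf.2 (he.symm ▸ ⟨hxS, Subgroup.mem_normalizer_iff.2 fun y => ?_⟩ :
        x ∈ E))
      constructor
      · intro hy
        exact Subgroup.mem_subgroupOf.1 ((Subgroup.mem_normalizer_iff.1 hx ⟨y, hES hy⟩).1 hy)
      · intro hy
        have hyS : y ∈ S := by
          have := mul_mem (mul_mem (inv_mem hxS) (hES hy)) hxS
          simpa [mul_assoc] using this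
        exact Subgroup.mem_subgroupOf.1 ((Subgroup.mem_normalizer_iff.1 hx ⟨y, hyS⟩).2 hy)
    exact le_antisymm hES (Subgroup.subgroupOf_eq_top.1 htop)
  have hbig : ∀ E' : Subgroup G, E' ≤ S → Nat.card E < Nat.card E' → E' ≠ ⊥ →
      ∀ d : G, (∀ e ∈ E', d * e * d⁻¹ ∈ S) → d ∈ H := by
    intro E' hE' hcard
    refine ih (Nat.card S - Nat.card E') ?_ E' rfl hE'
    have := Subgroup.card_le_of_le hE'
    omega
  -- a Sylow 2-subgroup of `M` containing `S ⊓ M`
  obtain ⟨P, hP⟩ := ((hS2.to_le (inf_le_left : S ⊓ M ≤ S)).comap_subtype (H := S ⊓ M) (K := M)).exists_le_sylow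
  have hPmem : ∀ x ∈ S ⊓ M, ∃ hx : x ∈ M, (⟨x, hx⟩ : M) ∈ (P : Subgroup M) := fun x hx =>
    ⟨hx.2, hP (Subgroup.mem_subgroupOf.2 hx)⟩
  have hcardlt : Nat.card E < Nat.card (S ⊓ M : Subgroup G) := by
    refine lt_of_le_of_ne (Subgroup.card_le_of_le hlt.le) fun e => hlt.ne ?_
    exact Subgroup.eq_of_le_of_card_ge hlt.le e.ge
  have hSMne : S ⊓ M ≠ ⊥ := fun e => hE (le_bot_iff.1 (e ▸ hlt.le))
  -- elements conjugating `P` into `T` lie in `H`
  have hmove : ∀ g : G, (∀ x ∈ (P : Subgroup M), g * (x : G) * g⁻¹ ∈ (T : Subgroup G)) → g ∈ H := by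
    intro g hg
    refine hbig _ inf_le_left hcardlt hSMne g fun x hx => ?_
    obtain ⟨hxM, hxP⟩ := hPmem x hx
    exact h.conj_mem hx.1 (hg _ hxP)
  obtain ⟨R, hR⟩ := (P.isPGroup'.map M.subtype).exists_le_sylow
  obtain ⟨a, ha⟩ := MulAction.exists_smul_eq G R T
  have haP : ∀ x ∈ (P : Subgroup M), a * (x : G) * a⁻¹ ∈ (T : Subgroup G) := fun x hx => by
    have h1 : a * (x : G) * a⁻¹ ∈ ((a • R : Sylow 2 G) : Subgroup G) :=
      ⟨_, hR (Subgroup.mem_map_of_mem _ hx), rfl⟩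
    rwa [ha] at h1
  have haH := hmove a haP
  -- `M ≤ H`
  have hMH : M ≤ H := by
    -- 2-subgroups of `M` lie in `H`
    have htwo : ∀ x : M, (∃ k, orderOf x = 2 ^ k) → (x : G) ∈ H := by
      intro x ⟨k, hk⟩
      obtain ⟨e, he, he1, hxe⟩ := exists_fixed (hS2.to_le hES) hE (x := (x : G)) (k := k)
        (by rw [Subgroup.orderOf_coe, hk]) x.2
      exact h.cent e (hES he) he1 (Subgroup.mem_centralizer_singleton_iff.2 (mul_inv_eq_iff_eq_mul.1 hxe))
    have hnorm : ∀ m : M, m ∈ Subgroup.normalizer ((P : Subgroup M) : Set M) → (m : G) ∈ H := by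
      intro m hm
      have := hmove (a * m) fun x hx => by
        have h1 := haP _ ((Subgroup.mem_normalizer_iff.1 hm x).1 hx)
        simpa [mul_assoc] using h1
      simpa using mul_mem (inv_mem haH) this
    set N := Subgroup.normalClosure ((P : Subgroup M) : Set M)
    have hN : N ≤ H.subgroupOf M := by
      refine (Subgroup.closure_le _).2 ?_
      intro y hy
      obtain ⟨x, hx, hxy⟩ := Group.mem_conjugatesOfSet_iff.1 hy
      obtain ⟨g, hg⟩ := isConj_iff.1 hxy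
      refine Subgroup.mem_subgroupOf.2 (htwo y ?_)
      obtain ⟨k, hk⟩ := IsPGroup.iff_orderOf.1 P.isPGroup' ⟨x, hx⟩
      refine ⟨k, ?_⟩
      rw [← hg, show g * x * g⁻¹ = MulAut.conj g x from rfl, MulEquiv.orderOf_eq]
      exact (Subgroup.orderOf_coe (⟨x, hx⟩ : (P : Subgroup M))).trans hk
    intro m hm
    have htop := P.normalizer_sup_eq_top' (N := N) Subgroup.subset_normalClosure
    have hmem : (⟨m, hm⟩ : M) ∈ Subgroup.normalizer ((P : Subgroup M) : Set M) ⊔ N := by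
      exact (htop.symm ▸ Subgroup.mem_top _)
    obtain ⟨u, hu, v, hv, huv⟩ := Subgroup.mem_sup_of_normal_right.1 hmem
    have := mul_mem (hnorm u hu) (Subgroup.mem_subgroupOf.1 (hN hv))
    rwa [← Subgroup.coe_mul, huv] at this
  -- move `c P c⁻¹` into `T` inside `H`
  have hX : IsPGroup 2 (((P : Subgroup M).map M.subtype).map (MulAut.conj c).toMonoidHom) :=
    (P.isPGroup'.map _).map _
  have hcM : ((P : Subgroup M).map M.subtype).map (MulAut.conj c).toMonoidHom ≤ H := by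
    -- the normaliser of `c E c⁻¹` also lies in `H`
    rintro _ ⟨_, ⟨x, hx, rfl⟩, rfl⟩
    obtain ⟨k, hk⟩ := IsPGroup.iff_orderOf.1 P.isPGroup' ⟨x, hx⟩
    rw [Subgroup.orderOf_mk, ← Subgroup.orderOf_coe] at hk
    obtain ⟨e, he, he1, hcomm⟩ := exists_fixed (hS2.to_le hES) hE hk x.2
    refine h.cent (c * e * c⁻¹) (hc _ he) (by simpa using he1)
      (Subgroup.mem_centralizer_singleton_iff.2 ?_)
    show c * (x : G) * c⁻¹ * (c * e * c⁻¹) = c * e * c⁻¹ * (c * (x : G) * c⁻¹)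
    calc c * (x : G) * c⁻¹ * (c * e * c⁻¹) = c * ((x : G) * e) * c⁻¹ := by group
      _ = c * (e * x) * c⁻¹ := by rw [mul_inv_eq_iff_eq_mul.1 hcomm]
      _ = c * e * c⁻¹ * (c * (x : G) * c⁻¹) := by group
  obtain ⟨k, hk, hkT⟩ := h.exists_move hX hcM
  have := hmove (k * c) fun x hx => by
    have h1 := hkT _ (Subgroup.mem_map_of_mem _ (Subgroup.mem_map_of_mem _ hx))
    simpa [mul_assoc] using h1
  simpa using mul_mem (inv_mem hk) this

/-- An element of `S#` lies in one conjugate of `H` only. -/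
theorem mem_of_conj_mem {s : G} (hs : s ∈ S) (hs1 : s ≠ 1) {g : G} (hg : g * s * g⁻¹ ∈ H) :
    g ∈ H := by
  haveI : Fact (Nat.Prime 2) := ⟨Nat.prime_two⟩
  have hX : IsPGroup 2 (Subgroup.zpowers (g * s * g⁻¹)) := by
    have := ((T.isPGroup'.to_le h.closed.1).to_le (Subgroup.zpowers_le.2 hs)).map (MulAut.conj g).toMonoidHom
    rwa [MonoidHom.map_zpowers] at this
  obtain ⟨k, hk, hkT⟩ := h.exists_move hX (Subgroup.zpowers_le.2 hg)
  have hT := hkT _ (Subgroup.mem_zpowers _)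
  rw [show k * (g * s * g⁻¹) * k⁻¹ = (k * g) * s * (k * g)⁻¹ by group] at hT
  have hconj := h.conj_mem hs hT
  have hle : ∀ e ∈ Subgroup.zpowers s, (k * g) * e * (k * g)⁻¹ ∈ S := by
    rintro _ ⟨j, rfl⟩
    have h2 := zpow_mem hconj j
    rwa [conj_zpow] at h2
  have := h.fusion _ (Subgroup.zpowers_le.2 hs) (Subgroup.zpowers_ne_bot.2 hs1) (k * g) hle
  simpa using mul_mem (inv_mem hk) this

/-- An involution of `S` central in `T`. -/
theorem exists_central : ∃ z ∈ S, orderOf z = 2 ∧ ∀ x ∈ (T : Subgroup G), Commute x z := by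
  haveI : Fact (Nat.Prime 2) := ⟨Nat.prime_two⟩
  haveI hn : (S.subgroupOf T).Normal := ⟨fun y hy x => Subgroup.mem_subgroupOf.2
    (h.closed.2 _ (Subgroup.mem_subgroupOf.1 hy) x ((x * y * x⁻¹ : ↥(T : Subgroup G))).2)⟩
  have hne : S.subgroupOf (T : Subgroup G) ≠ ⊥ := fun e => h.ne_bot (by
    rw [← Subgroup.map_subgroupOf_eq_of_le h.closed.1, e, Subgroup.map_bot])
  have h1 : (1 : ↥(S.subgroupOf (T : Subgroup G))) ∈
      MulAction.fixedPoints (ConjAct ↥(T : Subgroup G)) ↥(S.subgroupOf (T : Subgroup G)) := fun x => smul_one x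
  have hdvd : 2 ∣ Nat.card ↥(S.subgroupOf (T : Subgroup G)) := by
    obtain ⟨j, hj⟩ := IsPGroup.iff_card.1 (T.isPGroup'.to_subgroup (S.subgroupOf (T : Subgroup G)))
    rw [hj]
    refine dvd_pow_self 2 fun h0 => hne (Subgroup.card_eq_one.1 ?_)
    rw [hj, h0, pow_zero]
  have hCA : IsPGroup 2 (ConjAct ↥(T : Subgroup G)) := T.isPGroup'
  obtain ⟨y, hy, hy1⟩ := hCA.exists_fixed_point_of_prime_dvd_card_of_fixed_point _ hdvd h1
  obtain ⟨j, hj⟩ := IsPGroup.iff_orderOf.1 T.isPGroup' (y : ↥(T : Subgroup G))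
  rw [← Subgroup.orderOf_coe] at hj
  have hj0 : j ≠ 0 := by
    rintro rfl
    rw [pow_zero, orderOf_eq_one_iff] at hj
    exact hy1 (Subtype.ext (Subtype.ext hj.symm))
  refine ⟨((y : ↥(T : Subgroup G)) : G) ^ 2 ^ (j - 1), pow_mem (Subgroup.mem_subgroupOf.1 y.2) _, ?_,
    fun x hx => Commute.pow_right ?_ _⟩
  · rw [orderOf_pow_of_dvd (pow_ne_zero _ two_ne_zero) (by rw [hj]; exact pow_dvd_pow 2 (by omega)), hj,
      Nat.pow_div (by omega) two_pos, show j - (j - 1) = 1 by omega, pow_one]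
  · have := congrArg (fun u : ↥(S.subgroupOf (T : Subgroup G)) => ((u : ↥(T : Subgroup G)) : G))
      (hy (ConjAct.toConjAct ⟨x, hx⟩))
    exact mul_inv_eq_iff_eq_mul.1 this

end ClosedSetup

end Cfsg.Agent.Bender
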